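import Mathlib
import Cfsg.Prelude.Def_Sporadic_a

/-! Basics of the length-24 code `Cfsg.golayCode`: systematic basis, weights, orthogonality,
and the criterion for a permutation to lie in `Cfsg.M24`. -/

set_option autoImplicit false

namespace Cfsg.Agent.Leech
open Cfsg
open scoped Pointwise

/-- position of a point in a bit mask -/
def idx : GolayPt → ℕ
  | none => 0
  | some x => x.val + 1

/-- the word with bit mask `n` -/
def bitWord (n : ℕ) : GolayPt → ZMod 2 := fun p => if n.testBit (idx p) then 1 else 0

theorem bitWord_xor (a b : ℕ) : bitWord (a ^^^ b) = bitWord a + bitWord b := by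
  funext p
  simp only [bitWord, Nat.testBit_xor, Pi.add_apply]
  cases a.testBit (idx p) <;> cases b.testBit (idx p) <;> decide

theorem bitWord_zero : bitWord 0 = 0 := by
  funext p; simp [bitWord]

def rowMask : Fin 12 → ℕ :=
  ![13062145, 4845570, 9691140, 7221256, 14442512, 15806496, 11243584, 2019456, 4038912, 8077824,
    16155648, 10811392]

def combMask : Fin 12 → ℕ := ![8390181, 140, 280, 700, 1400, 159, 434, 1000, 2000, 1347, 101, 70]

def piv : Fin 12 → GolayPt :=
  ![none, some 0, some 1, some 2, some 3, some 4, some 5, some 6, some 7, some 8, some 9, some 10]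

def row (i : Fin 12) : GolayPt → ZMod 2 := bitWord (rowMask i)

/-- rebuild a word from its values at the pivots -/
def dec : (GolayPt → ZMod 2) →ₗ[ZMod 2] (GolayPt → ZMod 2) where
  toFun v := fun p => ∑ i, v (piv i) * row i p
  map_add' v w := by funext p; simp [add_mul, Finset.sum_add_distrib]
  map_smul' c v := by funext p; simp [Finset.mul_sum, mul_assoc]

theorem dec_eq (v : GolayPt → ZMod 2) : dec v = ∑ i, v (piv i) • row i := by
  funext p; simp [dec, Finset.sum_apply]

theorem qrWord_dec : ∀ t, dec (qrWord t) = qrWord t := by decide +kernel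

theorem one_dec : dec (1 : GolayPt → ZMod 2) = 1 := by decide +kernel

theorem row_comb : ∀ i : Fin 12, row i =
    (∑ t : ZMod 23, if (combMask i).testBit t.val then qrWord t else 0) +
      (if (combMask i).testBit 23 then (1 : GolayPt → ZMod 2) else 0) := by decide +kernel

theorem one_mem : (1 : GolayPt → ZMod 2) ∈ golayCode :=
  Submodule.subset_span (Set.mem_union_right _ rfl)

theorem qrWord_mem (t : ZMod 23) : qrWord t ∈ golayCode :=
  Submodule.subset_span (Set.mem_union_left _ ⟨t, rfl⟩)

theorem row_mem (i : Fin 12) : row i ∈ golayCode := by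
  rw [row_comb i]
  refine add_mem (sum_mem fun t _ => ?_) ?_
  · split_ifs
    · exact qrWord_mem t
    · exact zero_mem _
  · split_ifs
    · exact one_mem
    · exact zero_mem _

theorem mem_iff (v : GolayPt → ZMod 2) : v ∈ golayCode ↔ dec v = v := by
  constructor
  · intro hv
    induction hv using Submodule.span_induction with
    | mem x hx =>
      rcases hx with ⟨t, rfl⟩ | hx
      · exact qrWord_dec t
      · rw [Set.mem_singleton_iff.1 hx]; exact one_dec
    | zero => exact map_zero _
    | add x y _ _ hx hy => rw [map_add, hx, hy]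
    | smul c x _ hx => rw [map_smul, hx]
  · intro h
    rw [← h, dec_eq]
    exact sum_mem fun i _ => Submodule.smul_mem _ _ (row_mem i)

theorem golayCode_eq_span : golayCode = Submodule.span (ZMod 2) (Set.range row) := by
  refine le_antisymm (fun v hv => ?_) (Submodule.span_le.2 ?_)
  · rw [← (mem_iff v).1 hv, dec_eq]
    exact sum_mem fun i _ => Submodule.smul_mem _ _ (Submodule.subset_span ⟨i, rfl⟩)
  · rintro _ ⟨i, rfl⟩
    exact row_mem i

theorem row_piv : ∀ i j : Fin 12, row i (piv j) = if i = j then 1 else 0 := by decide +kernel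

theorem row_linearIndependent : LinearIndependent (ZMod 2) row := by
  rw [Fintype.linearIndependent_iff]
  intro g hg j
  have h := congrFun hg (piv j)
  simpa [Finset.sum_apply, row_piv] using h

theorem finrank_golayCode : Module.finrank (ZMod 2) golayCode = 12 := by
  rw [golayCode_eq_span, finrank_span_eq_card row_linearIndependent, Fintype.card_fin]

/-- Prove a property of all code words by checking the generators. -/
theorem code_induction {P : (GolayPt → ZMod 2) → Prop} (hrow : ∀ i, P (row i)) (h0 : P 0)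
    (hadd : ∀ v w, v ∈ golayCode → w ∈ golayCode → P v → P w → P (v + w))
    {v : GolayPt → ZMod 2} (hv : v ∈ golayCode) : P v := by
  rw [golayCode_eq_span] at hv hadd
  induction hv using Submodule.span_induction with
  | mem x hx => obtain ⟨i, rfl⟩ := hx; exact hrow i
  | zero => exact h0
  | add x y hx hy px py => exact hadd x y hx hy px py
  | smul c x hx px =>
    have : c = 0 ∨ c = 1 := by revert c; decide
    rcases this with rfl | rfl
    · rwa [zero_smul]
    · rwa [one_smul]

theorem rows_orth : ∀ i j : Fin 12, ∑ p, row i p * row j p = 0 := by decide +kernel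

theorem dot_eq_zero {v w : GolayPt → ZMod 2} (hv : v ∈ golayCode) (hw : w ∈ golayCode) :
    ∑ p, v p * w p = 0 := by
  refine code_induction (P := fun v => ∑ p, v p * w p = 0) (fun i => ?_) (by simp)
    (fun a b _ _ ha hb => by simp [add_mul, Finset.sum_add_distrib, ha, hb]) hv
  exact code_induction (P := fun w => ∑ p, row i p * w p = 0) (fun j => rows_orth i j) (by simp)
    (fun a b _ _ ha hb => by simp [mul_add, Finset.sum_add_distrib, ha, hb]) hw

/-- xor closure of a list of masks -/
def spanList : List ℕ → List ℕ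
  | [] => [0]
  | r :: t => spanList t ++ (spanList t).map (r ^^^ ·)

theorem zero_mem_spanList : ∀ l : List ℕ, 0 ∈ spanList l
  | [] => by simp [spanList]
  | _ :: t => by simp [spanList, zero_mem_spanList t]

theorem mem_spanList_of_mem : ∀ {l : List ℕ} {a : ℕ}, a ∈ l → a ∈ spanList l
  | r :: t, a, h => by
    rcases List.mem_cons.1 h with rfl | h
    · exact List.mem_append_right _ (List.mem_map.2 ⟨0, zero_mem_spanList t, by simp⟩)
    · exact List.mem_append_left _ (mem_spanList_of_mem h)

theorem xor_mem_spanList : ∀ {l : List ℕ} {a b : ℕ}, a ∈ spanList l → b ∈ spanList l →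
    a ^^^ b ∈ spanList l
  | [], a, b, ha, hb => by simp_all [spanList]
  | r :: t, a, b, ha, hb => by
    simp only [spanList, List.mem_append, List.mem_map] at ha hb ⊢
    rcases ha with ha | ⟨a', ha, rfl⟩ <;> rcases hb with hb | ⟨b', hb, rfl⟩
    · exact Or.inl (xor_mem_spanList ha hb)
    · exact Or.inr ⟨a ^^^ b', xor_mem_spanList ha hb, by ac_rfl⟩
    · exact Or.inr ⟨a' ^^^ b, xor_mem_spanList ha hb, by ac_rfl⟩
    · refine Or.inl ?_
      have : r ^^^ a' ^^^ (r ^^^ b') = a' ^^^ b' := by
        rw [show r ^^^ a' ^^^ (r ^^^ b') = (r ^^^ r) ^^^ (a' ^^^ b') by ac_rfl]; simp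
      rw [this]; exact xor_mem_spanList ha hb

def allMasks : List ℕ := spanList (List.ofFn rowMask)

theorem exists_mask {v : GolayPt → ZMod 2} (hv : v ∈ golayCode) :
    ∃ n ∈ allMasks, bitWord n = v := by
  refine code_induction (P := fun v => ∃ n ∈ allMasks, bitWord n = v)
    (fun i => ⟨rowMask i, mem_spanList_of_mem (List.mem_ofFn.2 ⟨i, rfl⟩), rfl⟩)
    ⟨0, zero_mem_spanList _, bitWord_zero⟩ (fun a b _ _ ha hb => ?_) hv
  obtain ⟨m, hm, rfl⟩ := ha
  obtain ⟨n, hn, rfl⟩ := hb
  exact ⟨m ^^^ n, xor_mem_spanList hm hn, bitWord_xor m n⟩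

theorem mask_weights : (allMasks.all fun n =>
    let w := ((List.range 24).filter fun i => n.testBit i).length
    w == 0 || w == 8 || w == 12 || w == 16 || w == 24) = true := by decide +kernel

/-- numbering of the points -/
def idxEquiv : GolayPt ≃ Fin 24 where
  toFun p := ⟨idx p, by rcases p with _ | x <;> simp [idx]; have := ZMod.val_lt x; omega⟩
  invFun i := if i.val = 0 then none else some ((i.val - 1 : ℕ) : ZMod 23)
  left_inv p := by revert p; decide +kernel
  right_inv i := by revert i; decide +kernel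

theorem hammingNorm_bitWord (n : ℕ) :
    hammingNorm (bitWord n) = ((List.range 24).filter fun i => n.testBit i).length := by
  have h1 : hammingNorm (bitWord n) =
      (Finset.univ.filter fun i : Fin 24 => n.testBit i.val = true).card := by
    refine Finset.card_equiv idxEquiv fun p => ?_
    simp [bitWord, idxEquiv]
  have h2 : (Finset.univ.filter fun i : Fin 24 => n.testBit i.val = true).card =
      ((Finset.range 24).filter fun i => n.testBit i = true).card := by
    refine Finset.card_bij (fun i _ => i.val) (fun i hi => ?_) (fun i _ j _ => Fin.ext)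
      (fun b hb => ?_)
    · simp_all
    · simp only [Finset.mem_filter, Finset.mem_range] at hb
      exact ⟨⟨b, hb.1⟩, by simp [hb.2], rfl⟩
  rw [h1, h2, Finset.card_def, Finset.filter_val, Finset.range_val, ← Multiset.coe_range,
    Multiset.filter_coe, Multiset.coe_card]
  simp

theorem weights {w : GolayPt → ZMod 2} (hw : w ∈ golayCode) :
    hammingNorm w = 0 ∨ hammingNorm w = 8 ∨ hammingNorm w = 12 ∨ hammingNorm w = 16 ∨
      hammingNorm w = 24 := by
  obtain ⟨n, hn, rfl⟩ := exists_mask hw
  rw [hammingNorm_bitWord]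
  simpa [List.all_eq_true, or_assoc] using List.all_eq_true.1 mask_weights n hn

theorem four_dvd_weight {w : GolayPt → ZMod 2} (hw : w ∈ golayCode) : 4 ∣ hammingNorm w := by
  rcases weights hw with h | h | h | h | h <;> rw [h] <;> norm_num

theorem eight_le_weight {w : GolayPt → ZMod 2} (hw : w ∈ golayCode) (h0 : w ≠ 0) :
    8 ≤ hammingNorm w := by
  have := hammingNorm_ne_zero_iff.2 h0
  rcases weights hw with h | h | h | h | h <;> omega

/-! ### supports and `M24` -/

theorem support₂_injective : Function.Injective (support₂ : (GolayPt → ZMod 2) → Finset GolayPt) := by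
  intro v w h
  funext p
  have hp : (v p ≠ 0) ↔ (w p ≠ 0) := by
    have := congrArg (fun s => p ∈ s) h
    simpa [support₂] using this
  revert hp
  generalize v p = a
  generalize w p = b
  revert a b
  decide

theorem mem_supports_iff (v : GolayPt → ZMod 2) :
    support₂ v ∈ supports (golayCode : Set (GolayPt → ZMod 2)) ↔ v ∈ golayCode :=
  ⟨fun ⟨_, hw, he⟩ => support₂_injective he ▸ hw, fun h => ⟨v, h, rfl⟩⟩

theorem smul_support₂ (σ : Equiv.Perm GolayPt) (v : GolayPt → ZMod 2) :
    σ • support₂ v = support₂ (v ∘ ⇑σ⁻¹) := by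
  ext p
  rw [← Finset.inv_smul_mem_iff, Equiv.Perm.smul_def]
  simp [support₂]

theorem comp_mem_of_M24 {σ : Equiv.Perm GolayPt} (hσ : σ ∈ M24) {v : GolayPt → ZMod 2}
    (hv : v ∈ golayCode) : v ∘ ⇑σ ∈ golayCode := by
  have h := MulAction.mem_stabilizer_iff.1 (inv_mem hσ)
  have : σ⁻¹ • support₂ v ∈ σ⁻¹ • supports (golayCode : Set (GolayPt → ZMod 2)) :=
    Set.smul_mem_smul_set ((mem_supports_iff v).2 hv)
  rwa [h, smul_support₂, inv_inv, mem_supports_iff] at this

theorem comp_inv_mem_of_forall {σ : Equiv.Perm GolayPt}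
    (h : ∀ v ∈ golayCode, v ∘ ⇑σ ∈ golayCode) (k : ℕ) :
    ∀ v ∈ golayCode, v ∘ ⇑(σ ^ k) ∈ golayCode := by
  induction k with
  | zero => intro v hv; simpa using hv
  | succ k ih =>
    intro v hv
    rw [pow_succ, Equiv.Perm.coe_mul, ← Function.comp_assoc]
    exact h _ (ih v hv)

theorem mem_M24_of {σ : Equiv.Perm GolayPt}
    (h : ∀ v ∈ golayCode, v ∘ ⇑σ ∈ golayCode) : σ ∈ M24 := by
  have hinv : ∀ v ∈ golayCode, v ∘ ⇑σ⁻¹ ∈ golayCode := by
    intro v hv
    have hpos := orderOf_pos σ
    have : σ⁻¹ = σ ^ (orderOf σ - 1) := by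
      rw [eq_comm, eq_inv_iff_mul_eq_one, ← pow_succ, Nat.sub_add_cancel hpos, pow_orderOf_eq_one]
    rw [this]
    exact comp_inv_mem_of_forall h _ v hv
  rw [M24, setSystemAut, MulAction.mem_stabilizer_iff]
  ext s
  constructor
  · intro hs
    obtain ⟨t, ⟨v, hv, rfl⟩, rfl⟩ := hs
    show σ • support₂ v ∈ _
    rw [smul_support₂]
    exact (mem_supports_iff _).2 (hinv v hv)
  · rintro ⟨v, hv, rfl⟩
    refine ⟨support₂ (v ∘ ⇑σ), (mem_supports_iff _).2 (h v hv), ?_⟩
    simp [smul_support₂, Function.comp_assoc]

theorem mem_M24_of_rows {σ : Equiv.Perm GolayPt}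
    (h : ∀ i, dec (row i ∘ ⇑σ) = row i ∘ ⇑σ) : σ ∈ M24 := by
  refine mem_M24_of fun v hv => ?_
  exact code_induction (P := fun v => v ∘ ⇑σ ∈ golayCode) (fun i => (mem_iff _).2 (h i))
    (zero_mem _) (fun a b _ _ ha hb => add_mem ha hb) hv

/-- translation by one -/
def shift : Equiv.Perm GolayPt := Equiv.optionCongr (Equiv.addRight (1 : ZMod 23))

theorem shift_mem : shift ∈ M24 := mem_M24_of_rows (by decide +kernel)

theorem projInv_mem : projInv ∈ M24 := mem_M24_of_rows (by decide +kernel)

end Cfsg.Agent.Leech
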