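import Mathlib
import Cfsg.Prelude.Def_Sporadic_a
import Cfsg.Agent.Leech.Code

/-! The lattice `Cfsg.leechLattice`: membership criterion, norms, monomial automorphisms,
and the subgroup `doubleSub` of index `2 ^ 12` containing twice the lattice. -/

set_option autoImplicit false

namespace Cfsg.Agent.Leech
open Cfsg

/-- reduction modulo 2 of an integer vector -/
def red2 (y : GolayPt → ℤ) : GolayPt → ZMod 2 := fun i => (y i : ZMod 2)

theorem red2_add (y z : GolayPt → ℤ) : red2 (y + z) = red2 y + red2 z := by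
  funext i; simp [red2]

/-- the explicit description of the lattice -/
def crit : AddSubgroup (GolayPt → ℤ) where
  carrier := {x | ∃ (m : ℤ) (y : GolayPt → ℤ), (∀ i, x i = m + 2 * y i) ∧
    (8 : ℤ) ∣ (∑ i, x i) - 4 * m ∧ red2 y ∈ golayCode}
  zero_mem' := ⟨0, 0, by simp, by simp, by convert zero_mem golayCode; funext i; simp [red2]⟩
  add_mem' := by
    rintro a b ⟨m, y, hy, hs, hc⟩ ⟨n, z, hz, ht, hd⟩
    refine ⟨m + n, y + z, fun i => ?_, ?_, ?_⟩
    · simp only [Pi.add_apply, hy i, hz i]; ring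
    · rw [show (∑ i, (a + b) i) = ∑ i, a i + ∑ i, b i from Finset.sum_add_distrib]
      omega
    · rw [red2_add]; exact add_mem hc hd
  neg_mem' := by
    rintro a ⟨m, y, hy, hs, hc⟩
    refine ⟨-m, -y, fun i => ?_, ?_, ?_⟩
    · simp only [Pi.neg_apply, hy i]; ring
    · rw [show (∑ i, (-a) i) = -∑ i, a i from Finset.sum_neg_distrib a]
      omega
    · convert hc using 1
      funext i; simp [red2]

theorem support₂_red2 (y : GolayPt → ℤ) :
    support₂ (red2 y) = Finset.univ.filter fun i => ¬ (2 : ℤ) ∣ y i := by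
  ext i
  simp [support₂, red2, ZMod.intCast_zmod_eq_zero_iff_dvd]

theorem leechSet_eq_crit : leechSet = (crit : Set (GolayPt → ℤ)) := by
  ext x
  constructor
  · rintro ⟨m, hpar, hsum, hsupp⟩
    refine ⟨m, fun i => (x i - m) / 2, fun i => ?_, ?_, ?_⟩
    · have := (hpar i).symm.dvd
      rw [Int.mul_ediv_cancel' this]; ring
    · exact hsum.symm.dvd
    · obtain ⟨w, hw, he⟩ := hsupp (m + 2)
      have : red2 (fun i => (x i - m) / 2) = w := by
        refine support₂_injective ?_
        rw [he, support₂_red2]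
        ext i
        have := (hpar i).symm.dvd
        simp only [Finset.mem_filter, Finset.mem_univ, true_and, Int.modEq_iff_dvd]
        omega
      rw [this]; exact hw
  · rintro ⟨m, y, hy, hs, hc⟩
    refine ⟨m, fun i => ?_, (Int.modEq_iff_dvd.2 hs).symm, fun k => ?_⟩
    · rw [hy i, Int.modEq_iff_dvd]; exact ⟨-(y i), by ring⟩
    · by_cases hk : (2 : ℤ) ∣ k - m
      · by_cases hk4 : (4 : ℤ) ∣ k - m
        · refine ⟨red2 y + 1, add_mem hc one_mem, ?_⟩
          ext i
          have hv : (red2 y + 1) i ≠ 0 ↔ (2 : ℤ) ∣ y i := by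
            have h2 := ZMod.intCast_zmod_eq_zero_iff_dvd (y i) 2
            rw [Nat.cast_ofNat] at h2
            rw [← h2]
            simp only [Pi.add_apply, Pi.one_apply, red2, Nat.cast_ofNat]
            generalize ((y i : ℤ) : ZMod 2) = a
            revert a; decide
          simp only [support₂, Finset.mem_filter, Finset.mem_univ, true_and, hv, hy i,
            Int.modEq_iff_dvd]
          omega
        · refine ⟨red2 y, hc, ?_⟩
          rw [support₂_red2]
          ext i
          simp only [Finset.mem_filter, Finset.mem_univ, true_and, hy i, Int.modEq_iff_dvd]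
          omega
      · refine ⟨0, zero_mem _, ?_⟩
        ext i
        simp only [support₂, Pi.zero_apply, Finset.mem_filter, Finset.mem_univ, true_and, hy i,
          Int.modEq_iff_dvd, ne_eq, not_true_eq_false, false_iff]
        omega

theorem leechLattice_eq : leechLattice = crit := by
  rw [leechLattice, leechSet_eq_crit, AddSubgroup.closure_eq]

theorem mem_lattice_iff {x : GolayPt → ℤ} : x ∈ leechLattice ↔
    ∃ (m : ℤ) (y : GolayPt → ℤ), (∀ i, x i = m + 2 * y i) ∧ (8 : ℤ) ∣ (∑ i, x i) - 4 * m ∧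
      red2 y ∈ golayCode := by
  rw [leechLattice_eq]; rfl

theorem leechSet_eq_lattice : leechSet = (leechLattice : Set (GolayPt → ℤ)) := by
  rw [leechLattice_eq, leechSet_eq_crit]

theorem sum_golayPt_const (m : ℤ) : ∑ _i : GolayPt, m = 24 * m := by
  simp [Finset.sum_const]

theorem sq_sub_dvd (a : ℤ) : (4 : ℤ) ∣ a ^ 2 - (if (a : ZMod 2) = 0 then 0 else 1) := by
  rcases Int.even_or_odd' a with ⟨k, rfl | rfl⟩
  · simp only [Int.cast_mul, Int.cast_ofNat]
    rw [if_pos (by rw [show (2 : ZMod 2) = 0 from rfl, zero_mul])]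
    exact ⟨k ^ 2, by ring⟩
  · simp only [Int.cast_add, Int.cast_mul, Int.cast_ofNat, Int.cast_one]
    rw [if_neg (by rw [show (2 : ZMod 2) = 0 from rfl, zero_mul, zero_add]; decide)]
    exact ⟨k ^ 2 + k, by ring⟩

theorem sum_sq_sub_weight (y : GolayPt → ℤ) :
    (4 : ℤ) ∣ (∑ i, y i ^ 2) - hammingNorm (red2 y) := by
  have hw : (hammingNorm (red2 y) : ℤ) = ∑ i, (if (y i : ZMod 2) = 0 then 0 else 1 : ℤ) := by
    rw [Finset.sum_ite, Finset.sum_const_zero, zero_add, Finset.sum_const]
    simp only [hammingNorm, red2, ne_eq, nsmul_eq_mul, mul_one]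
    congr 2
  rw [hw, ← Finset.sum_sub_distrib]
  exact Finset.dvd_sum fun i _ => sq_sub_dvd (y i)

theorem weight_le_sum_sq (y : GolayPt → ℤ) : (hammingNorm (red2 y) : ℤ) ≤ ∑ i, y i ^ 2 := by
  have hw : (hammingNorm (red2 y) : ℤ) = ∑ i, (if (y i : ZMod 2) = 0 then 0 else 1 : ℤ) := by
    rw [Finset.sum_ite, Finset.sum_const_zero, zero_add, Finset.sum_const]
    simp only [hammingNorm, red2, ne_eq, nsmul_eq_mul, mul_one]
    congr 2
  rw [hw]
  refine Finset.sum_le_sum fun i _ => ?_
  split_ifs with h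
  · positivity
  · have : y i ≠ 0 := fun h0 => h (by simp [h0])
    nlinarith [sq_abs (y i), Int.one_le_abs this]

theorem two_dvd_sum_sub_sq {ι : Type*} [Fintype ι] (w : ι → ℤ) :
    (2 : ℤ) ∣ (∑ i, w i ^ 2) - ∑ i, w i := by
  rw [← Finset.sum_sub_distrib]
  refine Finset.dvd_sum fun i _ => ?_
  rw [sq, show w i * w i - w i = (w i - 1) * w i by ring]
  have := Int.even_mul_succ_self (w i - 1)
  rwa [sub_add_cancel, even_iff_two_dvd] at this

theorem sixteen_dvd_sqNorm {x : GolayPt → ℤ} (hx : x ∈ leechLattice) :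
    (16 : ℤ) ∣ sqNorm x := by
  obtain ⟨m, y, hy, hs, hc⟩ := mem_lattice_iff.1 hx
  have h1 : sqNorm x = 24 * m ^ 2 + 4 * m * (∑ i, y i) + 4 * ∑ i, y i ^ 2 := by
    simp only [sqNorm, hy]
    rw [← sum_golayPt_const, Finset.mul_sum, Finset.mul_sum, ← Finset.sum_add_distrib,
      ← Finset.sum_add_distrib]
    exact Finset.sum_congr rfl fun i _ => by ring
  have h2 : ∑ i, x i = 24 * m + 2 * ∑ i, y i := by
    simp only [hy, Finset.sum_add_distrib, sum_golayPt_const, Finset.mul_sum]
  have h3 : (4 : ℤ) ∣ ∑ i, y i ^ 2 := by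
    have h4 : (4 : ℤ) ∣ (hammingNorm (red2 y) : ℤ) := by exact_mod_cast four_dvd_weight hc
    simpa using dvd_add (sum_sq_sub_weight y) h4
  obtain ⟨k, hk⟩ := h3
  obtain ⟨l, hl⟩ := hs
  have hsy : ∑ i, y i = 4 * l - 10 * m := by omega
  rw [h1, hk, hsy]
  exact ⟨k + m * l - m ^ 2, by ring⟩

theorem min_norm {x : GolayPt → ℤ} (hx : x ∈ leechLattice) (h0 : x ≠ 0) : 32 ≤ sqNorm x := by
  have h16 := sixteen_dvd_sqNorm hx
  obtain ⟨m, y, hy, hs, hc⟩ := mem_lattice_iff.1 hx
  rcases Int.even_or_odd' m with ⟨a, ha | ha⟩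
  · -- even coordinates
    let y' : GolayPt → ℤ := fun i => a + y i
    have hy' : ∀ i, x i = 2 * y' i := fun i => by simp only [y', hy i, ha]; ring
    have hn : sqNorm x = 4 * ∑ i, y' i ^ 2 := by
      simp only [sqNorm, hy', Finset.mul_sum]
      exact Finset.sum_congr rfl fun i _ => by ring
    have hc' : red2 y' ∈ golayCode := by
      have : red2 y' = (a : ZMod 2) • (1 : GolayPt → ZMod 2) + red2 y := by
        funext i; simp [red2, y']
      rw [this]
      exact add_mem (Submodule.smul_mem _ _ one_mem) hc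
    by_cases hz : red2 y' = 0
    · have hev : ∀ i, ∃ w, y' i = 2 * w := fun i => by
        have := congrFun hz i
        simp only [red2, Pi.zero_apply] at this
        exact (ZMod.intCast_zmod_eq_zero_iff_dvd _ 2).1 this
      choose w hw using hev
      have hsw : (2 : ℤ) ∣ ∑ i, w i := by
        have : ∑ i, x i = 4 * ∑ i, w i := by
          simp only [hy', hw, Finset.mul_sum]
          exact Finset.sum_congr rfl fun i _ => by ring
        omega
      have h2 := two_dvd_sum_sub_sq w
      have hpos : 0 < ∑ i, w i ^ 2 := by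
        obtain ⟨i, hi⟩ : ∃ i, x i ≠ 0 := by
          by_contra hh
          push Not at hh
          exact h0 (funext hh)
        have hwi : w i ≠ 0 := fun hh => hi (by rw [hy', hw, hh]; ring)
        exact Finset.sum_pos' (fun j _ => sq_nonneg _)
          ⟨i, Finset.mem_univ _, by positivity⟩
      have : sqNorm x = 16 * ∑ i, w i ^ 2 := by
        rw [hn]; simp only [hw, Finset.mul_sum]
        exact Finset.sum_congr rfl fun i _ => by ring
      omega
    · have h8 := eight_le_weight hc' hz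
      have := weight_le_sum_sq y'
      rw [hn]
      have : (8 : ℤ) ≤ hammingNorm (red2 y') := by exact_mod_cast h8
      linarith
  · -- odd coordinates
    have h24 : 24 ≤ sqNorm x := by
      have : ∀ i, (1 : ℤ) ≤ x i ^ 2 := fun i => by
        have : x i ≠ 0 := by rw [hy i, ha]; omega
        nlinarith [sq_abs (x i), Int.one_le_abs this]
      calc (24 : ℤ) = ∑ _i : GolayPt, (1 : ℤ) := by rw [sum_golayPt_const]; ring
        _ ≤ sqNorm x := Finset.sum_le_sum fun i _ => this i
    omega

theorem sqNorm_eq_zero {x : GolayPt → ℤ} : sqNorm x = 0 ↔ x = 0 := by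
  constructor
  · intro h
    funext i
    have := (Finset.sum_eq_zero_iff_of_nonneg (fun j _ => sq_nonneg (x j))).1 h i (Finset.mem_univ _)
    exact pow_eq_zero_iff two_ne_zero |>.1 this
  · rintro rfl; simp [sqNorm]

theorem sqNorm_add (x y : GolayPt → ℤ) :
    sqNorm (x + y) = sqNorm x + 2 * dotInt x y + sqNorm y := by
  simp only [sqNorm, dotInt, Pi.add_apply, Finset.mul_sum, ← Finset.sum_add_distrib]
  exact Finset.sum_congr rfl fun i _ => by ring

theorem sqNorm_sub (x y : GolayPt → ℤ) :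
    sqNorm (x - y) = sqNorm x - 2 * dotInt x y + sqNorm y := by
  simp only [sqNorm, dotInt, Pi.sub_apply, Finset.mul_sum, ← Finset.sum_sub_distrib,
    ← Finset.sum_add_distrib]
  exact Finset.sum_congr rfl fun i _ => by ring

theorem sqNorm_two_smul (x : GolayPt → ℤ) : sqNorm (2 • x) = 4 * sqNorm x := by
  simp only [sqNorm, Pi.smul_apply, Finset.mul_sum, nsmul_eq_mul, Nat.cast_ofNat]
  exact Finset.sum_congr rfl fun i _ => by ring

/-- two vectors of squared length at most 64 congruent modulo twice the lattice -/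
theorem congr_two {v w : GolayPt → ℤ} (hv : v ∈ leechLattice) (hw : w ∈ leechLattice)
    (hvn : sqNorm v ≤ 64) (hwn : sqNorm w ≤ 64) {z : GolayPt → ℤ} (hz : z ∈ leechLattice)
    (h : v - w = 2 • z) :
    w = v ∨ w = -v ∨ (sqNorm v = 64 ∧ sqNorm w = 64 ∧ dotInt v w = 0) := by
  by_cases h1 : z = 0
  · left; rw [h1, smul_zero, sub_eq_zero] at h; exact h.symm
  have hu : v + w = 2 • (z + w) := by
    funext i
    have := congrFun h i
    simp only [Pi.sub_apply, Pi.smul_apply, Pi.add_apply, nsmul_eq_mul, Nat.cast_ofNat] at this ⊢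
    linarith
  by_cases h2 : z + w = 0
  · right; left
    rw [h2, smul_zero] at hu
    exact eq_neg_of_add_eq_zero_right hu
  right; right
  have a1 := min_norm hz h1
  have a2 := min_norm (add_mem hz hw) h2
  have b1 := sqNorm_sub v w
  have b2 := sqNorm_add v w
  rw [h, sqNorm_two_smul] at b1
  rw [hu, sqNorm_two_smul] at b2
  omega

/-! ### monomial maps -/

theorem comp_mem {σ : Equiv.Perm GolayPt} (hσ : σ ∈ M24) {x : GolayPt → ℤ}
    (hx : x ∈ leechLattice) : (fun i => x (σ i)) ∈ leechLattice := by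
  obtain ⟨m, y, hy, hs, hc⟩ := mem_lattice_iff.1 hx
  refine mem_lattice_iff.2 ⟨m, y ∘ σ, fun i => hy (σ i), ?_, ?_⟩
  · rwa [Equiv.sum_comp σ x]
  · exact comp_mem_of_M24 hσ hc

/-- negate the coordinates in the support of a word -/
def negOn (c : GolayPt → ZMod 2) (x : GolayPt → ℤ) : GolayPt → ℤ :=
  fun i => if c i = 0 then x i else -x i

theorem negOn_negOn (c : GolayPt → ZMod 2) (x : GolayPt → ℤ) : negOn c (negOn c x) = x := by
  funext i; simp only [negOn]; split_ifs <;> simp

theorem sqNorm_negOn (c : GolayPt → ZMod 2) (x : GolayPt → ℤ) :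
    sqNorm (negOn c x) = sqNorm x := by
  refine Finset.sum_congr rfl fun i _ => ?_
  simp only [negOn]; split_ifs <;> ring

theorem negOn_add (c : GolayPt → ZMod 2) (x y : GolayPt → ℤ) :
    negOn c (x + y) = negOn c x + negOn c y := by
  funext i; simp only [negOn, Pi.add_apply]; split_ifs <;> ring

theorem negOn_mem {c : GolayPt → ZMod 2} (hc : c ∈ golayCode) {x : GolayPt → ℤ}
    (hx : x ∈ leechLattice) : negOn c x ∈ leechLattice := by
  obtain ⟨m, y, hy, hs, hd⟩ := mem_lattice_iff.1 hx
  have hneg : ∀ a : ZMod 2, -a = a := by decide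
  refine mem_lattice_iff.2 ⟨m, fun i => if c i = 0 then y i else -y i - m, fun i => ?_, ?_, ?_⟩
  · simp only [negOn]; split_ifs <;> rw [hy i]; ring
  · -- the coordinate sum changes by a multiple of 8
    have key : (4 : ℤ) ∣ ∑ i, (if c i = 0 then 0 else x i) := by
      have e : ∑ i, (if c i = 0 then 0 else x i) =
          m * (∑ i, (if c i = 0 then 0 else 1)) + 2 * ∑ i, (if c i = 0 then 0 else y i) := by
        rw [Finset.mul_sum, Finset.mul_sum, ← Finset.sum_add_distrib]
        refine Finset.sum_congr rfl fun i _ => ?_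
        split_ifs <;> simp [hy i]
      have hw : (∑ i, (if c i = 0 then (0 : ℤ) else 1)) = hammingNorm c := by
        rw [Finset.sum_ite, Finset.sum_const_zero, zero_add, Finset.sum_const]
        simp [hammingNorm]
      have he : (2 : ℤ) ∣ ∑ i, (if c i = 0 then 0 else y i) := by
        refine (ZMod.intCast_zmod_eq_zero_iff_dvd _ 2).1 ?_
        have := dot_eq_zero hc hd
        rw [Int.cast_sum]
        refine Eq.trans (Finset.sum_congr rfl fun i _ => ?_) this
        have h01 : c i = 0 ∨ c i = 1 := by generalize c i = a; revert a; decide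
        rcases h01 with h | h <;> simp [h, red2]
      rw [e, hw]
      have h4 : (4 : ℤ) ∣ (hammingNorm c : ℤ) := by exact_mod_cast four_dvd_weight hc
      obtain ⟨k, hk⟩ := he
      rw [hk, show 2 * (2 * k) = 4 * k by ring]
      exact dvd_add (dvd_mul_of_dvd_right h4 m) (dvd_mul_right 4 k)
    have e2 : ∑ i, negOn c x i = ∑ i, x i - 2 * ∑ i, (if c i = 0 then 0 else x i) := by
      rw [Finset.mul_sum, ← Finset.sum_sub_distrib]
      refine Finset.sum_congr rfl fun i _ => ?_
      simp only [negOn]; split_ifs <;> ring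
    rw [e2]
    omega
  · have : red2 (fun i => if c i = 0 then y i else -y i - m) =
        red2 y + (m : ZMod 2) • c := by
      funext i
      have h01 : c i = 0 ∨ c i = 1 := by generalize c i = a; revert a; decide
      rcases h01 with h | h <;> simp [h, red2, sub_eq_add_neg, hneg]
    rw [this]
    exact add_mem hd (Submodule.smul_mem _ _ hc)

/-- build a lattice automorphism from a map of integer vectors -/
def mkCo0 (f g : (GolayPt → ℤ) → (GolayPt → ℤ))
    (hf : ∀ x ∈ leechLattice, f x ∈ leechLattice) (hg : ∀ x ∈ leechLattice, g x ∈ leechLattice)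
    (hgf : ∀ x, g (f x) = x) (hfg : ∀ x, f (g x) = x)
    (hadd : ∀ x y, f (x + y) = f x + f y) (hn : ∀ x, sqNorm (f x) = sqNorm x) : ↥Co0 :=
  ⟨{  toFun := fun v => ⟨f v, hf v v.2⟩
      invFun := fun v => ⟨g v, hg v v.2⟩
      left_inv := fun v => Subtype.ext (hgf v)
      right_inv := fun v => Subtype.ext (hfg v) },
    ⟨fun v w => Subtype.ext (hadd v w), fun v => hn v⟩⟩

/-- coordinate permutation as a lattice automorphism -/
def permCo0 (σ : Equiv.Perm GolayPt) (hσ : σ ∈ M24) : ↥Co0 :=
  mkCo0 (fun x i => x (σ⁻¹ i)) (fun x i => x (σ i))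
    (fun _ hx => comp_mem (inv_mem hσ) hx) (fun _ hx => comp_mem hσ hx)
    (fun x => by funext i; simp) (fun x => by funext i; simp) (fun _ _ => rfl)
    (fun x => Equiv.sum_comp σ⁻¹ (fun i => x i ^ 2))

/-- sign change as a lattice automorphism -/
def signCo0 (c : GolayPt → ZMod 2) (hc : c ∈ golayCode) : ↥Co0 :=
  mkCo0 (negOn c) (negOn c) (fun _ hx => negOn_mem hc hx) (fun _ hx => negOn_mem hc hx)
    (negOn_negOn c) (negOn_negOn c) (negOn_add c) (sqNorm_negOn c)

theorem permCo0_apply (σ : Equiv.Perm GolayPt) (hσ : σ ∈ M24) (v : leechLattice) (i : GolayPt) :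
    ((permCo0 σ hσ • v : leechLattice) : GolayPt → ℤ) i = (v : GolayPt → ℤ) (σ⁻¹ i) := rfl

theorem signCo0_apply (c : GolayPt → ZMod 2) (hc : c ∈ golayCode) (v : leechLattice) :
    ((signCo0 c hc • v : leechLattice) : GolayPt → ℤ) = negOn c (v : GolayPt → ℤ) := rfl

theorem smul_add' (g : ↥Co0) (v w : leechLattice) : g • (v + w) = g • v + g • w := g.2.1 v w

theorem sqNorm_smul (g : ↥Co0) (v : leechLattice) :
    sqNorm ((g • v : leechLattice) : GolayPt → ℤ) = sqNorm (v : GolayPt → ℤ) := g.2.2 v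

/-! ### the index `2 ^ 12` subgroup -/

/-- vectors congruent modulo 4 to a constant even vector, with the sum condition -/
def doubleSub : AddSubgroup (GolayPt → ℤ) where
  carrier := {x | ∃ (a : ℤ) (w : GolayPt → ℤ), (∀ i, x i = 2 * a + 4 * w i) ∧ (2 : ℤ) ∣ ∑ i, w i}
  zero_mem' := ⟨0, 0, by simp, by simp⟩
  add_mem' := by
    rintro x y ⟨a, w, hw, hs⟩ ⟨b, u, hu, ht⟩
    refine ⟨a + b, w + u, fun i => ?_, ?_⟩
    · simp only [Pi.add_apply, hw i, hu i]; ring
    · simp only [Pi.add_apply, Finset.sum_add_distrib]; exact dvd_add hs ht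
  neg_mem' := by
    rintro x ⟨a, w, hw, hs⟩
    refine ⟨-a, -w, fun i => ?_, ?_⟩
    · simp only [Pi.neg_apply, hw i]; ring
    · simp only [Pi.neg_apply, Finset.sum_neg_distrib]; exact dvd_neg.2 hs

theorem doubleSub_le : doubleSub ≤ leechLattice := by
  rintro x ⟨a, w, hw, hs⟩
  refine mem_lattice_iff.2 ⟨0, fun i => a + 2 * w i, fun i => by rw [hw i]; ring, ?_, ?_⟩
  · have : ∑ i, x i = 48 * a + 4 * ∑ i, w i := by
      simp only [hw, Finset.sum_add_distrib, sum_golayPt_const, Finset.mul_sum]; ring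
    omega
  · have : red2 (fun i => a + 2 * w i) = (a : ZMod 2) • (1 : GolayPt → ZMod 2) := by
      funext i
      have h2 : (2 : ZMod 2) = 0 := rfl
      simp [red2, h2]
    rw [this]
    exact Submodule.smul_mem _ _ one_mem

theorem two_smul_mem_doubleSub {v : GolayPt → ℤ} (hv : v ∈ leechLattice) :
    v + v ∈ doubleSub := by
  obtain ⟨m, y, hy, hs, -⟩ := mem_lattice_iff.1 hv
  refine ⟨m, y, fun i => by rw [Pi.add_apply, hy i]; ring, ?_⟩
  have : ∑ i, v i = 24 * m + 2 * ∑ i, y i := by
    simp only [hy, Finset.sum_add_distrib, sum_golayPt_const, Finset.mul_sum]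
  omega

theorem dvd32_sqNorm_doubleSub {x : GolayPt → ℤ} (hx : x ∈ doubleSub) : (32 : ℤ) ∣ sqNorm x := by
  obtain ⟨a, w, hw, hs⟩ := hx
  have : sqNorm x = 96 * a ^ 2 + 16 * a * (∑ i, w i) + 16 * ∑ i, w i ^ 2 := by
    simp only [sqNorm, hw]
    rw [show (96 : ℤ) * a ^ 2 = 24 * (4 * a ^ 2) by ring, ← sum_golayPt_const, Finset.mul_sum,
      Finset.mul_sum, ← Finset.sum_add_distrib, ← Finset.sum_add_distrib]
    exact Finset.sum_congr rfl fun i _ => by ring
  obtain ⟨k, hk⟩ := hs
  obtain ⟨l, hl⟩ := two_dvd_sum_sub_sq w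
  rw [this, show ∑ i, w i ^ 2 = 2 * l + 2 * k by omega, hk]
  exact ⟨3 * a ^ 2 + a * k + l + k, by ring⟩

theorem parity_dvd (v : leechLattice) (i j : GolayPt) :
    (2 : ℤ) ∣ (v : GolayPt → ℤ) i - (v : GolayPt → ℤ) j := by
  obtain ⟨m, y, hy, -, -⟩ := mem_lattice_iff.1 v.2
  rw [hy i, hy j]; exact ⟨y i - y j, by ring⟩

/-- the quotient map by `doubleSub` -/
def topHom : leechLattice →+ ZMod 2 × (Fin 11 → ZMod 2) where
  toFun v := (((v : GolayPt → ℤ) none : ZMod 2),
    fun i => ((((v : GolayPt → ℤ) (piv i.succ) - (v : GolayPt → ℤ) none) / 2 : ℤ) : ZMod 2))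
  map_zero' := by ext <;> simp
  map_add' v w := by
    ext i
    · simp
    · simp only [AddSubgroup.coe_add, Pi.add_apply, Prod.snd_add]
      rw [show ∀ a b c d : ℤ, a + b - (c + d) = (a - c) + (b - d) from fun a b c d => by ring,
        Int.add_ediv_of_dvd_left (parity_dvd v _ _), Int.cast_add]

theorem ker_topHom : topHom.ker = doubleSub.addSubgroupOf leechLattice := by
  ext v
  rw [AddMonoidHom.mem_ker, AddSubgroup.mem_addSubgroupOf]
  constructor
  · intro h
    obtain ⟨m, y, hy, hs, hc⟩ := mem_lattice_iff.1 v.2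
    have h1 : ((v : GolayPt → ℤ) none : ZMod 2) = 0 := congrArg Prod.fst h
    have h2 : ∀ i : Fin 11, red2 y (piv i.succ) = red2 y none := fun i => by
      have h3 : ((((v : GolayPt → ℤ) (piv i.succ) - (v : GolayPt → ℤ) none) / 2 : ℤ) : ZMod 2) = 0 :=
        congrFun (congrArg Prod.snd h) i
      rw [hy, hy, show m + 2 * y (piv i.succ) - (m + 2 * y none) =
        2 * (y (piv i.succ) - y none) by ring, Int.mul_ediv_cancel_left _ (by norm_num),
        Int.cast_sub, sub_eq_zero] at h3
      exact h3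
    have hp : ∀ j, red2 y (piv j) = red2 y none := fun j => by
      refine Fin.cases ?_ h2 j
      rfl
    have hconst : red2 y = red2 y none • (1 : GolayPt → ZMod 2) := by
      calc red2 y = dec (red2 y) := ((mem_iff _).1 hc).symm
        _ = dec (red2 y none • (1 : GolayPt → ZMod 2)) := by
          funext p; simp [dec, hp, Finset.mul_sum]
        _ = _ := by rw [map_smul, one_dec]
    rw [hy, ZMod.intCast_zmod_eq_zero_iff_dvd, Nat.cast_ofNat] at h1
    have he : ∀ i, (2 : ℤ) ∣ y i - y none := fun i => by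
      have := congrFun hconst i
      simp only [Pi.smul_apply, Pi.one_apply, smul_eq_mul, mul_one, red2] at this
      exact (ZMod.intCast_eq_intCast_iff_dvd_sub _ _ 2).1 this.symm
    obtain ⟨a, ha⟩ : (2 : ℤ) ∣ m := by omega
    choose w hw using he
    refine ⟨a + y none, w, fun i => ?_, ?_⟩
    · rw [hy i]; linarith [hw i, ha]
    · have e : ∑ i, (v : GolayPt → ℤ) i = 24 * m + 2 * (24 * y none) + 4 * ∑ i, w i := by
        rw [← sum_golayPt_const m, ← sum_golayPt_const (y none), Finset.mul_sum, Finset.mul_sum,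
          ← Finset.sum_add_distrib, ← Finset.sum_add_distrib]
        exact Finset.sum_congr rfl fun i _ => by rw [hy i]; linarith [hw i]
      omega
  · rintro ⟨a, w, hw, -⟩
    ext i
    · simp [topHom, hw]
      have h2 : (2 : ZMod 2) = 0 := rfl
      have h4 : (4 : ZMod 2) = 0 := rfl
      simp [h2, h4]
    · simp only [topHom, AddMonoidHom.coe_mk, ZeroHom.coe_mk, Prod.snd_zero, Pi.zero_apply]
      rw [hw, hw, show 2 * a + 4 * w (piv i.succ) - (2 * a + 4 * w none) =
        2 * (2 * (w (piv i.succ) - w none)) by ring, Int.mul_ediv_cancel_left _ (by norm_num),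
        Int.cast_mul, show ((2 : ℤ) : ZMod 2) = 0 from rfl, zero_mul]

/-- the vector `(-3, 1^23)` -/
def vecOdd : GolayPt → ℤ := fun p => if p = none then -3 else 1

theorem vecOdd_mem : vecOdd ∈ leechLattice :=
  mem_lattice_iff.2 ⟨1, fun p => if p = none then -2 else 0, by decide +kernel, by decide +kernel,
    (mem_iff _).2 (by decide +kernel)⟩

theorem two_mul_word_mem {c : GolayPt → ZMod 2} (hc : c ∈ golayCode) :
    (fun i => 2 * ((c i).val : ℤ)) ∈ leechLattice := by
  rw [mem_lattice_iff]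
  refine ⟨(0 : ℤ), fun i => ((c i).val : ℤ), fun i => (zero_add _).symm, ?_, ?_⟩
  · have e : ∑ i, (2 : ℤ) * ((c i).val : ℤ) = 2 * (hammingNorm c : ℤ) := by
      rw [← Finset.mul_sum]
      refine congrArg (2 * ·) ?_
      have : ∀ a : ZMod 2, (a.val : ℤ) = if a = 0 then 0 else 1 := by decide
      simp only [this, Finset.sum_ite, Finset.sum_const_zero, zero_add, Finset.sum_const]
      simp [hammingNorm]
    obtain ⟨k, hk⟩ := four_dvd_weight hc
    rw [e, hk]
    push_cast
    omega
  · convert hc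
    funext i
    simp [red2]

theorem topHom_word {c : GolayPt → ZMod 2} (hc : c ∈ golayCode) (hnone : c none = 0) :
    topHom ⟨_, two_mul_word_mem hc⟩ = (0, fun i => c (piv i.succ)) := by
  refine Prod.ext ?_ (funext fun i => ?_)
  · show ((2 * ((c none).val : ℤ) : ℤ) : ZMod 2) = 0
    rw [hnone]; simp
  · show (((2 * ((c (piv i.succ)).val : ℤ) - 2 * ((c none).val : ℤ)) / 2 : ℤ) : ZMod 2) = _
    rw [hnone, ZMod.val_zero, Nat.cast_zero, mul_zero, sub_zero,
      Int.mul_ediv_cancel_left _ (by norm_num), Int.cast_natCast, ZMod.natCast_zmod_val]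

theorem lift_word (b : Fin 11 → ZMod 2) :
    ∃ c ∈ golayCode, c none = 0 ∧ ∀ i : Fin 11, c (piv i.succ) = b i := by
  refine ⟨∑ i : Fin 11, b i • row i.succ,
    sum_mem fun i _ => Submodule.smul_mem _ _ (row_mem _), ?_, fun j => ?_⟩
  · rw [Finset.sum_apply, Finset.sum_eq_zero]
    intro i _
    rw [Pi.smul_apply, show (none : GolayPt) = piv 0 from rfl, row_piv, if_neg (Fin.succ_ne_zero i),
      smul_zero]
  · simp only [Finset.sum_apply, Pi.smul_apply, row_piv, Fin.succ_inj, smul_eq_mul, mul_ite,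
      mul_one, mul_zero, Finset.sum_ite_eq', Finset.mem_univ, if_true]

theorem topHom_surjective : Function.Surjective topHom := by
  have h2 : ∀ b : Fin 11 → ZMod 2, ∃ v, topHom v = (0, b) := by
    intro b
    obtain ⟨c, hc, hnone, hpiv⟩ := lift_word b
    exact ⟨_, (topHom_word hc hnone).trans (by simp [hpiv])⟩
  intro ab
  obtain ⟨ε, b⟩ := ab
  have h01 : ε = 0 ∨ ε = 1 := by revert ε; decide
  rcases h01 with rfl | rfl
  · exact h2 b
  · obtain ⟨v, hv⟩ := h2 (b - (topHom ⟨vecOdd, vecOdd_mem⟩).2)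
    refine ⟨⟨vecOdd, vecOdd_mem⟩ + v, ?_⟩
    rw [map_add, hv]
    ext i
    · simp [topHom, vecOdd]; decide
    · simp

theorem index_doubleSub : (doubleSub.addSubgroupOf leechLattice).index = 2 ^ 12 := by
  rw [← ker_topHom, AddSubgroup.index_ker, AddMonoidHom.range_eq_top.2 topHom_surjective,
    AddSubgroup.card_top]
  simp

end Cfsg.Agent.Leech
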