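import Mathlib
import Cfsg.Prelude.Def_Sporadic_a
import Cfsg.Prelude.Def_Spor_Conway
import Cfsg.Agent.Leech.Code
import Cfsg.Agent.Leech.Lattice

/-! The reduction of the lattice automorphisms modulo 13. -/

set_option autoImplicit false

namespace Cfsg.Agent.Leech
open Cfsg
open Matrix

theorem octVec_mem (i : GolayPt) : (Pi.single i 8 : GolayPt → ℤ) ∈ leechLattice := by
  rw [mem_lattice_iff]
  refine ⟨(0 : ℤ), Pi.single i 4, fun q => ?_, ?_, ?_⟩
  · by_cases h : q = i
    · subst h; simp
    · simp [h]
  · simp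
  · convert zero_mem golayCode
    funext q
    have h4 : (4 : ZMod 2) = 0 := rfl
    by_cases h : q = i
    · subst h; simp [red2, h4]
    · simp [red2, h]

/-- the vector `8 e_i` -/
def oct (i : GolayPt) : leechLattice := ⟨Pi.single i 8, octVec_mem i⟩

/-- reduction modulo 13 -/
def red13 (v : leechLattice) : GolayPt → ZMod 13 := fun q => ((v : GolayPt → ℤ) q : ZMod 13)

/-- the action as an additive map -/
def actHom (g : ↥Co0) : leechLattice →+ (GolayPt → ℤ) :=
  AddMonoidHom.mk' (fun v => ((g • v : leechLattice) : GolayPt → ℤ))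
    (fun v w => by rw [smul_add' g v w]; rfl)

theorem expand_eight (v : leechLattice) : 8 • v = ∑ i, (v : GolayPt → ℤ) i • oct i := by
  refine Subtype.ext (funext fun q => ?_)
  simp only [AddSubgroup.val_finsetSum, AddSubgroup.coe_zsmul, oct, AddSubgroup.coe_nsmul,
    Finset.sum_apply, Pi.smul_apply, smul_eq_mul, nsmul_eq_mul]
  rw [Finset.sum_eq_single q (fun b _ hb => by simp [hb.symm]) (by simp)]
  simp [mul_comm]

theorem act_expand (g : ↥Co0) (v : leechLattice) (q : GolayPt) :
    8 * ((g • v : leechLattice) : GolayPt → ℤ) q =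
      ∑ i, (v : GolayPt → ℤ) i * ((g • oct i : leechLattice) : GolayPt → ℤ) q := by
  have h := congrFun (congrArg (actHom g) (expand_eight v)) q
  rw [map_nsmul, map_sum] at h
  simp only [map_zsmul, Finset.sum_apply, Pi.smul_apply, smul_eq_mul, nsmul_eq_mul,
    Pi.natCast_apply, Pi.mul_apply, Nat.cast_ofNat] at h
  exact h

/-- the matrix of an automorphism modulo 13 -/
def mat13 (g : ↥Co0) : Matrix GolayPt GolayPt (ZMod 13) :=
  Matrix.of fun q i => 5 * (((g • oct i : leechLattice) : GolayPt → ℤ) q : ZMod 13)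

theorem mat13_mulVec (g : ↥Co0) (v : leechLattice) : mat13 g *ᵥ red13 v = red13 (g • v) := by
  funext q
  have h := congrArg (fun t : ℤ => (5 : ZMod 13) * (t : ZMod 13)) (act_expand g v q)
  simp only [Int.cast_mul, Int.cast_sum, Finset.mul_sum, Int.cast_ofNat] at h
  rw [← mul_assoc, show (5 : ZMod 13) * 8 = 1 from rfl, one_mul] at h
  rw [red13, h]
  simp only [mulVec, dotProduct, mat13, Matrix.of_apply, red13]
  exact Finset.sum_congr rfl fun i _ => by ring

theorem red13_oct (i : GolayPt) : red13 (oct i) = Pi.single i 8 := by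
  funext q
  by_cases h : q = i
  · subst h; simp [red13, oct]
  · simp [red13, oct, h]

theorem mat13_ext {A B : Matrix GolayPt GolayPt (ZMod 13)}
    (h : ∀ v : leechLattice, A *ᵥ red13 v = B *ᵥ red13 v) : A = B := by
  refine Matrix.ext fun q i => ?_
  have h1 := congrFun (h (oct i)) q
  rw [red13_oct] at h1
  have key : ∀ a b : ZMod 13, a * 8 = b * 8 → a = b := by decide
  refine key _ _ ?_
  simpa [mulVec_single, mul_comm] using h1

theorem mat13_one : mat13 1 = 1 := mat13_ext fun v => by
  rw [mat13_mulVec, one_smul, one_mulVec]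

theorem mat13_mul (g h : ↥Co0) : mat13 (g * h) = mat13 g * mat13 h := mat13_ext fun v => by
  rw [mat13_mulVec, ← mulVec_mulVec, mat13_mulVec, mat13_mulVec, mul_smul]

theorem dotInt_smul (g : ↥Co0) (v w : leechLattice) :
    dotInt ((g • v : leechLattice) : GolayPt → ℤ) ((g • w : leechLattice) : GolayPt → ℤ) =
      dotInt (v : GolayPt → ℤ) (w : GolayPt → ℤ) := by
  have h1 := sqNorm_smul g (v + w)
  rw [smul_add', AddSubgroup.coe_add, AddSubgroup.coe_add, sqNorm_add, sqNorm_add,
    sqNorm_smul, sqNorm_smul] at h1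
  linarith

theorem mat13_orth (g : ↥Co0) : (mat13 g)ᵀ * mat13 g = 1 := by
  refine Matrix.ext fun i j => ?_
  have h := congrArg (fun t : ℤ => (5 * 5 : ZMod 13) * (t : ZMod 13)) (dotInt_smul g (oct i) (oct j))
  simp only [dotInt, Int.cast_sum, Int.cast_mul, Finset.mul_sum] at h
  simp only [Matrix.mul_apply, Matrix.transpose_apply, mat13, Matrix.of_apply]
  refine Eq.trans ((Finset.sum_congr rfl fun q _ => by ring).trans h) ?_
  simp only [oct]
  rw [Finset.sum_eq_single i (fun b _ hb => by simp [hb]) (by simp)]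
  by_cases hij : i = j
  · subst hij; simp; decide
  · simp [hij]

theorem eq_one_of_mat13 {g : ↥Co0} (h : mat13 g = 1) : g = 1 := by
  have hoct : ∀ i, ((g • oct i : leechLattice) : GolayPt → ℤ) = Pi.single i 8 := by
    intro i
    set x := ((g • oct i : leechLattice) : GolayPt → ℤ) with hx
    have hn : sqNorm x = 64 := by
      rw [hx, sqNorm_smul]
      simp only [sqNorm, oct]
      rw [Finset.sum_eq_single i (fun b _ hb => by simp [hb]) (by simp)]
      simp
    have hle : ∀ q, x q ^ 2 ≤ 64 := fun q =>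
      hn ▸ Finset.single_le_sum (f := fun q => x q ^ 2) (fun b _ => sq_nonneg _) (Finset.mem_univ q)
    have hb : ∀ q, -8 ≤ x q ∧ x q ≤ 8 := fun q => by
      constructor <;> nlinarith [hle q]
    have hmod : ∀ q, ((x q : ℤ) : ZMod 13) = ((Pi.single i (8 : ℤ) : GolayPt → ℤ) q : ℤ) := fun q => by
      have h1 := congrFun (mat13_mulVec g (oct i)) q
      rw [h, one_mulVec] at h1
      exact h1.symm
    have hq : ∀ q, q ≠ i → x q = 0 := fun q hq => by
      have := (ZMod.intCast_eq_intCast_iff_dvd_sub _ _ 13).1 (hmod q)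
      simp [hq] at this
      have := hb q
      omega
    funext q
    by_cases hqi : q = i
    · subst hqi
      have h2 : x q ^ 2 = 64 := by
        rw [← hn]
        exact (Finset.sum_eq_single (f := fun b => x b ^ 2) q (fun b _ hb => by simp [hq b hb])
          (by simp)).symm
      have := (ZMod.intCast_eq_intCast_iff_dvd_sub _ _ 13).1 (hmod q)
      simp only [Pi.single_eq_same] at this ⊢
      have := hb q
      have h3 : x q = 8 ∨ x q = -8 ∨ (-8 < x q ∧ x q < 8) := by omega
      rcases h3 with h3 | h3 | h3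
      · exact h3
      · omega
      · nlinarith
    · simp [hqi, hq q hqi]
  refine Subtype.ext (Equiv.ext fun v => Subtype.ext (funext fun q => ?_))
  have h8 := act_expand g v q
  simp only [hoct] at h8
  rw [Finset.sum_eq_single q (fun b _ hb => by simp [Ne.symm hb]) (by simp)] at h8
  simp only [Pi.single_eq_same] at h8
  show ((g • v : leechLattice) : GolayPt → ℤ) q = (v : GolayPt → ℤ) q
  linarith

end Cfsg.Agent.Leech
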