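import Mathlib
import Cfsg.Prelude.Def_Sporadic_a

/-! Binary codes of length 24, dimension 12 and minimum weight at least 8. -/

set_option autoImplicit false

namespace Cfsg.Agent.Leech
open Cfsg

section
variable {α : Type*} [Fintype α] [DecidableEq α]

theorem zmod2_cases (a : ZMod 2) : a = 0 ∨ a = 1 := by revert a; decide

omit [DecidableEq α] in
theorem hammingNorm_eq_card (v : α → ZMod 2) : hammingNorm v = (support₂ v).card := by
  simp [hammingNorm, support₂]

omit [DecidableEq α] in
theorem mem_support₂ {v : α → ZMod 2} {i : α} : i ∈ support₂ v ↔ v i = 1 := by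
  simp only [support₂, Finset.mem_filter, Finset.mem_univ, true_and]
  rcases zmod2_cases (v i) with h | h <;> simp [h]

theorem support₂_add (v w : α → ZMod 2) :
    support₂ (v + w) = symmDiff (support₂ v) (support₂ w) := by
  ext i
  simp only [Finset.mem_symmDiff, mem_support₂, Pi.add_apply]
  rcases zmod2_cases (v i) with h | h <;> rcases zmod2_cases (w i) with h' | h' <;>
    simp [h, h', show (1 : ZMod 2) + 1 = 0 from rfl]

theorem weight_add (v w : α → ZMod 2) :
    hammingNorm (v + w) + 2 * (support₂ v ∩ support₂ w).card = hammingNorm v + hammingNorm w := by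
  simp only [hammingNorm_eq_card, support₂_add]
  have h1 := Finset.card_union_add_card_inter (support₂ v) (support₂ w)
  have h2 : (symmDiff (support₂ v) (support₂ w)).card + (support₂ v ∩ support₂ w).card =
      (support₂ v ∪ support₂ w).card := by
    rw [← Finset.card_union_of_disjoint
      (by simpa only [Finset.inf_eq_inter] using
        disjoint_symmDiff_inf (support₂ v) (support₂ w))]
    congr 1
    rw [← Finset.sup_eq_union, ← Finset.inf_eq_inter, ← Finset.sup_eq_union]
    exact symmDiff_sup_inf _ _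
  omega

theorem sub_eq_add2 (v w : α → ZMod 2) : v - w = v + w := by
  funext i
  simp only [Pi.sub_apply, Pi.add_apply]
  rcases zmod2_cases (v i) with h | h <;> rcases zmod2_cases (w i) with h' | h' <;>
    rw [h, h'] <;> rfl

/-- indicator word of a finset -/
def indic (s : Finset α) : α → ZMod 2 := fun i => if i ∈ s then 1 else 0

theorem support₂_indic (s : Finset α) : support₂ (indic s) = s := by
  ext i; rw [mem_support₂]; simp [indic]

theorem eq_of_support₂_eq {v w : α → ZMod 2} (h : support₂ v = support₂ w) : v = w := by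
  funext i
  have := congrArg (fun s => i ∈ s) h
  simp only [mem_support₂, eq_iff_iff] at this
  rcases zmod2_cases (v i) with h | h <;> rcases zmod2_cases (w i) with h' | h' <;>
    simp_all

/-- the words supported off `p` of weight at most three -/
def ball (p : α) : Finset (α → ZMod 2) :=
  ((Finset.range 4).biUnion fun k => (Finset.univ.erase p).powersetCard k).image indic

theorem card_ball (hα : Fintype.card α = 24) (p : α) : (ball p).card = 2048 := by
  rw [ball, Finset.card_image_of_injective _ (fun s t h => by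
    rw [← support₂_indic s, h, support₂_indic]), Finset.card_biUnion]
  · simp only [Finset.card_powersetCard, Finset.card_erase_of_mem (Finset.mem_univ p),
      Finset.card_univ, hα]
    decide
  · intro a _ b _ hab
    exact Finset.pairwise_disjoint_powersetCard _ hab

theorem mem_ball {p : α} {e : α → ZMod 2} : e ∈ ball p ↔ e p = 0 ∧ hammingNorm e ≤ 3 := by
  simp only [ball, Finset.mem_image, Finset.mem_biUnion, Finset.mem_range,
    Finset.mem_powersetCard]
  constructor
  · rintro ⟨s, ⟨k, hk, hs, hc⟩, rfl⟩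
    refine ⟨if_neg fun h => by simpa using hs h, ?_⟩
    rw [hammingNorm_eq_card, support₂_indic]; omega
  · rintro ⟨hp, hw⟩
    refine ⟨support₂ e, ⟨_, by rw [hammingNorm_eq_card] at hw; omega, ?_, rfl⟩,
      eq_of_support₂_eq (support₂_indic _)⟩
    intro i hi
    rw [Finset.mem_erase]
    exact ⟨fun h => by simp [mem_support₂, h, hp] at hi, Finset.mem_univ _⟩

variable (C : Submodule (ZMod 2) (α → ZMod 2))

theorem ball_inj (hmin : ∀ w ∈ C, w ≠ 0 → 8 ≤ hammingNorm w) {p : α}
    {c c' e e' : α → ZMod 2} (hc : c ∈ C) (hc' : c' ∈ C) (he : e ∈ ball p) (he' : e' ∈ ball p)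
    (h : ∀ i, i ≠ p → (c + e) i = (c' + e') i) : c = c' ∧ e = e' := by
  obtain ⟨hp, hw⟩ := mem_ball.1 he
  obtain ⟨hp', hw'⟩ := mem_ball.1 he'
  have hsub : support₂ (c + c') ⊆ insert p (support₂ e ∪ support₂ e') := by
    intro i hi
    rcases eq_or_ne i p with rfl | hip
    · exact Finset.mem_insert_self _ _
    refine Finset.mem_insert_of_mem ?_
    rw [Finset.mem_union, mem_support₂, mem_support₂]
    rw [mem_support₂, Pi.add_apply] at hi
    have hh := h i hip
    simp only [Pi.add_apply] at hh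
    revert hi hh
    generalize c i = a; generalize c' i = b; generalize e i = x; generalize e' i = y
    revert a b x y
    decide
  have hcard : hammingNorm (c + c') ≤ 7 := by
    rw [hammingNorm_eq_card]
    have := Finset.card_le_card hsub
    have := Finset.card_insert_le p (support₂ e ∪ support₂ e')
    have := Finset.card_union_le (support₂ e) (support₂ e')
    rw [hammingNorm_eq_card] at hw hw'
    omega
  have hcc : c = c' := by
    by_contra hne
    have : c + c' ≠ 0 := by rw [← sub_eq_add2]; exact sub_ne_zero.2 hne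
    have := hmin _ (add_mem hc hc') this
    omega
  refine ⟨hcc, funext fun i => ?_⟩
  rcases eq_or_ne i p with rfl | hip
  · rw [hp, hp']
  · have := h i hip
    rw [hcc] at this
    simpa using this

/-- the punctured code is perfect -/
theorem cover (hα : Fintype.card α = 24) (hdim : Module.finrank (ZMod 2) C = 12)
    (hmin : ∀ w ∈ C, w ≠ 0 → 8 ≤ hammingNorm w) (w : α → ZMod 2) (p : α) :
    ∃ c ∈ C, ∃ e ∈ ball p, ∀ i, i ≠ p → w i = (c + e) i := by
  let Φ : C × {e // e ∈ ball p} → ({i : α // i ≠ p} → ZMod 2) :=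
    fun ce i => ((ce.1 : α → ZMod 2) + (ce.2 : α → ZMod 2)) i
  have hinj : Function.Injective Φ := by
    rintro ⟨⟨c, hc⟩, ⟨e, he⟩⟩ ⟨⟨c', hc'⟩, ⟨e', he'⟩⟩ h
    obtain ⟨h1, h2⟩ := ball_inj C hmin hc hc' he he' (fun i hi => congrFun h ⟨i, hi⟩)
    simp [h1, h2]
  have hcard : Nat.card (C × {e // e ∈ ball p}) = Nat.card ({i : α // i ≠ p} → ZMod 2) := by
    rw [Nat.card_prod, Nat.card_fun, Nat.card_zmod, Module.natCard_eq_pow_finrank (K := ZMod 2),
      hdim, Nat.card_zmod, Nat.card_eq_finsetCard, card_ball hα p, Nat.card_eq_fintype_card,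
      Fintype.card_subtype_compl, Fintype.card_subtype_eq, hα]
    norm_num
  have hbij := (Nat.bijective_iff_injective_and_card Φ).2 ⟨hinj, hcard⟩
  obtain ⟨⟨c, e⟩, hce⟩ := hbij.2 (fun i => w i)
  exact ⟨c, c.2, e, e.2, fun i hi => (congrFun hce ⟨i, hi⟩).symm⟩

/-- consequence: within distance four, with excess at `p` only -/
theorem cover4 (hα : Fintype.card α = 24) (hdim : Module.finrank (ZMod 2) C = 12)
    (hmin : ∀ w ∈ C, w ≠ 0 → 8 ≤ hammingNorm w) (w : α → ZMod 2) (p : α) :
    ∃ u : α → ZMod 2, u - w ∈ C ∧ ((support₂ u).erase p).card ≤ 3 ∧ hammingNorm u ≤ 4 := by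
  obtain ⟨c, hc, e, he, h⟩ := cover C hα hdim hmin w p
  refine ⟨c + w, ?_, ?_⟩
  · rwa [add_sub_cancel_right]
  have hsub : (support₂ (c + w)).erase p ⊆ support₂ e := by
    intro i hi
    obtain ⟨hip, hi⟩ := Finset.mem_erase.1 hi
    rw [mem_support₂] at hi ⊢
    rw [Pi.add_apply, h i hip, Pi.add_apply] at hi
    revert hi
    generalize c i = a; generalize e i = x
    revert a x
    decide
  have h1 : ((support₂ (c + w)).erase p).card ≤ 3 := by
    have := Finset.card_le_card hsub
    have := (mem_ball.1 he).2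
    rw [hammingNorm_eq_card] at this
    omega
  refine ⟨h1, ?_⟩
  rw [hammingNorm_eq_card]
  have := Finset.pred_card_le_card_erase (a := p) (s := support₂ (c + w))
  omega

theorem small_unique (hmin : ∀ w ∈ C, w ≠ 0 → 8 ≤ hammingNorm w) {u u' : α → ZMod 2}
    (h : u - u' ∈ C) (hw : hammingNorm u + hammingNorm u' < 8) : u = u' := by
  by_contra hne
  have := hmin _ h (sub_ne_zero.2 hne)
  rw [sub_eq_add2] at this
  have := weight_add u u'
  omega

/-- the coset alternatives -/
theorem coset_small (hα : Fintype.card α = 24) (hdim : Module.finrank (ZMod 2) C = 12)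
    (hmin : ∀ w ∈ C, w ≠ 0 → 8 ≤ hammingNorm w) (w : α → ZMod 2) :
    (∃ u : α → ZMod 2, {u | u - w ∈ C ∧ hammingNorm u ≤ 4} = {u} ∧ hammingNorm u ≤ 3) ∨
    ({u | u - w ∈ C ∧ hammingNorm u ≤ 4}.ncard = 6 ∧
      ∀ u ∈ {u | u - w ∈ C ∧ hammingNorm u ≤ 4}, hammingNorm u = 4 ∧
        ∀ u' ∈ {u | u - w ∈ C ∧ hammingNorm u ≤ 4}, u ≠ u' →
          Disjoint (support₂ u) (support₂ u')) := by
  classical
  have hdiff : ∀ u u' : α → ZMod 2, u - w ∈ C → u' - w ∈ C → u - u' ∈ C := fun u u' h h' => by
    simpa using sub_mem h h'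
  by_cases hex : ∃ u, u - w ∈ C ∧ hammingNorm u ≤ 3
  · obtain ⟨u, hu, hu3⟩ := hex
    refine Or.inl ⟨u, ?_, hu3⟩
    ext v
    simp only [Set.mem_setOf_eq, Set.mem_singleton_iff]
    refine ⟨fun hv => small_unique C hmin (hdiff v u hv.1 hu) (by omega), ?_⟩
    rintro rfl
    exact ⟨hu, by omega⟩
  push Not at hex
  let U : Finset (α → ZMod 2) := Finset.univ.filter fun u => u - w ∈ C ∧ hammingNorm u ≤ 4
  have hU : {u | u - w ∈ C ∧ hammingNorm u ≤ 4} = (U : Set (α → ZMod 2)) := by ext; simp [U]
  have h4 : ∀ u ∈ U, hammingNorm u = 4 := fun u hu => by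
    simp only [U, Finset.mem_filter] at hu
    have := hex u hu.2.1; omega
  have hdisj : ∀ u ∈ U, ∀ u' ∈ U, u ≠ u' → Disjoint (support₂ u) (support₂ u') := by
    intro u hu u' hu' hne
    have a := h4 u hu
    have b := h4 u' hu'
    simp only [U, Finset.mem_filter] at hu hu'
    have h8 := hmin _ (hdiff u u' hu.2.1 hu'.2.1) (sub_ne_zero.2 hne)
    rw [sub_eq_add2] at h8
    have := weight_add u u'
    rw [Finset.disjoint_iff_inter_eq_empty, ← Finset.card_eq_zero]
    omega
  have hunion : U.biUnion support₂ = Finset.univ := by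
    refine Finset.eq_univ_of_forall fun p => ?_
    obtain ⟨u, hu, h3, hu4⟩ := cover4 C hα hdim hmin w p
    refine Finset.mem_biUnion.2 ⟨u, by simp [U, hu, hu4], ?_⟩
    by_contra hp
    rw [Finset.erase_eq_self.2 hp] at h3
    have := hex u hu
    rw [hammingNorm_eq_card] at this
    omega
  have hcount : U.card * 4 = 24 := by
    have h := Finset.card_biUnion (t := support₂) (s := U) (fun u hu u' hu' hne => hdisj u hu u' hu' hne)
    rw [hunion, Finset.card_univ, hα, Finset.sum_const_nat (m := 4) (fun u hu => by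
      rw [← hammingNorm_eq_card]; exact h4 u hu)] at h
    exact h.symm
  refine Or.inr ⟨?_, ?_⟩
  · rw [hU, Set.ncard_coe_finset]; omega
  · rw [hU]
    intro u hu
    exact ⟨h4 u hu, fun u' hu' hne => hdisj u hu u' hu' hne⟩

theorem steiner (hα : Fintype.card α = 24) (hdim : Module.finrank (ZMod 2) C = 12)
    (horth : ∀ v ∈ C, ∀ w ∈ C, ∑ i, v i * w i = 0)
    (hmin : ∀ w ∈ C, w ≠ 0 → 8 ≤ hammingNorm w) :
    IsSteinerSystem 5 8 (wordsOfWeight (C : Set (α → ZMod 2)) 8) := by
  classical
  refine ⟨fun b hb => hb.2, fun s hs => ?_⟩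
  have heven : ∀ c ∈ C, 2 ∣ hammingNorm c := fun c hc => by
    have h := horth c hc c hc
    have e : (∑ i, c i * c i) = ((hammingNorm c : ℕ) : ZMod 2) := by
      rw [hammingNorm, Finset.natCast_card_filter]
      refine Finset.sum_congr rfl fun i _ => ?_
      rcases zmod2_cases (c i) with h | h <;> simp [h]
    rw [e, ZMod.natCast_eq_zero_iff] at h
    exact h
  obtain ⟨p, hp⟩ : ∃ p, p ∉ s := by
    refine ((Finset.ssubset_univ_iff (s := s)).2 fun h => ?_) |> Finset.exists_of_ssubset |>.imp
      fun _ hx => hx.2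
    rw [h, Finset.card_univ, hα] at hs
    omega
  obtain ⟨u, hu, h3, h4⟩ := cover4 C hα hdim hmin (indic s) p
  set c := u - indic s with hc
  have hsum : c + indic s = u := by simp [hc]
  have hne : c ≠ 0 := by
    intro h0
    rw [h0, zero_add] at hsum
    rw [← hsum, support₂_indic, Finset.erase_eq_self.2 hp] at h3
    omega
  have h8 := hmin c hu hne
  have hwa := weight_add c (indic s)
  rw [hsum, hammingNorm_eq_card (indic s), support₂_indic, hs] at hwa
  have hle : (support₂ c ∩ s).card ≤ s.card := Finset.card_le_card Finset.inter_subset_right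
  obtain ⟨k, hk⟩ := heven c hu
  have hsub : s ⊆ support₂ c := Finset.inter_eq_right.1
    (Finset.eq_of_subset_of_card_le Finset.inter_subset_right (by omega))
  refine ⟨support₂ c, ⟨⟨⟨c, hu, rfl⟩, by rw [← hammingNorm_eq_card]; omega⟩, hsub⟩, ?_⟩
  rintro b ⟨⟨⟨d, hd, rfl⟩, hd8⟩, hsd⟩
  have : d = c := by
    by_contra hdc
    have h := hmin _ (add_mem hd hu) (by rw [← sub_eq_add2]; exact sub_ne_zero.2 hdc)
    have hwd := weight_add d c
    have : s.card ≤ (support₂ d ∩ support₂ c).card :=
      Finset.card_le_card (Finset.subset_inter hsd hsub)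
    rw [hammingNorm_eq_card d, hd8] at hwd
    omega
  rw [this]

theorem exists_weight_eight (hα : Fintype.card α = 24) (hdim : Module.finrank (ZMod 2) C = 12)
    (horth : ∀ v ∈ C, ∀ w ∈ C, ∑ i, v i * w i = 0)
    (hmin : ∀ w ∈ C, w ≠ 0 → 8 ≤ hammingNorm w) : ∃ w ∈ C, hammingNorm w = 8 := by
  obtain ⟨s, -, hs⟩ := Finset.exists_subset_card_eq (n := 5) (s := (Finset.univ : Finset α))
    (by rw [Finset.card_univ, hα]; norm_num)
  obtain ⟨b, ⟨⟨⟨w, hw, rfl⟩, hb⟩, -⟩, -⟩ := (steiner C hα hdim horth hmin).2 s hs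
  exact ⟨w, hw, (hammingNorm_eq_card w).trans hb⟩

theorem span_eight (hα : Fintype.card α = 24) (hdim : Module.finrank (ZMod 2) C = 12)
    (horth : ∀ v ∈ C, ∀ w ∈ C, ∑ i, v i * w i = 0)
    (hmin : ∀ w ∈ C, w ≠ 0 → 8 ≤ hammingNorm w) :
    Submodule.span (ZMod 2) {w : α → ZMod 2 | w ∈ C ∧ hammingNorm w = 8} = C := by
  refine le_antisymm (Submodule.span_le.2 fun w hw => hw.1) fun c hc => ?_
  induction hn : hammingNorm c using Nat.strong_induction_on generalizing c with
  | _ n ih =>
    by_cases h0 : c = 0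
    · rw [h0]; exact zero_mem _
    have h8 := hmin c hc h0
    rw [hammingNorm_eq_card] at h8
    obtain ⟨s, hsc, hs⟩ := Finset.exists_subset_card_eq (n := 5) (s := support₂ c) (by omega)
    obtain ⟨b, ⟨⟨⟨o, ho, rfl⟩, hb⟩, hsb⟩, -⟩ := (steiner C hα hdim horth hmin).2 s hs
    have ho8 : hammingNorm o = 8 := (hammingNorm_eq_card o).trans hb
    have hwa := weight_add c o
    have : 5 ≤ (support₂ c ∩ support₂ o).card :=
      hs ▸ Finset.card_le_card (Finset.subset_inter hsc hsb)
    have := ih (hammingNorm (c + o)) (by omega) (c + o) (add_mem hc ho) rfl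
    have hoS : o ∈ Submodule.span (ZMod 2) {w : α → ZMod 2 | w ∈ C ∧ hammingNorm w = 8} :=
      Submodule.subset_span ⟨ho, ho8⟩
    simpa using sub_mem this hoS

theorem inter_even (horth : ∀ v ∈ C, ∀ w ∈ C, ∑ i, v i * w i = 0) {v w : α → ZMod 2}
    (hv : v ∈ C) (hw : w ∈ C) : 2 ∣ (support₂ v ∩ support₂ w).card := by
  have h := horth v hv w hw
  have e : (∑ i, v i * w i) = (((support₂ v ∩ support₂ w).card : ℕ) : ZMod 2) := by
    rw [← Finset.filter_univ_mem (support₂ v ∩ support₂ w), Finset.natCast_card_filter]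
    refine Finset.sum_congr rfl fun i _ => ?_
    rcases zmod2_cases (v i) with h | h <;> rcases zmod2_cases (w i) with h' | h' <;>
      simp [h, h', mem_support₂]
  rw [e, ZMod.natCast_eq_zero_iff] at h
  exact h

theorem doubly_even (hα : Fintype.card α = 24) (hdim : Module.finrank (ZMod 2) C = 12)
    (horth : ∀ v ∈ C, ∀ w ∈ C, ∑ i, v i * w i = 0)
    (hmin : ∀ w ∈ C, w ≠ 0 → 8 ≤ hammingNorm w) {w : α → ZMod 2} (hw : w ∈ C) :
    4 ∣ hammingNorm w := by
  rw [← span_eight C hα hdim horth hmin] at hw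
  have hle : Submodule.span (ZMod 2) {w : α → ZMod 2 | w ∈ C ∧ hammingNorm w = 8} ≤ C :=
    Submodule.span_le.2 fun w hw => hw.1
  induction hw using Submodule.span_induction with
  | mem x hx => rw [hx.2]; norm_num
  | zero => simp
  | add x y hx hy px py =>
    have := weight_add x y
    obtain ⟨k, hk⟩ := inter_even C horth (hle hx) (hle hy)
    omega
  | smul a x _ px =>
    rcases zmod2_cases a with rfl | rfl
    · simp
    · simpa using px

end

end Cfsg.Agent.Leech
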