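import Mathlib
import Cfsg.Prelude.Def_Sporadic_a
import Cfsg.Agent.Leech.Code
import Cfsg.Agent.Leech.Lattice

/-! A generating set of the lattice. -/

set_option autoImplicit false

namespace Cfsg.Agent.Leech
open Cfsg

/-- the integer 0/1 vector of a word -/
def valVec (c : GolayPt → ZMod 2) : GolayPt → ℤ := fun i => ((c i).val : ℤ)

theorem valVec_red2 (c : GolayPt → ZMod 2) : red2 (valVec c) = c := by
  funext i; simp [red2, valVec]

theorem sum_valVec (c : GolayPt → ZMod 2) : ∑ i, valVec c i = hammingNorm c := by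
  have : ∀ a : ZMod 2, (a.val : ℤ) = if a = 0 then 0 else 1 := by decide
  simp only [valVec, this, Finset.sum_ite, Finset.sum_const_zero, zero_add, Finset.sum_const]
  simp [hammingNorm]

/-- integer vectors with entries divisible by four and even quarter-sum -/
theorem quarter_mem (H : AddSubgroup (GolayPt → ℤ))
    (hpm : ∀ i : GolayPt, i ≠ none →
      (Pi.single i 4 + Pi.single none 4 : GolayPt → ℤ) ∈ H ∧
      (Pi.single i 4 - Pi.single none 4 : GolayPt → ℤ) ∈ H)
    (w : GolayPt → ℤ) (hw : (2 : ℤ) ∣ ∑ i, w i) : (fun i => 4 * w i) ∈ H := by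
  have h8 : (Pi.single none 8 : GolayPt → ℤ) ∈ H := by
    obtain ⟨h1, h2⟩ := hpm (some 0) (by simp)
    convert sub_mem h1 h2 using 1
    funext p
    simp only [Pi.sub_apply, Pi.add_apply, Pi.single_apply]
    split_ifs <;> norm_num
  have e : (fun i => 4 * w i) = (∑ i, w i • (Pi.single i 4 - Pi.single none 4 : GolayPt → ℤ)) +
      (∑ i, w i) • (Pi.single none 4 : GolayPt → ℤ) := by
    rw [Finset.sum_smul, ← Finset.sum_add_distrib]
    funext p
    rw [Finset.sum_apply, Finset.sum_eq_single p (fun b _ hb => by simp [Ne.symm hb]) (by simp)]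
    simp only [Pi.add_apply, Pi.smul_apply, Pi.sub_apply, Pi.single_eq_same, smul_eq_mul]
    ring
  rw [e]
  refine add_mem (sum_mem fun i _ => ?_) ?_
  · by_cases hi : i = none
    · subst hi; simp
    · exact zsmul_mem (hpm i hi).2 _
  · obtain ⟨k, hk⟩ := hw
    rw [hk, mul_comm, mul_smul]
    convert zsmul_mem h8 k using 2
    funext p
    simp only [Pi.smul_apply, Pi.single_apply, smul_eq_mul]
    split_ifs <;> norm_num

/-- the lattice is generated by `(-3,1^23)`, the vectors `4 e_i ± 4 e_none` and twice the members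
of a spanning set of the code -/
theorem lattice_le (H : AddSubgroup (GolayPt → ℤ)) (hodd : vecOdd ∈ H)
    (hpm : ∀ i : GolayPt, i ≠ none →
      (Pi.single i 4 + Pi.single none 4 : GolayPt → ℤ) ∈ H ∧
      (Pi.single i 4 - Pi.single none 4 : GolayPt → ℤ) ∈ H)
    (S : Set (GolayPt → ZMod 2)) (hspan : golayCode ≤ Submodule.span (ZMod 2) S)
    (hSC : S ⊆ golayCode) (hS : ∀ c ∈ S, (fun i => 2 * valVec c i) ∈ H) : leechLattice ≤ H := by
  have hall : ∀ c, c ∈ Submodule.span (ZMod 2) S → (fun i => 2 * valVec c i) ∈ H := by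
    intro c hc
    induction hc using Submodule.span_induction with
    | mem x hx => exact hS x hx
    | zero => convert zero_mem H using 1; funext i; simp [valVec]
    | add x y hx hy ihx ihy =>
      have hxC : x ∈ golayCode := Submodule.span_le.2 hSC hx
      have hyC : y ∈ golayCode := Submodule.span_le.2 hSC hy
      have hcase : ∀ a b : ZMod 2,
          ((a + b).val : ℤ) = (a.val : ℤ) + (b.val : ℤ) - 2 * ((a * b).val : ℤ) := by decide
      have he : (fun i => 2 * valVec (x + y) i) =
          ((fun i => 2 * valVec x i) + fun i => 2 * valVec y i) -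
            fun i => 4 * valVec (fun j => x j * y j) i := by
        funext i
        simp only [valVec, Pi.add_apply, Pi.sub_apply, hcase]
        ring
      rw [he]
      refine sub_mem (add_mem ihx ihy) (quarter_mem H hpm _ ?_)
      refine (ZMod.intCast_zmod_eq_zero_iff_dvd _ 2).1 ?_
      rw [Int.cast_sum]
      refine Eq.trans (Finset.sum_congr rfl fun i _ => ?_) (dot_eq_zero hxC hyC)
      simp [valVec]
    | smul a x hx ih =>
      have h01 : a = 0 ∨ a = 1 := by revert a; decide
      rcases h01 with rfl | rfl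
      · convert zero_mem H using 1; funext i; simp [valVec]
      · simpa using ih
  intro x hx
  obtain ⟨m, y, hy, hs, hc⟩ := mem_lattice_iff.1 hx
  -- subtract the odd vector
  set y' : GolayPt → ℤ := fun i => y i + if i = none then 2 * m else 0 with hy'
  have hx' : x - m • vecOdd = fun i => 2 * y' i := by
    funext i
    simp only [Pi.sub_apply, Pi.smul_apply, vecOdd, hy', hy i, smul_eq_mul]
    split_ifs <;> ring
  have hc' : red2 y' ∈ golayCode := by
    convert hc using 1
    funext i
    have h2 : (2 : ZMod 2) = 0 := rfl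
    simp only [red2, hy', Int.cast_add]
    split_ifs <;> simp [h2]
  have hev : ∀ i, (2 : ℤ) ∣ y' i - valVec (red2 y') i := fun i => by
    refine (ZMod.intCast_zmod_eq_zero_iff_dvd _ 2).1 ?_
    simp [valVec, red2]
  choose w hw using hev
  have hw2 : (2 : ℤ) ∣ ∑ i, w i := by
    have h4 : (4 : ℤ) ∣ (hammingNorm (red2 y') : ℤ) := by exact_mod_cast four_dvd_weight hc'
    have e1 : ∑ i, x i = 24 * m + 2 * ∑ i, y i := by
      simp only [hy, Finset.sum_add_distrib, sum_golayPt_const, Finset.mul_sum]
    have e2 : ∑ i, y' i = ∑ i, y i + 2 * m := by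
      simp [hy', Finset.sum_add_distrib]
    have e3 : ∑ i, y' i = (hammingNorm (red2 y') : ℤ) + 2 * ∑ i, w i := by
      rw [← sum_valVec, Finset.mul_sum, ← Finset.sum_add_distrib]
      exact Finset.sum_congr rfl fun i _ => by linarith [hw i]
    obtain ⟨k, hk⟩ := h4
    obtain ⟨j, hj⟩ := hs
    omega
  have e : x = m • vecOdd + ((fun i => 2 * valVec (red2 y') i) + fun i => 4 * w i) := by
    rw [← sub_eq_iff_eq_add', hx']
    funext i
    simp only [Pi.add_apply]
    linarith [hw i]
  rw [e]
  exact add_mem (zsmul_mem hodd m) (add_mem (hall _ (hspan hc')) (quarter_mem H hpm w hw2))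

theorem pm_mem (i : GolayPt) :
    (Pi.single i 4 + Pi.single none 4 : GolayPt → ℤ) ∈ leechLattice ∧
      (Pi.single i 4 - Pi.single none 4 : GolayPt → ℤ) ∈ leechLattice := by
  constructor
  · refine doubleSub_le ⟨0, Pi.single i 1 + Pi.single none 1, fun p => ?_, ?_⟩
    · simp only [Pi.add_apply, Pi.single_apply]; split_ifs <;> norm_num
    · simp [Finset.sum_add_distrib]
  · refine doubleSub_le ⟨0, Pi.single i 1 - Pi.single none 1, fun p => ?_, ?_⟩
    · simp only [Pi.sub_apply, Pi.single_apply]; split_ifs <;> norm_num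
    · simp [Finset.sum_sub_distrib]

end Cfsg.Agent.Leech
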