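import Mathlib
import Cfsg.Prelude.Def_Sporadic_a
import Cfsg.Agent.Leech.Code
import Cfsg.Agent.Leech.AbstractCode

/-! The concrete code: abstract hypotheses, enumeration, puncturing. -/

set_option autoImplicit false

namespace Cfsg.Agent.Leech
open Cfsg

theorem card_golayPt : Fintype.card GolayPt = 24 := by simp

theorem orth_golay : ∀ v ∈ golayCode, ∀ w ∈ golayCode, ∑ i, v i * w i = 0 :=
  fun _ hv _ hw => dot_eq_zero hv hw

theorem min_golay : ∀ w ∈ golayCode, w ≠ 0 → 8 ≤ hammingNorm w := fun _ hw => eight_le_weight hw

/-- the rows with their pivot numbers, as a literal list -/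
def rowList : List (ℕ × ℕ) :=
  [(0, 13062145), (1, 4845570), (2, 9691140), (3, 7221256), (4, 14442512), (5, 15806496),
    (6, 11243584), (7, 2019456), (8, 4038912), (9, 8077824), (10, 16155648), (11, 10811392)]

theorem rowList_snd : rowList.map Prod.snd = List.ofFn rowMask := by decide +kernel

/-- the mask of the `n`-th word -/
def maskOf (n : ℕ) : ℕ :=
  rowList.foldr (fun p acc => if n.testBit p.1 then p.2 ^^^ acc else acc) 0

theorem masks_check : (allMasks.all fun m => maskOf (m % 4096) == m) = true := by decide +kernel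

theorem maskOf_check : ((List.range 4096).all fun n => maskOf n % 4096 == n) = true := by
  decide +kernel

theorem maskOf_mod {n : ℕ} (hn : n < 4096) : maskOf n % 4096 = n :=
  beq_iff_eq.1 (List.all_eq_true.1 maskOf_check n (List.mem_range.2 hn))

/-- enumeration of the code -/
def enum (n : Fin 4096) : GolayPt → ZMod 2 := bitWord (maskOf n)

theorem maskOf_mem (n : ℕ) : maskOf n ∈ allMasks := by
  unfold maskOf
  have h : ∀ l : List (ℕ × ℕ), (∀ p ∈ l, p.2 ∈ allMasks) →
      l.foldr (fun p acc => if n.testBit p.1 then p.2 ^^^ acc else acc) 0 ∈ allMasks := by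
    intro l
    induction l with
    | nil => exact fun _ => zero_mem_spanList _
    | cons a t ih =>
      intro hl
      simp only [List.foldr_cons]
      have ht := ih fun p hp => hl p (List.mem_cons_of_mem _ hp)
      split_ifs
      · exact xor_mem_spanList (hl a (List.mem_cons_self ..)) ht
      · exact ht
  exact h _ fun p hp => mem_spanList_of_mem (rowList_snd ▸ List.mem_map.2 ⟨p, hp, rfl⟩)

theorem bitWord_mem {n : ℕ} (hn : n ∈ allMasks) : bitWord n ∈ golayCode := by
  have h : ∀ l : List ℕ, (∀ r ∈ l, bitWord r ∈ golayCode) →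
      ∀ m ∈ spanList l, bitWord m ∈ golayCode := by
    intro l
    induction l with
    | nil =>
      intro _ m hm
      rw [List.mem_singleton.1 hm, bitWord_zero]
      exact zero_mem _
    | cons r t ih =>
      intro hl m hm
      have ht := ih fun a ha => hl a (List.mem_cons_of_mem _ ha)
      rcases List.mem_append.1 hm with hm | hm
      · exact ht m hm
      · obtain ⟨b, hb, rfl⟩ := List.mem_map.1 hm
        rw [bitWord_xor]
        exact add_mem (hl r (List.mem_cons_self ..)) (ht b hb)
  refine h _ (fun r hr => ?_) n hn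
  obtain ⟨i, rfl⟩ := List.mem_ofFn.1 hr
  exact row_mem i

theorem enum_mem (n : Fin 4096) : enum n ∈ golayCode := bitWord_mem (maskOf_mem n)

theorem enum_injective : Function.Injective enum := by
  intro a b h
  have key : maskOf a % 4096 = maskOf b % 4096 := by
    refine Nat.eq_of_testBit_eq fun i => ?_
    have e4 : ∀ m : ℕ, (m % 4096).testBit i = (decide (i < 12) && m.testBit i) := fun m =>
      Nat.testBit_mod_two_pow m 12 i
    rw [e4, e4]
    by_cases hi : i < 12
    · have := congrFun h (idxEquiv.symm ⟨i, by omega⟩)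
      simp only [enum, bitWord] at this
      have e : idx (idxEquiv.symm ⟨i, by omega⟩) = i :=
        congrArg Fin.val (idxEquiv.apply_symm_apply (⟨i, by omega⟩ : Fin 24))
      rw [e] at this
      cases h1 : (maskOf a).testBit i <;> cases h2 : (maskOf b).testBit i <;> simp [h1, h2] at this ⊢
    · simp [hi]
  rw [maskOf_mod a.2, maskOf_mod b.2] at key
  exact Fin.ext key

theorem exists_enum {w : GolayPt → ZMod 2} (hw : w ∈ golayCode) : ∃ n, enum n = w := by
  obtain ⟨m, hm, rfl⟩ := exists_mask hw
  exact ⟨⟨m % 4096, Nat.mod_lt _ (by norm_num)⟩,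
    congrArg bitWord (beq_iff_eq.1 (List.all_eq_true.1 masks_check m hm))⟩

/-- forget the extra coordinate -/
def punct (w : GolayPt → ZMod 2) : ZMod 23 → ZMod 2 := fun x => w (some x)

theorem punct_inj {v w : GolayPt → ZMod 2} (hv : v ∈ golayCode) (hw : w ∈ golayCode)
    (h : punct v = punct w) : v = w := by
  refine (ball_inj golayCode min_golay (p := none) (e := 0) (e' := 0) hv hw
    (mem_ball.2 ⟨rfl, by simp⟩) (mem_ball.2 ⟨rfl, by simp⟩) fun i hi => ?_).1
  rcases i with _ | x
  · exact absurd rfl hi
  · simpa [punct] using congrFun h x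

theorem punct_weight (n : Fin 4096) :
    hammingNorm (punct (enum n)) =
      ((List.range' 1 23).filter fun i => (maskOf n).testBit i).length := by
  have h1 : hammingNorm (punct (enum n)) + (if (maskOf n).testBit 0 then 1 else 0) =
      hammingNorm (enum n) := by
    rw [hammingNorm, hammingNorm, Finset.card_filter, Finset.card_filter, Fintype.sum_option]
    simp only [punct, enum, bitWord, idx]
    rw [add_comm]
    congr 1
    by_cases hb : (maskOf n).testBit 0 = true <;> simp [hb]
  rw [enum, hammingNorm_bitWord] at h1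
  rw [show List.range 24 = 0 :: List.range' 1 23 from rfl, List.filter_cons] at h1
  rw [← show punct (enum n) = punct (bitWord (maskOf n)) from rfl] at h1
  cases hb : (maskOf n).testBit 0 <;> simp [hb] at h1 <;> omega

theorem punct_count (k c : ℕ)
    (h : ((List.range 4096).filter fun n =>
      ((List.range' 1 23).filter fun i => (maskOf n).testBit i).length == k).length = c) :
    {u : ZMod 23 → ZMod 2 | u ∈ {u : ZMod 23 → ZMod 2 | ∃ w ∈ golayCode, ∀ x : ZMod 23, u x = w (some x)} ∧
      hammingNorm u = k}.ncard = c := by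
  have hset : {u : ZMod 23 → ZMod 2 | u ∈ {u : ZMod 23 → ZMod 2 | ∃ w ∈ golayCode, ∀ x : ZMod 23, u x = w (some x)} ∧
      hammingNorm u = k} = (fun n => punct (enum n)) '' {n | hammingNorm (punct (enum n)) = k} := by
    ext u
    constructor
    · rintro ⟨⟨w, hw, hu⟩, hk⟩
      obtain ⟨n, rfl⟩ := exists_enum hw
      obtain rfl : u = punct (enum n) := funext hu
      exact ⟨n, hk, rfl⟩
    · rintro ⟨n, hn, rfl⟩
      exact ⟨⟨_, enum_mem n, fun x => rfl⟩, hn⟩
  rw [hset, Set.ncard_image_of_injective _
    (fun a b hab => enum_injective (punct_inj (enum_mem a) (enum_mem b) hab)), ← h]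
  simp only [punct_weight]
  set P : ℕ → Bool :=
    fun n => ((List.range' 1 23).filter fun i => (maskOf n).testBit i).length == k with hP
  have : ∀ n : Fin 4096, (((List.range' 1 23).filter fun i => (maskOf n).testBit i).length = k) ↔
      P n = true := fun n => by simp [hP]
  simp only [this]
  rw [← List.toFinset_card_of_nodup (List.Nodup.filter _ List.nodup_range), Set.ncard_eq_toFinset_card']
  refine Finset.card_bij (fun n _ => n.val) (fun n hn => ?_) (fun a _ b _ => Fin.ext) (fun m hm => ?_)
  · simp_all
  · simp only [List.mem_toFinset, List.mem_filter, List.mem_range] at hm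
    exact ⟨⟨m, hm.1⟩, by simp [hm.2], rfl⟩

end Cfsg.Agent.Leech
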