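import Mathlib
import Cfsg.Prelude.Def_Sporadic_a
import Cfsg.Agent.Leech.Code
import Cfsg.Agent.Leech.AbstractCode
import Cfsg.Agent.Leech.Punctured
import Cfsg.Agent.Leech.Lattice
import Cfsg.Agent.Leech.Generators

/-! Sextets and the lattice automorphisms attached to them. -/

set_option autoImplicit false

namespace Cfsg.Agent.Leech
open Cfsg

/-- the scalar products with the rows -/
def dotRows : (GolayPt → ZMod 2) →ₗ[ZMod 2] (Fin 12 → ZMod 2) where
  toFun v i := ∑ p, v p * row i p
  map_add' v w := by funext i; simp [add_mul, Finset.sum_add_distrib]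
  map_smul' c v := by funext i; simp only [Pi.smul_apply, smul_eq_mul, Finset.mul_sum, mul_assoc, RingHom.id_apply]

theorem dotRows_surjective : Function.Surjective dotRows := by
  intro b
  refine ⟨∑ j, b j • Pi.single (piv j) 1, ?_⟩
  rw [map_sum]
  funext i
  have e : ∀ j : Fin 12, (fun v : GolayPt → ZMod 2 => ∑ p : GolayPt, v p * row i p)
      (b j • (Pi.single (piv j) (1 : ZMod 2) : GolayPt → ZMod 2)) = if i = j then b j else 0 := fun j => by
    dsimp only
    generalize hq : piv j = q
    rw [Finset.sum_eq_single q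
      (fun p _ hp => by rw [Pi.smul_apply, Pi.single_eq_of_ne hp, smul_zero, zero_mul])
      (fun h => absurd (Finset.mem_univ _) h)]
    rw [Pi.smul_apply, Pi.single_eq_same, smul_eq_mul, mul_one, ← hq, row_piv, mul_ite, mul_one,
      mul_zero]
  rw [Finset.sum_apply]
  refine Eq.trans (Finset.sum_congr rfl fun j _ => e j) ?_
  rw [ Finset.sum_ite_eq,
    if_pos (Finset.mem_univ _)]

/-- the code is its own orthogonal -/
theorem mem_of_orth {u : GolayPt → ZMod 2} (hu : ∀ d ∈ golayCode, ∑ p, u p * d p = 0) :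
    u ∈ golayCode := by
  have hle : golayCode ≤ LinearMap.ker dotRows := fun c hc => by
    rw [LinearMap.mem_ker]
    funext i
    exact dot_eq_zero hc (row_mem i)
  have hk : Module.finrank (ZMod 2) (LinearMap.ker dotRows) = 12 := by
    have h := LinearMap.finrank_range_add_finrank_ker dotRows
    rw [LinearMap.range_eq_top.2 dotRows_surjective, finrank_top] at h
    simp at h
    omega
  rw [Submodule.eq_of_le_of_finrank_eq hle (finrank_golayCode.trans hk.symm), LinearMap.mem_ker]
  funext i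
  exact hu _ (row_mem i)

/-- prescribed scalar products with code words -/
theorem exists_dot {ι : Type*} [Fintype ι] [DecidableEq ι] (u : ι → GolayPt → ZMod 2)
    (b : ι → ZMod 2)
    (h : ∀ l : ι → ZMod 2, (∑ k, l k • u k) ∈ golayCode → ∑ k, l k * b k = 0) :
    ∃ d ∈ golayCode, ∀ k, ∑ p, u k p * d p = b k := by
  let f : (GolayPt → ZMod 2) →ₗ[ZMod 2] (ι → ZMod 2) :=
    { toFun := fun d k => ∑ p, u k p * d p
      map_add' := fun d e => by funext k; simp [mul_add, Finset.sum_add_distrib]
      map_smul' := fun c d => by funext k; simp only [Pi.smul_apply, smul_eq_mul, Finset.mul_sum, mul_left_comm, RingHom.id_apply] }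
  by_cases hb : b ∈ golayCode.map f
  · obtain ⟨d, hd, hdb⟩ := hb
    exact ⟨d, hd, fun k => congrFun hdb k⟩
  exfalso
  obtain ⟨φ, hφb, hφ⟩ := Submodule.exists_dual_map_eq_bot_of_notMem hb inferInstance
  have hφa : ∀ v, φ v = ∑ k, φ (Pi.single k 1) * v k := by
    intro v
    conv_lhs => rw [pi_eq_sum_univ' v]
    rw [map_sum]
    refine Finset.sum_congr rfl fun k _ => ?_
    rw [map_smul, smul_eq_mul, mul_comm]
  refine hφb ?_
  rw [hφa]
  refine h _ (mem_of_orth fun d hd => ?_)
  have h0 : φ (f d) = 0 := by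
    have : φ (f d) ∈ (golayCode.map f).map φ :=
      Submodule.mem_map_of_mem (Submodule.mem_map_of_mem hd)
    rw [hφ] at this
    exact this
  rw [hφa] at h0
  rw [← h0]
  simp only [Finset.sum_apply, Pi.smul_apply, smul_eq_mul, Finset.sum_mul]
  rw [Finset.sum_comm]
  refine Finset.sum_congr rfl fun k _ => ?_
  show _ = φ (Pi.single k 1) * ∑ p, u k p * d p
  rw [Finset.mul_sum]
  exact Finset.sum_congr rfl fun p _ => by ring

/-- a sextet, as a labelling of the points -/
structure Sextet where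
  lab : GolayPt → Fin 6
  card_fib : ∀ k, (Finset.univ.filter fun i => lab i = k).card = 4
  pair : ∀ k, (fun i => (if lab i = k then (1 : ZMod 2) else 0) + if lab i = 0 then 1 else 0) ∈ golayCode

namespace Sextet

variable (S : Sextet)

/-- the indicator of a tetrad -/
def tet (k : Fin 6) : GolayPt → ZMod 2 := fun i => if S.lab i = k then 1 else 0

theorem pair_mem (k : Fin 6) : S.tet k + S.tet 0 ∈ golayCode := S.pair k

theorem weight_tet (k : Fin 6) : hammingNorm (S.tet k) = 4 := by
  rw [← S.card_fib k, hammingNorm]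
  congr 1
  ext i
  simp [tet]

theorem tet_not_mem (k : Fin 6) : S.tet k ∉ golayCode := fun h => by
  have h8 := eight_le_weight h (fun h0 => by have := S.weight_tet k; rw [h0] at this; simp at this)
  rw [S.weight_tet] at h8
  omega

/-- a linear combination of tetrads with even total -/
theorem comb_mem (a : Fin 6 → ZMod 2) (ha : ∑ k, a k = 0) : ∑ k, a k • S.tet k ∈ golayCode := by
  have : ∑ k, a k • S.tet k = ∑ k, a k • (S.tet k + S.tet 0) := by
    simp only [smul_add, Finset.sum_add_distrib, ← Finset.sum_smul, ha, zero_smul, add_zero]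
  rw [this]
  exact sum_mem fun k _ => Submodule.smul_mem _ _ (S.pair_mem k)

theorem sum_comb (a : Fin 6 → ZMod 2) (i : GolayPt) : (∑ k, a k • S.tet k) i = a (S.lab i) := by
  simp [tet, Finset.sum_apply]

theorem dot_tet {c : GolayPt → ZMod 2} (hc : c ∈ golayCode) (k : Fin 6) :
    ∑ p, S.tet k p * c p = ∑ p, S.tet 0 p * c p := by
  have h := dot_eq_zero (S.pair_mem k) hc
  simp only [Pi.add_apply, add_mul, Finset.sum_add_distrib] at h
  exact (CharTwo.add_eq_zero).1 h

/-- coordinate sum over a tetrad -/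
def tsum (x : GolayPt → ℤ) (k : Fin 6) : ℤ := ∑ i with S.lab i = k, x i

theorem tsum_add (x y : GolayPt → ℤ) (k : Fin 6) : S.tsum (x + y) k = S.tsum x k + S.tsum y k :=
  Finset.sum_add_distrib

theorem sum_tsum (x : GolayPt → ℤ) : ∑ k, S.tsum x k = ∑ i, x i :=
  Finset.sum_fiberwise _ S.lab x

theorem tsum_cast (y : GolayPt → ℤ) (k : Fin 6) :
    ((S.tsum y k : ℤ) : ZMod 2) = ∑ p, S.tet k p * red2 y p := by
  simp [tsum, tet, red2, Int.cast_sum, Finset.sum_filter]

theorem tsum_even {x : GolayPt → ℤ} (hx : x ∈ leechLattice) (k : Fin 6) :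
    (2 : ℤ) ∣ S.tsum x k := by
  obtain ⟨m, y, hy, -, -⟩ := mem_lattice_iff.1 hx
  refine ⟨2 * m + S.tsum y k, ?_⟩
  simp only [tsum, hy, Finset.sum_add_distrib, ← Finset.mul_sum, Finset.sum_const, S.card_fib]
  ring

/-- the sign attached to a tetrad -/
def eps (k : Fin 6) : ℤ := if k = 0 then -1 else 1

theorem eps_sq (k : Fin 6) : eps k * eps k = 1 := by revert k; decide

/-- reflect on each tetrad, negate one of them -/
def xiFun (x : GolayPt → ℤ) : GolayPt → ℤ :=
  fun i => eps (S.lab i) * (x i - S.tsum x (S.lab i) / 2)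

theorem xi_form (x : GolayPt → ℤ) (m p : ℤ) (y : GolayPt → ℤ) (hy : ∀ i, x i = m + 2 * y i)
    (hp : ∀ k, (2 : ℤ) ∣ S.tsum y k - p) :
    ∃ y' : GolayPt → ℤ, (∀ i, S.xiFun x i = (m + p) + 2 * y' i) ∧
      red2 y' = red2 y + ∑ k, ((((S.tsum y k - p) / 2 : ℤ) : ZMod 2) +
        if k = 0 then 0 else ((m + p : ℤ) : ZMod 2)) • S.tet k := by
  choose δ hδ using hp
  have hδ' : ∀ k, (S.tsum y k - p) / 2 = δ k := fun k => by
    rw [hδ k]; exact Int.mul_ediv_cancel_left _ (by norm_num)
  refine ⟨fun i => if S.lab i = 0 then δ (S.lab i) - y i else y i - (δ (S.lab i) + (m + p)), ?_, ?_⟩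
  · intro i
    have hs : S.tsum x (S.lab i) / 2 = 2 * m + S.tsum y (S.lab i) := by
      have : S.tsum x (S.lab i) = 2 * (2 * m + S.tsum y (S.lab i)) := by
        simp only [tsum, hy, Finset.sum_add_distrib, ← Finset.mul_sum, Finset.sum_const, S.card_fib]
        ring
      rw [this]; exact Int.mul_ediv_cancel_left _ (by norm_num)
    have := hδ (S.lab i)
    simp only [xiFun, hs, hy i, eps]
    split_ifs <;> linarith
  · funext i
    simp only [hδ', Pi.add_apply, S.sum_comb, red2]
    have hneg : ∀ a : ZMod 2, -a = a := by decide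
    split_ifs <;> simp [sub_eq_add_neg, hneg, add_comm, add_left_comm]

theorem xiFun_mem {x : GolayPt → ℤ} (hx : x ∈ leechLattice) : S.xiFun x ∈ leechLattice := by
  obtain ⟨m, y, hy, hs, hc⟩ := mem_lattice_iff.1 hx
  set p := S.tsum y 0 with hpdef
  have hp : ∀ k, (2 : ℤ) ∣ S.tsum y k - p := fun k => by
    refine (ZMod.intCast_zmod_eq_zero_iff_dvd _ 2).1 ?_
    rw [Int.cast_sub, hpdef, S.tsum_cast, S.tsum_cast, S.dot_tet hc, sub_self]
  obtain ⟨y', hy', hc'⟩ := S.xi_form x m p y hy hp
  choose δ hδ using hp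
  have hδ' : ∀ k, (S.tsum y k - p) / 2 = δ k := fun k => by
    rw [hδ k]; exact Int.mul_ediv_cancel_left _ (by norm_num)
  have e1 : ∑ i, y i = 6 * p + 2 * ∑ k, δ k := by
    rw [← S.sum_tsum, Finset.mul_sum, show 6 * p = ∑ _k : Fin 6, p by simp,
      ← Finset.sum_add_distrib]
    exact Finset.sum_congr rfl fun k _ => by linarith [hδ k]
  have e2 : ∑ i, x i = 24 * m + 2 * ∑ i, y i := by
    simp only [hy, Finset.sum_add_distrib, sum_golayPt_const, Finset.mul_sum]
  refine mem_lattice_iff.2 ⟨m + p, y', hy', ?_, ?_⟩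
  · have e3 : ∑ i, S.xiFun x i = -∑ i, x i + 2 * S.tsum x 0 := by
      rw [← S.sum_tsum (S.xiFun x), ← S.sum_tsum x]
      have : ∀ k, S.tsum (S.xiFun x) k = -(eps k) * S.tsum x k := fun k => by
        have hsub : S.tsum (S.xiFun x) k =
            ∑ i with S.lab i = k, eps k * (x i - S.tsum x k / 2) :=
          Finset.sum_congr rfl fun i hi => by
            simp only [xiFun, (Finset.mem_filter.1 hi).2]
        rw [hsub, ← Finset.mul_sum, Finset.sum_sub_distrib, Finset.sum_const, S.card_fib]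
        obtain ⟨q, hq⟩ := S.tsum_even hx k
        rw [hq, Int.mul_ediv_cancel_left _ (by norm_num)]
        have : (∑ i with S.lab i = k, x i) = 2 * q := hq
        rw [this]
        ring
      simp only [this, Fin.sum_univ_succ, eps]
      simp [Fin.succ_ne_zero]
      ring
    have e4 : S.tsum x 0 = 4 * m + 2 * S.tsum y 0 := by
      simp only [tsum, hy, Finset.sum_add_distrib, ← Finset.mul_sum, Finset.sum_const, S.card_fib]
      ring
    omega
  · rw [hc']
    refine add_mem hc (S.comb_mem _ ?_)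
    simp only [hδ', Finset.sum_add_distrib, ← Int.cast_sum]
    have h5 : ∑ k : Fin 6, (if k = 0 then (0 : ZMod 2) else ((m + p : ℤ) : ZMod 2)) =
        ((m + p : ℤ) : ZMod 2) := by
      simp only [Fin.sum_univ_succ]
      simp [Fin.succ_ne_zero]
      generalize (m : ZMod 2) + (p : ZMod 2) = a
      revert a; decide
    rw [h5, ← Int.cast_add, ZMod.intCast_zmod_eq_zero_iff_dvd]
    omega

theorem xiFun_add {x y : GolayPt → ℤ} (hx : x ∈ leechLattice) (_hy : y ∈ leechLattice) :
    S.xiFun (x + y) = S.xiFun x + S.xiFun y := by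
  funext i
  simp only [xiFun, S.tsum_add, Pi.add_apply, Int.add_ediv_of_dvd_left (S.tsum_even hx _)]
  ring

theorem tsum_xiFun {x : GolayPt → ℤ} (hx : x ∈ leechLattice) (k : Fin 6) :
    S.tsum (S.xiFun x) k = -(eps k) * S.tsum x k := by
  have hsub : S.tsum (S.xiFun x) k = ∑ i with S.lab i = k, eps k * (x i - S.tsum x k / 2) :=
    Finset.sum_congr rfl fun i hi => by simp only [xiFun, (Finset.mem_filter.1 hi).2]
  obtain ⟨q, hq⟩ := S.tsum_even hx k
  rw [hsub, ← Finset.mul_sum, Finset.sum_sub_distrib, Finset.sum_const, S.card_fib, hq,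
    Int.mul_ediv_cancel_left _ (by norm_num), show (∑ i with S.lab i = k, x i) = 2 * q from hq]
  ring

theorem xiFun_xiFun {x : GolayPt → ℤ} (hx : x ∈ leechLattice) : S.xiFun (S.xiFun x) = x := by
  funext i
  obtain ⟨q, hq⟩ := S.tsum_even hx (S.lab i)
  rw [xiFun, S.tsum_xiFun hx, xiFun, hq, Int.mul_ediv_cancel_left _ (by norm_num),
    show -eps (S.lab i) * (2 * q) = 2 * (-eps (S.lab i) * q) by ring,
    Int.mul_ediv_cancel_left _ (by norm_num)]
  linear_combination x i * eps_sq (S.lab i)

theorem sqNorm_xiFun {x : GolayPt → ℤ} (hx : x ∈ leechLattice) :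
    sqNorm (S.xiFun x) = sqNorm x := by
  simp only [sqNorm]
  rw [← Finset.sum_fiberwise _ S.lab, ← Finset.sum_fiberwise (Finset.univ) S.lab (fun i => x i ^ 2)]
  refine Finset.sum_congr rfl fun k _ => ?_
  obtain ⟨q, hq⟩ := S.tsum_even hx k
  have : ∀ i ∈ Finset.univ.filter (fun i => S.lab i = k),
      S.xiFun x i ^ 2 = x i ^ 2 - 2 * q * x i + q ^ 2 := fun i hi => by
    rw [xiFun, (Finset.mem_filter.1 hi).2, hq, Int.mul_ediv_cancel_left _ (by norm_num)]
    linear_combination (x i - q) ^ 2 * eps_sq k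
  rw [Finset.sum_congr rfl this, Finset.sum_add_distrib, Finset.sum_sub_distrib, ← Finset.mul_sum,
    Finset.sum_const, S.card_fib, show (∑ i with S.lab i = k, x i) = 2 * q from hq]
  ring

/-- the automorphism of a sextet -/
def xi : ↥Co0 :=
  ⟨Function.Involutive.toPerm (fun v : leechLattice => (⟨S.xiFun v, S.xiFun_mem v.2⟩ : leechLattice))
    (fun v => Subtype.ext (S.xiFun_xiFun v.2)),
   ⟨fun v w => Subtype.ext (S.xiFun_add v.2 w.2), fun v => S.sqNorm_xiFun v.2⟩⟩

theorem xi_apply (v : leechLattice) :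
    ((S.xi • v : leechLattice) : GolayPt → ℤ) = S.xiFun (v : GolayPt → ℤ) := rfl

end Sextet

/-- every four points lie in a sextet -/
theorem exists_sextet (T : Finset GolayPt) (hT : T.card = 4) :
    ∃ S : Sextet, (∀ i, S.lab i = 0 ↔ i ∈ T) ∧
      ∀ T' : Finset GolayPt, T'.card = 4 → indic T' + indic T ∈ golayCode →
        ∃ k, ∀ i, S.lab i = k ↔ i ∈ T' := by
  classical
  have hwT : hammingNorm (indic T) = 4 := by rw [hammingNorm_eq_card, support₂_indic, hT]
  rcases coset_small golayCode card_golayPt finrank_golayCode min_golay (indic T) with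
    ⟨u, hu, hu3⟩ | ⟨h6, hdisj⟩
  · have hmem : indic T ∈ ({u} : Set (GolayPt → ZMod 2)) := by
      rw [← hu]; exact ⟨by simp, hwT.le⟩
    rw [Set.mem_singleton_iff] at hmem
    rw [← hmem, hwT] at hu3
    omega
  set U := {u : GolayPt → ZMod 2 | u - indic T ∈ golayCode ∧ hammingNorm u ≤ 4} with hU
  haveI : Fintype U := Fintype.ofFinite U
  have hcard : Fintype.card U = 6 := by
    rw [← Nat.card_eq_fintype_card]
    exact h6
  have hT0 : indic T ∈ U := ⟨by simp, hwT.le⟩
  let e₁ : Fin 6 ≃ U := (Fintype.equivFinOfCardEq hcard).symm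
  let e : Fin 6 ≃ U := (Equiv.swap 0 (e₁.symm ⟨_, hT0⟩)).trans e₁
  have he0 : (e 0 : GolayPt → ZMod 2) = indic T := by simp [e]
  set F : Fin 6 → Finset GolayPt := fun k => support₂ (e k : GolayPt → ZMod 2) with hF
  have hFd : ∀ j k, j ≠ k → Disjoint (F j) (F k) := fun j k hjk =>
    (hdisj _ (e j).2).2 _ (e k).2 fun h => hjk (e.injective (Subtype.ext h))
  have hFc : ∀ k, (F k).card = 4 := fun k => by
    rw [← hammingNorm_eq_card]; exact (hdisj _ (e k).2).1
  have hall : ∀ i, ∃ k, i ∈ F k := by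
    intro i
    have huniv : Finset.univ.biUnion F = (Finset.univ : Finset GolayPt) := by
      refine Finset.eq_univ_of_card _ ?_
      rw [Finset.card_biUnion (fun j _ k _ h => hFd j k h), Finset.sum_congr rfl (fun k _ => hFc k)]
      simp
    have := Finset.mem_univ i
    rw [← huniv] at this
    simpa using this
  choose lab hlab using hall
  have hiff : ∀ i k, lab i = k ↔ i ∈ F k := fun i k => by
    refine ⟨fun h => h ▸ hlab i, fun h => ?_⟩
    by_contra hne
    exact Finset.disjoint_left.1 (hFd _ _ hne) (hlab i) h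
  have hind : ∀ k, (fun i => if lab i = k then (1 : ZMod 2) else 0) = (e k : GolayPt → ZMod 2) := by
    intro k
    funext i
    rcases zmod2_cases ((e k : GolayPt → ZMod 2) i) with h | h
    · rw [h, if_neg]
      rw [hiff, mem_support₂, h]; decide
    · rw [h, if_pos]
      rw [hiff, mem_support₂, h]
  refine ⟨⟨lab, fun k => ?_, fun k => ?_⟩, fun i => ?_, fun T' hT' hmem => ?_⟩
  · rw [← hFc k]
    congr 1
    ext i
    simp [hiff]
  · have : (fun i => (if lab i = k then (1 : ZMod 2) else 0) + if lab i = 0 then 1 else 0) =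
        (e k : GolayPt → ZMod 2) - indic T := by
      rw [sub_eq_add2, ← he0, ← hind k, ← hind 0]; rfl
    rw [this]
    exact (e k).2.1
  · show lab i = 0 ↔ _
    rw [hiff, ← support₂_indic T, ← he0]
  · have hU' : indic T' ∈ U := by
      refine ⟨?_, by rw [hammingNorm_eq_card, support₂_indic, hT']⟩
      rwa [sub_eq_add2]
    refine ⟨e.symm ⟨_, hU'⟩, fun i => ?_⟩
    show lab i = _ ↔ _
    rw [hiff, hF]
    simp [support₂_indic]

end Cfsg.Agent.Leech
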