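import Mathlib
import Cfsg.Prelude.Def_Sporadic_a
import Cfsg.Agent.Leech.Code
import Cfsg.Agent.Leech.Lattice
import Cfsg.Agent.Leech.ModRep
import Cfsg.Agent.Leech.Sextet

/-! Certificates for lower bounds on orbit sizes, checked by the kernel on coordinate lists. -/

set_option autoImplicit false

namespace Cfsg.Agent.Leech
open Cfsg

/-- the point with a given position -/
def ptOf (a : ℕ) : GolayPt := if a = 0 then none else some ((a - 1 : ℕ) : ZMod 23)

/-- coordinates in list form -/
def toL (x : GolayPt → ℤ) : List ℤ := (List.range 24).map fun a => x (ptOf a)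

theorem ptOf_idx : ∀ p : GolayPt, ptOf (idx p) = p := by decide +kernel

theorem idx_ptOf : ∀ a < 24, idx (ptOf a) = a := by decide +kernel

theorem idx_lt : ∀ p : GolayPt, idx p < 24 := by decide +kernel

theorem toL_getD (x : GolayPt → ℤ) (a : ℕ) (ha : a < 24) : (toL x).getD a 0 = x (ptOf a) := by
  simp [toL, List.getD_eq_getElem?_getD, ha]

theorem toL_injective : Function.Injective toL := fun x y h => funext fun p => by
  have := congrArg (fun l => List.getD l (idx p) 0) h
  simp only [toL_getD _ _ (idx_lt p), ptOf_idx] at this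
  exact this

/-- the permutation given by position lists -/
def permOfLists (P Q : List ℕ) (h1 : ∀ p, ptOf (P.getD (idx (ptOf (Q.getD (idx p) 0))) 0) = p)
    (h2 : ∀ p, ptOf (Q.getD (idx (ptOf (P.getD (idx p) 0))) 0) = p) : Equiv.Perm GolayPt where
  toFun p := ptOf (Q.getD (idx p) 0)
  invFun p := ptOf (P.getD (idx p) 0)
  left_inv := h1
  right_inv := h2

/-- a group element with its action on coordinate lists -/
structure LGen where
  g : ↥Co0
  f : List ℤ → List ℤ
  spec : ∀ v : leechLattice, toL ((g • v : leechLattice) : GolayPt → ℤ) = f (toL (v : GolayPt → ℤ))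

/-- composition -/
def LGen.comp (a b : LGen) : LGen where
  g := a.g * b.g
  f := a.f ∘ b.f
  spec v := by rw [mul_smul, a.spec, b.spec]; rfl

/-- monomial action on lists -/
def monF (P : List ℕ) (m : ℕ) (l : List ℤ) : List ℤ :=
  (List.range 24).map fun i =>
    if m.testBit (P.getD i 0) then -(l.getD (P.getD i 0) 0) else l.getD (P.getD i 0) 0

/-- a monomial element with its list action -/
def monGen (P Q : List ℕ) (m : ℕ)
    (h1 : ∀ p, ptOf (P.getD (idx (ptOf (Q.getD (idx p) 0))) 0) = p)
    (h2 : ∀ p, ptOf (Q.getD (idx (ptOf (P.getD (idx p) 0))) 0) = p)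
    (hP : ∀ i < 24, P.getD i 0 < 24)
    (hσ : ∀ i, dec (row i ∘ ⇑(permOfLists P Q h1 h2)) = row i ∘ ⇑(permOfLists P Q h1 h2))
    (hm : dec (bitWord m) = bitWord m) : LGen where
  g := permCo0 _ (mem_M24_of_rows hσ) * signCo0 (bitWord m) ((mem_iff _).2 hm)
  f := monF P m
  spec v := by
    refine List.ext_getElem (by simp [toL, monF]) fun i h _ => ?_
    have hi : i < 24 := by simpa [toL] using h
    simp only [toL, monF, List.getElem_map, List.getElem_range]
    have he : (permOfLists P Q h1 h2)⁻¹ (ptOf i) = ptOf (P.getD i 0) := by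
      show ptOf (P.getD (idx (ptOf i)) 0) = _
      rw [idx_ptOf i hi]
    rw [mul_smul, permCo0_apply, signCo0_apply, he]
    have hg := hP i hi
    rw [show ((List.range 24).map fun a => (v : GolayPt → ℤ) (ptOf a)).getD (P.getD i 0) 0 =
      (v : GolayPt → ℤ) (ptOf (P.getD i 0)) from toL_getD _ _ hg]
    simp only [negOn, bitWord, idx_ptOf _ hg]
    cases m.testBit (P.getD i 0) <;> simp

/-- the reflection on lists -/
def xiF (lab : List ℕ) (l : List ℤ) : List ℤ :=
  (List.range 24).map fun i =>
    let k := lab.getD i 0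
    (if k = 0 then -1 else 1) *
      (l.getD i 0 - (((List.range 24).filter fun j => lab.getD j 0 = k).map fun j => l.getD j 0).sum / 2)

theorem univ_eq_range : (Finset.univ : Finset GolayPt) = (Finset.range 24).image ptOf := by
  decide +kernel

/-- a reflection element with its list action -/
def xiGen (S : Sextet) (lab : List ℕ) (hl : ∀ i < 24, lab.getD i 0 = (S.lab (ptOf i)).val) :
    LGen where
  g := S.xi
  f := xiF lab
  spec v := by
    refine List.ext_getElem (by simp [toL, xiF]) fun i h _ => ?_
    have hi : i < 24 := by simpa [toL] using h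
    simp only [toL, xiF, List.getElem_map, List.getElem_range]
    rw [show ((S.xi • v : leechLattice) : GolayPt → ℤ) = S.xiFun (v : GolayPt → ℤ) from rfl]
    simp only [Sextet.xiFun, Sextet.eps, hl i hi]
    rw [show ((List.range 24).map fun a => (v : GolayPt → ℤ) (ptOf a)).getD i 0 =
      (v : GolayPt → ℤ) (ptOf i) from toL_getD _ _ hi]
    congr 1
    · exact if_congr Fin.val_eq_zero_iff.symm rfl rfl
    congr 2
    rw [Sextet.tsum, univ_eq_range, Finset.filter_image,
      Finset.sum_image (fun a ha b hb e => by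
        have ha' := Finset.mem_range.1 (Finset.mem_filter.1 ha).1
        have hb' := Finset.mem_range.1 (Finset.mem_filter.1 hb).1
        rw [← idx_ptOf a ha', ← idx_ptOf b hb', e])]
    rw [← List.sum_toFinset _ ((List.nodup_range).filter _)]
    refine Finset.sum_congr ?_ fun a ha => ?_
    · ext a
      simp only [List.mem_toFinset, List.mem_filter, List.mem_range, decide_eq_true_eq,
        Finset.mem_filter, Finset.mem_range]
      refine ⟨fun ⟨a1, a2⟩ => ⟨a1, ?_⟩, fun ⟨a1, a2⟩ => ⟨a1, ?_⟩⟩
      · rw [hl a a1, a2]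
      · rw [hl a a1] at a2; exact Fin.ext a2
    · simp only [List.mem_toFinset, List.mem_filter, List.mem_range] at ha
      exact (toL_getD _ _ ha.1).symm

/-- traverse a tree of generator applications from a root -/
def walk (fs : List (List ℤ → List ℤ)) (root : List ℤ) : List ℕ → List (List ℤ) → List (List ℤ)
  | [], _ => []
  | 0 :: t, s => walk fs root t s.tail
  | (k + 1) :: t, s =>
    let y := (fs.getD k id) (s.headD root)
    y :: walk fs root t (y :: s)

/-- unpack a program -/
def unpack (base len N : ℕ) : List ℕ := (List.range len).map fun i => N / base ^ i % base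

/-- a short code for a list -/
def encodeL (l : List ℤ) : ℕ := l.foldl (fun acc a => acc * 64 + (a + 32).toNat) 0

/-- quick test that reduced codes do not collide, with a bit set as memory -/
def noColl (M : ℕ) : ℕ → List ℕ → Bool
  | _, [] => true
  | acc, a :: t => !(acc.testBit (a % M)) && noColl M (acc ||| 2 ^ (a % M)) t

theorem nodup_of_noColl (M : ℕ) : ∀ (l : List ℕ) (acc : ℕ), noColl M acc l = true →
    (∀ a ∈ l, acc.testBit (a % M) = false) ∧ (l.map (· % M)).Nodup
  | [], _, _ => ⟨by simp, List.nodup_nil⟩
  | a :: t, acc, h => by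
    simp only [noColl, Bool.and_eq_true, Bool.not_eq_true'] at h
    obtain ⟨h1, h2⟩ := nodup_of_noColl M t _ h.2
    refine ⟨fun b hb => ?_, ?_⟩
    · rcases List.mem_cons.1 hb with rfl | hb
      · exact h.1
      · have := h1 b hb
        simp only [Nat.testBit_or, Bool.or_eq_false_iff] at this
        exact this.1
    · rw [List.map_cons, List.nodup_cons]
      refine ⟨fun hm => ?_, h2⟩
      obtain ⟨b, hb, he⟩ := List.mem_map.1 hm
      have := h1 b hb
      rw [he] at this
      simp at this

theorem walk_mem (gens : List LGen) (H : Subgroup ↥Co0) (hH : ∀ a ∈ gens, a.g ∈ H)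
    (y : leechLattice) : ∀ (ops : List ℕ) (s : List (List ℤ)),
    (∀ z ∈ s, ∃ h ∈ H, z = toL ((h • y : leechLattice) : GolayPt → ℤ)) →
    ∀ z ∈ walk (gens.map LGen.f) (toL (y : GolayPt → ℤ)) ops s,
      ∃ h ∈ H, z = toL ((h • y : leechLattice) : GolayPt → ℤ)
  | [], _, _ => by simp [walk]
  | 0 :: t, s, hs => walk_mem gens H hH y t s.tail fun z hz => hs z (List.mem_of_mem_tail hz)
  | (k + 1) :: t, s, hs => by
    have hhead : ∃ h ∈ H, s.headD (toL (y : GolayPt → ℤ)) =
        toL ((h • y : leechLattice) : GolayPt → ℤ) := by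
      cases s with
      | nil => exact ⟨1, H.one_mem, by rw [one_smul]; rfl⟩
      | cons a b => exact hs a List.mem_cons_self
    have hnew : ∃ h ∈ H, ((gens.map LGen.f).getD k id) (s.headD (toL (y : GolayPt → ℤ))) =
        toL ((h • y : leechLattice) : GolayPt → ℤ) := by
      obtain ⟨h, hh, he⟩ := hhead
      rw [he]
      by_cases hk : k < gens.length
      · refine ⟨gens[k].g * h, mul_mem (hH _ (List.getElem_mem hk)) hh, ?_⟩
        rw [mul_smul, LGen.spec, List.getD_eq_getElem?_getD]
        simp [hk]
      · refine ⟨h, hh, ?_⟩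
        rw [List.getD_eq_getElem?_getD]
        simp [hk]
    intro z hz
    simp only [walk, List.mem_cons] at hz
    rcases hz with rfl | hz
    · exact hnew
    · refine walk_mem gens H hH y t _ (fun w hw => ?_) z hz
      rcases List.mem_cons.1 hw with rfl | hw
      · exact hnew
      · exact hs w hw

theorem finite_co0 : Finite ↥Co0 :=
  Finite.of_injective mat13 fun g h e => by
    have e1 : mat13 (g * h⁻¹) = 1 := by
      rw [mat13_mul, e, ← mat13_mul, mul_inv_cancel, mat13_one]
    exact mul_inv_eq_one.1 (eq_one_of_mat13 e1)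

theorem finite_orbit (H : Subgroup ↥Co0) (y : leechLattice) :
    (MulAction.orbit ↥H y).Finite := by
  have := finite_co0
  exact Set.finite_range _

/-- a kernel-checkable lower bound for an orbit -/
theorem le_ncard_orbit (gens : List LGen) (H : Subgroup ↥Co0) (hH : ∀ a ∈ gens, a.g ∈ H)
    (y : leechLattice) (root : List ℤ) (hroot : toL (y : GolayPt → ℤ) = root) (ops : List ℕ)
    (fs : List (List ℤ → List ℤ)) (hfs : gens.map LGen.f = fs) (M n : ℕ)
    (hn : (noColl M 0 ((root :: walk fs root ops []).map encodeL) &&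
      Nat.beq (root :: walk fs root ops []).length n) = true) :
    n ≤ (MulAction.orbit ↥H y).ncard := by
  classical
  rw [Bool.and_eq_true] at hn
  obtain ⟨hd, hl⟩ := hn
  have hnd : (root :: walk fs root ops []).Nodup :=
    List.Nodup.of_map _ (List.Nodup.of_map _ (nodup_of_noColl M _ 0 hd).2)
  have hmem := walk_mem gens H hH y ops [] (by simp)
  rw [hfs, hroot] at hmem
  have hsub : ((root :: walk fs root ops []).toFinset : Set (List ℤ)) ⊆
      (fun v : leechLattice => toL (v : GolayPt → ℤ)) '' MulAction.orbit ↥H y := by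
    intro z hz
    rcases List.mem_cons.1 (List.mem_toFinset.1 hz) with rfl | hz
    · exact ⟨y, MulAction.mem_orbit_self y, hroot⟩
    · obtain ⟨h, hh, he⟩ := hmem z hz
      exact ⟨h • y, ⟨⟨h, hh⟩, rfl⟩, he.symm⟩
  calc n = ((root :: walk fs root ops []).toFinset : Set (List ℤ)).ncard := by
        rw [Set.ncard_coe_finset, List.toFinset_card_of_nodup hnd]; exact (Nat.eq_of_beq_eq_true hl).symm
    _ ≤ _ := Set.ncard_le_ncard hsub ((finite_orbit H y).image _)
    _ ≤ _ := Set.ncard_image_le (finite_orbit H y)

end Cfsg.Agent.Leech
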