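import Mathlib
import Cfsg.Prelude.Def_Sporadic_a

/-! Double counting in Steiner systems. -/

set_option autoImplicit false

namespace Cfsg.Agent.Leech
open Cfsg Finset

variable {α : Type*} [Fintype α] [DecidableEq α] {B : Set (Finset α)} {t k : ℕ}

theorem card_filter_superset {b S : Finset α} (hS : S ⊆ b) (j : ℕ) (hj : S.card ≤ j) :
    ((b.powersetCard j).filter fun T => S ⊆ T).card = (b.card - S.card).choose (j - S.card) := by
  rw [← card_sdiff_of_subset hS, ← card_powersetCard]
  refine Finset.card_bij' (fun T _ => T \ S) (fun U _ => U ∪ S) ?_ ?_ ?_ ?_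
  · intro T hT
    simp only [mem_filter, mem_powersetCard] at hT ⊢
    exact ⟨sdiff_subset_sdiff hT.1.1 subset_rfl, by rw [card_sdiff_of_subset hT.2, hT.1.2]⟩
  · intro U hU
    simp only [mem_filter, mem_powersetCard] at hU ⊢
    refine ⟨⟨union_subset (hU.1.trans sdiff_subset) hS, ?_⟩, subset_union_right⟩
    rw [card_union_of_disjoint, hU.2]
    · omega
    · exact disjoint_of_subset_left hU.1 sdiff_disjoint
  · intro T hT
    simp only [mem_filter, mem_powersetCard] at hT
    exact sdiff_union_of_subset hT.2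
  · intro U hU
    simp only [mem_powersetCard] at hU
    exact union_sdiff_cancel_right (disjoint_of_subset_left hU.1 sdiff_disjoint)

/-- the number of blocks through `S` -/
theorem lam_mul (hB : IsSteinerSystem t k B) (Bf : Finset (Finset α)) (hBf : ∀ b, b ∈ Bf ↔ b ∈ B)
    (S : Finset α) (hS : S.card ≤ t) :
    (Bf.filter fun b => S ⊆ b).card * (k - S.card).choose (t - S.card) =
      (Fintype.card α - S.card).choose (t - S.card) := by
  set Ts := ((univ : Finset α).powersetCard t).filter fun T => S ⊆ T with hTs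
  have hT : Ts.card = (Fintype.card α - S.card).choose (t - S.card) := by
    rw [hTs, card_filter_superset (subset_univ S) t hS, card_univ]
  choose blk hblk huniq using hB.2
  let f : Finset α → Finset α := fun T => if h : T.card = t then blk T h else ∅
  have hf : ∀ T (h : T.card = t), f T = blk T h := fun T h => dif_pos h
  have hmem : ∀ T ∈ Ts, T.card = t ∧ S ⊆ T := fun T h => by simpa [hTs] using h
  have hmap : (Ts : Set (Finset α)).MapsTo f (Bf.filter fun b => S ⊆ b : Finset (Finset α)) := by
    intro T h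
    obtain ⟨hc, hST⟩ := hmem T h
    simp only [coe_filter, Set.mem_ofPred_eq]
    rw [hf T hc, hBf]
    exact ⟨(hblk T hc).1, hST.trans (hblk T hc).2⟩
  rw [← hT, Finset.card_eq_sum_card_fiberwise hmap,
    Finset.sum_const_nat (m := (k - S.card).choose (t - S.card)) ?_]
  intro b hb
  rw [mem_filter, hBf] at hb
  rw [← hB.1 b hb.1, ← card_filter_superset hb.2 t hS]
  congr 1
  ext T
  simp only [hTs, mem_filter, mem_powersetCard, subset_univ, true_and]
  constructor
  · rintro ⟨⟨hc, hST⟩, rfl⟩
    refine ⟨⟨?_, hc⟩, hST⟩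
    rw [hf T hc]
    exact (hblk T hc).2
  · rintro ⟨⟨hTb, hc⟩, hST⟩
    refine ⟨⟨hc, hST⟩, ?_⟩
    rw [hf T hc]
    exact (huniq T hc b ⟨hb.1, hTb⟩).symm

/-- sum over blocks of subsets of the trace on `Y` -/
theorem sum_choose_inter (Bf : Finset (Finset α)) (Y : Finset α) (j : ℕ) :
    ∑ b ∈ Bf, (b ∩ Y).card.choose j = ∑ S ∈ Y.powersetCard j, (Bf.filter fun b => S ⊆ b).card := by
  have : ∀ b ∈ Bf, (b ∩ Y).card.choose j = ((Y.powersetCard j).filter fun S => S ⊆ b).card := by
    intro b _
    rw [← card_powersetCard]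
    congr 1
    ext S
    simp only [mem_powersetCard, mem_filter, subset_inter_iff]
    tauto
  rw [Finset.sum_congr rfl this]
  simp only [card_filter]
  rw [Finset.sum_comm]

end Cfsg.Agent.Leech
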