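import Mathlib
import Cfsg.Prelude.Def_Sporadic_a
import Cfsg.Prelude.Def_SporadicCombinatorics
import Cfsg.Agent.Leech.Code
import Cfsg.Agent.Leech.AbstractCode
import Cfsg.Agent.Leech.Lattice
import Cfsg.Agent.Leech.ModRep
import Cfsg.Agent.Leech.Generators
import Cfsg.Agent.Leech.Sextet

/-! Every vector of squared length 64 is moved into the standard frame. -/

set_option autoImplicit false

namespace Cfsg.Agent.Leech
open Cfsg

/-- can be moved to the standard frame -/
def Reach (v : leechLattice) : Prop :=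
  ∃ g : ↥Co0, ((g • v : leechLattice) : GolayPt → ℤ) ∈ stdCross

theorem Reach.of_smul {v : leechLattice} (g : ↥Co0) (h : Reach (g • v)) : Reach v := by
  obtain ⟨k, hk⟩ := h
  exact ⟨k * g, by rwa [mul_smul]⟩

theorem even_form {x : GolayPt → ℤ} (hx : x ∈ leechLattice) (he : (2 : ℤ) ∣ x none) :
    ∃ y : GolayPt → ℤ, (∀ i, x i = 2 * y i) ∧ red2 y ∈ golayCode ∧ (4 : ℤ) ∣ ∑ i, y i := by
  obtain ⟨m, y, hy, hs, hc⟩ := mem_lattice_iff.1 hx
  obtain ⟨k, rfl⟩ : (2 : ℤ) ∣ m := by have := hy none; omega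
  refine ⟨fun i => k + y i, fun i => by rw [hy i]; ring, ?_, ?_⟩
  · have : red2 (fun i => k + y i) = red2 y + (k : ZMod 2) • (1 : GolayPt → ZMod 2) := by
      funext i; simp [red2, add_comm]
    rw [this]; exact add_mem hc (Submodule.smul_mem _ _ one_mem)
  · show (4 : ℤ) ∣ ∑ i, (k + y i)
    have : ∑ i, x i = 2 * ∑ i, (k + y i) := by
      rw [Finset.mul_sum]; exact Finset.sum_congr rfl fun i _ => by rw [hy i]; ring
    omega

theorem red2_ne_zero {y : GolayPt → ℤ} {i : GolayPt} : red2 y i ≠ 0 ↔ ¬ (2 : ℤ) ∣ y i := by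
  simp [red2, ZMod.intCast_zmod_eq_zero_iff_dvd]

theorem support₂_red2' (y : GolayPt → ℤ) (i : GolayPt) :
    i ∈ support₂ (red2 y) ↔ ¬ (2 : ℤ) ∣ y i := by
  simp [support₂_red2]

theorem odd_sq_bound {a : ℤ} (h : ¬ (2 : ℤ) ∣ a) : 1 ≤ a ^ 2 ∧ (8 : ℤ) ∣ a ^ 2 - 1 := by
  obtain ⟨k, rfl⟩ : ∃ k, a = 2 * k + 1 := ⟨a / 2, by omega⟩
  obtain ⟨j, hj⟩ := Int.even_mul_succ_self k
  exact ⟨by have := sq_pos_of_ne_zero (show (2 * k + 1 : ℤ) ≠ 0 by omega); omega, ⟨j, by linear_combination 4 * hj⟩⟩

/-- squared length, split by the support of the word -/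
theorem sum_sq_split (y : GolayPt → ℤ) :
    ∑ i, y i ^ 2 =
      ∑ i ∈ support₂ (red2 y), y i ^ 2 + ∑ i ∈ (support₂ (red2 y))ᶜ, y i ^ 2 :=
  (Finset.sum_add_sum_compl _ _).symm

theorem sq_le_sum (y : GolayPt → ℤ) (i : GolayPt) : y i ^ 2 ≤ ∑ j, y j ^ 2 :=
  Finset.single_le_sum (f := fun j => y j ^ 2) (fun _ _ => sq_nonneg _) (Finset.mem_univ i)

theorem card_le_sum_odd (y : GolayPt → ℤ) :
    ((support₂ (red2 y)).card : ℤ) ≤ ∑ i ∈ support₂ (red2 y), y i ^ 2 ∧
      (8 : ℤ) ∣ ∑ i ∈ support₂ (red2 y), y i ^ 2 - (support₂ (red2 y)).card := by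
  constructor
  · have : ∑ i ∈ support₂ (red2 y), (1 : ℤ) ≤ ∑ i ∈ support₂ (red2 y), y i ^ 2 :=
      Finset.sum_le_sum fun i hi => (odd_sq_bound ((support₂_red2' y i).1 hi)).1
    simpa using this
  · have : ∑ i ∈ support₂ (red2 y), y i ^ 2 - ((support₂ (red2 y)).card : ℤ) =
        ∑ i ∈ support₂ (red2 y), (y i ^ 2 - 1) := by simp
    rw [this]
    exact Finset.dvd_sum fun i hi => (odd_sq_bound ((support₂_red2' y i).1 hi)).2

namespace Sextet

variable (S : Sextet)

/-- half the tetrad sum, modulo 2 -/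
def half (y : GolayPt → ℤ) (k : Fin 6) : ZMod 2 := ((S.tsum y k / 2 : ℤ) : ZMod 2)

theorem sum_half (y : GolayPt → ℤ) (h2 : ∀ k, (2 : ℤ) ∣ S.tsum y k) (h4 : (4 : ℤ) ∣ ∑ i, y i) :
    ∑ k, S.half y k = 0 := by
  simp only [half, ← Int.cast_sum]
  rw [ZMod.intCast_zmod_eq_zero_iff_dvd]
  choose δ hδ using h2
  have e : ∑ i, y i = 2 * ∑ k, δ k := by
    rw [← S.sum_tsum, Finset.mul_sum]; exact Finset.sum_congr rfl fun k _ => hδ k
  simp only [hδ, Int.mul_ediv_cancel_left _ (by norm_num : (2 : ℤ) ≠ 0)]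
  omega

theorem half_negOn (d : GolayPt → ZMod 2) (y : GolayPt → ℤ) (k : Fin 6)
    (h2 : (2 : ℤ) ∣ S.tsum y k) :
    S.half (negOn d y) k = S.half y k + ∑ p, S.tet k p * red2 y p * d p := by
  have e : S.tsum (negOn d y) k =
      S.tsum y k + 2 * -(∑ i with S.lab i = k, if d i = 0 then 0 else y i) := by
    simp only [tsum, mul_neg, Finset.mul_sum, ← Finset.sum_neg_distrib, ← Finset.sum_add_distrib]
    refine Finset.sum_congr rfl fun i _ => ?_
    simp only [negOn]; split_ifs <;> ring
  have hneg : ∀ a : ZMod 2, -a = a := by decide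
  rw [half, e, Int.add_ediv_of_dvd_left h2, Int.mul_ediv_cancel_left _ (by norm_num), Int.cast_add,
    Int.cast_neg, hneg, half]
  refine congrArg₂ (· + ·) rfl ?_
  rw [Int.cast_sum, Finset.sum_filter]
  refine Finset.sum_congr rfl fun i _ => ?_
  rcases zmod2_cases (d i) with h | h <;> simp [tet, red2, h]

theorem even_tsum {y : GolayPt → ℤ} (h : ∀ k, ∑ p, S.tet k p * red2 y p = 0) (k : Fin 6) :
    (2 : ℤ) ∣ S.tsum y k := by
  refine (ZMod.intCast_zmod_eq_zero_iff_dvd _ 2).1 ?_
  rw [S.tsum_cast, h]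

theorem xi_even (v : leechLattice) (y : GolayPt → ℤ) (hy : ∀ i, (v : GolayPt → ℤ) i = 2 * y i)
    (h2 : ∀ k, (2 : ℤ) ∣ S.tsum y k) :
    ∃ y' : GolayPt → ℤ, (∀ i, ((S.xi • v : leechLattice) : GolayPt → ℤ) i = 2 * y' i) ∧
      ∀ i, red2 y' i = red2 y i + S.half y (S.lab i) := by
  obtain ⟨y', hy', hc⟩ := S.xi_form (v : GolayPt → ℤ) 0 0 y (fun i => by rw [hy i]; ring)
    (fun k => by simpa using h2 k)
  refine ⟨y', fun i => by rw [S.xi_apply, hy']; ring, fun i => ?_⟩
  rw [hc, Pi.add_apply, S.sum_comb]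
  simp [half]

theorem weight_fib (c : GolayPt → ZMod 2) :
    hammingNorm c = ∑ k, (support₂ c ∩ Finset.univ.filter fun i => S.lab i = k).card := by
  rw [hammingNorm_eq_card, Finset.card_eq_sum_card_fiberwise (t := Finset.univ) (f := S.lab)
    (fun _ _ => Finset.mem_univ _)]
  refine Finset.sum_congr rfl fun k _ => ?_
  congr 1
  ext i
  simp

end Sextet

theorem exists_unit_dot {u : GolayPt → ZMod 2} (hu : u ∉ golayCode) :
    ∃ d ∈ golayCode, ∑ p, u p * d p = 1 := by
  obtain ⟨d, hd, h⟩ := exists_dot (fun _ : Unit => u) (fun _ => 1) (fun l hl => by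
    rcases zmod2_cases (l ()) with h | h
    · simp [h]
    · simp [h] at hl; exact absurd hl hu)
  exact ⟨d, hd, h ()⟩

theorem inter_card_le {c o : GolayPt → ZMod 2} (hc : c ∈ golayCode) (ho : o ∈ golayCode)
    (hne : c ≠ o) : (4 ∣ hammingNorm (c + o)) ∧ 8 ≤ hammingNorm (c + o) ∧
      hammingNorm (c + o) + 2 * (support₂ c ∩ support₂ o).card = hammingNorm c + hammingNorm o :=
  ⟨four_dvd_weight (add_mem hc ho),
    eight_le_weight (add_mem hc ho) (by rw [← sub_eq_add2]; exact sub_ne_zero.2 hne),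
    weight_add c o⟩

theorem indic_sdiff_add {c : GolayPt → ZMod 2} {T : Finset GolayPt} (hT : T ⊆ support₂ c) :
    indic (support₂ c \ T) + indic T = c := by
  funext i
  simp only [Pi.add_apply, indic, Finset.mem_sdiff]
  have := @hT i
  rcases zmod2_cases (c i) with h | h
  · have hi : i ∉ support₂ c := by rw [mem_support₂, h]; decide
    simp [hi, show i ∉ T from fun hiT => hi (this hiT), h]
  · have hi : i ∈ support₂ c := by rw [mem_support₂, h]
    by_cases hiT : i ∈ T <;> simp [hi, hiT, h]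

/-- zero word -/
theorem reach_zero (v : leechLattice) (hn : sqNorm (v : GolayPt → ℤ) = 64) (y : GolayPt → ℤ)
    (hy : ∀ i, (v : GolayPt → ℤ) i = 2 * y i) (hc : ∀ i, red2 y i = 0) : Reach v := by
  have hev : ∀ i, (2 : ℤ) ∣ y i := fun i => (ZMod.intCast_zmod_eq_zero_iff_dvd _ 2).1 (hc i)
  choose w hw using hev
  have hw4 : ∑ i, w i ^ 2 = 4 := by
    have : sqNorm (v : GolayPt → ℤ) = 16 * ∑ i, w i ^ 2 := by
      rw [sqNorm, Finset.mul_sum]
      exact Finset.sum_congr rfl fun i _ => by rw [hy i, hw i]; ring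
    omega
  have single : ∀ (u : leechLattice) (z : GolayPt → ℤ),
      (∀ i, (u : GolayPt → ℤ) i = 8 * z i) → sqNorm (u : GolayPt → ℤ) = 64 →
      (u : GolayPt → ℤ) ∈ stdCross := by
    intro u z hz hu
    have hz1 : ∑ i, z i ^ 2 = 1 := by
      have : sqNorm (u : GolayPt → ℤ) = 64 * ∑ i, z i ^ 2 := by
        rw [sqNorm, Finset.mul_sum]
        exact Finset.sum_congr rfl fun i _ => by rw [hz i]; ring
      omega
    obtain ⟨j, hj⟩ : ∃ j, z j ≠ 0 := by
      by_contra! h; simp [h] at hz1
    have hj1 : z j ^ 2 = 1 := by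
      have := sq_le_sum z j
      have : 0 < z j ^ 2 := by positivity
      omega
    refine ⟨j, 8 * z j, ?_, funext fun i => ?_⟩
    · rcases sq_eq_one_iff.1 hj1 with h | h <;> simp [h]
    by_cases hij : i = j
    · subst hij; rw [hz i, Pi.single_eq_same]
    · rw [hz i, Pi.single_eq_of_ne hij]
      have := Finset.add_sum_erase _ (fun i => z i ^ 2) (Finset.mem_univ j)
      have h0 : ∑ i ∈ Finset.univ.erase j, z i ^ 2 = 0 := by omega
      have := (Finset.sum_eq_zero_iff_of_nonneg fun i _ => sq_nonneg (z i)).1 h0 i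
        (Finset.mem_erase.2 ⟨hij, Finset.mem_univ _⟩)
      rw [sq_eq_zero_iff.1 this, mul_zero]
  set P := support₂ (red2 w) with hP
  obtain ⟨hle, hdvd⟩ := card_le_sum_odd w
  have hsplit := sum_sq_split w
  have hcompl : (4 : ℤ) ∣ ∑ i ∈ Pᶜ, w i ^ 2 := Finset.dvd_sum fun i hi => by
    rw [Finset.mem_compl, support₂_red2'] at hi
    obtain ⟨k, hk⟩ := not_not.1 hi
    exact ⟨k ^ 2, by rw [hk]; ring⟩
  have hnn : (0 : ℤ) ≤ ∑ i ∈ Pᶜ, w i ^ 2 := Finset.sum_nonneg fun i _ => sq_nonneg _
  rw [← hP] at hle hdvd hsplit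
  rcases Nat.eq_zero_or_pos P.card with hP0 | hPpos
  · have hev : ∀ i, (2 : ℤ) ∣ w i := fun i => by
      by_contra h
      rw [← support₂_red2', ← hP, Finset.card_eq_zero.1 hP0] at h
      simp at h
    choose z hz using hev
    exact ⟨1, by rw [one_smul]; exact single v z (fun i => by rw [hy, hw, hz]; ring) hn⟩
  have hP4 : P.card = 4 := by omega
  have hzero : ∀ i, i ∉ P → w i = 0 := fun i hi =>
    sq_eq_zero_iff.1 ((Finset.sum_eq_zero_iff_of_nonneg fun i _ => sq_nonneg (w i)).1
      (by omega : ∑ i ∈ Pᶜ, w i ^ 2 = 0) i (Finset.mem_compl.2 hi))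
  obtain ⟨S, hS, -⟩ := exists_sextet P hP4
  obtain ⟨d0, hd0, hd1⟩ := exists_unit_dot (S.tet_not_mem 0)
  have hfib : (Finset.univ.filter fun i => S.lab i = 0) = P := by ext i; simp [hS]
  have h2 : (2 : ℤ) ∣ S.tsum w 0 := by
    refine (ZMod.intCast_zmod_eq_zero_iff_dvd _ 2).1 ?_
    rw [Sextet.tsum, hfib, Int.cast_sum, Finset.sum_congr rfl (g := fun _ => (1 : ZMod 2))]
    · simp [hP4]; decide
    · intro i hi
      rw [hP, mem_support₂] at hi
      exact hi
  obtain ⟨d, hd, hd'⟩ : ∃ d ∈ golayCode, S.half (negOn d w) 0 = 1 := by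
    rcases zmod2_cases (S.half w 0) with h | h
    · refine ⟨d0, hd0, ?_⟩
      rw [S.half_negOn d0 w 0 h2, h, zero_add, ← hd1]
      refine Finset.sum_congr rfl fun i _ => ?_
      by_cases hi : S.lab i = 0
      · have : red2 w i = 1 := by rw [← mem_support₂, ← hP, ← hS]; exact hi
        simp [this]
      · simp [Sextet.tet, hi]
    · refine ⟨0, zero_mem _, ?_⟩
      rw [show negOn 0 w = w from funext fun i => by simp [negOn], h]
  refine Reach.of_smul (signCo0 d hd) (Reach.of_smul S.xi ?_)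
  set w' := negOn d w with hw'
  have hval : ∀ i, ((signCo0 d hd • v : leechLattice) : GolayPt → ℤ) i = 4 * w' i := fun i => by
    rw [signCo0_apply, hw']
    simp only [negOn, hy i, hw i]
    split_ifs <;> ring
  have h2' : (2 : ℤ) ∣ S.tsum w' 0 := by
    have e : S.tsum w' 0 = S.tsum w 0 - 2 * ∑ i with S.lab i = 0, if d i = 0 then 0 else w i := by
      simp only [Sextet.tsum, Finset.mul_sum, ← Finset.sum_sub_distrib, hw', negOn]
      exact Finset.sum_congr rfl fun i _ => by split_ifs <;> ring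
    omega
  obtain ⟨q, hq⟩ := h2'
  have hq1 : ¬ (2 : ℤ) ∣ q := by
    rw [Sextet.half, hq, Int.mul_ediv_cancel_left _ (by norm_num)] at hd'
    intro h
    rw [(ZMod.intCast_zmod_eq_zero_iff_dvd _ 2).2 h] at hd'
    exact absurd hd' (by decide)
  have himg : ∀ i, (8 : ℤ) ∣ ((S.xi • signCo0 d hd • v : leechLattice) : GolayPt → ℤ) i := by
    intro i
    rw [S.xi_apply, Sextet.xiFun]
    have hs : ∀ k, S.tsum ((signCo0 d hd • v : leechLattice) : GolayPt → ℤ) k = 4 * S.tsum w' k :=
      fun k => by simp only [Sextet.tsum, hval, Finset.mul_sum]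
    rw [hs, hval]
    by_cases hi : S.lab i = 0
    · rw [hi, hq, show 4 * (2 * q) = 2 * (4 * q) by ring, Int.mul_ediv_cancel_left _ (by norm_num)]
      have : ¬ (2 : ℤ) ∣ w i := by rw [← support₂_red2', ← hP, ← hS]; exact hi
      have : ¬ (2 : ℤ) ∣ w' i := by rw [hw']; simp only [negOn]; split_ifs <;> omega
      refine Dvd.dvd.mul_left ?_ _
      omega
    · have h0 : w' i = 0 := by
        have : w i = 0 := hzero i fun h => hi ((hS i).2 h)
        simp [hw', negOn, this]
      have hs0 : S.tsum w' (S.lab i) = 0 := Finset.sum_eq_zero fun j hj => by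
        rw [Finset.mem_filter] at hj
        have : w j = 0 := hzero j fun h => hi (hj.2.symm.trans ((hS j).2 h))
        simp [hw', negOn, this]
      simp [h0, hs0]
  choose z hz using himg
  refine ⟨1, ?_⟩
  rw [one_smul]
  exact single _ z hz (by rw [sqNorm_smul, sqNorm_smul, hn])

/-- word of weight eight -/
theorem reach_eight (v : leechLattice) (hn : sqNorm (v : GolayPt → ℤ) = 64) (y : GolayPt → ℤ)
    (hy : ∀ i, (v : GolayPt → ℤ) i = 2 * y i) (hc : red2 y ∈ golayCode)
    (h4 : (4 : ℤ) ∣ ∑ i, y i) (h8 : hammingNorm (red2 y) = 8) : Reach v := by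
  classical
  set c := red2 y with hcdef
  have hcard : (support₂ c).card = 8 := by rw [← hammingNorm_eq_card, h8]
  have h16 : ∑ i, y i ^ 2 = 16 := by
    have : sqNorm (v : GolayPt → ℤ) = 4 * ∑ i, y i ^ 2 := by
      rw [sqNorm, Finset.mul_sum]
      exact Finset.sum_congr rfl fun i _ => by rw [hy i]; ring
    omega
  obtain ⟨hle, hdvd⟩ := card_le_sum_odd y
  have hsplit := sum_sq_split y
  rw [← hcdef, hcard] at hle hdvd
  rw [← hcdef, h16] at hsplit
  set P := (support₂ c)ᶜ.filter fun i => y i ≠ 0 with hP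
  have hPsum : ∑ i ∈ (support₂ c)ᶜ, y i ^ 2 = ∑ i ∈ P, y i ^ 2 := by
    rw [hP, Finset.sum_filter]
    exact Finset.sum_congr rfl fun i _ => by split_ifs with h <;> simp_all
  have hPge : ∀ i ∈ P, (4 : ℤ) ≤ y i ^ 2 ∧ (2 : ℤ) ∣ y i := fun i hi => by
    simp only [hP, Finset.mem_filter, Finset.mem_compl, hcdef, support₂_red2', not_not] at hi
    obtain ⟨⟨k, hk⟩, hne⟩ := hi
    refine ⟨?_, ⟨k, hk⟩⟩
    have : k ≠ 0 := fun h => hne (by rw [hk, h]; ring)
    have : (0 : ℤ) < k ^ 2 := by positivity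
    rw [hk]; nlinarith
  have hPle : ((P.card : ℤ) * 4) ≤ ∑ i ∈ P, y i ^ 2 := by
    have := Finset.sum_le_sum (f := fun _ => (4 : ℤ)) fun i hi => (hPge i hi).1
    simpa using this
  have hP2 : P.card ≤ 2 := by omega
  have hPpair : P.card ≠ 1 := by
    intro h1
    obtain ⟨p, hp⟩ := Finset.card_eq_one.1 h1
    rw [hp, Finset.sum_singleton] at hPsum hPle
    rw [Finset.card_singleton] at hPle
    obtain ⟨k, hk⟩ := (hPge p (by simp [hp])).2
    have h8' : (4 : ℤ) * k ^ 2 = 8 := by
      have : y p ^ 2 = 4 * k ^ 2 := by rw [hk]; ring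
      omega
    rcases lt_trichotomy (|k|) 1 with h | h | h
    · rw [abs_lt] at h; obtain rfl : k = 0 := by omega
      norm_num at h8'
    · nlinarith [sq_abs k]
    · nlinarith [sq_abs k]
  -- two points outside, containing all the others
  obtain ⟨Q, hPQ, hQc, hQ2⟩ := Finset.exists_subsuperset_card_eq (s := P) (t := (support₂ c)ᶜ)
    (Finset.filter_subset _ _) (n := 2) hP2 (by rw [Finset.card_compl, hcard, card_golayPt]; norm_num)
  obtain ⟨R, hRc, hR3⟩ := Finset.exists_subset_card_eq (s := support₂ c) (n := 3) (by omega)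
  have hdisjQR : Disjoint Q R := Finset.disjoint_left.2 fun i hiQ hiR =>
    Finset.mem_compl.1 (hQc hiQ) (hRc hiR)
  obtain ⟨b, ⟨⟨⟨o, ho, rfl⟩, ho8⟩, hsub⟩, -⟩ :=
    (steiner golayCode card_golayPt finrank_golayCode orth_golay min_golay).2 (Q ∪ R)
      (by rw [Finset.card_union_of_disjoint hdisjQR, hQ2, hR3])
  have ho8' : hammingNorm o = 8 := (hammingNorm_eq_card o).trans ho8
  have hne : c ≠ o := by
    intro h
    obtain ⟨q, hq⟩ : Q.Nonempty := Finset.card_pos.1 (by omega)
    exact Finset.mem_compl.1 (hQc hq) (h ▸ hsub (Finset.mem_union_left _ hq))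
  obtain ⟨hd4, hge, hw⟩ := inter_card_le hc ho hne
  set T := support₂ c ∩ support₂ o with hTdef
  have hT3 : 3 ≤ T.card := hR3 ▸ Finset.card_le_card (Finset.subset_inter hRc
    (fun i hi => hsub (Finset.mem_union_right _ hi)))
  have hT4 : T.card = 4 := by omega
  have hTc : T ⊆ support₂ c := Finset.inter_subset_left
  have hTo : T ⊆ support₂ o := Finset.inter_subset_right
  obtain ⟨S, hS, hfib⟩ := exists_sextet T hT4
  obtain ⟨k1, hk1⟩ := hfib (support₂ c \ T) (by rw [Finset.card_sdiff_of_subset hTc]; omega)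
    (by rw [indic_sdiff_add hTc]; exact hc)
  obtain ⟨k2, hk2⟩ := hfib (support₂ o \ T) (by rw [Finset.card_sdiff_of_subset hTo]; omega)
    (by rw [indic_sdiff_add hTo]; exact ho)
  have hk10 : k1 ≠ 0 := by
    intro h
    obtain ⟨i, hi⟩ : (support₂ c \ T).Nonempty :=
      Finset.card_pos.1 (by rw [Finset.card_sdiff_of_subset hTc]; omega)
    have := (hk1 i).2 hi
    rw [h] at this
    exact (Finset.mem_sdiff.1 hi).2 ((hS i).1 this)
  have hin : ∀ i, S.lab i = 0 ∨ S.lab i = k1 ↔ c i = 1 := fun i => by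
    rw [hS, hk1, Finset.mem_sdiff, ← mem_support₂]
    constructor
    · rintro (h | h)
      · exact hTc h
      · exact h.1
    · intro h; by_cases hT : i ∈ T <;> tauto
  have hdot : ∀ k, ∑ p, S.tet k p * c p = 0 := by
    intro k
    rw [S.dot_tet hc]
    have : ∀ p, S.tet 0 p * c p = S.tet 0 p := fun p => by
      by_cases hp : S.lab p = 0
      · rw [(hin p).1 (Or.inl hp), mul_one]
      · simp [Sextet.tet, hp]
    simp only [this]
    rw [show (∑ p, S.tet 0 p) = ((hammingNorm (S.tet 0) : ℕ) : ZMod 2) by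
      rw [hammingNorm, Finset.natCast_card_filter]
      exact Finset.sum_congr rfl fun p _ => by simp [Sextet.tet]]
    rw [S.weight_tet]; decide
  have h2 : ∀ k, (2 : ℤ) ∣ S.tsum y k := S.even_tsum hdot
  have hoff : ∀ k, k ≠ 0 → k ≠ k1 → S.half y k = 0 := by
    intro k hk0 hkk
    have hout : ∀ i, S.lab i = k → c i = 0 := fun i hi =>
      (zmod2_cases (c i)).resolve_right fun h => by
        rcases (hin i).2 h with h' | h' <;> rw [hi] at h' <;> contradiction
    have hzero : ∀ i, S.lab i = k → i ∉ P → y i = 0 := fun i hi hiP => by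
      by_contra hne'
      refine hiP (Finset.mem_filter.2 ⟨Finset.mem_compl.2 ?_, hne'⟩)
      rw [mem_support₂, hout i hi]; decide
    have hPk2 : ∀ i ∈ P, S.lab i = k2 := fun i hi =>
      (hk2 i).2 (Finset.mem_sdiff.2 ⟨hsub (Finset.mem_union_left _ (hPQ hi)),
        fun h => Finset.mem_compl.1 (hQc (hPQ hi)) (hTc h)⟩)
    have h4k : (4 : ℤ) ∣ S.tsum y k := by
      by_cases hk : k = k2
      · subst hk
        have : S.tsum y k = ∑ i ∈ P, y i := by
          refine (Finset.sum_subset (fun i hi => by simp [hPk2 i hi]) fun i hi hiP => ?_).symm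
          exact hzero i (by simpa using hi) hiP
        rw [this]
        rcases (by omega : P.card = 0 ∨ P.card = 2) with h | h
        · simp [Finset.card_eq_zero.1 h]
        · obtain ⟨p, q, hpq, hPe⟩ := Finset.card_eq_two.1 h
          obtain ⟨ha, a, hpa⟩ := hPge p (by simp [hPe])
          obtain ⟨hb, b, hqb⟩ := hPge q (by simp [hPe])
          rw [hPe, Finset.sum_pair hpq] at hPsum ⊢
          have ha1 : (4 : ℤ) * a ^ 2 = y p ^ 2 := by rw [hpa]; ring
          have hb1 : (4 : ℤ) * b ^ 2 = y q ^ 2 := by rw [hqb]; ring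
          have : a ^ 2 = 1 := by omega
          have : b ^ 2 = 1 := by omega
          rcases sq_eq_one_iff.1 ‹a ^ 2 = 1› with rfl | rfl <;>
            rcases sq_eq_one_iff.1 ‹b ^ 2 = 1› with rfl | rfl <;> rw [hpa, hqb] <;> norm_num
      · have : S.tsum y k = 0 := Finset.sum_eq_zero fun i hi => by
          have hi' : S.lab i = k := by simpa using hi
          exact hzero i hi' fun hP' => hk (hi'.symm.trans (hPk2 i hP'))
        simp [this]
    obtain ⟨q, hq⟩ := h4k
    rw [Sextet.half, hq, show 4 * q = 2 * (2 * q) by ring,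
      Int.mul_ediv_cancel_left _ (by norm_num), Int.cast_mul]
    simp [show (2 : ZMod 2) = 0 from rfl]
  obtain ⟨d0, hd0, hd1⟩ := exists_unit_dot (S.tet_not_mem 0)
  have hflip : ∀ (d : GolayPt → ZMod 2) (k : Fin 6), ∑ p, S.tet k p * red2 y p * d p =
      if k = 0 ∨ k = k1 then ∑ p, S.tet k p * d p else 0 := by
    intro d k
    split_ifs with hk
    · refine Finset.sum_congr rfl fun p _ => ?_
      by_cases hp : S.lab p = k
      · rw [show red2 y p = 1 from (hin p).1 (by rwa [hp]), mul_one]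
      · simp [Sextet.tet, hp]
    · refine Finset.sum_eq_zero fun p _ => ?_
      by_cases hp : S.lab p = k
      · rw [show red2 y p = 0 from (zmod2_cases _).resolve_right fun h => hk (by
          rw [← hp]; exact (hin p).2 h)]
        simp
      · simp [Sextet.tet, hp]
  obtain ⟨d, hd, hd'⟩ : ∃ d ∈ golayCode, S.half (negOn d y) 0 = 1 := by
    rcases zmod2_cases (S.half y 0) with h | h
    · exact ⟨d0, hd0, by rw [S.half_negOn d0 y 0 (h2 0), h, zero_add, hflip, if_pos (Or.inl rfl), hd1]⟩
    · exact ⟨0, zero_mem _, by rw [show negOn 0 y = y from funext fun i => by simp [negOn], h]⟩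
  set y1 := negOn d y with hy1
  have hred : red2 y1 = c := by
    funext i
    have hneg : ∀ a : ZMod 2, -a = a := by decide
    simp only [hy1, red2, negOn, hcdef]
    split_ifs <;> simp [hneg]
  have hsum4 : (4 : ℤ) ∣ ∑ i, y1 i := by
    obtain ⟨z, hz, -, hz4⟩ := even_form (signCo0 d hd • v).2 ⟨y1 none, by
      rw [signCo0_apply, hy1]; simp only [negOn, hy]; split_ifs <;> ring⟩
    convert hz4 using 2 with i
    have := hz i
    rw [signCo0_apply] at this
    simp only [negOn, hy] at this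
    simp only [hy1, negOn]
    split_ifs at this ⊢ <;> linarith
  have h2' : ∀ k, (2 : ℤ) ∣ S.tsum y1 k := S.even_tsum (by rw [hred]; exact hdot)
  have hoff' : ∀ k, k ≠ 0 → k ≠ k1 → S.half y1 k = 0 := fun k hk hk' => by
    rw [hy1, S.half_negOn d y k (h2 k), hflip, if_neg (by tauto), hoff k hk hk', add_zero]
  have hk1v : S.half y1 k1 = 1 := by
    have hs := S.sum_half y1 h2' hsum4
    rw [← Finset.sum_subset (Finset.subset_univ {0, k1}) (fun k _ hk => by
      simp only [Finset.mem_insert, Finset.mem_singleton, not_or] at hk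
      exact hoff' k hk.1 hk.2), Finset.sum_pair hk10.symm, hd'] at hs
    revert hs; generalize S.half y1 k1 = a; revert a; decide
  refine Reach.of_smul (signCo0 d hd) ?_
  obtain ⟨y', hy', hc'⟩ := S.xi_even (signCo0 d hd • v) y1
    (fun i => by rw [signCo0_apply, hy1]; simp only [negOn, hy]; split_ifs <;> ring) h2'
  refine Reach.of_smul S.xi (reach_zero _ (by rw [sqNorm_smul, sqNorm_smul, hn]) y' hy' fun i => ?_)
  rw [hc', hred]
  by_cases hi : S.lab i = 0 ∨ S.lab i = k1
  · rw [(hin i).1 hi]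
    rcases hi with hi | hi <;> rw [hi] <;> simp only [hd', hk1v] <;> decide
  · rw [(zmod2_cases (c i)).resolve_right fun h => hi ((hin i).2 h), zero_add]
    push Not at hi
    exact hoff' _ hi.1 hi.2

theorem even_props {v : leechLattice} {y : GolayPt → ℤ}
    (hy : ∀ i, (v : GolayPt → ℤ) i = 2 * y i) :
    red2 y ∈ golayCode ∧ (4 : ℤ) ∣ ∑ i, y i := by
  obtain ⟨z, hz, hc, h4⟩ := even_form v.2 ⟨y none, hy none⟩
  obtain rfl : z = y := funext fun i => by have := hz i; have := hy i; omega
  exact ⟨hc, h4⟩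

theorem red2_negOn (d : GolayPt → ZMod 2) (y : GolayPt → ℤ) : red2 (negOn d y) = red2 y := by
  funext i
  have hneg : ∀ a : ZMod 2, -a = a := by decide
  simp only [red2, negOn]
  split_ifs <;> simp [hneg]

theorem signCo0_even {d : GolayPt → ZMod 2} (hd : d ∈ golayCode) (v : leechLattice)
    (y : GolayPt → ℤ) (hy : ∀ i, (v : GolayPt → ℤ) i = 2 * y i) (i : GolayPt) :
    ((signCo0 d hd • v : leechLattice) : GolayPt → ℤ) i = 2 * negOn d y i := by
  rw [signCo0_apply]
  simp only [negOn, hy]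
  split_ifs <;> ring

namespace Sextet

variable (S : Sextet)

/-- number of odd entries in a tetrad -/
def num (c : GolayPt → ZMod 2) (k : Fin 6) : ℕ :=
  (support₂ c ∩ Finset.univ.filter fun i => S.lab i = k).card

theorem num_cast (c : GolayPt → ZMod 2) (k : Fin 6) :
    ∑ p, S.tet k p * c p = (S.num c k : ZMod 2) := by
  have : support₂ c ∩ (Finset.univ.filter fun i => S.lab i = k) =
      Finset.univ.filter fun i => S.lab i = k ∧ c i = 1 := by
    ext i; simp [mem_support₂, and_comm]
  rw [num, this, Finset.natCast_card_filter]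
  refine Finset.sum_congr rfl fun p _ => ?_
  by_cases h : S.lab p = k
  · rcases zmod2_cases (c p) with h' | h' <;> simp [tet, h, h']
  · simp [tet, h]

theorem num_le (c : GolayPt → ZMod 2) (k : Fin 6) : S.num c k ≤ 4 :=
  (Finset.card_le_card Finset.inter_subset_right).trans (S.card_fib k).le

theorem sum_num (c : GolayPt → ZMod 2) : ∑ k, S.num c k = hammingNorm c := (S.weight_fib c).symm

theorem weight_flip (c c' : GolayPt → ZMod 2) (a : Fin 6 → ZMod 2)
    (h : ∀ i, c' i = c i + a (S.lab i)) :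
    hammingNorm c' = ∑ k, if a k = 0 then S.num c k else 4 - S.num c k := by
  rw [← S.sum_num c']
  refine Finset.sum_congr rfl fun k _ => ?_
  split_ifs with ha
  · unfold num
    congr 1
    ext i
    simp only [Finset.mem_inter, mem_support₂, Finset.mem_filter, Finset.mem_univ, true_and]
    constructor <;> rintro ⟨h1, h2⟩ <;> refine ⟨?_, h2⟩
    · rwa [h, h2, ha, add_zero] at h1
    · rwa [h, h2, ha, add_zero]
  · have ha1 : a k = 1 := (zmod2_cases _).resolve_left ha
    have : support₂ c' ∩ (Finset.univ.filter fun i => S.lab i = k) =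
        (Finset.univ.filter fun i => S.lab i = k) \ support₂ c := by
      ext i
      simp only [Finset.mem_inter, mem_support₂, Finset.mem_sdiff, Finset.mem_filter, Finset.mem_univ,
        true_and]
      constructor
      · rintro ⟨h1, h2⟩
        refine ⟨h2, fun h3 => ?_⟩
        rw [h, h2, ha1, h3] at h1
        exact absurd h1 (by decide)
      · rintro ⟨h2, h3⟩
        refine ⟨?_, h2⟩
        rw [h, h2, ha1, (zmod2_cases _).resolve_right h3, zero_add]
    rw [num, this, Finset.card_sdiff, S.card_fib]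
    rfl

/-- a sign change followed by the reflection -/
theorem step {d : GolayPt → ZMod 2} (hd : d ∈ golayCode) (v : leechLattice) (y : GolayPt → ℤ)
    (hy : ∀ i, (v : GolayPt → ℤ) i = 2 * y i)
    (hdot : ∀ k, ∑ p, S.tet k p * red2 y p = 0) :
    ∃ y' : GolayPt → ℤ,
      (∀ i, ((S.xi • signCo0 d hd • v : leechLattice) : GolayPt → ℤ) i = 2 * y' i) ∧
      ∀ i, red2 y' i = red2 y i +
        (S.half y (S.lab i) + ∑ p, S.tet (S.lab i) p * red2 y p * d p) := by
  obtain ⟨y', hy', hc⟩ := S.xi_even (signCo0 d hd • v) (negOn d y) (signCo0_even hd v y hy)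
    (S.even_tsum (by rw [red2_negOn]; exact hdot))
  refine ⟨y', hy', fun i => ?_⟩
  rw [hc, red2_negOn, S.half_negOn d y _ (S.even_tsum hdot _)]

end Sextet

/-- word of weight sixteen -/
theorem reach_sixteen (v : leechLattice) (hn : sqNorm (v : GolayPt → ℤ) = 64) (y : GolayPt → ℤ)
    (hy : ∀ i, (v : GolayPt → ℤ) i = 2 * y i) (h16 : hammingNorm (red2 y) = 16) : Reach v := by
  classical
  obtain ⟨hc, h4⟩ := even_props hy
  set c := red2 y with hcdef
  have hsq : ∑ i, y i ^ 2 = 16 := by
    have : sqNorm (v : GolayPt → ℤ) = 4 * ∑ i, y i ^ 2 := by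
      rw [sqNorm, Finset.mul_sum]
      exact Finset.sum_congr rfl fun i _ => by rw [hy i]; ring
    omega
  have hcard : (support₂ c).card = 16 := by rw [← hammingNorm_eq_card, h16]
  have hzero : ∀ i, c i = 0 → y i = 0 := by
    intro i hi
    have hle := (card_le_sum_odd y).1
    have hsplit := sum_sq_split y
    rw [← hcdef, hcard] at hle
    rw [← hcdef, hsq] at hsplit
    have hnn : (0 : ℤ) ≤ ∑ i ∈ (support₂ c)ᶜ, y i ^ 2 := Finset.sum_nonneg fun i _ => sq_nonneg _
    have h0 := (Finset.sum_eq_zero_iff_of_nonneg fun i _ => sq_nonneg (y i)).1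
      (by omega : ∑ i ∈ (support₂ c)ᶜ, y i ^ 2 = 0) i
      (by rw [Finset.mem_compl, mem_support₂, hi]; decide)
    exact sq_eq_zero_iff.1 h0
  set o := c + 1 with hodef
  have ho : o ∈ golayCode := add_mem hc one_mem
  have hone : support₂ (1 : GolayPt → ZMod 2) = Finset.univ := by ext i; simp [mem_support₂]
  have ho8 : (support₂ o).card = 8 := by
    have := weight_add c 1
    rw [hammingNorm_eq_card (1 : GolayPt → ZMod 2), hone, Finset.inter_univ, Finset.card_univ,
      card_golayPt, hcard, h16, hammingNorm_eq_card, ← hodef] at this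
    omega
  obtain ⟨T, hTo, hT4⟩ := Finset.exists_subset_card_eq (s := support₂ o) (n := 4) (by omega)
  obtain ⟨S, hS, hfib⟩ := exists_sextet T hT4
  obtain ⟨k1, hk1⟩ := hfib (support₂ o \ T) (by rw [Finset.card_sdiff_of_subset hTo]; omega)
    (by rw [indic_sdiff_add hTo]; exact ho)
  have hk10 : k1 ≠ 0 := by
    intro h
    obtain ⟨i, hi⟩ : (support₂ o \ T).Nonempty :=
      Finset.card_pos.1 (by rw [Finset.card_sdiff_of_subset hTo]; omega)
    have := (hk1 i).2 hi
    rw [h] at this
    exact (Finset.mem_sdiff.1 hi).2 ((hS i).1 this)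
  have hin : ∀ i, S.lab i = 0 ∨ S.lab i = k1 ↔ c i = 0 := fun i => by
    have ho' : i ∈ support₂ o ↔ c i = 0 := by
      rw [mem_support₂, hodef, Pi.add_apply, Pi.one_apply]
      rcases zmod2_cases (c i) with h | h <;> rw [h] <;> decide
    rw [hS, hk1, Finset.mem_sdiff, ← ho']
    constructor
    · rintro (h | h)
      · exact hTo h
      · exact h.1
    · intro h; by_cases hT : i ∈ T <;> tauto
  have hnum : ∀ k, S.num c k = if k = 0 ∨ k = k1 then 0 else 4 := by
    intro k
    split_ifs with hk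
    · rw [Sextet.num, Finset.card_eq_zero, Finset.eq_empty_iff_forall_notMem]
      intro i hi
      simp only [Finset.mem_inter, mem_support₂, Finset.mem_filter, Finset.mem_univ, true_and] at hi
      rw [(hin i).1 (by rw [hi.2]; exact hk)] at hi
      exact absurd hi.1 (by decide)
    · refine Eq.trans ?_ (S.card_fib k)
      rw [Sextet.num]
      congr 1
      rw [Finset.inter_eq_right]
      intro i hi
      rw [mem_support₂]
      refine (zmod2_cases _).resolve_left fun h => hk ?_
      rw [← (Finset.mem_filter.1 hi).2]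
      exact (hin i).2 h
  have hdot : ∀ k, ∑ p, S.tet k p * c p = 0 := fun k => by
    rw [S.num_cast, hnum]; split_ifs <;> decide
  have hhalf : ∀ k, k = 0 ∨ k = k1 → S.half y k = 0 := fun k hk => by
    have : S.tsum y k = 0 := Finset.sum_eq_zero fun i hi =>
      hzero i ((hin i).1 (by rw [(Finset.mem_filter.1 hi).2]; exact hk))
    simp [Sextet.half, this]
  have hflip : ∀ (d : GolayPt → ZMod 2) (k : Fin 6), ∑ p, S.tet k p * c p * d p =
      if k = 0 ∨ k = k1 then 0 else ∑ p, S.tet k p * d p := by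
    intro d k
    split_ifs with hk
    · refine Finset.sum_eq_zero fun p _ => ?_
      by_cases hp : S.lab p = k
      · rw [(hin p).1 (by rwa [hp])]; simp
      · simp [Sextet.tet, hp]
    · refine Finset.sum_congr rfl fun p _ => ?_
      by_cases hp : S.lab p = k
      · rw [(zmod2_cases (c p)).resolve_left fun h => hk (by rw [← hp]; exact (hin p).2 h), mul_one]
      · simp [Sextet.tet, hp]
  obtain ⟨k2, hk20, hk21⟩ : ∃ k2 : Fin 6, k2 ≠ 0 ∧ k2 ≠ k1 := by
    clear * - ; revert k1; decide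
  obtain ⟨d, hd, hd'⟩ : ∃ d ∈ golayCode, ∃ k, ¬(k = 0 ∨ k = k1) ∧
      S.half y k + ∑ p, S.tet k p * c p * d p = 1 := by
    by_cases h : ∃ k, ¬(k = 0 ∨ k = k1) ∧ S.half y k = 1
    · obtain ⟨k, hk, hk'⟩ := h
      exact ⟨0, zero_mem _, k, hk, by simp [hk']⟩
    · push Not at h
      obtain ⟨d0, hd0, hd1⟩ := exists_unit_dot (S.tet_not_mem 0)
      refine ⟨d0, hd0, k2, by tauto, ?_⟩
      rw [hflip, if_neg (by tauto), S.dot_tet hd0, hd1,
        (zmod2_cases _).resolve_right (h k2 ⟨hk20, hk21⟩), zero_add]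
  set a : Fin 6 → ZMod 2 := fun k => S.half y k + ∑ p, S.tet k p * c p * d p with ha
  obtain ⟨y', hy', hred⟩ := S.step hd v y hy hdot
  obtain ⟨hc', -⟩ := even_props hy'
  have hw : hammingNorm (red2 y') = ∑ k, if a k = 0 then S.num c k else 4 - S.num c k :=
    S.weight_flip c (red2 y') a hred
  have hsum : ∑ k, a k = 0 := by
    have e : ∀ k, a k = S.half (negOn d y) k := fun k =>
      (S.half_negOn d y k (S.even_tsum hdot k)).symm
    simp only [e]
    exact S.sum_half _ (S.even_tsum (by rw [red2_negOn]; exact hdot))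
      (even_props (signCo0_even hd v y hy)).2
  have ha01 : ∀ k, k = 0 ∨ k = k1 → a k = 0 := fun k hk => by
    rw [ha]; simp only [hflip, if_pos hk, hhalf k hk, add_zero]
  obtain ⟨k3, hk3, hk3'⟩ := hd'
  have hval : hammingNorm (red2 y') = 0 ∨ hammingNorm (red2 y') = 8 := by
    rw [hw]
    simp only [hnum]
    change a k3 = 1 at hk3'
    clear_value a
    clear * - hsum ha01 hk3 hk3' hk10
    revert a k1 k3
    decide +kernel
  refine Reach.of_smul (signCo0 d hd) (Reach.of_smul S.xi ?_)
  rcases hval with h | h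
  · refine reach_zero _ (by rw [sqNorm_smul, sqNorm_smul, hn]) y' hy' fun i => ?_
    rw [hammingNorm_eq_zero] at h
    exact congrFun h i
  · exact reach_eight _ (by rw [sqNorm_smul, sqNorm_smul, hn]) y' hy' hc' (even_props hy').2 h

/-- word of weight twelve -/
theorem reach_twelve (v : leechLattice) (hn : sqNorm (v : GolayPt → ℤ) = 64) (y : GolayPt → ℤ)
    (hy : ∀ i, (v : GolayPt → ℤ) i = 2 * y i) (h12 : hammingNorm (red2 y) = 12) : Reach v := by
  classical
  obtain ⟨hc, h4⟩ := even_props hy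
  set c := red2 y with hcdef
  have hcard : (support₂ c).card = 12 := by rw [← hammingNorm_eq_card, h12]
  obtain ⟨T, hTc, hT4⟩ := Finset.exists_subset_card_eq (s := support₂ c) (n := 4) (by omega)
  obtain ⟨S, hS, -⟩ := exists_sextet T hT4
  set n : Fin 6 → ℕ := fun k => S.num c k with hn'
  have hn0 : n 0 = 4 := by
    refine Eq.trans ?_ hT4
    show (support₂ c ∩ _).card = _
    congr 1
    rw [show (Finset.univ.filter fun i => S.lab i = 0) = T from Finset.ext fun i => by simp [hS]]
    exact Finset.inter_eq_right.2 hTc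
  have heven : ∀ k, 2 ∣ n k := fun k => by
    rw [← ZMod.natCast_eq_zero_iff, ← S.num_cast, S.dot_tet hc, S.num_cast, show S.num c 0 = 4 from hn0]
    decide
  have hle : ∀ k, k ≠ 0 → n k ≤ 2 := by
    intro k hk
    have hw8 : hammingNorm (S.tet k + S.tet 0) = 8 := by
      have hsum := S.weight_fib (S.tet k + S.tet 0)
      have e : ∀ j, (support₂ (S.tet k + S.tet 0) ∩ Finset.univ.filter fun i => S.lab i = j) =
          if j = k ∨ j = 0 then Finset.univ.filter fun i => S.lab i = j else ∅ := by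
        intro j
        ext i
        split_ifs with hj <;>
          simp only [Finset.mem_inter, mem_support₂, Pi.add_apply, Sextet.tet, Finset.mem_filter,
            Finset.mem_univ, true_and, Finset.notMem_empty, iff_false, not_and]
        · constructor
          · exact fun h => h.2
          · intro h
            refine ⟨?_, h⟩
            rw [h]
            rcases hj with rfl | rfl <;> simp [hk, Ne.symm hk]
        · intro h1 h2
          rw [h2] at h1
          push Not at hj
          simp [hj.1, hj.2] at h1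
      simp only [e, apply_ite Finset.card, S.card_fib, Finset.card_empty] at hsum
      rw [hsum]
      clear * - hk
      revert k; decide
    obtain ⟨hd4, hge, hw⟩ := inter_card_le hc (S.pair_mem k) (fun h => by
      rw [h, hw8] at h12; omega)
    have hint : n k + n 0 ≤ (support₂ c ∩ support₂ (S.tet k + S.tet 0)).card := by
      show (support₂ c ∩ _).card + (support₂ c ∩ _).card ≤ _
      rw [← Finset.card_union_of_disjoint]
      · refine Finset.card_le_card fun i hi => ?_
        simp only [Finset.mem_union, Finset.mem_inter, Finset.mem_filter, Finset.mem_univ, true_and,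
          mem_support₂, Pi.add_apply, Sextet.tet] at hi ⊢
        rcases hi with ⟨h1, h2⟩ | ⟨h1, h2⟩ <;> simp [h1, h2, hk, Ne.symm hk]
      · rw [Finset.disjoint_left]
        intro i hi hi'
        simp only [Finset.mem_inter, Finset.mem_filter] at hi hi'
        exact hk (hi.2.2.symm.trans hi'.2.2)
    rw [h12, hw8] at hw
    omega
  have hsum : ∑ k, n k = 12 := (S.sum_num c).trans h12
  obtain ⟨k0, hk00, hk0n, hother⟩ : ∃ k0 : Fin 6, k0 ≠ 0 ∧ n k0 = 0 ∧
      ∀ k, k ≠ 0 → k ≠ k0 → n k = 2 := by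
    have h01 : ∀ k, k ≠ 0 → n k = 0 ∨ n k = 2 := fun k hk => by
      have := hle k hk; obtain ⟨j, hj⟩ := heven k; omega
    by_cases hex : ∃ k0, k0 ≠ 0 ∧ n k0 = 0
    · obtain ⟨k0, hk0, hz⟩ := hex
      refine ⟨k0, hk0, hz, fun k hk hkk => (h01 k hk).resolve_left fun hzk => ?_⟩
      rw [← Finset.sum_compl_add_sum ({0, k0, k} : Finset (Fin 6)), Finset.sum_insert (by
          simp [Ne.symm hk0, Ne.symm hk]), Finset.sum_pair (Ne.symm hkk), hn0, hz, hzk] at hsum
      have hb : ∑ j ∈ ({0, k0, k} : Finset (Fin 6))ᶜ, n j ≤ ({0, k0, k} : Finset (Fin 6))ᶜ.card • 2 :=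
        Finset.sum_le_card_nsmul _ _ _ fun j hj => hle j (by
          simp only [Finset.mem_compl, Finset.mem_insert, not_or] at hj; exact hj.1)
      rw [Finset.card_compl, Finset.card_insert_of_notMem (by
          simp [Ne.symm hk0, Ne.symm hk]), Finset.card_pair (Ne.symm hkk)] at hb
      simp only [Fintype.card_fin, smul_eq_mul] at hb
      omega
    · push Not at hex
      have h2 : ∀ k, k ≠ 0 → n k = 2 := fun k hk => (h01 k hk).resolve_left (hex k hk)
      simp only [Fin.sum_univ_succ] at hsum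
      simp [h2, Fin.succ_ne_zero, hn0] at hsum
  obtain ⟨kb, hkb0, hkbk⟩ : ∃ kb : Fin 6, kb ≠ 0 ∧ kb ≠ k0 := by
    clear * - ; revert k0; decide
  have hdot : ∀ k, ∑ p, S.tet k p * c p = 0 := fun k => by
    rw [S.num_cast, ZMod.natCast_eq_zero_iff]; exact heven k
  have h2 : ∀ k, (2 : ℤ) ∣ S.tsum y k := S.even_tsum hdot
  set α := S.half y k0 with hα
  set a : Fin 6 → ZMod 2 := fun k =>
    if k = 0 then 1 + α else if k = kb then 1 else if k = k0 then α else 0 with ha
  have hsa : ∑ k, a k = 0 := by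
    simp only [ha]
    clear_value α
    clear * - hk00 hkb0 hkbk
    revert α k0 kb
    decide +kernel
  have hpos : ∀ k, k ≠ k0 → ∃ p, S.lab p = k ∧ c p = 1 := by
    intro k hk
    have : 0 < S.num c k := by
      by_cases hk0 : k = 0
      · subst hk0; show 0 < n 0; omega
      · show 0 < n k; rw [hother k hk0 hk]; norm_num
    obtain ⟨p, hp⟩ := Finset.card_pos.1 this
    simp only [Finset.mem_inter, mem_support₂, Finset.mem_filter, Finset.mem_univ, true_and] at hp
    exact ⟨p, hp.2, hp.1⟩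
  have hout : ∀ p, S.lab p = k0 → c p = 0 := fun p hp => by
    refine (zmod2_cases _).resolve_right fun h => ?_
    have hmem : p ∈ support₂ c ∩ Finset.univ.filter fun i => S.lab i = k0 := by
      simp [mem_support₂, h, hp]
    rw [Finset.card_eq_zero.1 (show (support₂ c ∩ _).card = 0 from hk0n)] at hmem
    simp at hmem
  obtain ⟨d, hd, hdb⟩ := exists_dot (fun k p => S.tet k p * c p) (fun k => a k + S.half y k) (by
    intro l hl
    have hu : ∀ p, (∑ k, l k • fun p => S.tet k p * c p) p = l (S.lab p) * c p := fun p => by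
      simp [Finset.sum_apply, Sextet.tet]
    set u := ∑ k, l k • fun p => S.tet k p * c p with hudef
    have hsub : support₂ u ⊆ support₂ c := fun p hp => by
      rw [mem_support₂, hu] at hp
      rw [mem_support₂]
      rcases zmod2_cases (c p) with h | h
      · rw [h] at hp; simp at hp
      · exact h
    have hwle : (support₂ u).card ≤ 12 := hcard ▸ Finset.card_le_card hsub
    have hwadd := weight_add c u
    rw [Finset.inter_eq_right.2 hsub, h12, ← hammingNorm_eq_card] at hwadd
    rw [← hammingNorm_eq_card] at hwle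
    have hcu := weights (add_mem hc hl)
    have huw := weights hl
    have hk0b : a k0 + S.half y k0 = 0 := by
      simp only [ha, if_neg hk00, if_neg hkbk.symm, if_pos, ← hα]
      exact CharTwo.add_self_eq_zero α
    have key : ∀ e : ZMod 2, (∀ k, k ≠ k0 → l k = e) → ∑ k, l k * (a k + S.half y k) = 0 := by
      intro e he
      have : ∀ k, l k * (a k + S.half y k) = e * (a k + S.half y k) := fun k => by
        by_cases hk : k = k0
        · subst hk; rw [hk0b, mul_zero, mul_zero]
        · rw [he k hk]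
      rw [Finset.sum_congr rfl fun k _ => this k, ← Finset.mul_sum, Finset.sum_add_distrib, hsa,
        S.sum_half y h2 h4, add_zero, mul_zero]
    rcases (by omega : hammingNorm u = 0 ∨ hammingNorm u = 12) with h | h
    · refine key 0 fun k hk => ?_
      obtain ⟨p, hp, hp1⟩ := hpos k hk
      have := congrFun (hammingNorm_eq_zero.1 h) p
      rw [hu, hp, hp1, mul_one] at this
      exact this
    · refine key 1 fun k hk => ?_
      obtain ⟨p, hp, hp1⟩ := hpos k hk
      have he : support₂ u = support₂ c :=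
        Finset.eq_of_subset_of_card_le hsub (by rw [hcard, ← hammingNorm_eq_card, h])
      have : u p = 1 := by rw [← mem_support₂, he, mem_support₂, hp1]
      rw [hu, hp, hp1, mul_one] at this
      exact this)
  obtain ⟨y', hy', hred⟩ := S.step hd v y hy hdot
  obtain ⟨hc', h4'⟩ := even_props hy'
  have hw := S.weight_flip c (red2 y') a (fun i => by
    rw [hred, hdb (S.lab i)]; refine congrArg₂ (· + ·) rfl ?_; rw [add_left_comm, CharTwo.add_self_eq_zero, add_zero])
  have hn_eq : ∀ k, n k = if k = 0 then 4 else if k = k0 then 0 else 2 := fun k => by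
    split_ifs with h h'
    · rw [h, hn0]
    · rw [h', hk0n]
    · exact hother k h h'
  have hval : hammingNorm (red2 y') = 8 ∨ hammingNorm (red2 y') = 16 := by
    rw [hw]
    simp only [show ∀ k, S.num c k = if k = 0 then 4 else if k = k0 then 0 else 2 from hn_eq, ha]
    clear_value α
    clear * - hk00 hkb0 hkbk
    revert α k0 kb
    decide +kernel
  refine Reach.of_smul (signCo0 d hd) (Reach.of_smul S.xi ?_)
  rcases hval with h | h
  · exact reach_eight _ (by rw [sqNorm_smul, sqNorm_smul, hn]) y' hy' hc' h4' h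
  · exact reach_sixteen _ (by rw [sqNorm_smul, sqNorm_smul, hn]) y' hy' h

/-- vectors with even entries -/
theorem reach_even (v : leechLattice) (hn : sqNorm (v : GolayPt → ℤ) = 64) (y : GolayPt → ℤ)
    (hy : ∀ i, (v : GolayPt → ℤ) i = 2 * y i) : Reach v := by
  obtain ⟨hc, h4⟩ := even_props hy
  rcases weights hc with h | h | h | h | h
  · exact reach_zero v hn y hy fun i => congrFun (hammingNorm_eq_zero.1 h) i
  · exact reach_eight v hn y hy hc h4 h
  · exact reach_twelve v hn y hy h
  · exact reach_sixteen v hn y hy h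
  · exfalso
    have hle := (card_le_sum_odd y).1
    rw [← hammingNorm_eq_card, h] at hle
    have hsplit := sum_sq_split y
    have hnn : (0 : ℤ) ≤ ∑ i ∈ (support₂ (red2 y))ᶜ, y i ^ 2 :=
      Finset.sum_nonneg fun i _ => sq_nonneg _
    have : sqNorm (v : GolayPt → ℤ) = 4 * ∑ i, y i ^ 2 := by
      rw [sqNorm, Finset.mul_sum]
      exact Finset.sum_congr rfl fun i _ => by rw [hy i]; ring
    omega

/-- every vector of squared length 64 is moved into the standard frame -/
theorem reach (v : leechLattice) (hn : sqNorm (v : GolayPt → ℤ) = 64) : Reach v := by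
  by_cases he : (2 : ℤ) ∣ (v : GolayPt → ℤ) none
  · obtain ⟨y, hy, -, -⟩ := even_form v.2 he
    exact reach_even v hn y hy
  obtain ⟨m, y, hy, -, hc⟩ := mem_lattice_iff.1 v.2
  have hm : ¬ (2 : ℤ) ∣ m := by have := hy none; omega
  obtain ⟨S⟩ : Nonempty Sextet := by
    obtain ⟨T, -, hT⟩ := Finset.exists_subset_card_eq (s := (Finset.univ : Finset GolayPt)) (n := 4)
      (by rw [Finset.card_univ, card_golayPt]; norm_num)
    obtain ⟨S, -⟩ := exists_sextet T hT
    exact ⟨S⟩
  obtain ⟨d0, hd0, hd1⟩ := exists_unit_dot (S.tet_not_mem 0)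
  set d := red2 y + d0 with hddef
  have hd : d ∈ golayCode := add_mem hc hd0
  set y1 : GolayPt → ℤ := fun i => if d i = 0 then y i else -y i - m with hy1
  have hy1v : ∀ i, ((signCo0 d hd • v : leechLattice) : GolayPt → ℤ) i = m + 2 * y1 i := fun i => by
    rw [signCo0_apply]
    simp only [negOn, hy1, hy i]
    split_ifs <;> ring
  have hred : red2 y1 = d0 := by
    funext i
    have hm1 : (m : ZMod 2) = 1 := (zmod2_cases _).resolve_left fun h =>
      hm ((ZMod.intCast_zmod_eq_zero_iff_dvd _ 2).1 h)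
    have e : red2 y1 i = red2 y i + d i := by
      have hneg : ∀ a : ZMod 2, -a = a := by decide
      simp only [red2, hy1]
      rcases zmod2_cases (d i) with h | h <;> simp [h, hm1, sub_eq_add_neg, hneg]
    rw [e, hddef, Pi.add_apply, ← add_assoc, CharTwo.add_self_eq_zero, zero_add]
  have hp : ∀ k, (2 : ℤ) ∣ S.tsum y1 k - 1 := fun k => by
    refine (ZMod.intCast_zmod_eq_zero_iff_dvd _ 2).1 ?_
    rw [Int.cast_sub, S.tsum_cast, hred, S.dot_tet hd0, hd1]
    simp
  obtain ⟨y', hy', -⟩ := S.xi_form _ m 1 y1 hy1v hp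
  refine Reach.of_smul (signCo0 d hd) (Reach.of_smul S.xi ?_)
  obtain ⟨z, hz, -, -⟩ := even_form (S.xi • signCo0 d hd • v).2 (by
    rw [S.xi_apply, hy']; omega)
  exact reach_even _ (by rw [sqNorm_smul, sqNorm_smul, hn]) z hz

/-- two squared length 64 vectors have images congruent modulo twice the lattice -/
theorem stdCross_congr {a b : GolayPt → ℤ} (ha : a ∈ stdCross) (hb : b ∈ stdCross) :
    ∃ z ∈ leechLattice, a - b = 2 • z := by
  obtain ⟨i, s, hs, rfl⟩ := ha
  obtain ⟨j, t, ht, rfl⟩ := hb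
  obtain ⟨s', rfl⟩ : ∃ q, s = 8 * q := by rcases hs with rfl | rfl; exacts [⟨1, rfl⟩, ⟨-1, rfl⟩]
  obtain ⟨t', rfl⟩ : ∃ q, t = 8 * q := by rcases ht with rfl | rfl; exacts [⟨1, rfl⟩, ⟨-1, rfl⟩]
  refine ⟨fun p => 4 * (Pi.single i s' - Pi.single j t' : GolayPt → ℤ) p,
    quarter_mem leechLattice (fun k _ => pm_mem k) _ ?_, funext fun p => ?_⟩
  · rw [show (∑ p, (Pi.single i s' - Pi.single j t' : GolayPt → ℤ) p) = s' - t' by
      simp [Finset.sum_sub_distrib, -Fintype.sum_option]]
    omega
  · simp only [Pi.smul_apply, Pi.sub_apply, Pi.single_apply, nsmul_eq_mul, Nat.cast_ofNat]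
    split_ifs <;> ring

end Cfsg.Agent.Leech
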