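import Mathlib
import Cfsg.Prelude.Def_Sporadic_a
import Cfsg.Agent.Leech.Code
import Cfsg.Agent.Leech.AbstractCode
import Cfsg.Agent.Leech.Steiner
import Cfsg.Agent.Leech.Punctured
import Cfsg.Agent.Leech.Lattice
import Cfsg.Agent.Leech.Generators
import Cfsg.Agent.Leech.Sextet
import Cfsg.Agent.Leech.Transitive

/-! Counting lattice vectors of given squared length. -/

set_option autoImplicit false

namespace Cfsg.Agent.Leech
open Cfsg

/-! ### a table for constrained tuples -/

def tval (T : List (List ℕ)) (n j : ℕ) : ℕ := (T.getD n []).getD j 0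

def tstep (N : ℕ) (cost res : ℤ → ℕ) (l : List ℤ) (T : List (List ℕ)) : List (List ℕ) :=
  (List.range (N + 1)).map fun n => (List.range 4).map fun j =>
    (l.map fun a => if cost a ≤ n then tval T (n - cost a) ((j + 4 - res a % 4) % 4) else 0).sum

def tinit (N : ℕ) : List (List ℕ) :=
  (List.range (N + 1)).map fun n => (List.range 4).map fun j => if n = 0 ∧ j = 0 then 1 else 0

def table (N : ℕ) (cost res : ℤ → ℕ) : List (List ℤ) → List (List ℕ)
  | [] => tinit N
  | l :: t => tstep N cost res l (table N cost res t)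

theorem tval_map (N : ℕ) (f : ℕ → ℕ → ℕ) {n j : ℕ} (hn : n ≤ N) (hj : j < 4) :
    tval ((List.range (N + 1)).map fun n => (List.range 4).map fun j => f n j) n j = f n j := by
  simp [tval, List.getD_eq_getElem?_getD, Nat.lt_succ_of_le hn, hj]

theorem table_spec (N : ℕ) (cost res : ℤ → ℕ) : ∀ {m : ℕ} (A : Fin m → List ℤ),
    (∀ i, (A i).Nodup) → ∀ n j, n ≤ N → j < 4 →
      tval (table N cost res (List.ofFn A)) n j =
        ((Fintype.piFinset fun i => (A i).toFinset).filter fun p =>
          ∑ i, cost (p i) = n ∧ (∑ i, res (p i)) % 4 = j).card := by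
  intro m
  induction m with
  | zero =>
    intro A _ n j hn hj
    rw [List.ofFn_zero, table, tinit, tval_map N _ hn hj]
    split_ifs with h
    · obtain ⟨rfl, rfl⟩ := h; simp [Finset.filter_singleton]
    · rw [eq_comm, Finset.card_eq_zero, Finset.filter_eq_empty_iff]
      intro p _ hp
      simp at hp
      exact h ⟨hp.1.symm, hp.2.symm⟩
  | succ m ih =>
    intro A hA n j hn hj
    rw [List.ofFn_succ, table, tstep, tval_map N _ hn hj, ← List.sum_toFinset _ (hA 0)]
    have hrhs : ((Fintype.piFinset fun i => (A i).toFinset).filter fun p =>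
        ∑ i, cost (p i) = n ∧ (∑ i, res (p i)) % 4 = j).card =
        ((((A 0).toFinset).sigma fun a => (Fintype.piFinset fun i : Fin m => (A i.succ).toFinset).filter
          fun q => cost a + ∑ i, cost (q i) = n ∧ (res a + ∑ i, res (q i)) % 4 = j)).card := by
      refine Finset.card_bij' (fun p _ => ⟨p 0, Fin.tail p⟩) (fun s _ => Fin.cons s.1 s.2) ?_ ?_ ?_ ?_
      · intro p hp
        simp only [Finset.mem_filter, Fintype.mem_piFinset, Fin.sum_univ_succ] at hp
        simp only [Finset.mem_sigma, Finset.mem_filter, Fintype.mem_piFinset, Fin.tail]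
        exact ⟨hp.1 0, fun i => hp.1 i.succ, hp.2⟩
      · rintro ⟨a, q⟩ hs
        simp only [Finset.mem_sigma, Finset.mem_filter, Fintype.mem_piFinset] at hs
        simp only [Finset.mem_filter, Fintype.mem_piFinset, Fin.sum_univ_succ, Fin.cons_zero,
          Fin.cons_succ]
        exact ⟨fun i => Fin.cases (by simpa using hs.1) (fun k => by simpa using hs.2.1 k) i, hs.2.2⟩
      · intro p _
        exact Fin.cons_self_tail p
      · rintro ⟨a, q⟩ _
        simp
    rw [hrhs, Finset.card_sigma]
    refine Finset.sum_congr rfl fun a _ => ?_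
    split_ifs with hle
    · rw [ih _ (fun i => hA i.succ) _ _ (by omega) (Nat.mod_lt _ (by norm_num))]
      congr 1
      refine Finset.filter_congr fun q _ => ?_
      omega
    · rw [eq_comm, Finset.card_eq_zero, Finset.filter_eq_empty_iff]
      intro q _ hq
      omega

/-- tuples indexed by the points: odd kind on a set, even kind off it -/
theorem count_two (N : ℕ) (cost res : ℤ → ℕ) (la lb : List ℤ) (ha : la.Nodup) (hb : lb.Nodup)
    (P : Finset GolayPt) (n j : ℕ) (hn : n ≤ N) (hj : j < 4) :
    {p : GolayPt → ℤ | (∀ i, p i ∈ (if i ∈ P then la else lb)) ∧ ∑ i, cost (p i) = n ∧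
      (∑ i, res (p i)) % 4 = j}.ncard =
      tval (table N cost res
        (List.ofFn fun i : Fin 24 => if i.val < P.card then la else lb)) n j := by
  classical
  set w := P.card with hw
  have hw24 : w ≤ 24 := card_golayPt ▸ Finset.card_le_univ P
  let A : Fin 24 → List ℤ := fun i => if i.val < w then la else lb
  obtain ⟨e, he⟩ : ∃ e : Fin 24 ≃ GolayPt, ∀ i, e i ∈ P ↔ i.val < w := by
    have h1 : Fintype.card {i : Fin 24 // i.val < w} = Fintype.card {q : GolayPt // q ∈ P} := by
      rw [Fintype.card_fin_lt_of_le hw24, Fintype.card_coe]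
    have h2 : Fintype.card {i : Fin 24 // ¬ i.val < w} = Fintype.card {q : GolayPt // ¬ q ∈ P} := by
      rw [Fintype.card_subtype_compl, Fintype.card_subtype_compl, h1, Fintype.card_fin, card_golayPt]
    refine ⟨(Equiv.sumCompl fun i : Fin 24 => i.val < w).symm.trans
      (((Fintype.equivOfCardEq h1).sumCongr (Fintype.equivOfCardEq h2)).trans
        (Equiv.sumCompl fun q : GolayPt => q ∈ P)), fun i => ?_⟩
    by_cases hi : i.val < w
    · simp only [Equiv.trans_apply, hi, iff_true]
      rw [Equiv.sumCompl_symm_apply_of_pos (p := fun i : Fin 24 => i.val < w) hi]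
      exact ((Fintype.equivOfCardEq h1) ⟨i, hi⟩).2
    · simp only [Equiv.trans_apply, hi, iff_false]
      rw [Equiv.sumCompl_symm_apply_of_neg (p := fun i : Fin 24 => i.val < w) hi]
      exact ((Fintype.equivOfCardEq h2) ⟨i, hi⟩).2
  rw [table_spec N cost res A (fun i => by simp only [A]; split_ifs <;> assumption) n j hn hj]
  rw [← Set.ncard_coe_finset]
  refine Set.ncard_congr (fun p _ => p ∘ e) ?_ ?_ ?_
  · rintro p ⟨h1, h2, h3⟩
    simp only [Finset.coe_filter, Set.mem_setOf_eq, Fintype.mem_piFinset, List.mem_toFinset,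
      Function.comp_apply]
    refine ⟨fun i => ?_, ?_, ?_⟩
    · have := h1 (e i)
      simp only [he] at this
      exact this
    · rw [← h2]; exact Equiv.sum_comp e fun q => cost (p q)
    · rw [← h3]; exact congrArg (· % 4) (Equiv.sum_comp e fun q => res (p q))
  · intro p q _ _ h
    funext i
    simpa using congrFun h (e.symm i)
  · intro q hq
    simp only [Finset.coe_filter, Set.mem_setOf_eq, Fintype.mem_piFinset, List.mem_toFinset] at hq
    refine ⟨q ∘ e.symm, ⟨fun i => ?_, ?_, ?_⟩, funext fun i => by simp⟩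
    · have h := hq.1 (e.symm i)
      have h' := he (e.symm i)
      rw [Equiv.apply_symm_apply] at h'
      simp only [A] at h
      simp only [h', Function.comp_apply]
      exact h
    · rw [← hq.2.1]; exact Equiv.sum_comp e.symm fun i => cost (q i)
    · rw [← hq.2.2]; exact congrArg (· % 4) (Equiv.sum_comp e.symm fun i => res (q i))

/-! ### the weight distribution -/

theorem card_octadWords : {c : GolayPt → ZMod 2 | c ∈ golayCode ∧ hammingNorm c = 8}.ncard = 759 := by
  classical
  have hB := steiner golayCode card_golayPt finrank_golayCode orth_golay min_golay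
  set B := wordsOfWeight (golayCode : Set (GolayPt → ZMod 2)) 8 with hBdef
  set Bf : Finset (Finset GolayPt) := Finset.univ.filter fun b => b ∈ B with hBf
  have h := lam_mul hB Bf (fun b => by simp [hBf]) ∅ (by simp)
  simp only [Finset.empty_subset, Finset.filter_true, Finset.card_empty, Nat.sub_zero,
    card_golayPt] at h
  have h759 : Bf.card = 759 := by
    have e1 : Nat.choose 8 5 = 56 := by decide
    have e2 : Nat.choose 24 5 = 42504 := by decide
    rw [e1, e2] at h
    omega
  rw [← h759, ← Set.ncard_coe_finset]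
  refine Set.ncard_congr (fun c _ => support₂ c) (fun c hc => ?_)
    (fun a b _ _ h => support₂_injective h) (fun b hb => ?_)
  · simp only [hBf, Finset.coe_filter, Finset.mem_univ, true_and, Set.mem_setOf_eq]
    exact ⟨(mem_supports_iff c).2 hc.1, by rw [← hammingNorm_eq_card]; exact hc.2⟩
  · simp only [hBf, Finset.coe_filter, Finset.mem_univ, true_and, Set.mem_setOf_eq] at hb
    obtain ⟨⟨c, hc, rfl⟩, h8⟩ := hb
    exact ⟨c, ⟨hc, by rw [hammingNorm_eq_card]; exact h8⟩, rfl⟩

/-- sums over the code of a function of the weight -/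
theorem sum_code (f : ℕ → ℕ) :
    ∑ n : Fin 4096, f (hammingNorm (enum n)) =
      f 0 + 759 * f 8 + 2576 * f 12 + 759 * f 16 + f 24 := by
  classical
  let W : ℕ → Finset (Fin 4096) := fun w => Finset.univ.filter fun n => hammingNorm (enum n) = w
  have hW : ∀ w, (W w).card = {c : GolayPt → ZMod 2 | c ∈ golayCode ∧ hammingNorm c = w}.ncard := by
    intro w
    rw [← Set.ncard_coe_finset]
    refine Set.ncard_congr (fun n _ => enum n) (fun n hn => ⟨enum_mem n, by simpa [W] using hn⟩)
      (fun a b _ _ h => enum_injective h) (fun c hc => ?_)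
    obtain ⟨n, rfl⟩ := exists_enum hc.1
    exact ⟨n, by simpa [W] using hc.2, rfl⟩
  have hcompl : ∀ c : GolayPt → ZMod 2, hammingNorm (c + 1) + hammingNorm c = 24 := by
    intro c
    have h := weight_add c 1
    have h1 : support₂ (1 : GolayPt → ZMod 2) = Finset.univ := by ext i; simp [mem_support₂]
    rw [hammingNorm_eq_card (1 : GolayPt → ZMod 2), h1, Finset.inter_univ, Finset.card_univ,
      card_golayPt, ← hammingNorm_eq_card] at h
    omega
  have hflip : ∀ w v, w + v = 24 → (W w).card = (W v).card := by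
    intro w v hwv
    rw [hW, hW]
    refine Set.ncard_congr (fun c _ => c + 1) (fun c hc => ⟨add_mem hc.1 one_mem, ?_⟩)
      (fun a b _ _ h => add_right_cancel h)
      (fun c hc => ⟨c + 1, ⟨add_mem hc.1 one_mem, ?_⟩, ?_⟩)
    · have := hcompl c; have := hc.2; omega
    · have := hcompl c; have := hc.2; omega
    · rw [add_assoc, ← two_nsmul]; funext i; simp [show (2 : ZMod 2) = 0 from rfl]
  have h0 : (W 0).card = 1 := by
    rw [hW, Set.ncard_eq_one]
    refine ⟨0, Set.ext fun c => ?_⟩
    simp only [Set.mem_setOf_eq, Set.mem_singleton_iff, hammingNorm_eq_zero]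
    exact ⟨fun h => h.2, fun h => ⟨h ▸ zero_mem _, h⟩⟩
  have h8 : (W 8).card = 759 := (hW 8).trans card_octadWords
  have hmem : ∀ n : Fin 4096, hammingNorm (enum n) ∈ ({0, 8, 12, 16, 24} : Finset ℕ) := fun n => by
    rcases weights (enum_mem n) with h | h | h | h | h <;> rw [h] <;> decide
  have hsplit : ∀ g : ℕ → ℕ, ∑ n : Fin 4096, g (hammingNorm (enum n)) =
      (W 0).card * g 0 + (W 8).card * g 8 + (W 12).card * g 12 + (W 16).card * g 16 +
        (W 24).card * g 24 := by
    intro g
    rw [← Finset.sum_fiberwise_of_maps_to (fun n _ => hmem n)]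
    have : ∀ w, (∑ n : Fin 4096 with hammingNorm (enum n) = w, g (hammingNorm (enum n))) =
        (W w).card * g w := fun w => by
      rw [Finset.sum_const_nat (m := g w) fun n hn => by rw [(Finset.mem_filter.1 hn).2]]
    rw [Finset.sum_congr rfl fun w _ => this w]
    simp [add_assoc]
  have htot := hsplit fun _ => 1
  simp only [Finset.sum_const, Finset.card_univ, Fintype.card_fin, smul_eq_mul, mul_one] at htot
  rw [hflip 16 8 rfl, hflip 24 0 rfl, h0, h8] at htot
  have h12 : (W 12).card = 2576 := by omega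
  rw [hsplit, hflip 16 8 rfl, hflip 24 0 rfl, h0, h8, h12]
  ring

/-! ### even and odd vectors -/

def sqCost (a : ℤ) : ℕ := (a ^ 2).toNat
def res4 (a : ℤ) : ℕ := (a % 4).toNat
def oddCost (a : ℤ) : ℕ := (a * (2 * a + 1)).toNat

theorem cast_sum_toNat {ι : Type*} (s : Finset ι) (f : ι → ℤ) (hf : ∀ i, 0 ≤ f i) :
    ((∑ i ∈ s, (f i).toNat : ℕ) : ℤ) = ∑ i ∈ s, f i := by
  rw [Nat.cast_sum]
  exact Finset.sum_congr rfl fun i _ => Int.toNat_of_nonneg (hf i)

theorem sum_res4 (p : GolayPt → ℤ) (j : ℕ) (hj : j < 4) :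
    (∑ i, res4 (p i)) % 4 = j ↔ (4 : ℤ) ∣ (∑ i, p i) - j := by
  have h1 : ((∑ i, res4 (p i) : ℕ) : ℤ) = ∑ i, p i % 4 :=
    cast_sum_toNat _ _ fun i => Int.emod_nonneg _ (by norm_num)
  have h2 : (4 : ℤ) ∣ ∑ i, p i - ∑ i, p i % 4 := by
    rw [← Finset.sum_sub_distrib]
    exact Finset.dvd_sum fun i _ => Int.dvd_self_sub_emod
  omega

/-- even vectors with allowed half-values -/
def evenSet (N : ℕ) (la lb : List ℤ) : Set (GolayPt → ℤ) :=
  {x | x ∈ leechLattice ∧ sqNorm x = 4 * (N : ℤ) ∧
    ∀ i, ∃ a : ℤ, (a ∈ la ∨ a ∈ lb) ∧ x i = 2 * a}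

def evenVal (N : ℕ) (la lb : List ℤ) (w : ℕ) : ℕ :=
  tval (table N sqCost res4 (List.ofFn fun i : Fin 24 => if i.val < w then la else lb)) N 0

theorem ncard_evenSet (N : ℕ) (la lb : List ℤ) (ha : la.Nodup) (hb : lb.Nodup)
    (hla : ∀ a ∈ la, ¬ (2 : ℤ) ∣ a) (hlb : ∀ a ∈ lb, (2 : ℤ) ∣ a) :
    (evenSet N la lb).ncard = evenVal N la lb 0 + 759 * evenVal N la lb 8 +
      2576 * evenVal N la lb 12 + 759 * evenVal N la lb 16 + evenVal N la lb 24 ∧
    (evenSet N la lb).Finite := by
  classical
  let part : Fin 4096 → Set (GolayPt → ℤ) := fun n =>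
    {p : GolayPt → ℤ | (∀ i, p i ∈ (if i ∈ support₂ (enum n) then la else lb)) ∧
      ∑ i, sqCost (p i) = N ∧ (∑ i, res4 (p i)) % 4 = 0}
  have hpart : ∀ n, (part n).ncard = evenVal N la lb (hammingNorm (enum n)) := fun n => by
    rw [hammingNorm_eq_card]
    exact count_two N sqCost res4 la lb ha hb _ N 0 le_rfl (by norm_num)
  have hfin : ∀ n, (part n).Finite := fun n => by
    refine Set.Finite.subset (Fintype.piFinset fun i : GolayPt =>
      (la ++ lb).toFinset).finite_toSet fun p hp => ?_
    simp only [Finset.mem_coe, Fintype.mem_piFinset, List.mem_toFinset, List.mem_append]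
    intro i
    have := hp.1 i
    split_ifs at this
    · exact Or.inl this
    · exact Or.inr this
  have hred : ∀ n p, p ∈ part n → red2 p = enum n := by
    intro n p hp
    funext i
    have h := hp.1 i
    split_ifs at h with hi
    · rw [mem_support₂] at hi
      rw [hi]
      exact (zmod2_cases _).resolve_left fun h' =>
        hla _ h ((ZMod.intCast_zmod_eq_zero_iff_dvd _ 2).1 h')
    · rw [mem_support₂] at hi
      rw [(zmod2_cases _).resolve_right hi]
      exact (ZMod.intCast_zmod_eq_zero_iff_dvd _ 2).2 (hlb _ h)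
  have hset : evenSet N la lb = (fun p i => 2 * p i) '' ⋃ n, part n := by
    ext x
    constructor
    · rintro ⟨hx, hN, hv⟩
      choose p hp hxp using hv
      have h2 : ∀ i, ((⟨x, hx⟩ : leechLattice) : GolayPt → ℤ) i = 2 * p i := hxp
      obtain ⟨hc, h4⟩ := even_props h2
      obtain ⟨n, hn⟩ := exists_enum hc
      refine ⟨p, Set.mem_iUnion.2 ⟨n, fun i => ?_, ?_, ?_⟩, funext fun i => (hxp i).symm⟩
      · rw [hn]
        split_ifs with hi
        · exact (hp i).resolve_right fun h => (support₂_red2' p i).1 hi (hlb _ h)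
        · exact (hp i).resolve_left fun h => hi ((support₂_red2' p i).2 (hla _ h))
      · have h1 : ((∑ i, sqCost (p i) : ℕ) : ℤ) = ∑ i, p i ^ 2 :=
          cast_sum_toNat _ _ fun i => sq_nonneg _
        have h3 : sqNorm x = 4 * ∑ i, p i ^ 2 := by
          rw [sqNorm, Finset.mul_sum]
          exact Finset.sum_congr rfl fun i _ => by rw [hxp i]; ring
        omega
      · rw [sum_res4 p 0 (by norm_num)]; simpa using h4
    · rintro ⟨p, hp, rfl⟩
      obtain ⟨n, hn⟩ := Set.mem_iUnion.1 hp
      have hr := hred n p hn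
      obtain ⟨h1, h2, h3⟩ := hn
      rw [sum_res4 p 0 (by norm_num)] at h3
      refine ⟨mem_lattice_iff.2 ⟨0, p, fun i => by ring, ?_, ?_⟩, ?_, fun i => ⟨p i, ?_, rfl⟩⟩
      · simp only [← Finset.mul_sum, Nat.cast_zero, sub_zero] at h3 ⊢
        omega
      · rw [hr]; exact enum_mem n
      · have h1' : ((∑ i, sqCost (p i) : ℕ) : ℤ) = ∑ i, p i ^ 2 :=
          cast_sum_toNat _ _ fun i => sq_nonneg _
        rw [sqNorm, ← h2, h1', Finset.mul_sum]
        exact Finset.sum_congr rfl fun i _ => by ring
      · have := h1 i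
        split_ifs at this
        · exact Or.inl this
        · exact Or.inr this
  have hinj : Function.Injective fun (p : GolayPt → ℤ) (i : GolayPt) => 2 * p i := fun a b h =>
    funext fun i => by have := congrFun h i; simp only at this; omega
  refine ⟨?_, hset ▸ (Set.finite_iUnion hfin).image _⟩
  rw [hset, Set.ncard_image_of_injective _ hinj,
    Set.ncard_iUnion_of_finite hfin, finsum_eq_sum_of_fintype,
    Finset.sum_congr rfl fun n _ => hpart n, sum_code]
  intro m n hmn
  rw [Function.onFun, Set.disjoint_left]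
  exact fun p hm hn => hmn (enum_injective ((hred m p hm).symm.trans (hred n p hn)))

/-- odd vectors, normalised to entries congruent to one modulo four -/
def oddSet (n : ℕ) (lk : List ℤ) : Set (GolayPt → ℤ) :=
  {x | x ∈ leechLattice ∧ sqNorm x = 24 + 8 * (n : ℤ) ∧
    ∀ i, ∃ k ∈ lk, x i = 1 + 4 * k ∨ x i = -(1 + 4 * k)}

def oddVal (n : ℕ) (lk : List ℤ) : ℕ :=
  tval (table n oddCost res4 (List.ofFn fun _ : Fin 24 => lk)) n 1 +
    tval (table n oddCost res4 (List.ofFn fun _ : Fin 24 => lk)) n 3

theorem ncard_oddSet (n : ℕ) (lk : List ℤ) (hk : lk.Nodup) :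
    (oddSet n lk).ncard = 4096 * oddVal n lk ∧ (oddSet n lk).Finite := by
  classical
  let part : ℕ → Set (GolayPt → ℤ) := fun j =>
    {p : GolayPt → ℤ | (∀ i, p i ∈ (if i ∈ (Finset.univ : Finset GolayPt) then lk else lk)) ∧
      ∑ i, oddCost (p i) = n ∧ (∑ i, res4 (p i)) % 4 = j}
  have hfin : ∀ j, (part j).Finite := fun j => by
    refine Set.Finite.subset (Fintype.piFinset fun i : GolayPt => lk.toFinset).finite_toSet
      fun p hp => ?_
    simp only [Finset.mem_coe, Fintype.mem_piFinset, List.mem_toFinset]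
    intro i; simpa using hp.1 i
  have hpart : ∀ j, j < 4 → (part j).ncard =
      tval (table n oddCost res4 (List.ofFn fun _ : Fin 24 => lk)) n j := fun j hj => by
    refine (count_two n oddCost res4 lk lk hk hk Finset.univ n j le_rfl hj).trans ?_
    simp only [ite_self]
  set F : Fin 4096 × (GolayPt → ℤ) → (GolayPt → ℤ) :=
    fun cp => negOn (enum cp.1) fun i => 1 + 4 * cp.2 i with hF
  have hc3 : ∀ (c : GolayPt → ZMod 2) (p : GolayPt → ℤ) i,
      (c i = 0 ↔ (4 : ℤ) ∣ negOn c (fun i => 1 + 4 * p i) i - 1) := fun c p i => by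
    simp only [negOn]
    split_ifs with h <;> simp [h] <;> omega
  have hFinj : Function.Injective F := by
    rintro ⟨a, p⟩ ⟨b, q⟩ h
    simp only [hF] at h
    have hab : enum a = enum b := by
      funext i
      have h1 := hc3 (enum a) p i
      rw [h, ← hc3] at h1
      rcases zmod2_cases (enum a i) with e1 | e1 <;> rcases zmod2_cases (enum b i) with e2 | e2 <;>
        simp [e1, e2] at h1 ⊢
    obtain rfl := enum_injective hab
    refine Prod.ext rfl (funext fun i => ?_)
    have := congrFun (congrArg (negOn (enum a)) h) i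
    rw [negOn_negOn, negOn_negOn] at this
    show p i = q i
    omega
  have hcost : ∀ a : ℤ, 0 ≤ a * (2 * a + 1) := fun a => by
    rcases le_or_gt 0 a with h | h
    · positivity
    · exact (mul_pos_of_neg_of_neg h (by omega)).le
  have hnorm : ∀ p : GolayPt → ℤ,
      sqNorm (fun i => 1 + 4 * p i) = 24 + 8 * ((∑ i, oddCost (p i) : ℕ) : ℤ) := fun p => by
    have hcs : ((∑ i, oddCost (p i) : ℕ) : ℤ) = ∑ i, p i * (2 * p i + 1) :=
      cast_sum_toNat _ _ fun i => hcost _
    rw [hcs, sqNorm, show (24 : ℤ) = ∑ _i : GolayPt, (1 : ℤ) from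
      ((sum_golayPt_const 1).trans (by norm_num)).symm,
      Finset.mul_sum, ← Finset.sum_add_distrib]
    exact Finset.sum_congr rfl fun i _ => by ring
  have hsum : ∀ p : GolayPt → ℤ, ∑ i, (1 + 4 * p i) = 24 + 4 * ∑ i, p i := fun p => by
    rw [Finset.sum_add_distrib, sum_golayPt_const, Finset.mul_sum]; ring
  have hset : oddSet n lk = F '' (Set.univ ×ˢ (part 1 ∪ part 3)) := by
    ext x
    constructor
    · rintro ⟨hx, hN, hv⟩
      obtain ⟨m, y, hy, -, hc⟩ := mem_lattice_iff.1 hx
      obtain ⟨r, rfl⟩ : ∃ r, m = 1 + 2 * r := by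
        obtain ⟨k, -, hk'⟩ := hv none
        have := hy none
        exact ⟨(m - 1) / 2, by omega⟩
      set c : GolayPt → ZMod 2 := red2 y + (r : ZMod 2) • 1 with hcdef
      have hcm : c ∈ golayCode := add_mem hc (Submodule.smul_mem _ _ one_mem)
      have hci : ∀ i, c i = ((y i + r : ℤ) : ZMod 2) := fun i => by simp [hcdef, red2]
      obtain ⟨a, ha⟩ := exists_enum hcm
      have hx' : ∀ i, (4 : ℤ) ∣ negOn c x i - 1 := fun i => by
        have := hy i
        simp only [negOn, hci, ZMod.intCast_zmod_eq_zero_iff_dvd]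
        split_ifs with h <;> simp only [Nat.cast_ofNat] at h <;> omega
      set p : GolayPt → ℤ := fun i => (negOn c x i - 1) / 4 with hp
      have hxp : (fun i => 1 + 4 * p i) = negOn c x := funext fun i => by
        simp only [hp]; have := hx' i; omega
      have hmem : negOn c x ∈ leechLattice := negOn_mem hcm hx
      refine ⟨(a, p), ⟨Set.mem_univ _, ?_⟩, ?_⟩
      · have hpk : ∀ i, p i ∈ lk := fun i => by
          obtain ⟨k, hk1, hk2⟩ := hv i
          have h1 := congrFun hxp i
          have h2 := hx' i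
          simp only [negOn] at h1 h2
          have : p i = k := by split_ifs at h1 h2 <;> omega
          rwa [this]
        have hpn : ∑ i, oddCost (p i) = n := by
          have := hnorm p
          rw [hxp, sqNorm_negOn, hN] at this
          omega
        obtain ⟨m', y', hy', hs', -⟩ := mem_lattice_iff.1 hmem
        have hsum4 : ∑ i, negOn c x i = 24 + 4 * ∑ i, p i := by
          rw [← hsum p]; exact Finset.sum_congr rfl fun i _ => (congrFun hxp i).symm
        have hexp : ∑ i, negOn c x i = 24 * m' + 2 * ∑ i, y' i := by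
          simp only [hy', Finset.sum_add_distrib, sum_golayPt_const, Finset.mul_sum]
        have hm' : (2 : ℤ) ∣ m' - 1 := by have := hy' none; have := hx' none; omega
        have hres : ¬ (2 : ℤ) ∣ ∑ i, p i := by omega
        have h4 : (∑ i, res4 (p i)) % 4 = 1 ∨ (∑ i, res4 (p i)) % 4 = 3 := by
          rw [sum_res4 p 1 (by norm_num), sum_res4 p 3 (by norm_num)]
          push_cast
          omega
        rcases h4 with h4 | h4
        · exact Or.inl ⟨fun i => by rw [ite_self]; exact hpk i, hpn, h4⟩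
        · exact Or.inr ⟨fun i => by rw [ite_self]; exact hpk i, hpn, h4⟩
      · simp only [hF]
        rw [ha, hxp, negOn_negOn]
    · rintro ⟨⟨a, p⟩, ⟨-, hp⟩, rfl⟩
      simp only [hF]
      have hodd : ¬ (2 : ℤ) ∣ ∑ i, p i := by
        rcases hp with ⟨-, -, h⟩ | ⟨-, -, h⟩ <;> rw [sum_res4 p _ (by norm_num)] at h <;>
          push_cast at h <;> omega
      refine ⟨negOn_mem (enum_mem a) (mem_lattice_iff.2 ⟨1, fun i => 2 * p i, fun i => by ring, ?_, ?_⟩),
        ?_, fun i => ?_⟩
      · rw [hsum]; omega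
      · convert zero_mem golayCode using 1
        funext i
        simp [red2, show (2 : ZMod 2) = 0 from rfl]
      · rw [sqNorm_negOn, hnorm]
        rcases hp with ⟨-, h, -⟩ | ⟨-, h, -⟩ <;> rw [h]
      · refine ⟨p i, ?_, ?_⟩
        · rcases hp with ⟨h, -, -⟩ | ⟨h, -, -⟩ <;> simpa using h i
        · simp only [negOn]; split_ifs <;> simp
  refine ⟨?_, hset ▸ (Set.finite_univ.prod ((hfin 1).union (hfin 3))).image _⟩
  rw [hset, Set.ncard_image_of_injective _ hFinj, Set.ncard_prod, Set.ncard_univ, Nat.card_fin,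
    Set.ncard_union_eq ?_ (hfin 1) (hfin 3), hpart 1 (by norm_num), hpart 3 (by norm_num), oddVal]
  rw [Set.disjoint_left]
  rintro p ⟨-, -, h1⟩ ⟨-, -, h3⟩
  omega

end Cfsg.Agent.Leech
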