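import Mathlib
import Cfsg.Prelude.Def_Sporadic_a
import Cfsg.Agent.Leech.Count

/-! The first coefficients of the theta series. -/

set_option autoImplicit false

namespace Cfsg.Agent.Leech
open Cfsg

def oddL : List ℤ := [-3, -1, 1, 3]
def evenL : List ℤ := [-4, -2, 0, 2, 4]
def oddK : List ℤ := [-1, 0, 1]

theorem sq_le_sqNorm (x : GolayPt → ℤ) (i : GolayPt) : x i ^ 2 ≤ sqNorm x := sq_le_sum x i

theorem norm_split (N n : ℕ) (hN : N ≤ 16) (hn : n ≤ 5) (hNn : 4 * N = 24 + 8 * n) :
    {x : GolayPt → ℤ | x ∈ leechLattice ∧ sqNorm x = 4 * (N : ℤ)} =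
      evenSet N oddL evenL ∪ oddSet n oddK ∧ Disjoint (evenSet N oddL evenL) (oddSet n oddK) := by
  constructor
  · ext x
    constructor
    · rintro ⟨hx, hxn⟩
      have hb : ∀ i, x i ^ 2 ≤ 64 := fun i => (sq_le_sqNorm x i).trans (by rw [hxn]; omega)
      by_cases he : (2 : ℤ) ∣ x none
      · obtain ⟨y, hy, -, -⟩ := even_form hx he
        refine Or.inl ⟨hx, hxn, fun i => ⟨y i, ?_, hy i⟩⟩
        have := hb i
        rw [hy i] at this
        have h1 : -4 ≤ y i ∧ y i ≤ 4 := by constructor <;> nlinarith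
        have h2 : y i = -4 ∨ y i = -3 ∨ y i = -2 ∨ y i = -1 ∨ y i = 0 ∨ y i = 1 ∨ y i = 2 ∨
            y i = 3 ∨ y i = 4 := by omega
        rcases h2 with h | h | h | h | h | h | h | h | h <;> simp [h, oddL, evenL]
      · refine Or.inr ⟨hx, by rw [hxn]; omega, fun i => ?_⟩
        obtain ⟨m, y, hy, -, -⟩ := mem_lattice_iff.1 hx
        have hodd : ¬ (2 : ℤ) ∣ x i := by have := hy i; have := hy none; omega
        -- the other coordinates contribute at least twenty three
        have hi : x i ^ 2 + 23 ≤ 64 := by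
          have h1 : ∀ j, (1 : ℤ) ≤ x j ^ 2 := fun j => by
            have := sq_pos_of_ne_zero (show x j ≠ 0 by
              have := hy j; have := hy none; omega)
            omega
          have h2 := Finset.add_sum_erase _ (fun j => x j ^ 2) (Finset.mem_univ i)
          have h3 : ((Finset.univ.erase i).card : ℤ) ≤ ∑ j ∈ Finset.univ.erase i, x j ^ 2 := by
            have := Finset.sum_le_sum (s := Finset.univ.erase i) fun j _ => h1 j
            simpa using this
          rw [Finset.card_erase_of_mem (Finset.mem_univ i), Finset.card_univ, card_golayPt] at h3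
          rw [sqNorm] at hxn
          push_cast at h3
          omega
        have h4 : -6 ≤ x i ∧ x i ≤ 6 := by constructor <;> nlinarith
        have h5 : x i = -5 ∨ x i = -3 ∨ x i = -1 ∨ x i = 1 ∨ x i = 3 ∨ x i = 5 := by omega
        rcases h5 with h | h | h | h | h | h <;> simp [h, oddK]
    · rintro (⟨hx, hxn, -⟩ | ⟨hx, hxn, -⟩)
      · exact ⟨hx, hxn⟩
      · exact ⟨hx, by rw [hxn]; omega⟩
  · rw [Set.disjoint_left]
    rintro x ⟨-, -, h⟩ ⟨-, -, h'⟩
    obtain ⟨a, -, ha⟩ := h none
    obtain ⟨k, -, hk⟩ := h' none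
    omega

theorem ncard_even (N : ℕ) :
    (evenSet N oddL evenL).ncard = evenVal N oddL evenL 0 + 759 * evenVal N oddL evenL 8 +
      2576 * evenVal N oddL evenL 12 + 759 * evenVal N oddL evenL 16 + evenVal N oddL evenL 24 ∧
    (evenSet N oddL evenL).Finite :=
  ncard_evenSet N oddL evenL (by decide) (by decide) (by decide) (by decide)

theorem ncard_norm (N n T : ℕ) (hN : N ≤ 16) (hn : n ≤ 5) (hNn : 4 * N = 24 + 8 * n)
    (hT : (evenVal N oddL evenL 0 + 759 * evenVal N oddL evenL 8 +
      2576 * evenVal N oddL evenL 12 + 759 * evenVal N oddL evenL 16 + evenVal N oddL evenL 24 +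
      4096 * oddVal n oddK == T) = true) :
    {x : GolayPt → ℤ | x ∈ leechLattice ∧ sqNorm x = 4 * (N : ℤ)}.ncard = T := by
  obtain ⟨he, hef⟩ := ncard_even N
  obtain ⟨ho, hof⟩ := ncard_oddSet n oddK (by decide)
  obtain ⟨h1, h2⟩ := norm_split N n hN hn hNn
  rw [h1, Set.ncard_union_eq h2 hef hof, he, ho]
  exact beq_iff_eq.1 hT

theorem ncard_norm32 : {x : GolayPt → ℤ | x ∈ leechLattice ∧ sqNorm x = 32}.ncard = 196560 :=
  ncard_norm 8 1 196560 (by norm_num) (by norm_num) rfl (by decide +kernel)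

theorem ncard_norm48 : {x : GolayPt → ℤ | x ∈ leechLattice ∧ sqNorm x = 48}.ncard = 16773120 :=
  ncard_norm 12 3 16773120 (by norm_num) (by norm_num) rfl (by decide +kernel)

theorem ncard_norm64 : {x : GolayPt → ℤ | x ∈ leechLattice ∧ sqNorm x = 64}.ncard = 398034000 :=
  ncard_norm 16 5 398034000 (by norm_num) (by norm_num) rfl (by decide +kernel)

end Cfsg.Agent.Leech
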