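import Mathlib
import Cfsg.Prelude.Def_Sporadic_a
import Cfsg.Agent.Leech.Code
import Cfsg.Agent.Leech.AbstractCode
import Cfsg.Agent.Leech.Punctured
import Cfsg.Agent.Leech.Lattice
import Cfsg.Agent.Leech.Count
import Cfsg.Agent.Leech.Theta

/-! Counting lattice vectors with prescribed entries at a few points. -/

set_option autoImplicit false

namespace Cfsg.Agent.Leech
open Cfsg

/-! ### digits of a packed histogram -/

theorem digit_packed (B : ℕ) : ∀ (K : ℕ) (c : ℕ → ℕ), (∀ k, c k < B) → ∀ j < K,
    (∑ k ∈ Finset.range K, c k * B ^ k) / B ^ j % B = c j := by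
  intro K
  induction K with
  | zero => intro c _ j hj; omega
  | succ K ih =>
    intro c hc j hj
    have hB : 0 < B := lt_of_le_of_lt (Nat.zero_le _) (hc 0)
    have e : ∑ k ∈ Finset.range (K + 1), c k * B ^ k =
        c 0 + B * ∑ k ∈ Finset.range K, c (k + 1) * B ^ k := by
      rw [Finset.sum_range_succ', pow_zero, mul_one, add_comm, Finset.mul_sum]
      congr 1
      exact Finset.sum_congr rfl fun k _ => by ring
    rw [e]
    rcases j with _ | j
    · rw [pow_zero, Nat.div_one, Nat.add_mul_mod_self_left, Nat.mod_eq_of_lt (hc 0)]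
    · rw [pow_succ', ← Nat.div_div_eq_div_mul, Nat.add_mul_div_left _ _ hB,
        Nat.div_eq_of_lt (hc 0), zero_add]
      exact ih (fun k => c (k + 1)) (fun k => hc _) j (by omega)

theorem list_sum_map_range (f : ℕ → ℕ) (n : ℕ) :
    ((List.range n).map f).sum = ∑ k ∈ Finset.range n, f k := by
  induction n with
  | zero => simp
  | succ n ih => rw [List.sum_range_succ, Finset.sum_range_succ, ih]

/-- the key of a mask relative to special positions -/
def keyOf (ps : List ℕ) (m : ℕ) : ℕ :=
  ((List.range 24).filter fun i => m.testBit i).length * 2 ^ ps.length +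
    ps.foldr (fun i acc => 2 * acc + if m.testBit i then 1 else 0) 0

/-- packed histogram of the keys over the code -/
def hist (ps : List ℕ) : ℕ :=
  ((List.range 4096).map fun n => 8192 ^ keyOf ps (maskOf n)).sum

theorem sum_key (ps : List ℕ) (H K : ℕ) (hH : hist ps = H)
    (hK : ∀ n : Fin 4096, keyOf ps (maskOf n) < K) (f : ℕ → ℕ) :
    ∑ n : Fin 4096, f (keyOf ps (maskOf n)) =
      ((List.range K).map fun k => if H / 8192 ^ k % 8192 = 0 then 0 else H / 8192 ^ k % 8192 * f k).sum := by
  classical
  set c : ℕ → ℕ := fun k => (Finset.univ.filter fun n : Fin 4096 => keyOf ps (maskOf n) = k).card with hc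
  have hlt : ∀ k, c k < 8192 := fun k => lt_of_le_of_lt ((Finset.card_le_univ _).trans
    (by simp)) (by norm_num : 4096 < 8192)
  have hfib : ∀ g : ℕ → ℕ, ∑ n : Fin 4096, g (keyOf ps (maskOf n)) =
      ∑ k ∈ Finset.range K, c k * g k := by
    intro g
    rw [← Finset.sum_fiberwise_of_maps_to (t := Finset.range K)
      (g := fun n : Fin 4096 => keyOf ps (maskOf n)) (fun n _ => Finset.mem_range.2 (hK n))]
    exact Finset.sum_congr rfl fun k _ => Finset.sum_const_nat fun n hn => by
      rw [(Finset.mem_filter.1 hn).2]
  have hHsum : H = ∑ k ∈ Finset.range K, c k * 8192 ^ k := by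
    rw [← hH, hist, list_sum_map_range, ← hfib fun k => 8192 ^ k]
    exact Finset.sum_range (fun n => 8192 ^ keyOf ps (maskOf n))
  rw [hfib, list_sum_map_range]
  refine Finset.sum_congr rfl fun k hk => ?_
  rw [hHsum, digit_packed 8192 K c hlt k (Finset.mem_range.1 hk)]
  split_ifs with h
  · rw [h, zero_mul]
  · rfl

/-! ### tuples with arbitrary local lists -/

theorem count_gen (N : ℕ) (cost res : ℤ → ℕ) (A : GolayPt → List ℤ) (hA : ∀ i, (A i).Nodup)
    (L : List (List ℤ)) (hL : L.length = 24)
    (hperm : (Finset.univ : Finset GolayPt).val.map A = ↑L) (n j : ℕ) (hn : n ≤ N) (hj : j < 4) :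
    {p : GolayPt → ℤ | (∀ i, p i ∈ A i) ∧ ∑ i, cost (p i) = n ∧
      (∑ i, res (p i)) % 4 = j}.ncard = tval (table N cost res L) n j := by
  classical
  obtain ⟨B, rfl⟩ : ∃ B : Fin 24 → List ℤ, L = List.ofFn B := by
    refine ⟨fun i => L.get (i.cast hL.symm), List.ext_getElem
      (by rw [List.length_ofFn, hL]) ?_⟩
    intro i h1 h2
    rw [List.getElem_ofFn]
    rfl
  have hcount : ∀ l, Fintype.card {i : Fin 24 // B i = l} = Fintype.card {q : GolayPt // A q = l} := by
    intro l
    have h := congrArg (Multiset.count l) hperm
    rw [Multiset.count_map, ← Fin.univ_val_map, Multiset.count_map] at h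
    rw [Fintype.card_subtype, Fintype.card_subtype]
    simp only [Finset.card_def, Finset.filter_val, eq_comm (b := l)]
    exact h.symm
  obtain ⟨e, he⟩ : ∃ e : Fin 24 ≃ GolayPt, ∀ i, A (e i) = B i :=
    ⟨Equiv.ofFiberEquiv fun l => Fintype.equivOfCardEq (hcount l),
      fun i => Equiv.ofFiberEquiv_map _ i⟩
  rw [table_spec N cost res B (fun i => he i ▸ hA (e i)) n j hn hj, ← Set.ncard_coe_finset]
  refine Set.ncard_congr (fun p _ => p ∘ e) ?_ ?_ ?_
  · rintro p ⟨h1, h2, h3⟩
    simp only [Finset.coe_filter, Set.mem_setOf_eq, Fintype.mem_piFinset, List.mem_toFinset,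
      Function.comp_apply]
    refine ⟨fun i => he i ▸ h1 (e i), ?_, ?_⟩
    · rw [← h2]; exact Equiv.sum_comp e fun q => cost (p q)
    · rw [← h3]; exact congrArg (· % 4) (Equiv.sum_comp e fun q => res (p q))
  · intro p q _ _ h
    funext i
    simpa using congrFun h (e.symm i)
  · intro q hq
    simp only [Finset.coe_filter, Set.mem_setOf_eq, Fintype.mem_piFinset, List.mem_toFinset] at hq
    refine ⟨q ∘ e.symm, ⟨fun i => ?_, ?_, ?_⟩, funext fun i => by simp⟩
    · have h := hq.1 (e.symm i)
      rw [← he, Equiv.apply_symm_apply] at h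
      exact h
    · rw [← hq.2.1]; exact Equiv.sum_comp e.symm fun i => cost (q i)
    · rw [← hq.2.2]; exact congrArg (· % 4) (Equiv.sum_comp e.symm fun i => res (q i))

/-- half of an even prescribed value, as an allowed list -/
def halfList (bit : Bool) (p : ℤ) : List ℤ :=
  if p % 2 = 0 ∧ (decide ((p / 2) % 2 = 1) == bit) then [p / 2] else []

/-- the parameter of an odd prescribed value, as an allowed list -/
def oddList (bit : Bool) (p : ℤ) : List ℤ :=
  if ((if bit then -p else p) - 1) % 4 = 0 then [((if bit then -p else p) - 1) / 4] else []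

/-- the value list of the special points for a key -/
def specials (f : Bool → ℤ → List ℤ) (k : ℕ) (vals : List ℤ) : List (List ℤ) :=
  (List.range vals.length).map fun j => f (k.testBit j) (vals.getD j 0)

/-- the lists for a key -/
def keyLists (f : Bool → ℤ → List ℤ) (la lb : List ℤ) (k : ℕ) (vals : List ℤ) : List (List ℤ) :=
  let w := k / 2 ^ vals.length
  let b := ((List.range vals.length).filter fun j => k.testBit j).length
  specials f k vals ++ List.replicate (w - b) la ++
    List.replicate (24 - vals.length - (w - b)) lb

/-- count for one key -/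
def keyVal (N n k : ℕ) (vals : List ℤ) : ℕ :=
  tval (table N sqCost res4 (keyLists halfList oddL evenL k vals)) N 0 +
    (tval (table n oddCost res4 (keyLists oddList oddK oddK k vals)) n 1 +
      tval (table n oddCost res4 (keyLists oddList oddK oddK k vals)) n 3)

theorem foldr_bits_lt (ps : List ℕ) (m : ℕ) :
    ps.foldr (fun i acc => 2 * acc + if m.testBit i then 1 else 0) 0 < 2 ^ ps.length := by
  induction ps with
  | nil => simp
  | cons a t ih => simp only [List.foldr_cons, List.length_cons, pow_succ]; split_ifs <;> omega

theorem keyOf_div (ps : List ℕ) (m : ℕ) :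
    keyOf ps m / 2 ^ ps.length = ((List.range 24).filter fun i => m.testBit i).length := by
  rw [keyOf, add_comm, Nat.add_mul_div_right _ _ (by positivity),
    Nat.div_eq_of_lt (foldr_bits_lt ps m), zero_add]

theorem keyOf_lt (ps : List ℕ) (m : ℕ) : keyOf ps m < 25 * 2 ^ ps.length := by
  have h1 := foldr_bits_lt ps m
  have h2 : ((List.range 24).filter fun i => m.testBit i).length ≤ 24 :=
    (List.length_filter_le _ _).trans (by simp)
  rw [keyOf]
  calc _ < ((List.range 24).filter fun i => m.testBit i).length * 2 ^ ps.length + 2 ^ ps.length := by omega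
    _ = (((List.range 24).filter fun i => m.testBit i).length + 1) * 2 ^ ps.length := by ring
    _ ≤ 25 * 2 ^ ps.length := Nat.mul_le_mul_right _ (by omega)

theorem keyOf_testBit (ps : List ℕ) (m : ℕ) : ∀ j (hj : j < ps.length),
    (keyOf ps m).testBit j = m.testBit ps[j] := by
  intro j hj
  have h : ∀ (w : ℕ) (l : List ℕ) (j : ℕ) (hj : j < l.length),
      (w * 2 ^ l.length + l.foldr (fun i acc => 2 * acc + if m.testBit i then 1 else 0) 0).testBit j =
        m.testBit l[j] := by
    intro w l
    induction l generalizing w with
    | nil => intro j hj; simp at hj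
    | cons a t ih =>
      intro j hj
      have e : w * 2 ^ (a :: t).length +
          (a :: t).foldr (fun i acc => 2 * acc + if m.testBit i then 1 else 0) 0 =
          2 * (w * 2 ^ t.length + t.foldr (fun i acc => 2 * acc + if m.testBit i then 1 else 0) 0) +
            if m.testBit a then 1 else 0 := by
        simp only [List.length_cons, List.foldr_cons, pow_succ]; ring
      rw [e]
      rcases j with _ | j
      · rw [Nat.testBit_zero, List.getElem_cons_zero]
        cases m.testBit a <;> simp
      · rw [Nat.testBit_succ, List.getElem_cons_succ,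
          show ∀ X : ℕ, (2 * X + if m.testBit a then 1 else 0) / 2 = X from fun X => by
            split_ifs <;> omega]
        exact ih w j (by simpa using hj)
  exact h _ ps j hj

/-- local lists attached to a word -/
def ptList (f : Bool → ℤ → List ℤ) (la lb : List ℤ) (c : GolayPt → ZMod 2) (sp : List GolayPt)
    (vals : List ℤ) (i : GolayPt) : List ℤ :=
  if i ∈ sp then f (decide (c i = 1)) (vals.getD (sp.idxOf i) 0)
  else if i ∈ support₂ c then la else lb

theorem map_ptList (f : Bool → ℤ → List ℤ) (la lb : List ℤ) (n : Fin 4096) (sp : List GolayPt)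
    (hsp : sp.Nodup) (vals : List ℤ) (hlen : vals.length = sp.length) :
    (Finset.univ : Finset GolayPt).val.map (ptList f la lb (enum n) sp vals) =
        ↑(keyLists f la lb (keyOf (sp.map idx) (maskOf n)) vals) ∧
      (keyLists f la lb (keyOf (sp.map idx) (maskOf n)) vals).length = 24 := by
  classical
  set c := enum n with hc
  set k := keyOf (sp.map idx) (maskOf n) with hk
  have hbit : ∀ i, decide (c i = 1) = (maskOf n).testBit (idx i) := fun i => by
    rw [hc, enum, bitWord]
    cases (maskOf n).testBit (idx i) <;> simp
  have hkbit : ∀ j (hj : j < sp.length), k.testBit j = decide (c sp[j] = 1) := fun j hj => by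
    rw [hk, keyOf_testBit _ _ j (by simpa using hj), List.getElem_map, hbit]
  have hkw : k / 2 ^ vals.length = hammingNorm c := by
    rw [hlen, ← List.length_map (f := idx) (as := sp), hk, keyOf_div, hc, enum, hammingNorm_bitWord]
  have hcard : sp.toFinset.card = sp.length := List.toFinset_card_of_nodup hsp
  have hb : ((List.range vals.length).filter fun j => k.testBit j).length =
      (sp.toFinset ∩ support₂ c).card := by
    have h1 : ((List.range vals.length).filter fun j => k.testBit j).length =
        (sp.filter fun i => decide (c i = 1)).length := by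
      rw [hlen]
      conv_rhs => rw [← List.map_getElem_finRange (l := sp)]
      rw [List.filter_map, List.length_map, ← List.map_coe_finRange_eq_range, List.filter_map,
        List.length_map]
      congr 1
      refine List.filter_congr fun j _ => ?_
      simp [hkbit j.1 j.2]
    rw [h1, ← List.toFinset_card_of_nodup (hsp.filter _)]
    congr 1
    ext i
    simp [mem_support₂]
  set P := support₂ c with hP
  have hsplit : (Finset.univ : Finset GolayPt).val =
      sp.toFinset.val + ((P \ sp.toFinset).val + (Pᶜ \ sp.toFinset).val) := by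
    have d1 : Disjoint (P \ sp.toFinset) (Pᶜ \ sp.toFinset) := Finset.disjoint_left.2 fun i hi hi' => by
      simp at hi hi'; exact hi'.1 hi.1
    have d2 : Disjoint sp.toFinset ((P \ sp.toFinset).disjUnion (Pᶜ \ sp.toFinset) d1) :=
      Finset.disjoint_left.2 fun i hi hi' => by simp at hi hi'; tauto
    have e : (Finset.univ : Finset GolayPt) =
        sp.toFinset.disjUnion ((P \ sp.toFinset).disjUnion (Pᶜ \ sp.toFinset) d1) d2 := by
      ext i; simp; tauto
    exact congrArg Finset.val e
  have hcard2 : (P \ sp.toFinset).card = hammingNorm c - (sp.toFinset ∩ P).card := by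
    rw [Finset.card_sdiff, hammingNorm_eq_card, hP]
  have hcard3 : (Pᶜ \ sp.toFinset).card =
      24 - vals.length - (hammingNorm c - (sp.toFinset ∩ P).card) := by
    have := congrArg Multiset.card hsplit
    simp only [Multiset.card_add, ← Finset.card_def, Finset.card_univ, card_golayPt] at this
    omega
  have hconst : ∀ (S : Finset GolayPt) (l : List ℤ), (∀ i ∈ S, ptList f la lb c sp vals i = l) →
      S.val.map (ptList f la lb c sp vals) = Multiset.replicate S.card l := fun S l h => by
    rw [Multiset.map_congr rfl h, Multiset.map_const', Finset.card_def]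
  have hmain : (Finset.univ : Finset GolayPt).val.map (ptList f la lb c sp vals) =
      ↑(keyLists f la lb k vals) := by
    rw [hsplit, Multiset.map_add, Multiset.map_add, hconst (P \ sp.toFinset) la ?_,
      hconst (Pᶜ \ sp.toFinset) lb ?_, hcard3, hcard2, keyLists]
    · simp only [hkw, hb]
      rw [← Multiset.coe_add, ← Multiset.coe_add, Multiset.coe_replicate, Multiset.coe_replicate,
        add_assoc]
      congr 1
      rw [List.toFinset_val, List.dedup_eq_self.2 hsp, Multiset.map_coe]
      congr 1
      refine List.ext_getElem (by simp [specials, hlen]) fun j h1 h2 => ?_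
      have hj : j < sp.length := by simpa using h1
      simp [specials, ptList, hsp.idxOf_getElem, hkbit j hj]
    · intro i hi
      simp at hi
      simp [ptList, hi.2, hP ▸ hi.1]
    · intro i hi
      simp at hi
      simp [ptList, hi.2, hP ▸ hi.1]
  refine ⟨hmain, ?_⟩
  have := congrArg Multiset.card hmain
  simp only [Multiset.card_map, ← Finset.card_def, Finset.card_univ, card_golayPt,
    Multiset.coe_card] at this
  exact this.symm

/-- vectors of squared length `4 N` with prescribed entries -/
def fixedSet (N : ℕ) (sp : List GolayPt) (vals : List ℤ) : Set (GolayPt → ℤ) :=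
  {x | x ∈ leechLattice ∧ sqNorm x = 4 * (N : ℤ) ∧ sp.map x = vals}

theorem nodup_halfList (b : Bool) (p : ℤ) : (halfList b p).Nodup := by
  unfold halfList; split_ifs <;> simp

theorem nodup_oddList (b : Bool) (p : ℤ) : (oddList b p).Nodup := by
  unfold oddList; split_ifs <;> simp

theorem ncard_fixedSet (N n : ℕ) (hN : N ≤ 16) (hn : n ≤ 5) (hNn : 4 * N = 24 + 8 * n)
    (sp : List GolayPt) (hsp : sp.Nodup) (vals : List ℤ) (hlen : vals.length = sp.length)
    (H : ℕ) (hH : hist (sp.map idx) = H) :
    (fixedSet N sp vals).ncard =
      ((List.range (25 * 2 ^ sp.length)).map fun k => if H / 8192 ^ k % 8192 = 0 then 0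
        else H / 8192 ^ k % 8192 * keyVal N n k vals).sum ∧ (fixedSet N sp vals).Finite := by
  classical
  let partE : Fin 4096 → Set (GolayPt → ℤ) := fun m =>
    {p : GolayPt → ℤ | (∀ i, p i ∈ ptList halfList oddL evenL (enum m) sp vals i) ∧
      ∑ i, sqCost (p i) = N ∧ (∑ i, res4 (p i)) % 4 = 0}
  let partO : Fin 4096 → ℕ → Set (GolayPt → ℤ) := fun m j =>
    {p : GolayPt → ℤ | (∀ i, p i ∈ ptList oddList oddK oddK (enum m) sp vals i) ∧
      ∑ i, oddCost (p i) = n ∧ (∑ i, res4 (p i)) % 4 = j}
  have hndE : ∀ m i, (ptList halfList oddL evenL (enum m) sp vals i).Nodup := fun m i => by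
    unfold ptList; split_ifs; exacts [nodup_halfList _ _, by decide, by decide]
  have hndO : ∀ m i, (ptList oddList oddK oddK (enum m) sp vals i).Nodup := fun m i => by
    unfold ptList; split_ifs; exacts [nodup_oddList _ _, by decide, by decide]
  have hfin : ∀ (A : GolayPt → List ℤ) (S : Set (GolayPt → ℤ)), (∀ p ∈ S, ∀ i, p i ∈ A i) →
      S.Finite := fun A S h => Set.Finite.subset
    (Fintype.piFinset fun i => (A i).toFinset).finite_toSet fun p hp => by
      simpa [Fintype.mem_piFinset] using h p hp
  have hfE : ∀ m, (partE m).Finite := fun m => hfin _ _ fun p hp => hp.1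
  have hfO : ∀ m j, (partO m j).Finite := fun m j => hfin _ _ fun p hp => hp.1
  have hcE : ∀ m, (partE m).ncard = tval (table N sqCost res4
      (keyLists halfList oddL evenL (keyOf (sp.map idx) (maskOf m)) vals)) N 0 := fun m => by
    obtain ⟨h1, h2⟩ := map_ptList halfList oddL evenL m sp hsp vals hlen
    exact count_gen N sqCost res4 _ (hndE m) _ h2 h1 N 0 le_rfl (by norm_num)
  have hcO : ∀ m j, j < 4 → (partO m j).ncard = tval (table n oddCost res4
      (keyLists oddList oddK oddK (keyOf (sp.map idx) (maskOf m)) vals)) n j := fun m j hj => by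
    obtain ⟨h1, h2⟩ := map_ptList oddList oddK oddK m sp hsp vals hlen
    exact count_gen n oddCost res4 _ (hndO m) _ h2 h1 n j le_rfl hj
  let vec : Fin 4096 → (GolayPt → ℤ) → GolayPt → ℤ := fun m p => negOn (enum m) fun i => 1 + 4 * p i
  let part : Fin 4096 → Set (GolayPt → ℤ) := fun m =>
    (fun (p : GolayPt → ℤ) (i : GolayPt) => 2 * p i) '' partE m ∪ vec m '' (partO m 1 ∪ partO m 3)
  have hinj2 : Function.Injective fun (p : GolayPt → ℤ) (i : GolayPt) => 2 * p i := fun a b h =>
    funext fun i => by have := congrFun h i; simp only at this; omega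
  have hinjv : ∀ m, Function.Injective (vec m) := fun m a b h => funext fun i => by
    have := congrFun (congrArg (negOn (enum m)) h) i
    simp only [vec, negOn_negOn] at this
    omega
  have hcard : ∀ m, (part m).ncard = keyVal N n (keyOf (sp.map idx) (maskOf m)) vals := fun m => by
    rw [Set.ncard_union_eq ?_ ((hfE m).image _) (((hfO m 1).union (hfO m 3)).image _),
      Set.ncard_image_of_injective _ hinj2, Set.ncard_image_of_injective _ (hinjv m),
      Set.ncard_union_eq ?_ (hfO m 1) (hfO m 3), hcE, hcO m 1 (by norm_num), hcO m 3 (by norm_num),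
      keyVal]
    · rw [Set.disjoint_left]
      rintro p ⟨-, -, h1⟩ ⟨-, -, h3⟩
      omega
    · rw [Set.disjoint_left]
      rintro _ ⟨p, -, rfl⟩ ⟨q, -, h⟩
      have := congrFun h none
      simp only [vec, negOn] at this
      split_ifs at this <;> omega
  have hlb : ∀ a : ℤ, (2 : ℤ) ∣ a → a ∈ oddL → False := fun a h ha => by
    simp [oddL] at ha; rcases ha with rfl | rfl | rfl | rfl <;> norm_num at h
  have hla : ∀ a : ℤ, ¬ (2 : ℤ) ∣ a → a ∈ evenL → False := fun a h ha => by
    simp [evenL] at ha; rcases ha with rfl | rfl | rfl | rfl | rfl <;> norm_num at h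
  have hredE : ∀ m p, p ∈ partE m → red2 p = enum m := by
    rintro m p ⟨h, -, -⟩
    funext i
    have hh := h i
    simp only [ptList, mem_support₂] at hh
    have hd := ZMod.intCast_zmod_eq_zero_iff_dvd (p i) 2
    split_ifs at hh with hi hc
    · unfold halfList at hh
      split_ifs at hh with hq
      · rw [List.mem_singleton] at hh
        obtain ⟨-, hq2⟩ := hq
        rw [beq_iff_eq, decide_eq_decide] at hq2
        rcases zmod2_cases (enum m i) with e | e <;> rw [e] at hq2 ⊢
        · refine hd.2 ?_
          have : ¬ (vals.getD (sp.idxOf i) 0 / 2 % 2 = 1) := fun h => absurd (hq2.1 h) (by decide)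
          rw [hh]; push_cast; omega
        · refine (zmod2_cases _).resolve_left fun h0 => ?_
          have := hd.1 h0
          have := hq2.2 rfl
          rw [hh] at *
          push_cast at *
          omega
      · simp at hh
    · rw [hc]
      exact (zmod2_cases _).resolve_left fun h' => hlb _ (hd.1 h') hh
    · rw [(zmod2_cases _).resolve_right hc]
      exact hd.2 (by by_contra hp; exact hla _ (by exact_mod_cast hp) hh)
  have hsumN : ∀ p : GolayPt → ℤ, ((∑ i, sqCost (p i) : ℕ) : ℤ) = ∑ i, p i ^ 2 := fun p =>
    cast_sum_toNat _ _ fun i => sq_nonneg _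
  have hcost : ∀ a : ℤ, 0 ≤ a * (2 * a + 1) := fun a => by
    rcases le_or_gt 0 a with h | h
    · positivity
    · exact (mul_pos_of_neg_of_neg h (by omega)).le
  have hnormO : ∀ p : GolayPt → ℤ,
      sqNorm (fun i => 1 + 4 * p i) = 24 + 8 * ((∑ i, oddCost (p i) : ℕ) : ℤ) := fun p => by
    rw [show ((∑ i, oddCost (p i) : ℕ) : ℤ) = ∑ i, p i * (2 * p i + 1) from
        cast_sum_toNat _ _ fun i => hcost _, sqNorm, show (24 : ℤ) = ∑ _i : GolayPt, (1 : ℤ) from
      ((sum_golayPt_const 1).trans (by norm_num)).symm,
      Finset.mul_sum, ← Finset.sum_add_distrib]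
    exact Finset.sum_congr rfl fun i _ => by ring
  have hvals : ∀ (x : GolayPt → ℤ), sp.map x = vals ↔ ∀ i ∈ sp, x i = vals.getD (sp.idxOf i) 0 := by
    intro x
    constructor
    · rintro rfl i hi
      simp [List.getD_eq_getElem?_getD, List.idxOf_lt_length_iff.2 hi]
    · intro h
      refine List.ext_getElem (by simp [hlen]) fun j h1 h2 => ?_
      have hj : j < sp.length := by simpa using h1
      rw [List.getElem_map, h _ (List.getElem_mem hj), hsp.idxOf_getElem _ hj,
        List.getD_eq_getElem?_getD, List.getElem?_eq_getElem h2]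
      rfl
  have hset : fixedSet N sp vals = ⋃ m, part m := by
    ext x
    constructor
    · rintro ⟨hx, hxn, hxv⟩
      rw [hvals] at hxv
      have hmemN : x ∈ {x : GolayPt → ℤ | x ∈ leechLattice ∧ sqNorm x = 4 * (N : ℤ)} := ⟨hx, hxn⟩
      rw [(norm_split N n hN hn hNn).1] at hmemN
      rcases hmemN with ⟨-, -, hv⟩ | ⟨-, hn', hv⟩
      · choose p hp hxp using hv
        obtain ⟨hc, h4⟩ := even_props (v := ⟨x, hx⟩) hxp
        obtain ⟨m, hm⟩ := exists_enum hc
        refine Set.mem_iUnion.2 ⟨m, Or.inl ⟨p, ⟨fun i => ?_, ?_, ?_⟩, funext fun i => (hxp i).symm⟩⟩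
        · simp only [ptList, hm]
          split_ifs with hi hc'
          · have h1 := hxv i hi
            rw [hxp i] at h1
            unfold halfList
            rw [if_pos, ← h1, Int.mul_ediv_cancel_left _ (by norm_num : (2 : ℤ) ≠ 0)]
            · exact List.mem_singleton_self _
            refine ⟨by omega, ?_⟩
            rw [beq_iff_eq, decide_eq_decide, ← h1, Int.mul_ediv_cancel_left _ (by norm_num)]
            have := support₂_red2' p i
            rw [mem_support₂] at this
            rw [this]
            omega
          · exact (hp i).resolve_right (hla _ ((support₂_red2' p i).1 hc'))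
          · exact (hp i).resolve_left fun h => hlb _
              (by by_contra hh; exact hc' ((support₂_red2' p i).2 hh)) h
        · have h3 : sqNorm x = 4 * ∑ i, p i ^ 2 := by
            rw [sqNorm, Finset.mul_sum]
            exact Finset.sum_congr rfl fun i _ => by rw [hxp i]; ring
          have := hsumN p
          omega
        · rw [sum_res4 p 0 (by norm_num)]; simpa using h4
      · have hodd : ¬ (2 : ℤ) ∣ x none := by
          obtain ⟨k, -, hk⟩ := hv none; omega
        obtain ⟨m0, y0, hy0, hs0, -⟩ := mem_lattice_iff.1 hx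
        obtain ⟨c, hc, hc4⟩ : ∃ c ∈ golayCode, ∀ i, (4 : ℤ) ∣ negOn c x i - 1 := by
          obtain ⟨m, y, hy, -, hd⟩ := mem_lattice_iff.1 hx
          obtain ⟨r, rfl⟩ : ∃ r, m = 1 + 2 * r := ⟨(m - 1) / 2, by have := hy none; omega⟩
          refine ⟨red2 y + (r : ZMod 2) • 1, add_mem hd (Submodule.smul_mem _ _ one_mem), fun i => ?_⟩
          have hci : (red2 y + (r : ZMod 2) • (1 : GolayPt → ZMod 2)) i = ((y i + r : ℤ) : ZMod 2) := by
            simp [red2]
          have := hy i
          simp only [negOn, hci, ZMod.intCast_zmod_eq_zero_iff_dvd]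
          split_ifs with h <;> simp only [Nat.cast_ofNat] at h <;> omega
        obtain ⟨m, rfl⟩ := exists_enum hc
        set p : GolayPt → ℤ := fun i => (negOn (enum m) x i - 1) / 4 with hp
        have hxp : ∀ i, 1 + 4 * p i = negOn (enum m) x i := fun i => by
          simp only [hp]; have := hc4 i; omega
        refine Set.mem_iUnion.2 ⟨m, Or.inr ⟨p, ?_, ?_⟩⟩
        · have hpA : ∀ i, p i ∈ ptList oddList oddK oddK (enum m) sp vals i := by
            intro i
            simp only [ptList, ite_self]
            split_ifs with hi
            · have h1 := hxv i hi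
              have h2 := hxp i
              unfold oddList
              have hsgn : (if decide (enum m i = 1) = true then -vals.getD (sp.idxOf i) 0
                  else vals.getD (sp.idxOf i) 0) = negOn (enum m) x i := by
                rw [← h1]
                simp only [negOn]
                rcases zmod2_cases (enum m i) with e | e <;> simp [e]
              rw [hsgn, if_pos (by omega)]
              simp only [List.mem_singleton]
              omega
            · obtain ⟨k, hk1, hk2⟩ := hv i
              have h1 := hxp i
              simp only [negOn] at h1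
              have h2 := hc4 i
              simp only [negOn] at h2
              have : p i = k := by split_ifs at h1 h2 <;> omega
              rwa [this]
          have hpn : ∑ i, oddCost (p i) = n := by
            have := hnormO p
            rw [show (fun i => 1 + 4 * p i) = negOn (enum m) x from funext hxp, sqNorm_negOn, hn'] at this
            omega
          obtain ⟨m', y', hy', hs', -⟩ := mem_lattice_iff.1 (negOn_mem (enum_mem m) hx)
          have e1 : ∑ i, negOn (enum m) x i = 24 + 4 * ∑ i, p i := by
            rw [← Finset.sum_congr rfl fun i _ => hxp i, Finset.sum_add_distrib, sum_golayPt_const,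
              Finset.mul_sum]; ring
          have e2 : ∑ i, negOn (enum m) x i = 24 * m' + 2 * ∑ i, y' i := by
            simp only [hy', Finset.sum_add_distrib, sum_golayPt_const, Finset.mul_sum]
          have hm' : (2 : ℤ) ∣ m' - 1 := by have := hy' none; have := hc4 none; omega
          have h4 : (∑ i, res4 (p i)) % 4 = 1 ∨ (∑ i, res4 (p i)) % 4 = 3 := by
            rw [sum_res4 p 1 (by norm_num), sum_res4 p 3 (by norm_num)]
            push_cast
            omega
          rcases h4 with h4 | h4
          · exact Or.inl ⟨hpA, hpn, h4⟩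
          · exact Or.inr ⟨hpA, hpn, h4⟩
        · simp only [vec, hxp]
          exact negOn_negOn _ _
    · intro hx
      obtain ⟨m, hm⟩ := Set.mem_iUnion.1 hx
      rcases hm with ⟨p, hp, rfl⟩ | ⟨p, hp, rfl⟩
      · have hr := hredE m p hp
        obtain ⟨h1, h2, h3⟩ := hp
        rw [sum_res4 p 0 (by norm_num)] at h3
        refine ⟨mem_lattice_iff.2 ⟨0, p, fun i => by ring, ?_, by rw [hr]; exact enum_mem m⟩, ?_, ?_⟩
        · simp only [← Finset.mul_sum, Nat.cast_zero, sub_zero] at h3 ⊢
          omega
        · rw [sqNorm, ← h2, hsumN, Finset.mul_sum]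
          exact Finset.sum_congr rfl fun i _ => by ring
        · rw [hvals]
          intro i hi
          have hh := h1 i
          simp only [ptList, if_pos hi, halfList] at hh
          split_ifs at hh with hq
          · rw [List.mem_singleton] at hh
            show 2 * p i = _
            omega
          · simp at hh
      · have h1 : ∀ i, p i ∈ ptList oddList oddK oddK (enum m) sp vals i := by
          rcases hp with h | h <;> exact h.1
        have h2 : ∑ i, oddCost (p i) = n := by rcases hp with h | h <;> exact h.2.1
        have h3 : ¬ (2 : ℤ) ∣ ∑ i, p i := by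
          rcases hp with ⟨-, -, h⟩ | ⟨-, -, h⟩ <;> rw [sum_res4 p _ (by norm_num)] at h <;>
            push_cast at h <;> omega
        refine ⟨negOn_mem (enum_mem m) (mem_lattice_iff.2 ⟨1, fun i => 2 * p i, fun i => by ring,
          ?_, ?_⟩), ?_, ?_⟩
        · rw [Finset.sum_add_distrib, sum_golayPt_const, ← Finset.mul_sum]; omega
        · convert zero_mem golayCode using 1
          funext i
          simp [red2, show (2 : ZMod 2) = 0 from rfl]
        · rw [sqNorm_negOn, hnormO, h2]; omega
        · rw [hvals]
          intro i hi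
          have hh := h1 i
          simp only [ptList, if_pos hi, oddList] at hh
          simp only [vec, negOn]
          rcases zmod2_cases (enum m i) with e | e <;>
            simp only [e, decide_true, decide_false, if_true, if_false, zero_ne_one, one_ne_zero,
              Bool.false_eq_true] at hh ⊢ <;>
            split_ifs at hh <;>
            simp only [List.mem_singleton, List.not_mem_nil] at hh <;> omega
  have hfpart : ∀ m, (part m).Finite := fun m =>
    ((hfE m).image _).union (((hfO m 1).union (hfO m 3)).image _)
  refine ⟨?_, hset ▸ Set.finite_iUnion hfpart⟩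
  rw [hset, Set.ncard_iUnion_of_finite hfpart, finsum_eq_sum_of_fintype,
    Finset.sum_congr rfl fun m _ => hcard m,
    sum_key (sp.map idx) H (25 * 2 ^ sp.length) hH (fun m => by
      simpa using keyOf_lt (sp.map idx) (maskOf m)) (fun k => keyVal N n k vals)]
  intro a b hab
  rw [Function.onFun, Set.disjoint_left]
  rintro x (⟨p, hp, rfl⟩ | ⟨p, hp, rfl⟩) (⟨q, hq, h⟩ | ⟨q, hq, h⟩)
  · exact hab (enum_injective ((hredE a p hp).symm.trans
      (((congrArg red2 (hinj2 h)).symm.trans (hredE b q hq)))))
  · have := congrFun h none
    simp only [vec, negOn] at this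
    split_ifs at this <;> omega
  · have := congrFun h none
    simp only [vec, negOn] at this
    split_ifs at this <;> omega
  · refine hab (enum_injective (funext fun i => ?_))
    have := congrFun h i
    simp only [vec, negOn] at this
    rcases zmod2_cases (enum a i) with ea | ea <;> rcases zmod2_cases (enum b i) with eb | eb <;>
      simp [ea, eb] at this ⊢ <;> omega

end Cfsg.Agent.Leech
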