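import Mathlib
import Cfsg.Prelude.Def_Sporadic_a
import Cfsg.Prelude.Def_SporadicCombinatorics
import Cfsg.Agent.Leech.Code
import Cfsg.Agent.Leech.Lattice
import Cfsg.Agent.Leech.ModRep
import Cfsg.Agent.Leech.Generators

/-! Automorphisms preserving the standard frame are monomial. -/

set_option autoImplicit false

namespace Cfsg.Agent.Leech
open Cfsg

theorem negOn_one (x : GolayPt → ℤ) : negOn 1 x = -x := by
  funext i; simp [negOn]

theorem ext_of_oct {g h : ↥Co0} (H : ∀ i, g • oct i = h • oct i) : g = h := by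
  refine Subtype.ext (Equiv.ext fun v => Subtype.ext (funext fun q => ?_))
  have h1 := act_expand g v q
  have h2 := act_expand h v q
  simp only [H] at h1
  show ((g • v : leechLattice) : GolayPt → ℤ) q = ((h • v : leechLattice) : GolayPt → ℤ) q
  linarith

theorem smul_coe (g : ↥Co0) (v : leechLattice) (q : GolayPt) (σ : Equiv.Perm GolayPt)
    (s : GolayPt → ℤ) (hg : ∀ i, ((g • oct i : leechLattice) : GolayPt → ℤ) = Pi.single (σ i) (8 * s i)) :
    ((g • v : leechLattice) : GolayPt → ℤ) q = s (σ⁻¹ q) * (v : GolayPt → ℤ) (σ⁻¹ q) := by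
  have h := act_expand g v q
  simp only [hg] at h
  rw [Finset.sum_eq_single (σ⁻¹ q) (fun b _ hb => by
    rw [Pi.single_eq_of_ne, mul_zero]
    rintro rfl
    exact hb (by simp)) (by simp), show σ (σ⁻¹ q) = q by simp, Pi.single_eq_same] at h
  linarith

/-- signed permutations in the group come from `M24` and the code -/
theorem exists_monomial (g : ↥Co0) (σ : Equiv.Perm GolayPt) (s : GolayPt → ℤ)
    (hs : ∀ i, s i = 1 ∨ s i = -1)
    (hg : ∀ i, ((g • oct i : leechLattice) : GolayPt → ℤ) = Pi.single (σ i) (8 * s i)) :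
    ∃ hσ : σ ∈ M24, ∃ c, ∃ hc : c ∈ golayCode, (∀ q, c q = if s (σ⁻¹ q) = 1 then 0 else 1) ∧
      g = signCo0 c hc * permCo0 σ hσ := by
  set c : GolayPt → ZMod 2 := fun q => if s (σ⁻¹ q) = 1 then 0 else 1 with hcdef
  have hc : c ∈ golayCode := by
    obtain ⟨m, y, hy, hsum, hd⟩ := mem_lattice_iff.1 (g • (⟨vecOdd, vecOdd_mem⟩ : leechLattice)).2
    have key : ∀ q, (4 : ℤ) ∣ m + 2 * y q - (1 + 2 * ((c q).val : ℤ)) := by
      intro q
      have h1 := hy q
      rw [smul_coe g _ q σ s hg] at h1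
      rw [← h1]
      simp only [hcdef, vecOdd]
      generalize σ⁻¹ q = p
      rcases hs p with h | h <;> simp [h] <;> split_ifs <;> first | decide | norm_num
    obtain ⟨k, hk⟩ : (2 : ℤ) ∣ m - 1 := by have := key none; omega
    have : c = red2 y + (k : ZMod 2) • (1 : GolayPt → ZMod 2) := by
      funext q
      have h1 : (2 : ℤ) ∣ (k + y q) - ((c q).val : ℤ) := by have := key q; omega
      have h2 := (ZMod.intCast_zmod_eq_zero_iff_dvd _ 2).2 h1
      simp only [Int.cast_sub, Int.cast_add, Int.cast_natCast, ZMod.natCast_zmod_val] at h2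
      simp only [Pi.add_apply, Pi.smul_apply, Pi.one_apply, smul_eq_mul, mul_one, red2]
      rw [sub_eq_zero] at h2
      rw [← h2]; ring
    rw [this]
    exact add_mem hd (Submodule.smul_mem _ _ one_mem)
  have hσinv : ∀ v ∈ golayCode, v ∘ ⇑σ⁻¹ ∈ golayCode := by
    intro v hv
    obtain ⟨m, y, hy, hsum, hd⟩ := mem_lattice_iff.1 (g • (⟨_, two_mul_word_mem hv⟩ : leechLattice)).2
    have key : ∀ q, (4 : ℤ) ∣ m + 2 * y q - 2 * ((v (σ⁻¹ q)).val : ℤ) := by
      intro q
      have h1 := hy q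
      rw [smul_coe g _ q σ s hg] at h1
      rw [← h1]
      rcases hs (σ⁻¹ q) with h | h <;> rw [h]
      · exact ⟨0, by simp⟩
      · exact ⟨-((v (σ⁻¹ q)).val : ℤ), by simp only; ring⟩
    obtain ⟨k, hk⟩ : (2 : ℤ) ∣ m := by have := key none; omega
    have : v ∘ ⇑σ⁻¹ = red2 y + (k : ZMod 2) • (1 : GolayPt → ZMod 2) := by
      funext q
      have h1 : (2 : ℤ) ∣ (k + y q) - ((v (σ⁻¹ q)).val : ℤ) := by have := key q; omega
      have h2 := (ZMod.intCast_zmod_eq_zero_iff_dvd _ 2).2 h1
      simp only [Int.cast_sub, Int.cast_add, Int.cast_natCast, ZMod.natCast_zmod_val] at h2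
      simp only [Pi.add_apply, Pi.smul_apply, Pi.one_apply, smul_eq_mul, mul_one, red2,
        Function.comp_apply]
      rw [sub_eq_zero] at h2
      rw [← h2]; ring
    rw [this]
    exact add_mem hd (Submodule.smul_mem _ _ one_mem)
  have hσ : σ ∈ M24 := inv_mem_iff.1 (mem_M24_of hσinv)
  refine ⟨hσ, c, hc, fun q => rfl, ext_of_oct fun i => Subtype.ext (funext fun q => ?_)⟩
  rw [hg i, mul_smul, signCo0_apply]
  simp only [negOn, hcdef, permCo0_apply, oct, Pi.single_apply]
  have hiff : q = σ i ↔ σ⁻¹ q = i := by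
    constructor
    · rintro rfl; simp
    · intro e; rw [← e]; simp
  obtain ⟨p, hp'⟩ : ∃ p, σ⁻¹ q = p := ⟨_, rfl⟩
  simp only [hiff, hp']
  by_cases hp : p = i
  · subst hp
    rcases hs p with h | h <;> simp [h]
  · rcases hs p with h | h <;> simp [h, hp]

/-- frame stabiliser elements are monomial -/
theorem exists_of_stdFrame (g : ↥Co0)
    (h : ∀ i, ((g • oct i : leechLattice) : GolayPt → ℤ) ∈ stdCross) :
    ∃ σ, ∃ hσ : σ ∈ M24, ∃ c, ∃ hc : c ∈ golayCode, g = signCo0 c hc * permCo0 σ hσ := by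
  choose f t ht hf using h
  have hfinj : Function.Injective f := by
    intro i j hij
    by_contra hne
    have h1 := dotInt_smul g (oct i) (oct j)
    rw [hf i, hf j, hij] at h1
    simp only [dotInt, oct] at h1
    rw [Finset.sum_eq_single (f j) (fun b _ hb => by simp [hb]) (by simp),
      Finset.sum_eq_single i (fun b _ hb => by simp [hb]) (by simp)] at h1
    simp only [Pi.single_eq_same, Pi.single_eq_of_ne hne, mul_zero] at h1
    rcases ht i with h2 | h2 <;> rcases ht j with h3 | h3 <;> rw [h2, h3] at h1 <;> norm_num at h1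
  set σ : Equiv.Perm GolayPt := Equiv.ofBijective f (Finite.injective_iff_bijective.1 hfinj)
  obtain ⟨hσ, c, hc, -, hgc⟩ := exists_monomial g σ (fun i => t i / 8)
    (fun i => by rcases ht i with h | h <;> simp [h])
    (fun i => by rw [hf i]; rcases ht i with h | h <;> simp [h, σ])
  exact ⟨σ, hσ, c, hc, hgc⟩

end Cfsg.Agent.Leech
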