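import Mathlib
import Cfsg.Prelude.Def_Sporadic_a
import Cfsg.Prelude.Def_Spor_Conway
import Cfsg.Agent.Compute.MathieuActions
import Cfsg.Agent.Leech.Code
import Cfsg.Agent.Leech.AbstractCode
import Cfsg.Agent.Leech.Punctured
import Cfsg.Agent.Leech.Lattice
import Cfsg.Agent.Leech.ModRep
import Cfsg.Agent.Leech.Generators
import Cfsg.Agent.Leech.Sextet
import Cfsg.Agent.Leech.Transitive
import Cfsg.Agent.Leech.Monomial

/-! Transitivity on short vectors and on some pairs. -/

set_option autoImplicit false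

namespace Cfsg.Agent.Leech
open Cfsg

theorem exists_move (x y : List GolayPt) (hx : x.Nodup) (hy : y.Nodup)
    (hlen : x.length = y.length) (h5 : x.length ≤ 5) : ∃ σ ∈ M24, x.map σ = y := by
  obtain ⟨g, hg, hgx⟩ := Compute.exists_move5 x hx h5
  obtain ⟨h, hh, hhy⟩ := Compute.exists_move5 y hy (hlen ▸ h5)
  refine ⟨h⁻¹ * g, mul_mem (inv_mem hh) hg, ?_⟩
  rw [Equiv.Perm.coe_mul, ← List.map_map, hgx, hlen, ← hhy, List.map_map]
  simp

/-- the combination `4 s e_a + 4 t e_b` -/
theorem four_pair_mem (a b : GolayPt) (s t : ℤ) (h : (2 : ℤ) ∣ s + t) :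
    (fun i => 4 * ((Pi.single a s + Pi.single b t : GolayPt → ℤ) i)) ∈ leechLattice := by
  refine quarter_mem leechLattice (fun k _ => pm_mem k) _ ?_
  rw [show (∑ i, (Pi.single a s + Pi.single b t : GolayPt → ℤ) i) = s + t by
    simp [Finset.sum_add_distrib, -Fintype.sum_option]]
  exact h

/-- `4 s e_a + 4 t e_b` in the lattice -/
def fourPair (a b : GolayPt) (s t : ℤ) (h : (2 : ℤ) ∣ s + t) : leechLattice :=
  ⟨_, four_pair_mem a b s t h⟩

theorem dot_fourPair (v : GolayPt → ℤ) (a b : GolayPt) (s t : ℤ) (h : (2 : ℤ) ∣ s + t) :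
    dotInt v (fourPair a b s t h : GolayPt → ℤ) = 4 * (s * v a + t * v b) := by
  simp only [dotInt, fourPair, Pi.add_apply, mul_add, Finset.sum_add_distrib]
  rw [Finset.sum_eq_single a (fun i _ hi => by simp [hi]) (by simp),
    Finset.sum_eq_single b (fun i _ hi => by simp [hi]) (by simp), Pi.single_eq_same,
    Pi.single_eq_same]
  ring

theorem norm_fourPair {a b : GolayPt} (hab : a ≠ b) {s t : ℤ} (hs : s ^ 2 = 1) (ht : t ^ 2 = 1)
    (h : (2 : ℤ) ∣ s + t) : sqNorm (fourPair a b s t h : GolayPt → ℤ) = 32 := by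
  have e : sqNorm (fourPair a b s t h : GolayPt → ℤ) =
      dotInt (fourPair a b s t h : GolayPt → ℤ) (fourPair a b s t h : GolayPt → ℤ) :=
    Finset.sum_congr rfl fun i _ => sq _
  rw [e, dot_fourPair]
  simp only [fourPair, Pi.add_apply, Pi.single_eq_same, Pi.single_eq_of_ne hab,
    Pi.single_eq_of_ne hab.symm]
  linear_combination 16 * hs + 16 * ht

theorem dotInt_comm (x y : GolayPt → ℤ) : dotInt x y = dotInt y x :=
  Finset.sum_congr rfl fun i _ => mul_comm _ _

theorem dotInt_add_right (x y z : GolayPt → ℤ) : dotInt x (y + z) = dotInt x y + dotInt x z := by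
  simp [dotInt, mul_add, Finset.sum_add_distrib, -Fintype.sum_option]

theorem dot_single (x : GolayPt → ℤ) (a : GolayPt) (s : ℤ) :
    dotInt x (Pi.single a s) = x a * s := by
  rw [dotInt, Finset.sum_eq_single a (fun i _ hi => by simp [hi]) (by simp), Pi.single_eq_same]

theorem negate_apply (v : leechLattice) :
    ((signCo0 1 one_mem • v : leechLattice) : GolayPt → ℤ) = -(v : GolayPt → ℤ) := by
  rw [signCo0_apply, negOn_one]

/-- a vector of squared length 64 is moved to some `8 e_i` -/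
theorem reach_pos (u : leechLattice) (hu : sqNorm (u : GolayPt → ℤ) = 64) :
    ∃ g : ↥Co0, ∃ i, ((g • u : leechLattice) : GolayPt → ℤ) = Pi.single i 8 := by
  obtain ⟨g, i, s, hs, hg⟩ := reach u hu
  rcases hs with rfl | rfl
  · exact ⟨g, i, hg⟩
  · refine ⟨signCo0 1 one_mem * g, i, ?_⟩
    rw [mul_smul, negate_apply, hg, ← Pi.single_neg]
    rfl

theorem exists_sign (a b : GolayPt) (hab : a ≠ b) (e : ZMod 2) :
    ∃ d ∈ golayCode, d a = 0 ∧ d b = e := by
  obtain ⟨σ, hσ, hmap⟩ := exists_move [a, b] [none, some 0] (by simp [hab]) (by simp) rfl (by simp)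
  simp only [List.map_cons, List.map_nil, List.cons.injEq, and_true] at hmap
  refine ⟨fun i => e * row 1 (σ i), Submodule.smul_mem _ e (comp_mem_of_M24 hσ (row_mem 1)), ?_, ?_⟩
  · show e * row 1 (σ a) = 0
    rw [hmap.1, show (none : GolayPt) = piv 0 from rfl, row_piv, if_neg (by decide), mul_zero]
  · show e * row 1 (σ b) = e
    rw [hmap.2, show (some 0 : GolayPt) = piv 1 from rfl, row_piv, if_pos rfl, mul_one]

/-- squared length 32 with an entry four -/
theorem shape32 (v : leechLattice) (hv : sqNorm (v : GolayPt → ℤ) = 32) (a : GolayPt)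
    (ha : (v : GolayPt → ℤ) a = 4) :
    ∃ b, b ≠ a ∧ ((v : GolayPt → ℤ) b = 4 ∨ (v : GolayPt → ℤ) b = -4) ∧
      ∀ i, i ≠ a → i ≠ b → (v : GolayPt → ℤ) i = 0 := by
  obtain ⟨m, y, hy, -, -⟩ := mem_lattice_iff.1 v.2
  have hev : (2 : ℤ) ∣ (v : GolayPt → ℤ) none := by have := hy none; have := hy a; omega
  obtain ⟨y, hy, hc, -⟩ := even_form v.2 hev
  have h8 : ∑ i, y i ^ 2 = 8 := by
    have : sqNorm (v : GolayPt → ℤ) = 4 * ∑ i, y i ^ 2 := by
      rw [sqNorm, Finset.mul_sum]
      exact Finset.sum_congr rfl fun i _ => by rw [hy i]; ring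
    omega
  have hya : y a = 2 := by have := hy a; omega
  have h0 : red2 y = 0 := by
    by_contra hne
    have h1 := eight_le_weight hc hne
    rw [hammingNorm_eq_card] at h1
    have h2 := (card_le_sum_odd y).1
    have hnotin : a ∉ support₂ (red2 y) := by rw [support₂_red2', hya]; norm_num
    have h3 := Finset.sum_le_sum_of_subset_of_nonneg (f := fun i => y i ^ 2)
      (Finset.subset_univ (insert a (support₂ (red2 y)))) (fun i _ _ => sq_nonneg _)
    rw [Finset.sum_insert hnotin] at h3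
    simp only [hya] at h3
    omega
  have hev : ∀ i, (2 : ℤ) ∣ y i := fun i =>
    (ZMod.intCast_zmod_eq_zero_iff_dvd _ 2).1 (congrFun h0 i)
  choose w hw using hev
  have hwa : w a = 1 := by have := hw a; omega
  have h2 : ∑ i, w i ^ 2 = 2 := by
    have : ∑ i, y i ^ 2 = 4 * ∑ i, w i ^ 2 := by
      rw [Finset.mul_sum]; exact Finset.sum_congr rfl fun i _ => by rw [hw i]; ring
    omega
  have h1 : ∑ i ∈ Finset.univ.erase a, w i ^ 2 = 1 := by
    have := Finset.add_sum_erase _ (fun i => w i ^ 2) (Finset.mem_univ a)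
    simp only [hwa] at this
    omega
  obtain ⟨b, hb, hwb⟩ : ∃ b ∈ Finset.univ.erase a, w b ^ 2 ≠ 0 :=
    Finset.exists_ne_zero_of_sum_ne_zero (by omega)
  have hbe := Finset.add_sum_erase _ (fun i => w i ^ 2) hb
  have hnn : 0 ≤ ∑ i ∈ (Finset.univ.erase a).erase b, w i ^ 2 :=
    Finset.sum_nonneg fun i _ => sq_nonneg _
  have hpos := sq_nonneg (w b)
  refine ⟨b, Finset.ne_of_mem_erase hb, ?_, fun i hia hib => ?_⟩
  · have : w b ^ 2 = 1 := by omega
    rcases sq_eq_one_iff.1 this with e | e <;> simp [hy b, hw b, e]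
  · have hzero : ∑ i ∈ (Finset.univ.erase a).erase b, w i ^ 2 = 0 := by omega
    have := (Finset.sum_eq_zero_iff_of_nonneg fun i _ => sq_nonneg (w i)).1 hzero i
      (by simp [hia, hib])
    rw [hy i, hw i, sq_eq_zero_iff.1 this]; rfl

/-- monomial normalisation of a vector of squared length 32 with an entry four -/
theorem to_vecU (v : leechLattice) (hv : sqNorm (v : GolayPt → ℤ) = 32) (a : GolayPt)
    (ha : (v : GolayPt → ℤ) a = 4) :
    ∃ g : ↥Co0, ((g • v : leechLattice) : GolayPt → ℤ) = Spor.vecU ∧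
      ∀ u : leechLattice,
        ((g • u : leechLattice) : GolayPt → ℤ) none = (u : GolayPt → ℤ) a ∧
        ∀ b, b ≠ a → (v : GolayPt → ℤ) b ≠ 0 → 4 * ((g • u : leechLattice) : GolayPt → ℤ) (some 0) =
          (v : GolayPt → ℤ) b * (u : GolayPt → ℤ) b := by
  obtain ⟨b, hba, hb4, hrest⟩ := shape32 v hv a ha
  obtain ⟨d, hd, hda, hdb⟩ := exists_sign a b hba.symm (if (v : GolayPt → ℤ) b = 4 then 0 else 1)
  obtain ⟨σ, hσ, hmap⟩ := exists_move [a, b] [none, some 0] (by simp [hba.symm]) (by simp) rfl (by simp)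
  simp only [List.map_cons, List.map_nil, List.cons.injEq, and_true] at hmap
  have hinv : σ⁻¹ none = a ∧ σ⁻¹ (some 0) = b := by
    constructor
    · rw [← hmap.1]; simp
    · rw [← hmap.2]; simp
  have hval : ∀ (u : leechLattice) i,
      ((permCo0 σ hσ * signCo0 d hd) • u : leechLattice).val i = negOn d (u : GolayPt → ℤ) (σ⁻¹ i) :=
    fun u i => by rw [mul_smul, permCo0_apply, signCo0_apply]
  refine ⟨permCo0 σ hσ * signCo0 d hd, funext fun i => ?_, fun u => ⟨?_, ?_⟩⟩
  · rw [hval]
    by_cases h1 : i = none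
    · subst h1; rw [hinv.1]; simp [negOn, hda, ha, Spor.vecU]
    by_cases h2 : i = some 0
    · subst h2; rw [hinv.2]
      rcases hb4 with e | e <;> simp [negOn, hdb, e, Spor.vecU]
    have : (v : GolayPt → ℤ) (σ⁻¹ i) = 0 := by
      refine hrest _ (fun e => h1 ?_) (fun e => h2 ?_)
      · rw [← hmap.1, ← e]; simp
      · rw [← hmap.2, ← e]; simp
    simp only [negOn, Spor.vecU, this, h1, h2, or_self, if_false, neg_zero, ite_self]
  · rw [hval, hinv.1]; simp [negOn, hda]
  · intro b' hb'a hb'0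
    obtain rfl : b' = b := by
      by_contra hne; exact hb'0 (hrest b' hb'a hne)
    rw [hval, hinv.2]
    rcases hb4 with e | e <;> simp [negOn, hdb, e]

theorem exists_eq_abs (v : GolayPt → ℤ) (hb : ∀ i, v i ^ 2 ≤ 35) (s : Finset GolayPt)
    (hs : s.card ≤ 16) :
    ∃ a b, a ∉ s ∧ b ∉ s ∧ a ≠ b ∧ ∃ t : ℤ, t ^ 2 = 1 ∧ v b = t * v a := by
  have hlt : ∀ i, (v i).natAbs ∈ Finset.range 6 := fun i => by
    rw [Finset.mem_range]
    by_contra h
    push Not at h
    have h1 : (6 : ℤ) ≤ |v i| := by rw [← Int.natCast_natAbs]; exact_mod_cast h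
    have := hb i
    nlinarith [sq_abs (v i)]
  obtain ⟨a, ha, b, hb', hab, he⟩ := Finset.exists_ne_map_eq_of_card_lt_of_maps_to
    (s := sᶜ) (t := Finset.range 6) (f := fun i => (v i).natAbs)
    (by rw [Finset.card_range, Finset.card_compl, card_golayPt]; omega) (fun i _ => hlt i)
  refine ⟨a, b, Finset.mem_compl.1 ha, Finset.mem_compl.1 hb', hab, ?_⟩
  rcases Int.natAbs_eq_natAbs_iff.1 he with h | h
  · exact ⟨1, one_pow 2, by rw [one_mul, h]⟩
  · exact ⟨-1, by norm_num, by rw [h]; ring⟩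

theorem sq_le_norm (x : GolayPt → ℤ) (i : GolayPt) : x i ^ 2 ≤ sqNorm x := sq_le_sum x i

/-- every vector of squared length 32 is moved to the standard one -/
theorem trans32 (v : leechLattice) (hv : sqNorm (v : GolayPt → ℤ) = 32) :
    ∃ g : ↥Co0, ((g • v : leechLattice) : GolayPt → ℤ) = Spor.vecU := by
  obtain ⟨a, b, -, -, hab, t, ht, htb⟩ := exists_eq_abs (v : GolayPt → ℤ)
    (fun i => (sq_le_norm _ i).trans (by omega)) ∅ (by simp)
  have h2 : (2 : ℤ) ∣ t + -1 := by rcases sq_eq_one_iff.1 ht with rfl | rfl <;> norm_num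
  set z := fourPair a b t (-1) h2 with hz
  have hzn : sqNorm (z : GolayPt → ℤ) = 32 := norm_fourPair hab ht (by norm_num) h2
  have hvz : dotInt (v : GolayPt → ℤ) (z : GolayPt → ℤ) = 0 := by
    rw [hz, dot_fourPair, htb]; ring
  obtain ⟨g, i, hg⟩ := reach_pos (v + z) (by
    rw [AddSubgroup.coe_add, sqNorm_add, hv, hzn, hvz]; rfl)
  have h4 : ((g • v : leechLattice) : GolayPt → ℤ) i = 4 := by
    have h1 := dotInt_smul g v (v + z)
    rw [hg, dot_single, AddSubgroup.coe_add, dotInt_add_right, hvz,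
      show dotInt (v : GolayPt → ℤ) (v : GolayPt → ℤ) = 32 by
        rw [← hv]; exact Finset.sum_congr rfl fun _ _ => (sq _).symm] at h1
    omega
  obtain ⟨k, hk, -⟩ := to_vecU (g • v) (by rw [sqNorm_smul]; exact hv) i h4
  exact ⟨k * g, by rw [mul_smul]; exact hk⟩

/-- the entries of an odd vector made congruent to one modulo four -/
theorem odd_normal {x : GolayPt → ℤ} (hx : x ∈ leechLattice) (hodd : ¬ (2 : ℤ) ∣ x none) :
    ∃ c ∈ golayCode, ∀ i, (4 : ℤ) ∣ negOn c x i - 1 := by
  obtain ⟨m, y, hy, -, hc⟩ := mem_lattice_iff.1 hx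
  obtain ⟨r, rfl⟩ : ∃ r, m = 1 + 2 * r := ⟨(m - 1) / 2, by have := hy none; omega⟩
  refine ⟨red2 y + (r : ZMod 2) • 1, add_mem hc (Submodule.smul_mem _ _ one_mem), fun i => ?_⟩
  have hci : (red2 y + (r : ZMod 2) • (1 : GolayPt → ZMod 2)) i = ((y i + r : ℤ) : ZMod 2) := by
    simp [red2]
  have := hy i
  simp only [negOn, hci, ZMod.intCast_zmod_eq_zero_iff_dvd]
  split_ifs with h <;> simp only [Nat.cast_ofNat] at h <;> omega

theorem odd_all {x : GolayPt → ℤ} (hx : x ∈ leechLattice) (i : GolayPt) :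
    (2 : ℤ) ∣ x i ↔ (2 : ℤ) ∣ x none := by
  obtain ⟨m, y, hy, -, -⟩ := mem_lattice_iff.1 hx
  have := hy i; have := hy none
  omega

/-- a vector with the wanted scalar product with one of squared length 48 -/
theorem exists_companion48 (v : leechLattice) (hv : sqNorm (v : GolayPt → ℤ) = 48) :
    ∃ z : leechLattice, sqNorm (z : GolayPt → ℤ) = 32 ∧
      dotInt (v : GolayPt → ℤ) (z : GolayPt → ℤ) = 8 := by
  set x := (v : GolayPt → ℤ) with hx
  suffices h : ∃ a b : GolayPt, ∃ s t : ℤ, a ≠ b ∧ s ^ 2 = 1 ∧ t ^ 2 = 1 ∧ s * x a + t * x b = 2 by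
    obtain ⟨a, b, s, t, hab, hs, ht, he⟩ := h
    have h2 : (2 : ℤ) ∣ s + t := by
      rcases sq_eq_one_iff.1 hs with rfl | rfl <;> rcases sq_eq_one_iff.1 ht with rfl | rfl <;>
        norm_num
    exact ⟨fourPair a b s t h2, norm_fourPair hab hs ht h2, by rw [dot_fourPair, he]; rfl⟩
  by_cases he : (2 : ℤ) ∣ x none
  · obtain ⟨y, hy, hc, h4⟩ := even_form v.2 he
    have h12 : ∑ i, y i ^ 2 = 12 := by
      have : sqNorm x = 4 * ∑ i, y i ^ 2 := by
        rw [sqNorm, Finset.mul_sum]
        exact Finset.sum_congr rfl fun i _ => by rw [hx, hy i]; ring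
      omega
    have hne : red2 y ≠ 0 := by
      intro h0
      have hev : ∀ i, (2 : ℤ) ∣ y i := fun i =>
        (ZMod.intCast_zmod_eq_zero_iff_dvd _ 2).1 (congrFun h0 i)
      choose w hw using hev
      have e1 : ∑ i, y i ^ 2 = 4 * ∑ i, w i ^ 2 := by
        rw [Finset.mul_sum]; exact Finset.sum_congr rfl fun i _ => by rw [hw i]; ring
      have e2 : ∑ i, y i = 2 * ∑ i, w i := by
        rw [Finset.mul_sum]; exact Finset.sum_congr rfl fun i _ => hw i
      obtain ⟨l, hl⟩ := two_dvd_sum_sub_sq w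
      omega
    have h8 := eight_le_weight hc hne
    rw [hammingNorm_eq_card] at h8
    obtain ⟨a, ha⟩ : (support₂ (red2 y)).Nonempty := Finset.card_pos.1 (by omega)
    have hodd := (support₂_red2' y a).1 ha
    have ha1 : y a ^ 2 = 1 := by
      obtain ⟨hge, hdvd⟩ := odd_sq_bound hodd
      have hs := Finset.add_sum_erase _ (fun q => y q ^ 2) ha
      have hr : (((support₂ (red2 y)).erase a).card : ℤ) ≤
          ∑ q ∈ (support₂ (red2 y)).erase a, y q ^ 2 := by
        have := Finset.sum_le_sum (s := (support₂ (red2 y)).erase a)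
          fun q hq => (odd_sq_bound ((support₂_red2' y q).1 (Finset.mem_of_mem_erase hq))).1
        simpa using this
      rw [Finset.card_erase_of_mem ha] at hr
      have hle : ∑ q ∈ support₂ (red2 y), y q ^ 2 ≤ ∑ q, y q ^ 2 :=
        Finset.sum_le_sum_of_subset_of_nonneg (Finset.subset_univ _) fun q _ _ => sq_nonneg _
      omega
    obtain ⟨b, hb⟩ : ∃ b, y b = 0 := by
      by_contra! h
      have : ∀ i, (1 : ℤ) ≤ y i ^ 2 := fun i => by
        have := sq_pos_of_ne_zero (h i); omega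
      have := Finset.sum_le_sum (s := Finset.univ) fun i _ => this i
      rw [Finset.sum_const, Finset.card_univ, card_golayPt, h12] at this
      norm_num at this
    refine ⟨a, b, y a, 1, fun e => by rw [e, hb] at hodd; norm_num at hodd, ha1, one_pow 2, ?_⟩
    rw [hx, hy a, hy b, hb]
    linear_combination 2 * ha1
  · have hone : ∀ i, (1 : ℤ) ≤ x i ^ 2 := fun i => by
      have : ¬ (2 : ℤ) ∣ x i := fun h => he ((odd_all v.2 i).1 h)
      exact (odd_sq_bound this).1
    set F := Finset.univ.filter fun i => x i ^ 2 = 1 with hF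
    have hF2 : 2 ≤ F.card := by
      by_contra hlt
      push Not at hlt
      have h9 : ∀ i ∈ Fᶜ, (9 : ℤ) ≤ x i ^ 2 := fun i hi => by
        obtain ⟨-, k, hk⟩ := odd_sq_bound (a := x i) (fun h => he ((odd_all v.2 i).1 h))
        have h1 := hone i
        simp only [hF, Finset.mem_compl, Finset.mem_filter, Finset.mem_univ, true_and] at hi
        omega
      have := Finset.sum_le_sum h9
      have h2 : ∑ i ∈ Fᶜ, x i ^ 2 ≤ sqNorm x :=
        Finset.sum_le_sum_of_subset_of_nonneg (Finset.subset_univ _) fun q _ _ => sq_nonneg _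
      rw [Finset.sum_const, Finset.card_compl, card_golayPt, nsmul_eq_mul] at this
      push_cast [Nat.cast_sub (by omega : F.card ≤ 24)] at this
      omega
    obtain ⟨a, ha, b, hb, hab⟩ := Finset.one_lt_card.1 hF2
    simp only [hF, Finset.mem_filter, Finset.mem_univ, true_and] at ha hb
    exact ⟨a, b, x a, x b, hab, ha, hb, by linear_combination ha + hb⟩

/-- every vector of squared length 48 is moved to the standard one -/
theorem trans48 (v : leechLattice) (hv : sqNorm (v : GolayPt → ℤ) = 48) :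
    ∃ g : ↥Co0, ((g • v : leechLattice) : GolayPt → ℤ) = Spor.vecV := by
  obtain ⟨z, hz, hvz⟩ := exists_companion48 v hv
  obtain ⟨g, i, hg⟩ := reach_pos (v - z) (by
    rw [AddSubgroup.coe_sub, sqNorm_sub, hv, hz, hvz]; rfl)
  set x := ((g • v : leechLattice) : GolayPt → ℤ) with hx
  have hxn : sqNorm x = 48 := by rw [hx, sqNorm_smul]; exact hv
  have h5 : x i = 5 := by
    have h1 := dotInt_smul g v (v - z)
    rw [hg, dot_single, AddSubgroup.coe_sub, sub_eq_add_neg, dotInt_add_right,
      show dotInt (v : GolayPt → ℤ) (v : GolayPt → ℤ) = 48 by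
        rw [← hv]; exact Finset.sum_congr rfl fun _ _ => (sq _).symm,
      show dotInt (v : GolayPt → ℤ) (-(z : GolayPt → ℤ)) = -8 by
        rw [← hvz]; simp [dotInt, -Fintype.sum_option]] at h1
    rw [hx]; omega
  have hodd : ∀ j, ¬ (2 : ℤ) ∣ x j := fun j h => by
    have h1 := (odd_all (g • v).2 j).1 h
    have h2 := (odd_all (g • v).2 i).2 h1
    rw [← hx, h5] at h2
    norm_num at h2
  have hrest : ∀ j, j ≠ i → x j ^ 2 = 1 := by
    intro j hj
    have hs := Finset.add_sum_erase _ (fun q => x q ^ 2) (Finset.mem_univ i)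
    have hs' := Finset.add_sum_erase _ (fun q => x q ^ 2)
      (Finset.mem_erase.2 ⟨hj, Finset.mem_univ j⟩)
    have hr : (((Finset.univ.erase i).erase j).card : ℤ) ≤
        ∑ q ∈ (Finset.univ.erase i).erase j, x q ^ 2 := by
      have := Finset.sum_le_sum (s := (Finset.univ.erase i).erase j)
        fun q _ => (odd_sq_bound (hodd q)).1
      simpa using this
    rw [Finset.card_erase_of_mem (Finset.mem_erase.2 ⟨hj, Finset.mem_univ j⟩),
      Finset.card_erase_of_mem (Finset.mem_univ i), Finset.card_univ, card_golayPt] at hr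
    rw [sqNorm] at hxn
    simp only [h5] at hs
    obtain ⟨hge, -⟩ := odd_sq_bound (hodd j)
    omega
  obtain ⟨c, hc, hc1⟩ := odd_normal (g • v).2 (hodd none)
  obtain ⟨σ, hσ, hmap⟩ := exists_move [i] [none] (by simp) (by simp) rfl (by simp)
  simp only [List.map_cons, List.map_nil, List.cons.injEq, and_true] at hmap
  refine ⟨signCo0 1 one_mem * permCo0 σ hσ * signCo0 c hc * g, funext fun p => ?_⟩
  rw [mul_smul, mul_smul, mul_smul, negate_apply, Pi.neg_apply, permCo0_apply, signCo0_apply, ← hx]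
  have h41 := hc1 (σ⁻¹ p)
  rw [← hx] at h41
  have habs : negOn c x (σ⁻¹ p) = x (σ⁻¹ p) ∨ negOn c x (σ⁻¹ p) = -x (σ⁻¹ p) := by
    simp only [negOn]; split_ifs
    · exact Or.inl rfl
    · exact Or.inr rfl
  by_cases hp : p = none
  · subst hp
    rw [show σ⁻¹ none = i by rw [← hmap]; simp] at habs h41 ⊢
    rw [h5] at habs
    simp only [Spor.vecV, if_true]
    omega
  · have h1 := hrest (σ⁻¹ p) (fun e => hp (by rw [← hmap, ← e]; simp))
    simp only [Spor.vecV, hp, if_false]
    rcases sq_eq_one_iff.1 h1 with e | e <;> rw [e] at habs <;> omega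

/-- prescribed signs on an octad -/
theorem exists_octad_signs {o : GolayPt → ZMod 2} (ho : o ∈ golayCode) (h8 : hammingNorm o = 8)
    (f : GolayPt → ZMod 2) (hf : ∑ i ∈ support₂ o, f i = 0) :
    ∃ d ∈ golayCode, ∀ i ∈ support₂ o, d i = f i := by
  classical
  obtain ⟨d, hd, hdb⟩ := exists_dot (fun k : {i // i ∈ support₂ o} => Pi.single (k : GolayPt) 1)
    (fun k => f k) (by
      intro l hl
      set u := ∑ k, l k • (Pi.single (k : GolayPt) 1 : GolayPt → ZMod 2) with hu
      have hval : ∀ k : {i // i ∈ support₂ o}, u k = l k := fun k => by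
        rw [hu, Finset.sum_apply, Finset.sum_eq_single k]
        · simp
        · intro j _ hj
          rw [Pi.smul_apply, Pi.single_eq_of_ne (fun e => hj (Subtype.ext e.symm)), smul_zero]
        · simp
      have hsub : support₂ u ⊆ support₂ o := fun p hp => by
        by_contra hpo
        rw [mem_support₂, hu, Finset.sum_apply, Finset.sum_eq_zero] at hp
        · exact zero_ne_one hp
        · intro j _
          rw [Pi.smul_apply, Pi.single_eq_of_ne (fun e : p = (j : GolayPt) => hpo (e ▸ j.2)), smul_zero]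
      by_cases h0 : u = 0
      · refine Finset.sum_eq_zero fun k _ => ?_
        rw [← hval k, h0]; simp
      · have heq : support₂ u = support₂ o := Finset.eq_of_subset_of_card_le hsub (by
          rw [← hammingNorm_eq_card, ← hammingNorm_eq_card, h8]; exact eight_le_weight hl h0)
        rw [← hf, ← Finset.sum_coe_sort (support₂ o)]
        refine Finset.sum_congr rfl fun k _ => ?_
        have : u k = 1 := by rw [← mem_support₂, heq]; exact k.2
        rw [← hval k, this, one_mul])
  refine ⟨d, hd, fun i hi => ?_⟩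
  have := hdb ⟨i, hi⟩
  rw [Finset.sum_eq_single i (fun p _ hp => by simp [hp]) (by simp)] at this
  simpa using this

theorem dot_vecU (x : GolayPt → ℤ) : dotInt Spor.vecU x = 4 * (x none + x (some 0)) := by
  rw [show Spor.vecU = Pi.single none 4 + Pi.single (some 0) 4 by decide +kernel, dotInt_comm,
    dotInt_add_right, dot_single, dot_single]
  ring

/-- a pair of squared length 32 is moved so that the second has equal first two entries -/
theorem normal_pair (v w : leechLattice) (hv : sqNorm (v : GolayPt → ℤ) = 32)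
    (hw : sqNorm (w : GolayPt → ℤ) = 32) :
    ∃ g : ↥Co0, ((g • v : leechLattice) : GolayPt → ℤ) = Spor.vecU ∧
      8 * ((g • w : leechLattice) : GolayPt → ℤ) none = dotInt (v : GolayPt → ℤ) (w : GolayPt → ℤ) ∧
      8 * ((g • w : leechLattice) : GolayPt → ℤ) (some 0) =
        dotInt (v : GolayPt → ℤ) (w : GolayPt → ℤ) := by
  obtain ⟨g, hg⟩ := trans32 v hv
  set w1 := g • w with hw1
  obtain ⟨p, q, hp, hq, hpq, t, ht, htq⟩ := exists_eq_abs (w1 : GolayPt → ℤ)
    (fun i => (sq_le_norm _ i).trans (by rw [hw1, sqNorm_smul]; omega))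
    {none, some 0} (by simp)
  simp only [Finset.mem_insert, Finset.mem_singleton, not_or] at hp hq
  have h2 : (2 : ℤ) ∣ t + -1 := by rcases sq_eq_one_iff.1 ht with rfl | rfl <;> norm_num
  set z := fourPair p q t (-1) h2 with hz
  have hzn : sqNorm (z : GolayPt → ℤ) = 32 := norm_fourPair hpq ht (by norm_num) h2
  have hvz : dotInt ((g • v : leechLattice) : GolayPt → ℤ) (z : GolayPt → ℤ) = 0 := by
    rw [hz, dot_fourPair, hg]
    simp [Spor.vecU, hp.1, hp.2, hq.1, hq.2]
  have hwz : dotInt (w1 : GolayPt → ℤ) (z : GolayPt → ℤ) = 0 := by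
    rw [hz, dot_fourPair, htq]; ring
  have hvn : sqNorm ((g • v : leechLattice) : GolayPt → ℤ) = 32 := by rw [sqNorm_smul]; exact hv
  obtain ⟨h, i, hh⟩ := reach_pos (g • v + z) (by
    rw [AddSubgroup.coe_add, sqNorm_add, hvn, hzn, hvz]; rfl)
  have hvi : ((h • g • v : leechLattice) : GolayPt → ℤ) i = 4 := by
    have h1 := dotInt_smul h (g • v) (g • v + z)
    rw [hh, dot_single, AddSubgroup.coe_add, dotInt_add_right, hvz,
      show dotInt ((g • v : leechLattice) : GolayPt → ℤ) ((g • v : leechLattice) : GolayPt → ℤ) = 32 by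
        rw [← hvn]; exact Finset.sum_congr rfl fun _ _ => (sq _).symm] at h1
    omega
  have hwi : 8 * ((h • w1 : leechLattice) : GolayPt → ℤ) i =
      dotInt (v : GolayPt → ℤ) (w : GolayPt → ℤ) := by
    have h1 := dotInt_smul h w1 (g • v + z)
    rw [hh, dot_single, AddSubgroup.coe_add, dotInt_add_right, hwz, hw1, dotInt_smul,
      dotInt_comm (w : GolayPt → ℤ)] at h1
    rw [hw1]
    omega
  obtain ⟨k, hk, hkw⟩ := to_vecU (h • g • v) (by rw [sqNorm_smul]; exact hvn) i hvi
  obtain ⟨hk1, -⟩ := hkw (h • w1)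
  refine ⟨k * h * g, by rw [mul_smul, mul_smul]; exact hk, ?_, ?_⟩
  · rw [mul_smul, mul_smul, ← hw1, hk1, hwi]
  · have h3 := dotInt_smul (k * h * g) v w
    rw [mul_smul, mul_smul, mul_smul, mul_smul, hk, dot_vecU, ← hw1, hk1] at h3
    rw [mul_smul, mul_smul, ← hw1]
    omega

end Cfsg.Agent.Leech
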