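import Mathlib
import Cfsg.Prelude.Def_Sporadic_a
import Cfsg.Prelude.Def_Spor_Conway
import Cfsg.Agent.Leech.Lattice
import Cfsg.Agent.Leech.CountAt
import Cfsg.Agent.Leech.ModRep
import Cfsg.Agent.Leech.Orbits

/-! Counts of short vectors with a given scalar product with a short vector. -/

set_option autoImplicit false

namespace Cfsg.Agent.Leech
open Cfsg

/-- the histogram of the first two points -/
def hist2 : ℕ := 2664430641834086164972861523805205897885507135300276430161692761703323663276380236291133297083474991319659933172295937994599388951168524076312323102660868719330238617520252523208318685609187657943237843846053710271442359068735091319614562891421528013076746001839067593481145236230735045817618997883762416166943045263026035580941330204719709819196434060863398941222918390531507403110744065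

theorem hist2_eq : hist (([none, some 0] : List GolayPt).map idx) = hist2 := by decide +kernel

/-- the vectors of squared length `4 N` with given sum of the first two entries -/
def pairSumSet (N : ℕ) (s : ℤ) : Set (GolayPt → ℤ) :=
  {x | x ∈ leechLattice ∧ sqNorm x = 4 * (N : ℤ) ∧ x none + x (some 0) = s}

theorem ncard_pairSumSet (N n : ℕ) (hN : N ≤ 16) (hn : n ≤ 5) (hNn : 4 * N = 24 + 8 * n) (s : ℤ) :
    (pairSumSet N s).ncard = ((List.range 17).map fun q : ℕ =>
      ((List.range 100).map fun k => if hist2 / 8192 ^ k % 8192 = 0 then 0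
        else hist2 / 8192 ^ k % 8192 * keyVal N n k [(q : ℤ) - 8, s - ((q : ℤ) - 8)]).sum).sum := by
  classical
  have key := fun q : ℕ => ncard_fixedSet N n hN hn hNn [none, some 0] (by simp)
    [(q : ℤ) - 8, s - ((q : ℤ) - 8)] rfl hist2 hist2_eq
  have hset : pairSumSet N s =
      ⋃ q ∈ (Finset.range 17 : Finset ℕ), fixedSet N [none, some 0] [(q : ℤ) - 8, s - ((q : ℤ) - 8)] := by
    ext x
    simp only [Set.mem_iUnion, exists_prop, Finset.mem_range]
    constructor
    · rintro ⟨h1, h2, h3⟩
      have hb : x none ^ 2 ≤ 64 := (sq_le_norm x none).trans (by omega)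
      have hb1 : -8 ≤ x none ∧ x none ≤ 8 := by
        refine ⟨?_, ?_⟩ <;> nlinarith
      refine ⟨(x none + 8).toNat, by omega, h1, h2, ?_⟩
      simp only [List.map_cons, List.map_nil, List.cons.injEq, and_true]
      omega
    · rintro ⟨q, -, h1, h2, h3⟩
      simp only [List.map_cons, List.map_nil, List.cons.injEq, and_true] at h3
      exact ⟨h1, h2, by omega⟩
  rw [hset, list_sum_map_range, ← Finset.set_biUnion_coe,
    Set.Finite.ncard_biUnion (Finset.range 17).finite_toSet (fun q _ => (key q).2) ?_]
  · rw [finsum_mem_coe_finset]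
    exact Finset.sum_congr rfl fun q _ => (key q).1
  · intro a _ b _ hab
    rw [Function.onFun, Set.disjoint_left]
    rintro x ⟨-, -, ha⟩ ⟨-, -, hb⟩
    simp only [List.map_cons, List.map_nil, List.cons.injEq, and_true] at ha hb
    omega

theorem ncard_pairSum32 : (pairSumSet 8 (-4)).ncard = 4600 ∧ (pairSumSet 8 (-2)).ncard = 47104 ∧
    (pairSumSet 8 0).ncard = 93150 := by
  simp only [ncard_pairSumSet 8 1 (by norm_num) (by norm_num) rfl]
  decide +kernel

/-- scalar products with a short vector, counted at the standard one -/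
theorem ncard_dot (v : leechLattice) (hv : sqNorm (v : GolayPt → ℤ) = 32) (N : ℕ) (d s : ℤ)
    (hd : d = 4 * s) :
    {w : GolayPt → ℤ | w ∈ leechLattice ∧ sqNorm w = 4 * (N : ℤ) ∧
      dotInt (v : GolayPt → ℤ) w = d}.ncard = (pairSumSet N s).ncard := by
  classical
  obtain ⟨g, hg⟩ := trans32 v hv
  refine Set.ncard_congr (fun w h => ((g • (⟨w, h.1⟩ : leechLattice) : leechLattice) : GolayPt → ℤ))
    ?_ ?_ ?_
  · rintro w ⟨h1, h2, h3⟩
    refine ⟨SetLike.coe_mem _, by rw [sqNorm_smul]; exact h2, ?_⟩
    have := dotInt_smul g v ⟨w, h1⟩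
    rw [hg, dot_vecU, h3] at this
    omega
  · intro a b ha hb h
    exact congrArg Subtype.val (MulAction.injective g (Subtype.ext h))
  · rintro x ⟨h1, h2, h3⟩
    refine ⟨((g⁻¹ • (⟨x, h1⟩ : leechLattice) : leechLattice) : GolayPt → ℤ),
      ⟨SetLike.coe_mem _, by rw [sqNorm_smul]; exact h2, ?_⟩, ?_⟩
    · have := dotInt_smul g v (g⁻¹ • (⟨x, h1⟩ : leechLattice))
      rw [smul_inv_smul, hg, dot_vecU] at this
      rw [← this, hd, ← h3]
    · simp

end Cfsg.Agent.Leech
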