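import Mathlib
import Cfsg.Prelude.Def_Sporadic_a
import Cfsg.Prelude.Def_SporadicCombinatorics
import Cfsg.Agent.Leech.Lattice
import Cfsg.Agent.Leech.ModRep
import Cfsg.Agent.Leech.Transitive

/-! Crosses. -/

set_option autoImplicit false

namespace Cfsg.Agent.Leech
open Cfsg

theorem stdCross_of_dvd {x : GolayPt → ℤ} (h : ∀ i, (8 : ℤ) ∣ x i) (hn : sqNorm x = 64) :
    x ∈ stdCross := by
  choose z hz using h
  have hz1 : ∑ i, z i ^ 2 = 1 := by
    have : sqNorm x = 64 * ∑ i, z i ^ 2 := by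
      rw [sqNorm, Finset.mul_sum]
      exact Finset.sum_congr rfl fun i _ => by rw [hz i]; ring
    omega
  obtain ⟨j, hj⟩ : ∃ j, z j ≠ 0 := by
    by_contra! h; simp [h] at hz1
  have hj1 : z j ^ 2 = 1 := by
    have := sq_le_sum z j
    have : 0 < z j ^ 2 := by positivity
    omega
  refine ⟨j, 8 * z j, ?_, funext fun i => ?_⟩
  · rcases sq_eq_one_iff.1 hj1 with h | h <;> simp [h]
  by_cases hij : i = j
  · subst hij; rw [hz i, Pi.single_eq_same]
  · rw [hz i, Pi.single_eq_of_ne hij]
    have := Finset.add_sum_erase _ (fun i => z i ^ 2) (Finset.mem_univ j)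
    have h0 : ∑ i ∈ Finset.univ.erase j, z i ^ 2 = 0 := by omega
    have := (Finset.sum_eq_zero_iff_of_nonneg fun i _ => sq_nonneg (z i)).1 h0 i
      (Finset.mem_erase.2 ⟨hij, Finset.mem_univ _⟩)
    rw [sq_eq_zero_iff.1 this, mul_zero]

theorem stdCross_mem {a : GolayPt → ℤ} (h : a ∈ stdCross) :
    a ∈ leechLattice ∧ sqNorm a = 64 := by
  obtain ⟨i, s, hs, rfl⟩ := h
  constructor
  · rcases hs with rfl | rfl
    · exact octVec_mem i
    · rw [Pi.single_neg]; exact neg_mem (octVec_mem i)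
  · rw [sqNorm, Finset.sum_eq_single i (fun b _ hb => by simp [hb]) (by simp), Pi.single_eq_same]
    rcases hs with rfl | rfl <;> norm_num

theorem oct_mem_stdCross (i : GolayPt) : ((oct i : leechLattice) : GolayPt → ℤ) ∈ stdCross :=
  ⟨i, 8, Or.inl rfl, rfl⟩

/-- the class of a frame vector is the frame -/
theorem stdCross_class {a b : GolayPt → ℤ} (ha : a ∈ stdCross) (hn : sqNorm b = 64)
    {z : GolayPt → ℤ} (hz : z ∈ leechLattice) (h : a - b = 2 • z) : b ∈ stdCross := by
  obtain ⟨i, s, hs, rfl⟩ := ha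
  have hb : ∀ p, b p = (Pi.single i s : GolayPt → ℤ) p - 2 * z p := fun p => by
    have := congrFun h p
    simp only [Pi.sub_apply, Pi.smul_apply, nsmul_eq_mul, Nat.cast_ofNat] at this
    linarith
  have hs4 : ∀ p, (8 : ℤ) ∣ (Pi.single i s : GolayPt → ℤ) p := fun p => by
    simp only [Pi.single_apply]; rcases hs with rfl | rfl <;> split_ifs <;> norm_num
  obtain ⟨m, y, hy, -, hc⟩ := mem_lattice_iff.1 hz
  have hm : (2 : ℤ) ∣ m := by
    by_contra hm
    have : ∀ p, (4 : ℤ) ≤ b p ^ 2 := fun p => by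
      have h4 := hs4 p
      have h1 := hb p
      have h2 := hy p
      have : b p ≤ -2 ∨ 2 ≤ b p := by omega
      rcases this with h | h <;> nlinarith
    have := Finset.sum_le_sum (s := Finset.univ) fun p _ => this p
    rw [Finset.sum_const, Finset.card_univ, card_golayPt] at this
    rw [sqNorm] at hn
    rw [hn] at this
    norm_num at this
  obtain ⟨u, hu, hcu, -⟩ := even_form hz (by have := hy none; omega)
  obtain ⟨q, hq⟩ : ∃ q : GolayPt → ℤ, ∀ p, b p = 4 * q p :=
    ⟨fun p => (Pi.single i s : GolayPt → ℤ) p / 4 - u p, fun p => by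
      have h4 := hs4 p
      have h1 := hb p
      have h2 := hu p
      simp only
      omega⟩
  have hqu : red2 q = red2 u := by
    funext p
    refine (sub_eq_zero.1 ?_)
    show ((q p : ℤ) : ZMod 2) - ((u p : ℤ) : ZMod 2) = 0
    rw [← Int.cast_sub, ZMod.intCast_zmod_eq_zero_iff_dvd]
    have h4 := hs4 p
    have h1 := hb p
    have h2 := hu p
    have := hq p
    omega
  have hw : (hammingNorm (red2 q) : ℤ) ≤ 4 := by
    have h1 := weight_le_sum_sq q
    have : sqNorm b = 16 * ∑ p, q p ^ 2 := by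
      rw [sqNorm, Finset.mul_sum]
      exact Finset.sum_congr rfl fun p _ => by rw [hq p]; ring
    omega
  have h0 : red2 q = 0 := by
    by_contra hne
    rw [hqu] at hne hw
    have := eight_le_weight hcu hne
    omega
  refine stdCross_of_dvd (fun p => ?_) hn
  obtain ⟨r, hr⟩ := (ZMod.intCast_zmod_eq_zero_iff_dvd _ 2).1 (congrFun h0 p)
  exact ⟨r, by rw [hq p, hr]; ring⟩

/-- the cross of a vector, through an automorphism into the frame -/
theorem cross_eq_image (v : leechLattice) (hn : sqNorm (v : GolayPt → ℤ) = 64) :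
    ∃ g : ↥Co0, cross (v : GolayPt → ℤ) =
      (fun w : leechLattice => (w : GolayPt → ℤ)) ''
        {w : leechLattice | ((g • w : leechLattice) : GolayPt → ℤ) ∈ stdCross} := by
  obtain ⟨g, hg⟩ := reach v hn
  refine ⟨g, Set.ext fun y => ⟨?_, ?_⟩⟩
  · rintro ⟨hy, hyn, z, hz, hvy⟩
    refine ⟨⟨y, hy⟩, ?_, rfl⟩
    refine stdCross_class hg (by rw [sqNorm_smul]; exact hyn.trans hn) (g • (⟨z, hz⟩ : leechLattice)).2 ?_
    have hv : v = (⟨y, hy⟩ : leechLattice) + ((⟨z, hz⟩ : leechLattice) + ⟨z, hz⟩) := by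
      refine Subtype.ext ?_
      simp only [AddSubgroup.coe_add]
      rw [← two_nsmul, ← hvy]; abel
    conv_lhs => rw [hv, smul_add', smul_add']
    simp only [AddSubgroup.coe_add, two_nsmul]
    abel
  · rintro ⟨w, hw, rfl⟩
    have hwn : sqNorm (w : GolayPt → ℤ) = 64 := by
      rw [← sqNorm_smul g w]; exact (stdCross_mem hw).2
    refine ⟨w.2, hwn.trans hn.symm, ?_⟩
    obtain ⟨z, hz, hzeq⟩ := stdCross_congr hg hw
    refine ⟨_, (g⁻¹ • (⟨z, hz⟩ : leechLattice)).2, ?_⟩
    have e : g • v = g • w + ((⟨z, hz⟩ : leechLattice) + ⟨z, hz⟩) := by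
      refine Subtype.ext ?_
      simp only [AddSubgroup.coe_add]
      rw [← two_nsmul, ← hzeq]; abel
    have := congrArg (fun t : leechLattice => g⁻¹ • t) e
    simp only [smul_add', inv_smul_smul] at this
    conv_lhs => rw [this]
    simp only [AddSubgroup.coe_add, two_nsmul]
    abel

theorem ncard_stdCross : stdCross.ncard = 48 := by
  have : stdCross = Set.range fun p : GolayPt × Bool =>
      (Pi.single p.1 (if p.2 then 8 else -8) : GolayPt → ℤ) := by
    ext a
    constructor
    · rintro ⟨i, s, hs | hs, rfl⟩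
      · exact ⟨(i, true), by simp [hs]⟩
      · exact ⟨(i, false), by simp [hs]⟩
    · rintro ⟨⟨i, b⟩, rfl⟩
      exact ⟨i, _, by cases b <;> simp, rfl⟩
  rw [this, Set.ncard_range_of_injective]
  · simp
  · rintro ⟨i, b⟩ ⟨j, c⟩ h
    have h1 := congrFun h i
    simp only [Pi.single_eq_same] at h1
    by_cases hij : i = j
    · subst hij
      simp only [Pi.single_eq_same] at h1
      cases b <;> cases c <;> simp_all
    · rw [Pi.single_eq_of_ne hij] at h1
      cases b <;> simp at h1

end Cfsg.Agent.Leech
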