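import Mathlib
import Cfsg.Prelude.Def_Sporadic_a
import Cfsg.Prelude.Def_SporadicCombinatorics
import Cfsg.Agent.Leech.Lattice
import Cfsg.Agent.Leech.ModRep
import Cfsg.Agent.Leech.Cross
import Cfsg.Agent.Leech.Theta
import Cfsg.Agent.S0393

/-! The lattice modulo twice itself. -/

set_option autoImplicit false

namespace Cfsg.Agent.Leech
open Cfsg
open scoped Pointwise

/-- doubling -/
def dbl : (GolayPt → ℤ) →+ (GolayPt → ℤ) where
  toFun x := 2 • x
  map_zero' := smul_zero _
  map_add' := smul_add _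

/-- twice the lattice -/
def twoSub : AddSubgroup leechLattice := (leechLattice.map dbl).addSubgroupOf leechLattice

theorem index_range_dbl : dbl.range.index = 2 ^ 24 := by
  let r : (GolayPt → ℤ) →+ (GolayPt → ZMod 2) := AddMonoidHom.mk' red2 red2_add
  have hr : Function.Surjective r := fun c => ⟨valVec c, valVec_red2 c⟩
  have : dbl.range = r.ker := by
    ext x
    constructor
    · rintro ⟨y, rfl⟩
      funext i
      exact (ZMod.intCast_zmod_eq_zero_iff_dvd _ 2).2 ⟨y i, by simp [dbl]⟩
    · intro hx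
      have h2 : ∀ i, (2 : ℤ) ∣ x i := fun i =>
        (ZMod.intCast_zmod_eq_zero_iff_dvd _ 2).1 (congrFun hx i)
      choose y hy using h2
      exact ⟨y, funext fun i => by simp [dbl, hy i]⟩
  rw [this, AddSubgroup.index_ker, AddMonoidHom.range_eq_top.2 hr, AddSubgroup.card_top]
  simp

theorem dbl_injective : Function.Injective dbl := fun a b h => funext fun i => by
  have := congrFun h i
  simp [dbl] at this
  omega

theorem index_twoSub : twoSub.index = 2 ^ 24 := by
  have h1 : leechLattice.map dbl ≤ leechLattice := by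
    rintro _ ⟨x, hx, rfl⟩
    exact nsmul_mem hx 2
  have h2 := AddSubgroup.relIndex_mul_index h1
  rw [AddSubgroup.index_map_of_injective _ dbl_injective, index_range_dbl,
    show leechLattice.index = 2 ^ 36 from S0393.result] at h2
  show (leechLattice.map dbl).relIndex leechLattice = _
  exact Nat.eq_of_mul_eq_mul_right (by norm_num) (h2.trans (mul_comm _ _))

/-- class modulo twice the lattice -/
def cls (v : leechLattice) : leechLattice ⧸ twoSub := QuotientAddGroup.mk v

theorem cls_eq {v w : leechLattice} : cls v = cls w ↔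
    ∃ z ∈ leechLattice, (v : GolayPt → ℤ) - (w : GolayPt → ℤ) = 2 • z := by
  rw [cls, cls, QuotientAddGroup.eq]
  constructor
  · rintro ⟨z, hz, hzeq⟩
    refine ⟨-z, neg_mem hz, ?_⟩
    simp only [AddSubgroup.subtype_apply, AddSubgroup.coe_add, AddSubgroup.coe_neg] at hzeq
    rw [smul_neg, show 2 • z = dbl z from rfl, hzeq]
    abel
  · rintro ⟨z, hz, hzeq⟩
    refine ⟨-z, neg_mem hz, ?_⟩
    simp only [AddSubgroup.subtype_apply, AddSubgroup.coe_add, AddSubgroup.coe_neg]
    show 2 • -z = _
    rw [smul_neg, ← hzeq]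
    abel

/-- vectors of given squared length -/
def layer (N : ℤ) : Set leechLattice := {v | sqNorm (v : GolayPt → ℤ) = N}

theorem ncard_layer (N : ℤ) :
    (layer N).ncard = {x : GolayPt → ℤ | x ∈ leechLattice ∧ sqNorm x = N}.ncard :=
  Set.ncard_congr (fun v _ => (v : GolayPt → ℤ)) (fun v hv => ⟨v.2, hv⟩)
    (fun a b _ _ h => Subtype.ext h) (fun x hx => ⟨⟨x, hx.1⟩, hx.2, rfl⟩)

theorem finite_layer {N : ℤ} (h : (layer N).ncard ≠ 0) : (layer N).Finite :=
  Set.finite_of_ncard_ne_zero h

theorem ncard_image_cls {V : Set leechLattice} (hV : V.Finite) (k : ℕ)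
    (hk : ∀ v ∈ V, {w : leechLattice | w ∈ V ∧ cls w = cls v}.ncard = k) :
    (cls '' V).ncard * k = V.ncard := by
  classical
  rw [Set.ncard_eq_toFinset_card _ hV, Set.ncard_eq_toFinset_card _ (hV.image cls),
    Set.Finite.toFinset_image cls hV (hV.image cls), Finset.card_eq_sum_card_image cls hV.toFinset]
  refine (Finset.sum_const_nat fun b hb => ?_).symm
  obtain ⟨v, hv, rfl⟩ := Finset.mem_image.1 hb
  rw [← hk v (hV.mem_toFinset.1 hv), ← Set.ncard_coe_finset]
  congr 1
  ext w
  simp

theorem fibre_small {N : ℤ} (hN : N < 64) (h0 : 0 < N) {v : leechLattice} (hv : v ∈ layer N) :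
    {w : leechLattice | w ∈ layer N ∧ cls w = cls v}.ncard = 2 := by
  have hne : v ≠ -v := fun h => by
    have hv0 : (v : GolayPt → ℤ) = 0 := funext fun i => by
      have := congrFun (congrArg Subtype.val h) i
      simp at this ⊢
      omega
    rw [layer, Set.mem_setOf_eq, hv0, sqNorm_eq_zero.2 rfl] at hv
    omega
  rw [← Set.ncard_pair hne]
  congr 1
  ext w
  simp only [Set.mem_setOf_eq, Set.mem_insert_iff, Set.mem_singleton_iff]
  constructor
  · rintro ⟨hw, hcw⟩
    obtain ⟨z, hz, hzeq⟩ := cls_eq.1 hcw.symm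
    rw [layer, Set.mem_setOf_eq] at hv hw
    rcases congr_two v.2 w.2 (by omega) (by omega) hz hzeq with h | h | ⟨h, -, -⟩
    · exact Or.inl (Subtype.ext h)
    · exact Or.inr (Subtype.ext h)
    · omega
  · rintro (rfl | rfl)
    · exact ⟨hv, rfl⟩
    · refine ⟨?_, cls_eq.2 ⟨-(v : GolayPt → ℤ), neg_mem v.2, ?_⟩⟩
      · show sqNorm ((-v : leechLattice) : GolayPt → ℤ) = N
        rw [AddSubgroup.coe_neg, ← show sqNorm (v : GolayPt → ℤ) = N from hv]
        simp [sqNorm]
      · rw [AddSubgroup.coe_neg, smul_neg, two_nsmul]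
        abel

theorem fibre_64 {v : leechLattice} (hv : v ∈ layer 64) :
    {w : leechLattice | w ∈ layer 64 ∧ cls w = cls v}.ncard = 48 := by
  obtain ⟨g, hg⟩ := cross_eq_image v hv
  have h48 : (cross (v : GolayPt → ℤ)).ncard = 48 := by
    rw [hg, Set.ncard_image_of_injective _ Subtype.val_injective, ← ncard_stdCross]
    refine Set.ncard_congr (fun w _ => ((g • w : leechLattice) : GolayPt → ℤ))
      (fun w hw => hw) (fun a b _ _ h => MulAction.injective g (Subtype.ext h)) (fun y hy => ?_)
    refine ⟨g⁻¹ • ⟨y, (stdCross_mem hy).1⟩, ?_, ?_⟩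
    · show ((g • g⁻¹ • _ : leechLattice) : GolayPt → ℤ) ∈ stdCross
      rw [smul_inv_smul]; exact hy
    · rw [smul_inv_smul]
  rw [← h48]
  refine Set.ncard_congr (fun w _ => (w : GolayPt → ℤ)) (fun w hw => ?_)
    (fun a b _ _ h => Subtype.ext h) (fun y hy => ?_)
  · obtain ⟨z, hz, hzeq⟩ := cls_eq.1 hw.2.symm
    exact ⟨w.2, hw.1.trans (show sqNorm (v : GolayPt → ℤ) = 64 from hv).symm, z, hz, hzeq⟩
  · obtain ⟨hy, hyn, z, hz, hzeq⟩ := hy
    exact ⟨⟨y, hy⟩, ⟨hyn.trans hv, (cls_eq.2 ⟨z, hz, hzeq⟩).symm⟩, rfl⟩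

theorem ncard_image_64 : (cls '' layer 64).ncard = 8292375 := by
  have h : (layer 64).ncard = 398034000 := (ncard_layer 64).trans ncard_norm64
  have := ncard_image_cls (finite_layer (N := 64) (by rw [h]; norm_num)) 48 fun v hv => fibre_64 hv
  omega

theorem image_disjoint {M N : ℤ} (hM : M ≤ 64) (hN : N ≤ 64) (hMN : M ≠ N) :
    Disjoint (cls '' layer M) (cls '' layer N) := by
  rw [Set.disjoint_left]
  rintro _ ⟨v, hv, rfl⟩ ⟨w, hw, hwv⟩
  obtain ⟨z, hz, hzeq⟩ := cls_eq.1 hwv
  rw [layer, Set.mem_setOf_eq] at hv hw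
  rcases congr_two w.2 v.2 (by omega) (by omega) hz hzeq with h | h | ⟨h1, h2, -⟩
  · rw [h] at hv; omega
  · rw [h] at hv
    simp only [sqNorm, Pi.neg_apply, neg_sq] at hv hw
    omega
  · omega

/-- every class contains a vector of squared length at most 64 -/
theorem exists_short (v : leechLattice) : ∃ w : leechLattice,
    sqNorm (w : GolayPt → ℤ) ≤ 64 ∧ cls v = cls w := by
  have hidx : Nat.card (leechLattice ⧸ twoSub) = 2 ^ 24 := index_twoSub
  haveI : Finite (leechLattice ⧸ twoSub) := Nat.finite_of_card_ne_zero (by rw [hidx]; norm_num)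
  have h32 : (layer 32).ncard = 196560 := (ncard_layer 32).trans ncard_norm32
  have h48 : (layer 48).ncard = 16773120 := (ncard_layer 48).trans ncard_norm48
  have i32 := ncard_image_cls (finite_layer (N := 32) (by rw [h32]; norm_num)) 2
    fun v hv => fibre_small (by norm_num) (by norm_num) hv
  have i48 := ncard_image_cls (finite_layer (N := 48) (by rw [h48]; norm_num)) 2
    fun v hv => fibre_small (by norm_num) (by norm_num) hv
  have i64 := ncard_image_64
  have h0 : layer 0 = {0} := by
    ext w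
    simp only [layer, Set.mem_setOf_eq, Set.mem_singleton_iff, sqNorm_eq_zero]
    exact ⟨fun h => Subtype.ext h, fun h => by rw [h]; rfl⟩
  have i0 : (cls '' layer 0).ncard = 1 := by rw [h0, Set.image_singleton, Set.ncard_singleton]
  set U := cls '' layer 0 ∪ cls '' layer 32 ∪ cls '' layer 48 ∪ cls '' layer 64 with hU
  have hUcard : U.ncard = 2 ^ 24 := by
    have d : ∀ M N : ℤ, M ≤ 64 → N ≤ 64 → M ≠ N → Disjoint (cls '' layer M) (cls '' layer N) :=
      fun M N => image_disjoint
    rw [hU, Set.ncard_union_eq (by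
        rw [Set.disjoint_union_left, Set.disjoint_union_left]
        exact ⟨⟨d _ _ (by norm_num) le_rfl (by norm_num), d _ _ (by norm_num) le_rfl (by norm_num)⟩,
          d _ _ (by norm_num) le_rfl (by norm_num)⟩) (Set.toFinite _) (Set.toFinite _),
      Set.ncard_union_eq (by
        rw [Set.disjoint_union_left]
        exact ⟨d _ _ (by norm_num) (by norm_num) (by norm_num),
          d _ _ (by norm_num) (by norm_num) (by norm_num)⟩) (Set.toFinite _) (Set.toFinite _),
      Set.ncard_union_eq (d _ _ (by norm_num) (by norm_num) (by norm_num)) (Set.toFinite _)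
        (Set.toFinite _), i0, i64]
    rw [h32] at i32; rw [h48] at i48
    rw [show (2 : ℕ) ^ 24 = 16777216 from rfl]
    generalize (cls '' layer 32).ncard = a, (cls '' layer 48).ncard = b at i32 i48 ⊢
    clear * - i32 i48
    omega
  have hall : U = Set.univ :=
    Set.eq_of_subset_of_ncard_le (Set.subset_univ _) (by rw [Set.ncard_univ, hidx, hUcard])
      (Set.toFinite _)
  have := hall.ge (Set.mem_univ (cls v))
  simp only [hU, Set.mem_union, Set.mem_image] at this
  rcases this with ((h | h) | h) | h <;> obtain ⟨w, hw, hwv⟩ := h <;>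
    exact ⟨w, by rw [layer, Set.mem_setOf_eq] at hw; omega, hwv.symm⟩

/-- the standard frame inside the lattice -/
def frame : Set leechLattice := {w | (w : GolayPt → ℤ) ∈ stdCross}

theorem frame_eq_fibre (g : ↥Co0) :
    g • frame = {w : leechLattice | w ∈ layer 64 ∧ cls w = cls (g • oct none)} := by
  ext w
  rw [Set.mem_smul_set_iff_inv_smul_mem]
  constructor
  · intro hw
    refine ⟨?_, cls_eq.2 ?_⟩
    · have := (stdCross_mem hw).2
      rwa [sqNorm_smul] at this
    · obtain ⟨z, hz, hzeq⟩ := stdCross_congr hw (oct_mem_stdCross none)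
      refine ⟨_, (g • (⟨z, hz⟩ : leechLattice)).2, ?_⟩
      have e : g⁻¹ • w = oct none + ((⟨z, hz⟩ : leechLattice) + ⟨z, hz⟩) := by
        refine Subtype.ext ?_
        simp only [AddSubgroup.coe_add]
        rw [← two_nsmul, ← hzeq]; abel
      have := congrArg (fun t : leechLattice => g • t) e
      simp only [smul_add', smul_inv_smul] at this
      conv_lhs => rw [this]
      simp only [AddSubgroup.coe_add, two_nsmul]
      abel
  · rintro ⟨hw, hc⟩
    obtain ⟨z, hz, hzeq⟩ := cls_eq.1 hc.symm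
    refine stdCross_class (oct_mem_stdCross none) ?_ (g⁻¹ • (⟨z, hz⟩ : leechLattice)).2 ?_
    · rw [sqNorm_smul]; exact hw
    have e : g • oct none = w + ((⟨z, hz⟩ : leechLattice) + ⟨z, hz⟩) := by
      refine Subtype.ext ?_
      simp only [AddSubgroup.coe_add]
      rw [← two_nsmul, ← hzeq]; abel
    have := congrArg (fun t : leechLattice => g⁻¹ • t) e
    simp only [smul_add', inv_smul_smul] at this
    conv_lhs => rw [this]
    simp only [AddSubgroup.coe_add, two_nsmul]
    abel

theorem ncard_orbit_frame : (MulAction.orbit ↥Co0 frame).ncard = 8292375 := by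
  rw [← ncard_image_64]
  symm
  refine Set.ncard_congr (fun b _ => {w : leechLattice | w ∈ layer 64 ∧ cls w = b}) ?_ ?_ ?_
  · rintro _ ⟨v, hv, rfl⟩
    obtain ⟨g, hg⟩ := reach v hv
    refine ⟨g⁻¹, ?_⟩
    show g⁻¹ • frame = _
    rw [frame_eq_fibre]
    have : cls v = cls (g⁻¹ • oct none) := by
      have hmem : v ∈ g⁻¹ • frame := by rw [Set.mem_smul_set_iff_inv_smul_mem, inv_inv]; exact hg
      rw [frame_eq_fibre] at hmem
      exact hmem.2
    rw [this]
  · rintro _ b ⟨v, hv, rfl⟩ _ h
    have : v ∈ {w : leechLattice | w ∈ layer 64 ∧ cls w = cls v} := ⟨hv, rfl⟩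
    rw [h] at this
    exact this.2
  · rintro _ ⟨g, rfl⟩
    refine ⟨cls (g • oct none), ⟨g • oct none, ?_, rfl⟩, (frame_eq_fibre g).symm⟩
    show sqNorm _ = 64
    rw [sqNorm_smul]; exact (stdCross_mem (oct_mem_stdCross none)).2

end Cfsg.Agent.Leech
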