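import Mathlib
import Cfsg.Prelude.Def_Sporadic_a
import Cfsg.Prelude.Def_Spor_Conway
import Cfsg.Agent.Leech.Lattice
import Cfsg.Agent.Leech.Orbits

/-! Transitivity on pairs of short vectors. -/

set_option autoImplicit false

namespace Cfsg.Agent.Leech
open Cfsg

theorem perm_vecU {σ : Equiv.Perm GolayPt} (h0 : σ none = none) (h1 : σ (some 0) = some 0)
    (i : GolayPt) : Spor.vecU (σ⁻¹ i) = Spor.vecU i := by
  simp only [Spor.vecU]
  refine if_congr ?_ rfl rfl
  constructor
  · rintro (h | h)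
    · left; have := congrArg σ h; simp [h0] at this; exact this
    · right; have := congrArg σ h; simp [h1] at this; exact this
  · rintro (rfl | rfl)
    · left; exact (Equiv.symm_apply_eq σ).2 h0.symm
    · right; exact (Equiv.symm_apply_eq σ).2 h1.symm

theorem negOn_vecU {c : GolayPt → ZMod 2} {e : ℤ} (h0 : c none = if e = 1 then 0 else 1)
    (h1 : c (some 0) = if e = 1 then 0 else 1) (he : e = 1 ∨ e = -1) :
    negOn c Spor.vecU = e • Spor.vecU := by
  funext i
  simp only [negOn, Pi.smul_apply, smul_eq_mul, Spor.vecU]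
  by_cases hi : i = none ∨ i = some 0
  · rcases hi with rfl | rfl <;> rcases he with rfl | rfl <;> simp [h0, h1]
  · simp [hi]

/-- shape of a partner with scalar product `-16` -/
theorem shape16 (w : leechLattice) (hw : sqNorm (w : GolayPt → ℤ) = 32)
    (h0 : (w : GolayPt → ℤ) none = -2) (h1 : (w : GolayPt → ℤ) (some 0) = -2) :
    ∃ y : GolayPt → ℤ, (∀ i, (w : GolayPt → ℤ) i = 2 * y i) ∧ red2 y ∈ golayCode ∧
      hammingNorm (red2 y) = 8 ∧ (4 : ℤ) ∣ ∑ i, y i ∧ y none = -1 ∧ y (some 0) = -1 ∧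
      (∀ i ∈ support₂ (red2 y), y i = 1 ∨ y i = -1) ∧ ∀ i, i ∉ support₂ (red2 y) → y i = 0 := by
  obtain ⟨y, hy, hc, h4⟩ := even_form w.2 (by rw [h0]; norm_num)
  have hy0 : y none = -1 := by have := hy none; omega
  have hy1 : y (some 0) = -1 := by have := hy (some 0); omega
  have h8 : ∑ i, y i ^ 2 = 8 := by
    have : sqNorm (w : GolayPt → ℤ) = 4 * ∑ i, y i ^ 2 := by
      rw [sqNorm, Finset.mul_sum]
      exact Finset.sum_congr rfl fun i _ => by rw [hy i]; ring
    omega
  have hne : red2 y ≠ 0 := fun h => by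
    have := congrFun h none
    simp [red2, hy0] at this
  have hge := eight_le_weight hc hne
  rw [hammingNorm_eq_card] at hge
  obtain ⟨hle, -⟩ := card_le_sum_odd y
  have hsplit := sum_sq_split y
  rw [h8] at hsplit
  have hnn : (0 : ℤ) ≤ ∑ i ∈ (support₂ (red2 y))ᶜ, y i ^ 2 :=
    Finset.sum_nonneg fun i _ => sq_nonneg _
  refine ⟨y, hy, hc, by rw [hammingNorm_eq_card]; omega, h4, hy0, hy1, fun i hi => ?_, fun i hi => ?_⟩
  · have hs := Finset.add_sum_erase _ (fun q => y q ^ 2) hi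
    have hr : (((support₂ (red2 y)).erase i).card : ℤ) ≤
        ∑ q ∈ (support₂ (red2 y)).erase i, y q ^ 2 := by
      have := Finset.sum_le_sum (s := (support₂ (red2 y)).erase i)
        fun q hq => (odd_sq_bound ((support₂_red2' y q).1 (Finset.mem_of_mem_erase hq))).1
      simpa using this
    rw [Finset.card_erase_of_mem hi] at hr
    obtain ⟨h, -⟩ := odd_sq_bound ((support₂_red2' y i).1 hi)
    exact sq_eq_one_iff.1 (by omega)
  · exact sq_eq_zero_iff.1 ((Finset.sum_eq_zero_iff_of_nonneg fun i _ => sq_nonneg (y i)).1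
      (by omega : ∑ i ∈ (support₂ (red2 y))ᶜ, y i ^ 2 = 0) i (Finset.mem_compl.2 hi))

/-- partners with scalar product `-16` are conjugate under the stabiliser -/
theorem conj16 (w1 w2 : leechLattice) (hn1 : sqNorm (w1 : GolayPt → ℤ) = 32)
    (hn2 : sqNorm (w2 : GolayPt → ℤ) = 32)
    (ha : (w1 : GolayPt → ℤ) none = -2) (hb : (w1 : GolayPt → ℤ) (some 0) = -2)
    (ha' : (w2 : GolayPt → ℤ) none = -2) (hb' : (w2 : GolayPt → ℤ) (some 0) = -2) :
    ∃ k : ↥Co0, ((k • Spor.leechU : leechLattice) : GolayPt → ℤ) = Spor.vecU ∧ k • w1 = w2 := by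
  classical
  obtain ⟨y1, hy1, hc1, hw1, h41, hy10, hy11, hon1, hoff1⟩ := shape16 w1 hn1 ha hb
  obtain ⟨y2, hy2, hc2, hw2, h42, hy20, hy21, hon2, hoff2⟩ := shape16 w2 hn2 ha' hb'
  set O1 := support₂ (red2 y1) with hO1
  set O2 := support₂ (red2 y2) with hO2
  have hmem : ∀ y : GolayPt → ℤ, y none = -1 → y (some 0) = -1 →
      ({none, some 0} : Finset GolayPt) ⊆ support₂ (red2 y) := fun y h h' => by
    intro i hi
    rw [support₂_red2']
    simp only [Finset.mem_insert, Finset.mem_singleton] at hi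
    rcases hi with rfl | rfl <;> simp [h, h']
  have hsub1 : ({none, some 0} : Finset GolayPt) ⊆ O1 := hmem y1 hy10 hy11
  have hsub2 : ({none, some 0} : Finset GolayPt) ⊆ O2 := hmem y2 hy20 hy21
  have hcard : ∀ y : GolayPt → ℤ, hammingNorm (red2 y) = 8 → (support₂ (red2 y)).card = 8 :=
    fun y h => by rw [← hammingNorm_eq_card, h]
  obtain ⟨T1, hT1s, hT1O, hT1⟩ := Finset.exists_subsuperset_card_eq hsub1 (n := 5) (by simp) (by rw [hcard y1 hw1]; norm_num)
  obtain ⟨T2, hT2s, hT2O, hT2⟩ := Finset.exists_subsuperset_card_eq hsub2 (n := 5) (by simp) (by rw [hcard y2 hw2]; norm_num)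
  set l1 := none :: some 0 :: (T1 \ {none, some 0}).toList with hl1
  set l2 := none :: some 0 :: (T2 \ {none, some 0}).toList with hl2
  have hnd : ∀ T : Finset GolayPt, (none :: some 0 :: (T \ {none, some 0}).toList).Nodup := fun T => by
    simp [Finset.nodup_toList]
  have hlen : ∀ T : Finset GolayPt, {none, some 0} ⊆ T → T.card = 5 →
      (none :: some 0 :: (T \ {none, some 0}).toList).length = 5 := fun T hs h => by
    simp only [List.length_cons, Finset.length_toList]
    rw [Finset.card_sdiff_of_subset hs, h]; simp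
  obtain ⟨σ, hσ, hmap⟩ := exists_move l1 l2 (hnd T1) (hnd T2)
    ((hlen T1 hT1s hT1).trans (hlen T2 hT2s hT2).symm) (hlen T1 hT1s hT1).le
  simp only [hl1, hl2, List.map_cons, List.cons.injEq] at hmap
  obtain ⟨hσ0, hσ1, hrest⟩ := hmap
  have hT12 : ∀ i ∈ T1, σ i ∈ T2 := by
    intro i hi
    by_cases hi' : i = none ∨ i = some 0
    · rcases hi' with rfl | rfl
      · rw [hσ0]; exact hT2s (by simp)
      · rw [hσ1]; exact hT2s (by simp)
    · have : σ i ∈ (T1 \ {none, some 0}).toList.map σ :=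
        List.mem_map.2 ⟨i, by simpa [hi] using hi', rfl⟩
      rw [hrest, Finset.mem_toList] at this
      exact (Finset.mem_sdiff.1 this).1
  -- the octads correspond
  have hO : ∀ i, i ∈ O1 ↔ σ i ∈ O2 := by
    have hu := (steiner golayCode card_golayPt finrank_golayCode orth_golay min_golay).2 T1 hT1
    have hB1 : O1 ∈ wordsOfWeight (golayCode : Set (GolayPt → ZMod 2)) 8 :=
      ⟨(mem_supports_iff _).2 hc1, hcard y1 hw1⟩
    set o : GolayPt → ZMod 2 := fun i => red2 y2 (σ i) with ho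
    have hos : ∀ i, i ∈ support₂ o ↔ σ i ∈ O2 := fun i => by rw [mem_support₂, hO2, mem_support₂]
    have ho8 : (support₂ o).card = 8 := by
      rw [← hcard y2 hw2]
      exact Finset.card_equiv σ fun i => hos i
    have hB2 : support₂ o ∈ wordsOfWeight (golayCode : Set (GolayPt → ZMod 2)) 8 :=
      ⟨(mem_supports_iff _).2 (comp_mem_of_M24 hσ hc2), ho8⟩
    have hsubo : T1 ⊆ support₂ o := fun i hi => (hos i).2 (hT2O (hT12 i hi))
    have := hu.unique ⟨hB1, hT1O⟩ ⟨hB2, hsubo⟩
    intro i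
    rw [this, hos]
  have hev : ∀ i, (2 : ℤ) ∣ y2 (σ i) - y1 i := fun i => by
    by_cases hi : i ∈ O1
    · rcases hon1 i hi with e | e <;> rcases hon2 _ ((hO i).1 hi) with e' | e' <;> rw [e, e'] <;> norm_num
    · rw [hoff1 i hi, hoff2 _ (fun h => hi ((hO i).2 h))]; norm_num
  choose q hq using hev
  obtain ⟨d, hd, hdf⟩ := exists_octad_signs hc1 hw1 (fun i => (q i : ZMod 2)) (by
    rw [← Int.cast_sum, ZMod.intCast_zmod_eq_zero_iff_dvd]
    have e1 : ∑ i, (y2 (σ i) - y1 i) = 2 * ∑ i, q i := by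
      rw [Finset.mul_sum]; exact Finset.sum_congr rfl fun i _ => hq i
    rw [Finset.sum_sub_distrib, Equiv.sum_comp σ y2] at e1
    have e2 : ∑ i ∈ O1, q i = ∑ i, q i := by
      refine Finset.sum_subset (Finset.subset_univ _) fun i _ hi => ?_
      have := hq i
      rw [hoff1 i hi, hoff2 _ (fun h => hi ((hO i).2 h))] at this
      omega
    rw [e2]
    omega)
  have hd0 : d none = 0 ∧ d (some 0) = 0 := by
    constructor
    · rw [hdf none (hsub1 (by simp))]
      have := hq none; rw [hσ0, hy20, hy10] at this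
      simp [show q none = 0 by omega]
    · rw [hdf (some 0) (hsub1 (by simp))]
      have := hq (some 0); rw [hσ1, hy21, hy11] at this
      simp [show q (some 0) = 0 by omega]
  refine ⟨permCo0 σ hσ * signCo0 d hd, funext fun i => ?_, Subtype.ext (funext fun i => ?_)⟩
  · rw [mul_smul, permCo0_apply, signCo0_apply]
    rw [show ((Spor.leechU : leechLattice) : GolayPt → ℤ) = Spor.vecU from rfl]
    rw [negOn_vecU (e := 1) (by simp [hd0.1]) (by simp [hd0.2]) (Or.inl rfl), one_smul]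
    exact perm_vecU hσ0 hσ1 i
  · rw [mul_smul, permCo0_apply, signCo0_apply]
    obtain ⟨j, rfl⟩ : ∃ j, σ j = i := ⟨σ⁻¹ i, by simp⟩
    rw [show σ⁻¹ (σ j) = j by simp, hy2]
    simp only [negOn, hy1]
    by_cases hj : j ∈ O1
    · rw [hdf j hj]
      have := hq j
      simp only [ZMod.intCast_zmod_eq_zero_iff_dvd, Nat.cast_ofNat]
      rcases hon1 j hj with e | e <;> rcases hon2 _ ((hO j).1 hj) with e' | e' <;>
        split_ifs <;> omega
    · rw [hoff1 j hj, hoff2 _ (fun h => hj ((hO j).2 h))]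
      simp

/-- normal form of a partner with scalar product `-8` -/
theorem shape8 (w : leechLattice) (hw : sqNorm (w : GolayPt → ℤ) = 32)
    (h0 : (w : GolayPt → ℤ) none = -1) (h1 : (w : GolayPt → ℤ) (some 0) = -1) :
    ∃ c ∈ golayCode, ∃ r, r ≠ none ∧ r ≠ some 0 ∧ c none = 1 ∧ c (some 0) = 1 ∧
      ∀ i, negOn c (w : GolayPt → ℤ) i = if i = r then -3 else 1 := by
  obtain ⟨c, hc, hc4⟩ := odd_normal w.2 (by rw [h0]; norm_num)
  set x := negOn c (w : GolayPt → ℤ) with hx
  have hxn : ∑ i, x i ^ 2 = 32 := by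
    rw [← hw]; exact sqNorm_negOn c _
  have hodd : ∀ i, ¬ (2 : ℤ) ∣ x i := fun i => by have := hc4 i; omega
  have hc0 : c none = 1 ∧ c (some 0) = 1 := by
    constructor <;> refine (zmod2_cases _).resolve_left fun h => ?_
    · have := hc4 none; simp only [hx, negOn, h, if_true, h0] at this; omega
    · have := hc4 (some 0); simp only [hx, negOn, h, if_true, h1] at this; omega
  obtain ⟨r, hr⟩ : ∃ r, x r ^ 2 ≠ 1 := by
    by_contra! h
    rw [Finset.sum_congr rfl fun i _ => h i, sum_golayPt_const] at hxn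
    norm_num at hxn
  have hs := Finset.add_sum_erase _ (fun q => x q ^ 2) (Finset.mem_univ r)
  have hrest : ∀ i, i ≠ r → x i ^ 2 = 1 ∧ x r ^ 2 = 9 := by
    intro i hi
    have hs' := Finset.add_sum_erase _ (fun q => x q ^ 2)
      (Finset.mem_erase.2 ⟨hi, Finset.mem_univ i⟩)
    have hlow : (((Finset.univ.erase r).erase i).card : ℤ) ≤
        ∑ q ∈ (Finset.univ.erase r).erase i, x q ^ 2 := by
      have := Finset.sum_le_sum (s := (Finset.univ.erase r).erase i)
        fun q _ => (odd_sq_bound (hodd q)).1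
      simpa using this
    rw [Finset.card_erase_of_mem (Finset.mem_erase.2 ⟨hi, Finset.mem_univ i⟩),
      Finset.card_erase_of_mem (Finset.mem_univ r), Finset.card_univ, card_golayPt] at hlow
    obtain ⟨hr1, k, hk⟩ := odd_sq_bound (hodd r)
    obtain ⟨hi1, l, hl⟩ := odd_sq_bound (hodd i)
    omega
  have hr3 : x r = -3 := by
    have h9 : x r ^ 2 = 9 := by
      by_cases h : r = none
      · exact (hrest (some 0) (by simp [h])).2
      · exact (hrest none (Ne.symm h)).2
    have : (x r - 3) * (x r + 3) = 0 := by linear_combination h9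
    have := hc4 r
    rcases mul_eq_zero.1 ‹(x r - 3) * (x r + 3) = 0› with e | e <;> omega
  refine ⟨c, hc, r, fun e => ?_, fun e => ?_, hc0.1, hc0.2, fun i => ?_⟩
  · rw [e] at hr3; simp [hx, negOn, hc0.1, h0] at hr3
  · rw [e] at hr3; simp [hx, negOn, hc0.2, h1] at hr3
  · split_ifs with h
    · rw [h]; exact hr3
    · have := hc4 i
      rcases sq_eq_one_iff.1 (hrest i h).1 with e | e
      · exact e
      · omega

/-- partners with scalar product `-8` are conjugate under the stabiliser -/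
theorem conj8 (w1 w2 : leechLattice) (hn1 : sqNorm (w1 : GolayPt → ℤ) = 32)
    (hn2 : sqNorm (w2 : GolayPt → ℤ) = 32)
    (ha : (w1 : GolayPt → ℤ) none = -1) (hb : (w1 : GolayPt → ℤ) (some 0) = -1)
    (ha' : (w2 : GolayPt → ℤ) none = -1) (hb' : (w2 : GolayPt → ℤ) (some 0) = -1) :
    ∃ k : ↥Co0, ((k • Spor.leechU : leechLattice) : GolayPt → ℤ) = Spor.vecU ∧ k • w1 = w2 := by
  obtain ⟨c1, hc1, r1, hr10, hr11, hc10, hc11, hx1⟩ := shape8 w1 hn1 ha hb
  obtain ⟨c2, hc2, r2, hr20, hr21, hc20, hc21, hx2⟩ := shape8 w2 hn2 ha' hb'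
  obtain ⟨σ, hσ, hmap⟩ := exists_move [none, some 0, r1] [none, some 0, r2]
    (by simp [Ne.symm hr10, Ne.symm hr11]) (by simp [Ne.symm hr20, Ne.symm hr21]) rfl (by simp)
  simp only [List.map_cons, List.map_nil, List.cons.injEq, and_true] at hmap
  obtain ⟨hσ0, hσ1, hσr⟩ := hmap
  refine ⟨signCo0 c2 hc2 * permCo0 σ hσ * signCo0 c1 hc1, funext fun i => ?_,
    Subtype.ext (funext fun i => ?_)⟩
  · rw [mul_smul, mul_smul, signCo0_apply]
    simp only [negOn, permCo0_apply, signCo0_apply]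
    rw [show ((Spor.leechU : leechLattice) : GolayPt → ℤ) = Spor.vecU from rfl]
    by_cases hi : i = none ∨ i = some 0
    · rcases hi with rfl | rfl
      · rw [show σ⁻¹ none = none from (Equiv.symm_apply_eq σ).2 hσ0.symm]
        simp [hc10, hc20]
      · rw [show σ⁻¹ (some 0) = some 0 from (Equiv.symm_apply_eq σ).2 hσ1.symm]
        simp [hc11, hc21]
    · have h0 : Spor.vecU i = 0 := by simp [Spor.vecU, hi]
      rw [perm_vecU hσ0 hσ1, h0]; simp
  · rw [mul_smul, mul_smul, signCo0_apply]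
    simp only [negOn, permCo0_apply, signCo0_apply]
    obtain ⟨j, rfl⟩ : ∃ j, σ j = i := ⟨σ⁻¹ i, by simp⟩
    have e : negOn c1 (w1 : GolayPt → ℤ) j = negOn c2 (w2 : GolayPt → ℤ) (σ j) := by
      rw [hx1, hx2]
      refine if_congr ?_ rfl rfl
      rw [← hσr]; simp
    rw [show σ⁻¹ (σ j) = j by simp]
    simp only [negOn] at e
    split_ifs at e ⊢ <;> omega

/-- transitivity on pairs with given scalar product -/
theorem trans_pairs (v w w' : leechLattice) (hv : sqNorm (v : GolayPt → ℤ) = 32)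
    (hw : sqNorm (w : GolayPt → ℤ) = 32) (hw' : sqNorm (w' : GolayPt → ℤ) = 32) (D : ℤ)
    (hD : D = -16 ∨ D = -8) (hd : dotInt (v : GolayPt → ℤ) (w : GolayPt → ℤ) = D)
    (hd' : dotInt (v : GolayPt → ℤ) (w' : GolayPt → ℤ) = D) :
    ∃ g : ↥Co0, g • v = v ∧ g • w = w' := by
  obtain ⟨g1, h1, ha, hb⟩ := normal_pair v w hv hw
  obtain ⟨g2, h2, ha', hb'⟩ := normal_pair v w' hv hw'
  rw [hd] at ha hb
  rw [hd'] at ha' hb'
  have hn1 : sqNorm ((g1 • w : leechLattice) : GolayPt → ℤ) = 32 := by rw [sqNorm_smul]; exact hw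
  have hn2 : sqNorm ((g2 • w' : leechLattice) : GolayPt → ℤ) = 32 := by rw [sqNorm_smul]; exact hw'
  obtain ⟨k, hk, hkw⟩ : ∃ k : ↥Co0, ((k • Spor.leechU : leechLattice) : GolayPt → ℤ) = Spor.vecU ∧
      k • (g1 • w) = g2 • w' := by
    rcases hD with rfl | rfl
    · exact conj16 _ _ hn1 hn2 (by omega) (by omega) (by omega) (by omega)
    · exact conj8 _ _ hn1 hn2 (by omega) (by omega) (by omega) (by omega)
  refine ⟨g2⁻¹ * (k * g1), ?_, by rw [mul_smul, mul_smul, hkw, inv_smul_smul]⟩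
  rw [mul_smul, mul_smul, show g1 • v = Spor.leechU from Subtype.ext h1,
    show k • Spor.leechU = g2 • v from Subtype.ext (hk.trans h2.symm), inv_smul_smul]

end Cfsg.Agent.Leech
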