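import Mathlib
import Cfsg.Prelude.Def_Sporadic_a
import Cfsg.Prelude.Def_Spor_Conway
import Cfsg.Agent.Leech.Lattice
import Cfsg.Agent.Leech.Orbits

/-! Orthogonal pairs of short vectors. -/

set_option autoImplicit false

namespace Cfsg.Agent.Leech
open Cfsg

theorem dot_self (x : GolayPt → ℤ) : dotInt x x = sqNorm x :=
  Finset.sum_congr rfl fun _ _ => (sq _).symm

/-- orthogonal pairs of short vectors have a normal form -/
theorem normal_orth (v w : leechLattice) (hv : sqNorm (v : GolayPt → ℤ) = 32)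
    (hw : sqNorm (w : GolayPt → ℤ) = 32)
    (hvw : dotInt (v : GolayPt → ℤ) (w : GolayPt → ℤ) = 0) :
    ∃ g : ↥Co0, ((g • v : leechLattice) : GolayPt → ℤ) = Spor.vecU ∧
      ((g • w : leechLattice) : GolayPt → ℤ) = Spor.vecU' := by
  obtain ⟨g, i, hg⟩ := reach_pos (v + w) (by
    rw [AddSubgroup.coe_add, sqNorm_add, hv, hw, hvw]; rfl)
  have hwv : dotInt (w : GolayPt → ℤ) (v : GolayPt → ℤ) = 0 := by rw [dotInt_comm]; exact hvw
  have h4v : ((g • v : leechLattice) : GolayPt → ℤ) i = 4 := by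
    have h1 := dotInt_smul g v (v + w)
    rw [hg, dot_single, AddSubgroup.coe_add, dotInt_add_right, hvw, dot_self, hv] at h1
    omega
  have h4w : ((g • w : leechLattice) : GolayPt → ℤ) i = 4 := by
    have h1 := dotInt_smul g w (v + w)
    rw [hg, dot_single, AddSubgroup.coe_add, dotInt_add_right, hwv, dot_self, hw] at h1
    omega
  obtain ⟨k, hk, hkw⟩ := to_vecU (g • v) (by rw [sqNorm_smul]; exact hv) i h4v
  refine ⟨k * g, by rw [mul_smul]; exact hk, ?_⟩
  set x := (((k * g) • w : leechLattice) : GolayPt → ℤ) with hx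
  have hn : x none = 4 := by rw [hx, mul_smul, (hkw (g • w)).1, h4w]
  have h0 : x (some 0) = -4 := by
    have h := dotInt_smul (k * g) v w
    rw [show (((k * g) • v : leechLattice) : GolayPt → ℤ) = Spor.vecU by rw [mul_smul]; exact hk,
      dot_vecU, hvw, ← hx, hn] at h
    omega
  obtain ⟨b, hb, hb4, hrest⟩ := shape32 ((k * g) • w) (by rw [sqNorm_smul]; exact hw) none hn
  have hb0 : b = some 0 := by
    by_contra hne
    have := hrest (some 0) (by simp) (Ne.symm hne)
    rw [← hx] at this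
    omega
  subst hb0
  funext p
  by_cases h1 : p = none
  · subst h1; simp [Spor.vecU', hn]
  by_cases h2 : p = some 0
  · subst h2; simp [Spor.vecU', h0]
  simp [Spor.vecU', h1, h2, hx, hrest p h1 h2]

theorem trans_orth (v w w' : leechLattice) (hv : sqNorm (v : GolayPt → ℤ) = 32)
    (hw : sqNorm (w : GolayPt → ℤ) = 32) (hw' : sqNorm (w' : GolayPt → ℤ) = 32)
    (hd : dotInt (v : GolayPt → ℤ) (w : GolayPt → ℤ) = 0)
    (hd' : dotInt (v : GolayPt → ℤ) (w' : GolayPt → ℤ) = 0) :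
    ∃ g : ↥Co0, g • v = v ∧ g • w = w' := by
  obtain ⟨g1, a1, b1⟩ := normal_orth v w hv hw hd
  obtain ⟨g2, a2, b2⟩ := normal_orth v w' hv hw' hd'
  refine ⟨g2⁻¹ * g1, ?_, ?_⟩
  · rw [mul_smul, inv_smul_eq_iff]; exact Subtype.ext (a1.trans a2.symm)
  · rw [mul_smul, inv_smul_eq_iff]; exact Subtype.ext (b1.trans b2.symm)

end Cfsg.Agent.Leech
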