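import Mathlib
import Cfsg.Prelude.Def_Sporadic_a
import Cfsg.Prelude.Def_Spor_Conway
import Cfsg.Agent.Leech.Code
import Cfsg.Agent.Leech.AbstractCode
import Cfsg.Agent.Leech.Lattice
import Cfsg.Agent.Leech.ModRep
import Cfsg.Agent.Leech.Transitive
import Cfsg.Agent.Leech.Orbits
import Cfsg.Agent.Leech.PairsOrth

/-! Vectors of squared length 48: shapes, companions, normalisation. -/

set_option autoImplicit false

namespace Cfsg.Agent.Leech
open Cfsg

theorem odd_few_big (x : GolayPt → ℤ) (hodd : ∀ i, ¬ (2 : ℤ) ∣ x i) :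
    8 * ((Finset.univ.filter fun i => x i ^ 2 ≠ 1).card : ℤ) + 24 ≤ sqNorm x := by
  have h : ∀ i, (if x i ^ 2 ≠ 1 then (8 : ℤ) else 0) + 1 ≤ x i ^ 2 := fun i => by
    obtain ⟨h1, k, hk⟩ := odd_sq_bound (hodd i)
    split_ifs <;> omega
  have := Finset.sum_le_sum (s := Finset.univ) fun i _ => h i
  rw [Finset.sum_add_distrib, ← Finset.sum_filter, Finset.sum_const, nsmul_eq_mul,
    sum_golayPt_const] at this
  rw [sqNorm]
  linarith

/-- the even vectors of squared length 48 -/
theorem even48 {x : GolayPt → ℤ} (hx : x ∈ leechLattice) (hn : sqNorm x = 48)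
    (he : (2 : ℤ) ∣ x none) :
    ∃ (y : GolayPt → ℤ) (C : Finset GolayPt), (∀ i, x i = 2 * y i) ∧ 8 ≤ C.card ∧ C.card ≤ 12 ∧
      (∀ i ∈ C, y i ^ 2 = 1) ∧ (∀ i, i ∉ C → (2 : ℤ) ∣ y i) ∧
      (Finset.univ.filter fun i => i ∉ C ∧ y i ≠ 0).card ≤ 1 := by
  classical
  obtain ⟨y, hy, hc, h4⟩ := even_form hx he
  have h12 : ∑ i, y i ^ 2 = 12 := by
    have : sqNorm x = 4 * ∑ i, y i ^ 2 := by
      rw [sqNorm, Finset.mul_sum]
      exact Finset.sum_congr rfl fun i _ => by rw [hy i]; ring
    omega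
  have hne : red2 y ≠ 0 := by
    intro h0
    have hev : ∀ i, (2 : ℤ) ∣ y i := fun i =>
      (ZMod.intCast_zmod_eq_zero_iff_dvd _ 2).1 (congrFun h0 i)
    choose w hw using hev
    have e1 : ∑ i, y i ^ 2 = 4 * ∑ i, w i ^ 2 := by
      rw [Finset.mul_sum]; exact Finset.sum_congr rfl fun i _ => by rw [hw i]; ring
    have e2 : ∑ i, y i = 2 * ∑ i, w i := by
      rw [Finset.mul_sum]; exact Finset.sum_congr rfl fun i _ => hw i
    obtain ⟨l, hl⟩ := two_dvd_sum_sub_sq w
    omega
  have h8 := eight_le_weight hc hne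
  rw [hammingNorm_eq_card] at h8
  set C := support₂ (red2 y) with hC
  set Z := Finset.univ.filter fun i => i ∉ C ∧ y i ≠ 0 with hZ
  set B := C.filter fun i => y i ^ 2 ≠ 1 with hB
  have hpt : ∀ i, (if i ∈ C then (1 : ℤ) else 0) + (if i ∈ B then 8 else 0) +
      (if i ∈ Z then 4 else 0) ≤ y i ^ 2 := fun i => by
    by_cases hi : i ∈ C
    · obtain ⟨h1, k, hk⟩ := odd_sq_bound ((support₂_red2' y i).1 hi)
      simp only [hB, hZ, Finset.mem_filter, hi, true_and, Finset.mem_univ, not_true,
        false_and, if_true, if_false]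
      split_ifs <;> omega
    · have hd : (2 : ℤ) ∣ y i := by
        by_contra hh; exact hi ((support₂_red2' y i).2 hh)
      obtain ⟨k, hk⟩ := hd
      simp only [hB, hZ, Finset.mem_filter, hi, true_and, Finset.mem_univ, not_false_eq_true,
        false_and, if_false]
      split_ifs with hz
      · have : k ≠ 0 := by rintro rfl; exact hz (by rw [hk]; rfl)
        have := sq_pos_of_ne_zero this
        rw [hk, mul_pow]
        omega
      · have := sq_nonneg (y i); omega
  have hs := Finset.sum_le_sum (s := Finset.univ) fun i _ => hpt i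
  simp only [Finset.sum_add_distrib, Finset.sum_ite_mem, Finset.univ_inter, Finset.sum_const,
    nsmul_eq_mul, h12] at hs
  have hBC : B = ∅ := Finset.card_eq_zero.1 (by omega)
  refine ⟨y, C, hy, h8, by omega, fun i hi => ?_, fun i hi => ?_, by convert (show Z.card ≤ 1 by omega)⟩
  · by_contra hh
    have : i ∈ B := Finset.mem_filter.2 ⟨hi, hh⟩
    rw [hBC] at this
    simp at this
  · by_contra hh; exact hi ((support₂_red2' y i).2 hh)

/-- a companion supported away from a few given points -/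
theorem exists_companion_avoid (v : leechLattice) (hv : sqNorm (v : GolayPt → ℤ) = 48)
    (S : Finset GolayPt) (hS : S.card ≤ 3) :
    ∃ a b : GolayPt, ∃ s t : ℤ, a ∉ S ∧ b ∉ S ∧ a ≠ b ∧ s ^ 2 = 1 ∧ t ^ 2 = 1 ∧
      s * (v : GolayPt → ℤ) a + t * (v : GolayPt → ℤ) b = 2 := by
  classical
  set x := (v : GolayPt → ℤ) with hx
  by_cases he : (2 : ℤ) ∣ x none
  · obtain ⟨y, C, hy, h8, h12, h1, h2, hZ⟩ := even48 v.2 hv he
    obtain ⟨a, ha, haS⟩ := Finset.exists_mem_notMem_of_card_lt_card (s := S) (t := C) (by omega)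
    obtain ⟨b, hb, hbS⟩ := Finset.exists_mem_notMem_of_card_lt_card
      (s := S ∪ C ∪ Finset.univ.filter (fun i => i ∉ C ∧ y i ≠ 0)) (t := Finset.univ) (by
        rw [Finset.card_univ, card_golayPt]
        refine lt_of_le_of_lt ((Finset.card_union_le _ _).trans
          (Nat.add_le_add_right (Finset.card_union_le _ _) _)) ?_
        omega)
    simp only [Finset.mem_union, Finset.mem_filter, Finset.mem_univ, true_and, not_or, not_and,
      not_not] at hbS
    refine ⟨a, b, y a, 1, haS, hbS.1.1, fun e => hbS.1.2 (e ▸ ha), h1 a ha, one_pow 2, ?_⟩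
    rw [hx, hy a, hy b, hbS.2 hbS.1.2]
    linear_combination 2 * h1 a ha
  · have hodd : ∀ i, ¬ (2 : ℤ) ∣ x i := fun i h => he ((odd_all v.2 i).1 h)
    have h3 := odd_few_big x hodd
    rw [hv] at h3
    have hsub : (S ∪ Finset.univ.filter fun i => x i ^ 2 ≠ 1).card + 2 ≤ 24 := by
      have := Finset.card_union_le S (Finset.univ.filter fun i => x i ^ 2 ≠ 1)
      omega
    obtain ⟨a, ha, b, hb, hab⟩ : ∃ a ∈ (S ∪ Finset.univ.filter fun i => x i ^ 2 ≠ 1)ᶜ,
        ∃ b ∈ (S ∪ Finset.univ.filter fun i => x i ^ 2 ≠ 1)ᶜ, a ≠ b := by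
      refine Finset.one_lt_card.1 ?_
      rw [Finset.card_compl, card_golayPt]
      omega
    simp only [Finset.mem_compl, Finset.mem_union, Finset.mem_filter, Finset.mem_univ, true_and,
      not_or, not_not] at ha hb
    exact ⟨a, b, x a, x b, ha.1, hb.1, hab, ha.2, hb.2, by linear_combination ha.2 + hb.2⟩

/-- monomial normalisation of a vector of squared length 48 with an entry five -/
theorem to_vecV (u : leechLattice) (hu : sqNorm (u : GolayPt → ℤ) = 48) (i : GolayPt)
    (h5 : (u : GolayPt → ℤ) i = 5) :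
    ∃ g : ↥Co0, ((g • u : leechLattice) : GolayPt → ℤ) = Spor.vecV ∧
      ∀ w : leechLattice,
        ((g • w : leechLattice) : GolayPt → ℤ) none = -(w : GolayPt → ℤ) i := by
  set x := (u : GolayPt → ℤ) with hx
  have hodd : ∀ j, ¬ (2 : ℤ) ∣ x j := fun j h => by
    have h1 := (odd_all u.2 j).1 h
    have h2 := (odd_all u.2 i).2 h1
    rw [← hx, h5] at h2
    norm_num at h2
  have hrest : ∀ j, j ≠ i → x j ^ 2 = 1 := by
    intro j hj
    by_contra hne
    have h := odd_few_big x hodd
    rw [hu] at h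
    have hs := Finset.add_sum_erase _ (fun q => x q ^ 2) (Finset.mem_univ i)
    have hs' := Finset.add_sum_erase _ (fun q => x q ^ 2)
      (Finset.mem_erase.2 ⟨hj, Finset.mem_univ j⟩)
    have hr : (((Finset.univ.erase i).erase j).card : ℤ) ≤
        ∑ q ∈ (Finset.univ.erase i).erase j, x q ^ 2 := by
      have := Finset.sum_le_sum (s := (Finset.univ.erase i).erase j)
        fun q _ => (odd_sq_bound (hodd q)).1
      simpa using this
    rw [Finset.card_erase_of_mem (Finset.mem_erase.2 ⟨hj, Finset.mem_univ j⟩),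
      Finset.card_erase_of_mem (Finset.mem_univ i), Finset.card_univ, card_golayPt] at hr
    rw [sqNorm] at hu
    simp only [h5] at hs
    obtain ⟨hge, k, hk⟩ := odd_sq_bound (hodd j)
    omega
  obtain ⟨c, hc, hc1⟩ := odd_normal u.2 (hodd none)
  have hci : c i = 0 := by
    refine (zmod2_cases _).resolve_right fun h => ?_
    have := hc1 i
    rw [← hx] at this
    simp only [negOn, h, h5, one_ne_zero, if_false] at this
    omega
  obtain ⟨σ, hσ, hmap⟩ := exists_move [i] [none] (by simp) (by simp) rfl (by simp)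
  simp only [List.map_cons, List.map_nil, List.cons.injEq, and_true] at hmap
  have hinv : σ⁻¹ none = i := by rw [← hmap]; simp
  refine ⟨signCo0 1 one_mem * permCo0 σ hσ * signCo0 c hc, funext fun p => ?_, fun w => ?_⟩
  · rw [mul_smul, mul_smul, negate_apply, Pi.neg_apply, permCo0_apply, signCo0_apply, ← hx]
    have h41 := hc1 (σ⁻¹ p)
    rw [← hx] at h41
    by_cases hp : p = none
    · subst hp
      rw [hinv] at *
      simp [negOn, hci, h5, Spor.vecV]
    · have h1 := hrest (σ⁻¹ p) (fun e => hp (by rw [← hmap, ← e]; simp))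
      simp only [Spor.vecV, hp, if_false]
      simp only [negOn] at h41 ⊢
      rcases sq_eq_one_iff.1 h1 with e | e <;> split_ifs at h41 ⊢ <;> omega
  · rw [mul_smul, mul_smul, negate_apply, Pi.neg_apply, permCo0_apply, signCo0_apply, hinv]
    simp [negOn, hci]

theorem dot_vecV (x : GolayPt → ℤ) : dotInt Spor.vecV x = -4 * x none - ∑ i, x i := by
  rw [show Spor.vecV = Pi.single none (-4) + -1 by decide +kernel, dotInt_comm, dotInt_add_right,
    dot_single, dotInt]
  simp only [Pi.neg_apply, Pi.one_apply, mul_neg, mul_one, Finset.sum_neg_distrib]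
  ring

end Cfsg.Agent.Leech
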