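import Mathlib
import Cfsg.Prelude.Def_Sporadic_a
import Cfsg.Prelude.Def_Spor_Conway
import Cfsg.Agent.Leech.Lattice
import Cfsg.Agent.Leech.ModRep
import Cfsg.Agent.Leech.Orbits
import Cfsg.Agent.Leech.Pairs
import Cfsg.Agent.Leech.PairsOrth
import Cfsg.Agent.Leech.DotCounts
import Cfsg.Agent.Leech.ModTwo

/-! Triangles with sides of squared length 48, 32, 32, and double counting. -/

set_option autoImplicit false

namespace Cfsg.Agent.Leech
open Cfsg

/-- double counting of a relation between two finite sets -/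
theorem double_count {α β : Type*} {X : Set α} {Y : Set β} (hX : X.Finite) (hY : Y.Finite)
    (r : α → β → Prop) (a b : ℕ) (ha : ∀ x ∈ X, {y | y ∈ Y ∧ r x y}.ncard = a)
    (hb : ∀ y ∈ Y, {x | x ∈ X ∧ r x y}.ncard = b) : X.ncard * a = Y.ncard * b := by
  classical
  have key := Finset.sum_card_bipartiteAbove_eq_sum_card_bipartiteBelow r
    (s := hX.toFinset) (t := hY.toFinset)
  rw [Finset.sum_const_nat (m := a), Finset.sum_const_nat (m := b)] at key
  · rwa [← Set.ncard_eq_toFinset_card X hX, ← Set.ncard_eq_toFinset_card Y hY] at key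
  · intro y hy
    rw [← hb y (hY.mem_toFinset.1 hy), ← Set.ncard_coe_finset]
    congr 1
    ext x
    simp [Finset.bipartiteBelow]
  · intro x hx
    rw [← ha x (hX.mem_toFinset.1 hx), ← Set.ncard_coe_finset]
    congr 1
    ext y
    simp [Finset.bipartiteAbove]

/-- counts transported by an isometry -/
theorem ncard_move (g : ↥Co0) (P Q : leechLattice → Prop) (h : ∀ w, P w ↔ Q (g • w)) :
    {w | P w}.ncard = {w | Q w}.ncard :=
  Set.ncard_congr (fun w _ => g • w) (fun w hw => (h w).1 hw)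
    (fun _ _ _ _ e => MulAction.injective g e)
    (fun x hx => ⟨g⁻¹ • x, (h _).2 (by rw [smul_inv_smul]; exact hx), smul_inv_smul g x⟩)

/-- scalar products with a short vector, counted in the lattice -/
theorem ncard_layer_dot (v : leechLattice) (hv : sqNorm (v : GolayPt → ℤ) = 32) (N : ℕ) (d s : ℤ)
    (hd : d = 4 * s) :
    {u : leechLattice | u ∈ layer (4 * (N : ℤ)) ∧
      dotInt (v : GolayPt → ℤ) (u : GolayPt → ℤ) = d}.ncard = (pairSumSet N s).ncard := by
  rw [← ncard_dot v hv N d s hd]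
  exact Set.ncard_congr (fun u _ => (u : GolayPt → ℤ)) (fun u hu => ⟨u.2, hu.1, hu.2⟩)
    (fun a b _ _ h => Subtype.ext h) (fun x hx => ⟨⟨x, hx.1⟩, ⟨hx.2.1, hx.2.2⟩, rfl⟩)

theorem finite_layer32 : (layer 32).Finite :=
  finite_layer (by rw [ncard_layer, ncard_norm32]; norm_num)

theorem finite_layer48 : (layer 48).Finite :=
  finite_layer (by rw [ncard_layer, ncard_norm48]; norm_num)

theorem ncard_pairSum48_6 : (pairSumSet 12 6).ncard = 47104 := by
  rw [ncard_pairSumSet 12 3 (by norm_num) (by norm_num) rfl]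
  decide +kernel

theorem sq_sub_iff (u v : leechLattice) (hu : sqNorm (u : GolayPt → ℤ) = 48)
    (hv : sqNorm (v : GolayPt → ℤ) = 32) :
    sqNorm ((u : GolayPt → ℤ) - (v : GolayPt → ℤ)) = 32 ↔
      dotInt (u : GolayPt → ℤ) (v : GolayPt → ℤ) = 24 := by
  rw [sqNorm_sub, hu, hv]
  omega

theorem ncard_552 (u : leechLattice) (hu : sqNorm (u : GolayPt → ℤ) = 48) :
    {v : leechLattice | v ∈ layer 32 ∧ dotInt (u : GolayPt → ℤ) (v : GolayPt → ℤ) = 24}.ncard =
      552 := by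
  set a := {v : leechLattice | v ∈ layer 32 ∧
    dotInt (u : GolayPt → ℤ) (v : GolayPt → ℤ) = 24}.ncard
  have ha : ∀ x ∈ layer 48, {v : leechLattice | v ∈ layer 32 ∧
      dotInt (x : GolayPt → ℤ) (v : GolayPt → ℤ) = 24}.ncard = a := by
    intro x hx
    obtain ⟨g, hg⟩ := trans48 x hx
    obtain ⟨h, hh⟩ := trans48 u hu
    refine ncard_move (h⁻¹ * g) _ _ fun w => ?_
    have hxu : (h⁻¹ * g) • x = u := by
      rw [mul_smul, inv_smul_eq_iff]; exact Subtype.ext (hg.trans hh.symm)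
    simp only [layer, Set.mem_setOf_eq, sqNorm_smul]
    rw [← hxu, dotInt_smul]
  have hb : ∀ v ∈ layer 32, {x : leechLattice | x ∈ layer 48 ∧
      dotInt (x : GolayPt → ℤ) (v : GolayPt → ℤ) = 24}.ncard = 47104 := by
    intro v hv
    rw [← ncard_pairSum48_6, ← ncard_layer_dot v hv 12 24 6 (by norm_num)]
    simp only [dotInt_comm _ (v : GolayPt → ℤ)]
    rfl
  have h := double_count finite_layer48 finite_layer32 _ a 47104 ha hb
  rw [ncard_layer, ncard_norm48, ncard_layer, ncard_norm32] at h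
  omega

/-- pairs with scalar product `-16` or `-8` are conjugate -/
theorem trans_pairs' (v w v' w' : leechLattice) (hv : sqNorm (v : GolayPt → ℤ) = 32)
    (hw : sqNorm (w : GolayPt → ℤ) = 32) (hv' : sqNorm (v' : GolayPt → ℤ) = 32)
    (hw' : sqNorm (w' : GolayPt → ℤ) = 32) (D : ℤ) (hD : D = -16 ∨ D = -8)
    (hd : dotInt (v : GolayPt → ℤ) (w : GolayPt → ℤ) = D)
    (hd' : dotInt (v' : GolayPt → ℤ) (w' : GolayPt → ℤ) = D) :
    ∃ g : ↥Co0, g • v = v' ∧ g • w = w' := by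
  obtain ⟨g, hg⟩ := trans32 v hv
  obtain ⟨h, hh⟩ := trans32 v' hv'
  have hvv : (h⁻¹ * g) • v = v' := by
    rw [mul_smul, inv_smul_eq_iff]; exact Subtype.ext (hg.trans hh.symm)
  obtain ⟨k, k1, k2⟩ := trans_pairs v' ((h⁻¹ * g) • w) w' hv' (by rw [sqNorm_smul]; exact hw) hw'
    D hD (by rw [← hd, ← dotInt_smul (h⁻¹ * g) v w, hvv]) hd'
  exact ⟨k * (h⁻¹ * g), by rw [mul_smul, hvv, k1], by rw [mul_smul, k2]⟩

/-- triangles of the shape 48, 32, 32 are conjugate -/
theorem trans_triangle (u v u' v' : leechLattice) (hu : sqNorm (u : GolayPt → ℤ) = 48)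
    (hu' : sqNorm (u' : GolayPt → ℤ) = 48) (hv : sqNorm (v : GolayPt → ℤ) = 32)
    (hv' : sqNorm (v' : GolayPt → ℤ) = 32)
    (hd : dotInt (u : GolayPt → ℤ) (v : GolayPt → ℤ) = 24)
    (hd' : dotInt (u' : GolayPt → ℤ) (v' : GolayPt → ℤ) = 24) :
    ∃ g : ↥Co0, g • u = u' ∧ g • v = v' := by
  have key : ∀ a b : leechLattice, sqNorm (b : GolayPt → ℤ) = 32 →
      dotInt (a : GolayPt → ℤ) (b : GolayPt → ℤ) = 24 →
      dotInt (b : GolayPt → ℤ) ((a - b : leechLattice) : GolayPt → ℤ) = -8 := fun a b hb h => by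
    rw [AddSubgroup.coe_sub, sub_eq_add_neg, dotInt_add_right, dotInt_comm, h,
      show dotInt (b : GolayPt → ℤ) (-(b : GolayPt → ℤ)) = -dotInt (b : GolayPt → ℤ) (b : GolayPt → ℤ)
        by simp [dotInt, -Fintype.sum_option], dot_self, hb]
    rfl
  obtain ⟨g, g1, g2⟩ := trans_pairs' v (u - v) v' (u' - v') hv
    (by rw [AddSubgroup.coe_sub]; exact (sq_sub_iff u v hu hv).2 hd) hv'
    (by rw [AddSubgroup.coe_sub]; exact (sq_sub_iff u' v' hu' hv').2 hd') (-8) (Or.inr rfl)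
    (key u v hv hd) (key u' v' hv' hd')
  refine ⟨g, ?_, g1⟩
  rw [show u = v + (u - v) by abel, smul_add', g1, g2]
  abel

end Cfsg.Agent.Leech
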