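import Mathlib
import Cfsg.Prelude.Def_Sporadic_a
import Cfsg.Prelude.Def_Spor_Conway
import Cfsg.Agent.Leech.Code
import Cfsg.Agent.Leech.AbstractCode
import Cfsg.Agent.Leech.Punctured
import Cfsg.Agent.Leech.Steiner
import Cfsg.Agent.Leech.Lattice
import Cfsg.Agent.Leech.ModRep
import Cfsg.Agent.Leech.Orbits
import Cfsg.Agent.Leech.Pairs
import Cfsg.Agent.Leech.PairsOrth
import Cfsg.Agent.Leech.DotCounts
import Cfsg.Agent.Leech.ModTwo
import Cfsg.Agent.Leech.TwoThree
import Cfsg.Agent.Leech.Shape48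

/-! Pairs of squared lengths 48 and 32 with scalar product `-16`. -/

set_option autoImplicit false

namespace Cfsg.Agent.Leech
open Cfsg

/-- the partners are octads through the first point, two minus signs -/
theorem shape_sixteen (x : leechLattice) (hn : sqNorm (x : GolayPt → ℤ) = 32)
    (h0 : (x : GolayPt → ℤ) none = 2) (hd : dotInt Spor.vecV (x : GolayPt → ℤ) = -16) :
    ∃ (O M : Finset GolayPt), O ∈ wordsOfWeight (golayCode : Set (GolayPt → ZMod 2)) 8 ∧
      none ∈ O ∧ M ⊆ O ∧ none ∉ M ∧ M.card = 2 ∧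
      ∀ i, (x : GolayPt → ℤ) i = if i ∈ M then -2 else if i ∈ O then 2 else 0 := by
  classical
  obtain ⟨y, hy, hc, -⟩ := even_form x.2 (by rw [h0])
  have hy0 : y none = 1 := by have := hy none; omega
  have h8 : ∑ i, y i ^ 2 = 8 := by
    have : sqNorm (x : GolayPt → ℤ) = 4 * ∑ i, y i ^ 2 := by
      rw [sqNorm, Finset.mul_sum]
      exact Finset.sum_congr rfl fun i _ => by rw [hy i]; ring
    omega
  have hne : red2 y ≠ 0 := fun h => by
    have := congrFun h none
    simp [red2, hy0] at this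
  have hge := eight_le_weight hc hne
  rw [hammingNorm_eq_card] at hge
  obtain ⟨hle, -⟩ := card_le_sum_odd y
  have hsplit := sum_sq_split y
  rw [h8] at hsplit
  set O := support₂ (red2 y) with hO
  have hnn : (0 : ℤ) ≤ ∑ i ∈ Oᶜ, y i ^ 2 := Finset.sum_nonneg fun i _ => sq_nonneg _
  have hon : ∀ i ∈ O, y i = 1 ∨ y i = -1 := fun i hi => by
    have hs := Finset.add_sum_erase _ (fun q => y q ^ 2) hi
    have hr : ((O.erase i).card : ℤ) ≤ ∑ q ∈ O.erase i, y q ^ 2 := by
      have := Finset.sum_le_sum (s := O.erase i)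
        fun q hq => (odd_sq_bound ((support₂_red2' y q).1 (Finset.mem_of_mem_erase hq))).1
      simpa using this
    rw [Finset.card_erase_of_mem hi] at hr
    obtain ⟨h, -⟩ := odd_sq_bound ((support₂_red2' y i).1 hi)
    exact sq_eq_one_iff.1 (by omega)
  have hoff : ∀ i, i ∉ O → y i = 0 := fun i hi =>
    sq_eq_zero_iff.1 ((Finset.sum_eq_zero_iff_of_nonneg fun i _ => sq_nonneg (y i)).1
      (by omega : ∑ i ∈ Oᶜ, y i ^ 2 = 0) i (Finset.mem_compl.2 hi))
  set M := O.filter fun i => y i = -1 with hM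
  have hval : ∀ i, y i = (if i ∈ O then 1 else 0) - 2 * (if i ∈ M then 1 else 0) := fun i => by
    by_cases hi : i ∈ O
    · rcases hon i hi with e | e <;> simp [hM, hi, e]
    · simp [hM, hi, hoff i hi]
  have hsum : ∑ i, y i = (O.card : ℤ) - 2 * M.card := by
    rw [Finset.sum_congr rfl fun i _ => hval i, Finset.sum_sub_distrib, ← Finset.mul_sum,
      Finset.sum_ite_mem, Finset.sum_ite_mem, Finset.univ_inter, Finset.univ_inter]
    simp
  have hsum2 : ∑ i, (x : GolayPt → ℤ) i = 2 * ∑ i, y i := by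
    rw [Finset.mul_sum]; exact Finset.sum_congr rfl fun i _ => hy i
  rw [dot_vecV, h0, hsum2, hsum] at hd
  have hcard : O.card = 8 := by omega
  refine ⟨O, M, ⟨(mem_supports_iff _).2 hc, hcard⟩, by rw [hO, support₂_red2', hy0]; norm_num,
    Finset.filter_subset _ _, by simp [hM, hy0], by omega, fun i => ?_⟩
  rw [hy i, hval i]
  by_cases hi : i ∈ O <;> by_cases hm : i ∈ M <;> simp [hi, hm]
  exact hi (Finset.mem_of_mem_filter i hm)

/-- a normal form for pairs with scalar product `-16` -/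
theorem normal_sixteen (u x : leechLattice) (hu : sqNorm (u : GolayPt → ℤ) = 48)
    (hx : sqNorm (x : GolayPt → ℤ) = 32)
    (hd : dotInt (u : GolayPt → ℤ) (x : GolayPt → ℤ) = -16) :
    ∃ g : ↥Co0, ((g • u : leechLattice) : GolayPt → ℤ) = Spor.vecV ∧
      ((g • x : leechLattice) : GolayPt → ℤ) none = 2 ∧
      dotInt Spor.vecV ((g • x : leechLattice) : GolayPt → ℤ) = -16 := by
  obtain ⟨g, hg⟩ := trans32 x hx
  have hu1 : sqNorm ((g • u : leechLattice) : GolayPt → ℤ) = 48 := by rw [sqNorm_smul]; exact hu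
  have hd1 : dotInt ((g • u : leechLattice) : GolayPt → ℤ) ((g • x : leechLattice) : GolayPt → ℤ)
      = -16 := by rw [dotInt_smul]; exact hd
  obtain ⟨a, b, s, t, ha, hb, hab, hs, ht, he⟩ :=
    exists_companion_avoid (g • u) hu1 {none, some 0} (by simp)
  simp only [Finset.mem_insert, Finset.mem_singleton, not_or] at ha hb
  have h2 : (2 : ℤ) ∣ s + t := by
    rcases sq_eq_one_iff.1 hs with rfl | rfl <;> rcases sq_eq_one_iff.1 ht with rfl | rfl <;>
      norm_num
  set z := fourPair a b s t h2 with hz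
  have huz : dotInt ((g • u : leechLattice) : GolayPt → ℤ) (z : GolayPt → ℤ) = 8 := by
    rw [hz, dot_fourPair, he]; rfl
  have hxz : dotInt ((g • x : leechLattice) : GolayPt → ℤ) (z : GolayPt → ℤ) = 0 := by
    rw [hz, dot_fourPair, hg]
    simp [Spor.vecU, ha.1, ha.2, hb.1, hb.2]
  obtain ⟨h, i, hh⟩ := reach_pos (g • u - z) (by
    rw [AddSubgroup.coe_sub, sqNorm_sub, hu1, norm_fourPair hab hs ht h2, huz]; rfl)
  have hneg : ∀ v : GolayPt → ℤ, dotInt v (-(z : GolayPt → ℤ)) = -dotInt v (z : GolayPt → ℤ) :=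
    fun v => by simp [dotInt, -Fintype.sum_option]
  have h5 : ((h • g • u : leechLattice) : GolayPt → ℤ) i = 5 := by
    have h1 := dotInt_smul h (g • u) (g • u - z)
    rw [hh, dot_single, AddSubgroup.coe_sub, sub_eq_add_neg, dotInt_add_right, hneg, huz,
      dot_self, hu1] at h1
    omega
  have hxi : ((h • g • x : leechLattice) : GolayPt → ℤ) i = -2 := by
    have h1 := dotInt_smul h (g • x) (g • u - z)
    rw [hh, dot_single, AddSubgroup.coe_sub, sub_eq_add_neg, dotInt_add_right, hneg, hxz,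
      dotInt_comm ((g • x : leechLattice) : GolayPt → ℤ), hd1] at h1
    omega
  obtain ⟨k, hk, hkw⟩ := to_vecV (h • g • u) (by rw [sqNorm_smul]; exact hu1) i h5
  refine ⟨k * h * g, by rw [mul_smul, mul_smul]; exact hk, ?_, ?_⟩
  · rw [mul_smul, mul_smul, hkw, hxi]; rfl
  · rw [← hk, ← mul_smul, ← mul_smul, dotInt_smul]
    exact hd

/-- such pairs are conjugate -/
theorem trans_sixteen (u x u' x' : leechLattice) (hu : sqNorm (u : GolayPt → ℤ) = 48)
    (hu' : sqNorm (u' : GolayPt → ℤ) = 48) (hx : sqNorm (x : GolayPt → ℤ) = 32)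
    (hx' : sqNorm (x' : GolayPt → ℤ) = 32)
    (hd : dotInt (u : GolayPt → ℤ) (x : GolayPt → ℤ) = -16)
    (hd' : dotInt (u' : GolayPt → ℤ) (x' : GolayPt → ℤ) = -16) :
    ∃ g : ↥Co0, g • u = u' ∧ g • x = x' := by
  classical
  obtain ⟨g1, a1, b1, c1⟩ := normal_sixteen u x hu hx hd
  obtain ⟨g2, a2, b2, c2⟩ := normal_sixteen u' x' hu' hx' hd'
  obtain ⟨O1, M1, hO1, hn1, hMO1, hnM1, hM1, hv1⟩ :=
    shape_sixteen (g1 • x) (by rw [sqNorm_smul]; exact hx) b1 c1
  obtain ⟨O2, M2, hO2, hn2, hMO2, hnM2, hM2, hv2⟩ :=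
    shape_sixteen (g2 • x') (by rw [sqNorm_smul]; exact hx') b2 c2
  have hext : ∀ (O M : Finset GolayPt), O.card = 8 → none ∈ O → M ⊆ O → none ∉ M → M.card = 2 →
      ∃ a b c d, M = {a, b} ∧ [none, a, b, c, d].Nodup ∧ ∀ i ∈ [none, a, b, c, d], i ∈ O := by
    intro O M h8 hn hMO hnM h2
    obtain ⟨a, b, hab, rfl⟩ := Finset.card_eq_two.1 h2
    obtain ⟨c, hc, d, hd, hcd⟩ : ∃ c ∈ O \ {none, a, b}, ∃ d ∈ O \ {none, a, b}, c ≠ d := by
      refine Finset.one_lt_card.1 ?_
      have := Finset.le_card_sdiff ({none, a, b} : Finset GolayPt) O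
      have := Finset.card_le_three (a := (none : GolayPt)) (b := a) (c := b)
      omega
    simp only [Finset.mem_sdiff, Finset.mem_insert, Finset.mem_singleton, not_or] at hc hd
    simp only [Finset.insert_subset_iff, Finset.singleton_subset_iff] at hMO
    simp only [Finset.mem_insert, Finset.mem_singleton, not_or] at hnM
    refine ⟨a, b, c, d, rfl, ?_, ?_⟩
    · simp [hab, hnM.1, hnM.2, hcd, Ne.symm hc.2.1, Ne.symm hc.2.2.1, Ne.symm hc.2.2.2,
        Ne.symm hd.2.1, Ne.symm hd.2.2.1, Ne.symm hd.2.2.2]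
    · simp [hn, hMO.1, hMO.2, hc.1, hd.1]
  obtain ⟨a, b, c, d, rfl, hnd1, hmem1⟩ := hext O1 M1 hO1.2 hn1 hMO1 hnM1 hM1
  obtain ⟨a', b', c', d', rfl, hnd2, hmem2⟩ := hext O2 M2 hO2.2 hn2 hMO2 hnM2 hM2
  obtain ⟨σ, hσ, hmap⟩ := exists_move _ _ hnd1 hnd2 rfl (by simp)
  have hu5 := (steiner golayCode card_golayPt finrank_golayCode orth_golay min_golay).2
    [none, a, b, c, d].toFinset (List.toFinset_card_of_nodup hnd1)
  have hO : ∀ i, i ∈ O1 ↔ σ i ∈ O2 := by
    obtain ⟨o, ho, rfl⟩ : ∃ o ∈ golayCode, support₂ o = O2 := by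
      obtain ⟨o, ho, ho'⟩ := hO2.1
      exact ⟨o, ho, ho'⟩
    set o' : GolayPt → ZMod 2 := fun i => o (σ i) with ho'
    have hos : ∀ i, i ∈ support₂ o' ↔ σ i ∈ support₂ o := fun i => by
      rw [mem_support₂, mem_support₂]
    have hB : support₂ o' ∈ wordsOfWeight (golayCode : Set (GolayPt → ZMod 2)) 8 :=
      ⟨(mem_supports_iff _).2 (comp_mem_of_M24 hσ ho),
        (Finset.card_equiv σ fun i => hos i).trans hO2.2⟩
    have := hu5.unique ⟨hO1, fun i hi => hmem1 i (List.mem_toFinset.1 hi)⟩ ⟨hB, fun i hi =>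
      (hos i).2 (hmem2 _ (hmap ▸ List.mem_map.2 ⟨i, List.mem_toFinset.1 hi, rfl⟩))⟩
    intro i
    rw [this, hos]
  simp only [List.map_cons, List.map_nil, List.cons.injEq, and_true] at hmap
  obtain ⟨hσn, hσa, hσb, -, -⟩ := hmap
  refine ⟨g2⁻¹ * (permCo0 σ hσ * g1), ?_, ?_⟩
  · rw [mul_smul, mul_smul, inv_smul_eq_iff]
    refine Subtype.ext (funext fun p => ?_)
    rw [permCo0_apply, a1, a2]
    simp only [Spor.vecV]
    refine if_congr ?_ rfl rfl
    rw [Equiv.Perm.inv_eq_iff_eq, hσn]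
  · rw [mul_smul, mul_smul, inv_smul_eq_iff]
    refine Subtype.ext (funext fun p => ?_)
    obtain ⟨q, rfl⟩ : ∃ q, σ q = p := ⟨σ⁻¹ p, by simp⟩
    rw [permCo0_apply, show σ⁻¹ (σ q) = q by simp, hv1, hv2]
    refine if_congr ?_ rfl (if_congr (hO q) rfl rfl)
    simp only [Finset.mem_insert, Finset.mem_singleton, ← hσa, ← hσb, EmbeddingLike.apply_eq_iff_eq]

theorem ncard_pairSum48_m4 : (pairSumSet 12 (-4)).ncard = 953856 := by
  rw [ncard_pairSumSet 12 3 (by norm_num) (by norm_num) rfl]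
  decide +kernel

theorem ncard_11178 (u : leechLattice) (hu : sqNorm (u : GolayPt → ℤ) = 48) :
    {x : leechLattice | x ∈ layer 32 ∧ dotInt (u : GolayPt → ℤ) (x : GolayPt → ℤ) = -16}.ncard =
      11178 := by
  set a := {x : leechLattice | x ∈ layer 32 ∧
    dotInt (u : GolayPt → ℤ) (x : GolayPt → ℤ) = -16}.ncard
  have ha : ∀ w ∈ layer 48, {x : leechLattice | x ∈ layer 32 ∧
      dotInt (w : GolayPt → ℤ) (x : GolayPt → ℤ) = -16}.ncard = a := by
    intro w hw
    obtain ⟨g, hg⟩ := trans48 w hw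
    obtain ⟨h, hh⟩ := trans48 u hu
    refine ncard_move (h⁻¹ * g) _ _ fun x => ?_
    have hwu : (h⁻¹ * g) • w = u := by
      rw [mul_smul, inv_smul_eq_iff]; exact Subtype.ext (hg.trans hh.symm)
    simp only [layer, Set.mem_setOf_eq, sqNorm_smul]
    rw [← hwu, dotInt_smul]
  have hb : ∀ x ∈ layer 32, {w : leechLattice | w ∈ layer 48 ∧
      dotInt (w : GolayPt → ℤ) (x : GolayPt → ℤ) = -16}.ncard = 953856 := by
    intro x hx
    rw [← ncard_pairSum48_m4, ← ncard_layer_dot x hx 12 (-16) (-4) (by norm_num)]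
    simp only [dotInt_comm _ (x : GolayPt → ℤ)]
    rfl
  have h := double_count finite_layer48 finite_layer32 _ a 953856 ha hb
  rw [ncard_layer, ncard_norm48, ncard_layer, ncard_norm32] at h
  omega

/-- the two vectors can be exchanged -/
theorem exchange48 (v w : leechLattice) (hv : sqNorm (v : GolayPt → ℤ) = 48)
    (hw : sqNorm (w : GolayPt → ℤ) = 48)
    (hvw : dotInt (v : GolayPt → ℤ) (w : GolayPt → ℤ) = -32) :
    ∃ g : ↥Co0, g • v = w ∧ g • w = v := by
  have hneg : ∀ a b : GolayPt → ℤ, dotInt a (-b) = -dotInt a b :=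
    fun a b => by simp [dotInt, -Fintype.sum_option]
  have hwv : dotInt (w : GolayPt → ℤ) (v : GolayPt → ℤ) = -32 := by rw [dotInt_comm]; exact hvw
  set t : leechLattice := -v + -w with ht
  have htn : sqNorm (t : GolayPt → ℤ) = 32 := by
    rw [ht, AddSubgroup.coe_add, AddSubgroup.coe_neg, AddSubgroup.coe_neg, sqNorm_add, hneg,
      dotInt_comm, hneg, hwv, ← dot_self, hneg, dotInt_comm, hneg, dot_self, hv, ← dot_self, hneg,
      dotInt_comm, hneg, dot_self, hw]
    rfl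
  have htv : dotInt (v : GolayPt → ℤ) (t : GolayPt → ℤ) = -16 := by
    rw [ht, AddSubgroup.coe_add, AddSubgroup.coe_neg, AddSubgroup.coe_neg, dotInt_add_right,
      hneg, hneg, hvw, dot_self, hv]
    rfl
  have htw : dotInt (w : GolayPt → ℤ) (t : GolayPt → ℤ) = -16 := by
    rw [ht, AddSubgroup.coe_add, AddSubgroup.coe_neg, AddSubgroup.coe_neg, dotInt_add_right,
      hneg, hneg, hwv, dot_self, hw]
    rfl
  obtain ⟨g, g1, g2⟩ := trans_sixteen v t w t hv hw htn htn htv htw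
  refine ⟨g, g1, ?_⟩
  have h0 : g • (0 : leechLattice) = 0 := by
    have := smul_add' g 0 0
    rwa [add_zero, left_eq_add] at this
  have h1 : g • (t + v + w) = 0 := by rw [show t + v + w = 0 by rw [ht]; abel, h0]
  rw [smul_add', smul_add', g1, g2, add_eq_zero_iff_neg_eq] at h1
  rw [← h1, ht]
  abel

end Cfsg.Agent.Leech
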