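import Mathlib
import Cfsg.Prelude.Def_Sporadic_a
import Cfsg.Prelude.Def_Spor_Conway
import Cfsg.Agent.Leech.Code
import Cfsg.Agent.Leech.Lattice
import Cfsg.Agent.Leech.ModRep
import Cfsg.Agent.Leech.Orbits
import Cfsg.Agent.Leech.Pairs
import Cfsg.Agent.Leech.PairsOrth
import Cfsg.Agent.Leech.CountAt
import Cfsg.Agent.Leech.DotCounts
import Cfsg.Agent.Leech.ModTwo
import Cfsg.Agent.Leech.TwoThree
import Cfsg.Agent.Leech.Shape48
import Cfsg.Agent.Leech.ThreeTwo

/-! Triples: the point sets of size 100 and 275. -/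

set_option autoImplicit false

namespace Cfsg.Agent.Leech
open Cfsg

/-- ordered pairs with given squared lengths and scalar product -/
def pairSet (M N d : ℤ) : Set (leechLattice × leechLattice) :=
  {p | p.1 ∈ layer M ∧ p.2 ∈ layer N ∧
    dotInt (p.1 : GolayPt → ℤ) (p.2 : GolayPt → ℤ) = d}

theorem finite_pairSet {M N : ℤ} (hM : (layer M).Finite) (hN : (layer N).Finite) (d : ℤ) :
    (pairSet M N d).Finite :=
  (hM.prod hN).subset fun _ hp => ⟨hp.1, hp.2.1⟩

theorem ncard_pairSet {M N : ℤ} (hM : (layer M).Finite) (hN : (layer N).Finite) (d : ℤ) (b : ℕ)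
    (hb : ∀ x ∈ layer M, {y : leechLattice | y ∈ layer N ∧
      dotInt (x : GolayPt → ℤ) (y : GolayPt → ℤ) = d}.ncard = b) :
    (pairSet M N d).ncard = (layer M).ncard * b := by
  have h := double_count hM (finite_pairSet hM hN d) (fun x p => p.1 = x) b 1 ?_ ?_
  · omega
  · intro x hx
    rw [← hb x hx]
    refine Set.ncard_congr (fun p _ => p.2) (fun p hp => ?_) (fun p q hp hq h => ?_) (fun y hy => ?_)
    · obtain ⟨⟨-, h2, h3⟩, rfl⟩ := hp
      exact ⟨h2, h3⟩
    · exact Prod.ext (hp.2.trans hq.2.symm) h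
    · exact ⟨(x, y), ⟨⟨hx, hy.1, hy.2⟩, rfl⟩, rfl⟩
  · intro p hp
    rw [show {x | x ∈ layer M ∧ p.1 = x} = {p.1} from Set.ext fun x =>
      ⟨fun h => h.2.symm, fun h => by rw [Set.mem_singleton_iff] at h; exact ⟨h ▸ hp.1, h.symm⟩⟩,
      Set.ncard_singleton]

/-- the histogram of three points -/
def hist3 : ℕ := 58156569765022927684169286332843774682843889073618636225573725057086652376173342564883917354211298456418506262385461793827955916573998286425474304140095708178098911316097496852843992713267897015455879991452857859129228288373656343626846324180296758149104986867019353004140984492951556550263844552765467207515050223937123550392018857044435498573364455128632840049535961901476735464770710270378724718838362556237957837180217115700535082742994988593267903690204624308038172658298462830607541616303116166502081126871809363043969369733604443348427274408471340985431097245465653612274493868554788230954074197594961243303735389542091213329830829668864681620849439039495295261842439859860472065693237414077095383232527428263003585633762454378763655788941819480465934359791957767853441025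

theorem hist3_eq : hist (([none, some 0, some 1] : List GolayPt).map idx) = hist3 := by
  decide +kernel

theorem ncard_1024 : (fixedSet 12 [none, some 0] [1, -5]).ncard = 1024 := by
  rw [(ncard_fixedSet 12 3 (by norm_num) (by norm_num) rfl [none, some 0] (by simp) [1, -5] rfl
    hist2 hist2_eq).1]
  decide +kernel

/-! ### one hundred -/

/-- sign conjugation of the two normal vectors -/
theorem conj_hundred (v v' : leechLattice) (hn : sqNorm (v : GolayPt → ℤ) = 48)
    (hn' : sqNorm (v' : GolayPt → ℤ) = 48)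
    (h0 : (v : GolayPt → ℤ) none = 1) (h1 : (v : GolayPt → ℤ) (some 0) = -5)
    (h0' : (v' : GolayPt → ℤ) none = 1) (h1' : (v' : GolayPt → ℤ) (some 0) = -5) :
    ∃ k : ↥Co0, ((k • Spor.leechU : leechLattice) : GolayPt → ℤ) = Spor.vecU ∧
      (∀ x : leechLattice, (x : GolayPt → ℤ) = Spor.vecU' → k • x = x) ∧ k • v = v' := by
  have key : ∀ v : leechLattice, sqNorm (v : GolayPt → ℤ) = 48 → (v : GolayPt → ℤ) none = 1 →
      (v : GolayPt → ℤ) (some 0) = -5 → ∃ c ∈ golayCode, c none = 0 ∧ c (some 0) = 1 ∧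
        ∀ i, negOn c (v : GolayPt → ℤ) i = if i = some 0 then 5 else 1 := by
    intro v hn h0 h1
    obtain ⟨c, hc, hc4⟩ := odd_normal v.2 (by rw [h0]; norm_num)
    have hc0 : c none = 0 := by
      refine (zmod2_cases _).resolve_right fun h => ?_
      have := hc4 none
      simp only [negOn, h, h0, one_ne_zero, if_false] at this
      omega
    have hc1 : c (some 0) = 1 := by
      refine (zmod2_cases _).resolve_left fun h => ?_
      have := hc4 (some 0)
      simp only [negOn, h, h1, if_true] at this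
      omega
    have hodd : ∀ i, ¬ (2 : ℤ) ∣ (v : GolayPt → ℤ) i := fun i h => by
      have := (odd_all v.2 i).1 h
      rw [h0] at this
      norm_num at this
    refine ⟨c, hc, hc0, hc1, fun i => ?_⟩
    by_cases hi : i = some 0
    · subst hi; simp [negOn, hc1, h1]
    rw [if_neg hi]
    have hsq : (v : GolayPt → ℤ) i ^ 2 = 1 := by
      by_contra hne
      have hs := Finset.add_sum_erase _ (fun q => (v : GolayPt → ℤ) q ^ 2) (Finset.mem_univ (some 0))
      have hs' := Finset.add_sum_erase _ (fun q => (v : GolayPt → ℤ) q ^ 2)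
        (Finset.mem_erase.2 ⟨hi, Finset.mem_univ i⟩)
      have hr : (((Finset.univ.erase (some 0)).erase i).card : ℤ) ≤
          ∑ q ∈ (Finset.univ.erase (some 0 : GolayPt)).erase i, (v : GolayPt → ℤ) q ^ 2 := by
        have := Finset.sum_le_sum (s := (Finset.univ.erase (some 0 : GolayPt)).erase i)
          fun q _ => (odd_sq_bound (hodd q)).1
        simpa using this
      rw [Finset.card_erase_of_mem (Finset.mem_erase.2 ⟨hi, Finset.mem_univ i⟩),
        Finset.card_erase_of_mem (Finset.mem_univ _), Finset.card_univ, card_golayPt] at hr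
      simp only [h1] at hs
      rw [show ((-5 : ℤ)) ^ 2 = 25 from rfl] at hs
      rw [sqNorm] at hn
      obtain ⟨hge, k, hk⟩ := odd_sq_bound (hodd i)
      have h9 : (9 : ℤ) ≤ (v : GolayPt → ℤ) i ^ 2 := by omega
      push_cast at hr
      linarith
    have := hc4 i
    simp only [negOn] at this ⊢
    rcases sq_eq_one_iff.1 hsq with e | e <;> split_ifs at this ⊢ <;> omega
  obtain ⟨c, hc, hcn, hc0, hv⟩ := key v hn h0 h1
  obtain ⟨d, hd, hdn, hd0, hv'⟩ := key v' hn' h0' h1'
  have hzero : ∀ {u : GolayPt → ℤ}, (∀ i, i ≠ none → i ≠ some 0 → u i = 0) →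
      negOn d (negOn c u) = u := fun {u} h => funext fun i => by
    by_cases h1 : i = none
    · subst h1; simp [negOn, hcn, hdn]
    by_cases h2 : i = some 0
    · subst h2; simp [negOn, hc0, hd0]
    · simp [negOn, h i h1 h2]
  refine ⟨signCo0 d hd * signCo0 c hc, ?_, fun x hx => Subtype.ext ?_, Subtype.ext ?_⟩
  · funext i
    rw [mul_smul, signCo0_apply]
    simp only [negOn, signCo0_apply]
    exact congrFun (hzero fun i a b => by
      show Spor.vecU i = 0
      simp [Spor.vecU, a, b]) i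
  · funext i
    rw [mul_smul, signCo0_apply]
    simp only [negOn, signCo0_apply]
    exact congrFun (hzero fun i a b => by rw [hx]; simp [Spor.vecU', a, b]) i
  · funext i
    rw [mul_smul, signCo0_apply]
    simp only [negOn, signCo0_apply]
    have h := (hv i).trans (hv' i).symm
    simp only [negOn] at h
    split_ifs at h ⊢ <;> omega

/-- conjugacy of the configurations of size one hundred -/
theorem trans_hundred (t x v x' : leechLattice) (ht : sqNorm (t : GolayPt → ℤ) = 32)
    (hx : sqNorm (x : GolayPt → ℤ) = 32) (hx' : sqNorm (x' : GolayPt → ℤ) = 32)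
    (hv : sqNorm (v : GolayPt → ℤ) = 48)
    (htv : dotInt (v : GolayPt → ℤ) (t : GolayPt → ℤ) = -16)
    (htx : dotInt (t : GolayPt → ℤ) (x : GolayPt → ℤ) = 0)
    (htx' : dotInt (t : GolayPt → ℤ) (x' : GolayPt → ℤ) = 0)
    (hvx : dotInt (v : GolayPt → ℤ) (x : GolayPt → ℤ) = 24)
    (hvx' : dotInt (v : GolayPt → ℤ) (x' : GolayPt → ℤ) = 24) :
    ∃ g : ↥Co0, g • v = v ∧ g • t = t ∧ g • x = x' := by
  have key : ∀ x : leechLattice, sqNorm (x : GolayPt → ℤ) = 32 →
      dotInt (t : GolayPt → ℤ) (x : GolayPt → ℤ) = 0 →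
      dotInt (v : GolayPt → ℤ) (x : GolayPt → ℤ) = 24 →
      ∃ g : ↥Co0, g • t = Spor.leechU ∧ ((g • x : leechLattice) : GolayPt → ℤ) = Spor.vecU' ∧
        ((g • v : leechLattice) : GolayPt → ℤ) none = 1 ∧
        ((g • v : leechLattice) : GolayPt → ℤ) (some 0) = -5 := by
    intro x hx htx hvx
    obtain ⟨g, a, b⟩ := normal_orth t x ht hx htx
    refine ⟨g, Subtype.ext a, b, ?_⟩
    have e1 := dotInt_smul g t v
    rw [a, dot_vecU, dotInt_comm, htv] at e1
    have e2 := dotInt_smul g v x
    rw [b, hvx, show Spor.vecU' = Pi.single none 4 + Pi.single (some 0) (-4) by decide +kernel,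
      dotInt_add_right, dot_single, dot_single] at e2
    omega
  obtain ⟨g1, a1, b1, c1, d1⟩ := key x hx htx hvx
  obtain ⟨g2, a2, b2, c2, d2⟩ := key x' hx' htx' hvx'
  obtain ⟨k, hk, hk', hkv⟩ := conj_hundred (g1 • v) (g2 • v) (by rw [sqNorm_smul]; exact hv)
    (by rw [sqNorm_smul]; exact hv) c1 d1 c2 d2
  refine ⟨g2⁻¹ * (k * g1), ?_, ?_, ?_⟩
  · rw [mul_smul, mul_smul, inv_smul_eq_iff, hkv]
  · rw [mul_smul, mul_smul, inv_smul_eq_iff, a1, a2]; exact Subtype.ext hk
  · rw [mul_smul, mul_smul, inv_smul_eq_iff, hk' _ b1]; exact Subtype.ext (b1.trans b2.symm)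

theorem ncard_hundred (v t : leechLattice) (hp : (v, t) ∈ pairSet 48 32 (-16)) :
    {x : leechLattice | x ∈ layer 32 ∧ dotInt (t : GolayPt → ℤ) (x : GolayPt → ℤ) = 0 ∧
      dotInt (v : GolayPt → ℤ) (x : GolayPt → ℤ) = 24}.ncard = 100 := by
  set a := {x : leechLattice | x ∈ layer 32 ∧ dotInt (t : GolayPt → ℤ) (x : GolayPt → ℤ) = 0 ∧
    dotInt (v : GolayPt → ℤ) (x : GolayPt → ℤ) = 24}.ncard
  let r : leechLattice × leechLattice → leechLattice × leechLattice → Prop := fun p q =>
    p.2 = q.1 ∧ dotInt (p.1 : GolayPt → ℤ) (q.2 : GolayPt → ℤ) = 24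
  have ha : ∀ p ∈ pairSet 48 32 (-16), {q | q ∈ pairSet 32 32 0 ∧ r p q}.ncard = a := by
    rintro ⟨v1, t1⟩ ⟨hv1, ht1, hd1⟩
    obtain ⟨g, g1, g2⟩ := trans_sixteen v1 t1 v t hv1 hp.1 ht1 hp.2.1 hd1 hp.2.2
    refine Set.ncard_congr (fun q _ => g • q.2) ?_ ?_ ?_
    · rintro ⟨t2, x⟩ ⟨⟨-, hx, hd⟩, (rfl : t1 = t2), hr⟩
      refine ⟨by simp only [layer, Set.mem_setOf_eq, sqNorm_smul]; exact hx, ?_, ?_⟩
      · rw [← g2, dotInt_smul]; exact hd
      · rw [← g1, dotInt_smul]; exact hr
    · rintro ⟨t2, x⟩ ⟨t3, y⟩ ⟨-, (rfl : t1 = t2), -⟩ ⟨-, (rfl : t1 = t3), -⟩ h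
      rw [show x = y from MulAction.injective g h]
    · rintro x ⟨hx, h0, h24⟩
      refine ⟨(t1, g⁻¹ • x), ⟨⟨ht1, ?_, ?_⟩, rfl, ?_⟩, smul_inv_smul g x⟩
      · simp only [layer, Set.mem_setOf_eq, sqNorm_smul]; exact hx
      · rw [← dotInt_smul g, g2, smul_inv_smul]; exact h0
      · rw [← dotInt_smul g, g1, smul_inv_smul]; exact h24
  have hb : ∀ q ∈ pairSet 32 32 0, {p | p ∈ pairSet 48 32 (-16) ∧ r p q}.ncard = 1024 := by
    rintro ⟨t1, x1⟩ ⟨ht1, hx1, hd1⟩
    obtain ⟨g, g1, g2⟩ := normal_orth t1 x1 ht1 hx1 hd1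
    rw [← ncard_1024]
    refine Set.ncard_congr (fun p _ => ((g • p.1 : leechLattice) : GolayPt → ℤ)) ?_ ?_ ?_
    · rintro ⟨v1, t2⟩ ⟨⟨hv1, -, hd⟩, (rfl : t2 = t1), hr⟩
      refine ⟨SetLike.coe_mem _, by rw [sqNorm_smul]; exact hv1, ?_⟩
      have e1 := dotInt_smul g t2 v1
      rw [g1, dot_vecU, dotInt_comm, hd] at e1
      have e2 := dotInt_smul g v1 x1
      rw [g2, show dotInt (v1 : GolayPt → ℤ) (x1 : GolayPt → ℤ) = 24 from hr,
        show Spor.vecU' = Pi.single none 4 + Pi.single (some 0) (-4) by decide +kernel,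
        dotInt_add_right, dot_single, dot_single] at e2
      simp only [List.map_cons, List.map_nil, List.cons.injEq, and_true]
      omega
    · rintro ⟨v1, t2⟩ ⟨v2, t3⟩ ⟨-, (rfl : t2 = t1), -⟩ ⟨-, (rfl : t3 = t2), -⟩ h
      rw [show v1 = v2 from MulAction.injective g (Subtype.ext h)]
    · rintro y ⟨hy, hn, hvals⟩
      simp only [List.map_cons, List.map_nil, List.cons.injEq, and_true] at hvals
      refine ⟨(g⁻¹ • (⟨y, hy⟩ : leechLattice), t1), ⟨⟨?_, ht1, ?_⟩, rfl, ?_⟩, by simp⟩
      · simp only [layer, Set.mem_setOf_eq, sqNorm_smul]; exact hn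
      · rw [← dotInt_smul g, smul_inv_smul, g1, dotInt_comm, dot_vecU]
        show 4 * (y none + y (some 0)) = -16
        omega
      · rw [← dotInt_smul g, smul_inv_smul, g2,
          show Spor.vecU' = Pi.single none 4 + Pi.single (some 0) (-4) by decide +kernel,
          dotInt_add_right, dot_single, dot_single]
        show y none * 4 + y (some 0) * -4 = 24
        omega
  have h := double_count (finite_pairSet finite_layer48 finite_layer32 _)
    (finite_pairSet finite_layer32 finite_layer32 _) r a 1024 ha hb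
  rw [ncard_pairSet finite_layer48 finite_layer32 _ 11178 (fun u hu => ncard_11178 u hu),
    ncard_pairSet finite_layer32 finite_layer32 _ 93150 (fun x hx => by
      rw [← ncard_pairSum32.2.2, ← ncard_layer_dot x hx 8 0 0 (by norm_num)]; rfl),
    ncard_layer, ncard_norm48, ncard_layer, ncard_norm32] at h
  omega

/-! ### two hundred and seventy-five -/

/-- the second normal vector -/
def tripX : leechLattice := fourPair none (some 1) 1 1 (by norm_num)

theorem ncard_2816 : (fixedSet 12 [none, some 0, some 1] [3, 3, 3]).ncard +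
    (fixedSet 12 [none, some 0, some 1] [4, 2, 2]).ncard +
    (fixedSet 12 [none, some 0, some 1] [5, 1, 1]).ncard = 2816 := by
  have key := fun vals h => (ncard_fixedSet 12 3 (by norm_num) (by norm_num) rfl
    [none, some 0, some 1] (by decide) vals h hist3 hist3_eq).1
  rw [key _ rfl, key _ rfl, key _ rfl]
  decide +kernel

/-- the possible first three entries -/
theorem three_cases (u : leechLattice) (hu : sqNorm (u : GolayPt → ℤ) = 48)
    (h0 : (u : GolayPt → ℤ) none + (u : GolayPt → ℤ) (some 0) = 6)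
    (h1 : (u : GolayPt → ℤ) none + (u : GolayPt → ℤ) (some 1) = 6) :
    (u : GolayPt → ℤ) none = 3 ∨ (u : GolayPt → ℤ) none = 5 ∨
      ((u : GolayPt → ℤ) none = 4 ∧ ∃ f, f ≠ none ∧ f ≠ some 0 ∧ f ≠ some 1 ∧
        ((u : GolayPt → ℤ) f = 2 ∨ (u : GolayPt → ℤ) f = -2)) := by
  classical
  set x := (u : GolayPt → ℤ) with hx
  by_cases he : (2 : ℤ) ∣ x none
  · obtain ⟨y, C, hy, h8, h12, hC1, hC2, hZ⟩ := even48 u.2 hu he
    have hb : ∀ i, i ∈ C ∧ y i ^ 2 = 1 ∨ i ∉ C ∧ (2 : ℤ) ∣ y i := fun i => by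
      by_cases hi : i ∈ C
      · exact Or.inl ⟨hi, hC1 i hi⟩
      · exact Or.inr ⟨hi, hC2 i hi⟩
    have hn : y none ^ 2 + y (some 0) ^ 2 + y (some 1) ^ 2 +
        ((C.card : ℤ) - 3) ≤ 12 := by
      have e : ∑ i, y i ^ 2 = 12 := by
        have : sqNorm x = 4 * ∑ i, y i ^ 2 := by
          rw [sqNorm, Finset.mul_sum]
          exact Finset.sum_congr rfl fun i _ => by rw [show x i = _ from hy i]; ring
        omega
      have hsub := Finset.sum_le_sum_of_subset_of_nonneg (f := fun i => y i ^ 2)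
        (Finset.subset_univ ({none, some 0, some 1} ∪ C \ {none, some 0, some 1}))
        (fun i _ _ => sq_nonneg _)
      rw [Finset.sum_union Finset.disjoint_sdiff, e,
        Finset.sum_congr rfl fun i hi => hC1 i (Finset.mem_sdiff.1 hi).1] at hsub
      rw [Finset.sum_const, nsmul_eq_mul, mul_one, Finset.sum_insert (by decide),
        Finset.sum_insert (by decide), Finset.sum_singleton] at hsub
      have := Finset.le_card_sdiff ({none, some 0, some 1} : Finset GolayPt) C
      rw [show ({none, some 0, some 1} : Finset GolayPt).card = 3 by decide] at this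
      omega
    have e0 : x none = 2 * y none := hy none
    have e1 : x (some 0) = 2 * y (some 0) := hy (some 0)
    have e2 : x (some 1) = 2 * y (some 1) := hy (some 1)
    have hyn : y none = 2 := by
      by_contra hne
      have : (y none = 0 ∨ y none = 1 ∨ y none = 3) ∨ (y none ≤ -1 ∨ 4 ≤ y none) := by omega
      rcases this with (e | e | e) | e
      · have := sq_nonneg (y (some 1)); rw [e, show y (some 0) = 3 by omega] at hn; omega
      · rw [e, show y (some 0) = 2 by omega, show y (some 1) = 2 by omega] at hn; omega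
      · rw [e, show y (some 0) = 0 by omega, show y (some 1) = 0 by omega] at hn; omega
      · rcases e with e | e
        · have : 4 ≤ y (some 0) := by omega
          have := pow_le_pow_left₀ (by norm_num) this 2
          have := sq_nonneg (y none); have := sq_nonneg (y (some 1))
          omega
        · have := pow_le_pow_left₀ (by norm_num) e 2
          have := sq_nonneg (y (some 0)); have := sq_nonneg (y (some 1))
          omega
    obtain ⟨f, hf, hfS⟩ := Finset.exists_mem_notMem_of_card_lt_card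
      (s := {none, some 0, some 1}) (t := C)
      (lt_of_le_of_lt Finset.card_le_three (by omega))
    simp only [Finset.mem_insert, Finset.mem_singleton, not_or] at hfS
    refine Or.inr (Or.inr ⟨by omega, f, hfS.1, hfS.2.1, hfS.2.2, ?_⟩)
    rcases sq_eq_one_iff.1 (hC1 f hf) with e | e <;> [left; right] <;>
      rw [show x f = _ from hy f, e] <;> rfl
  · have hodd : ∀ i, ¬ (2 : ℤ) ∣ x i := fun i h => he ((odd_all u.2 i).1 h)
    have hr : ((Finset.univ \ {none, some 0, some 1} : Finset GolayPt).card : ℤ) ≤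
        ∑ q ∈ Finset.univ \ {none, some 0, some 1}, x q ^ 2 := by
      have := Finset.sum_le_sum (s := (Finset.univ \ {none, some 0, some 1} : Finset GolayPt))
        fun q _ => (odd_sq_bound (hodd q)).1
      simpa using this
    have hs := Finset.sum_sdiff (f := fun i => x i ^ 2)
      (Finset.subset_univ ({none, some 0, some 1} : Finset GolayPt))
    rw [show (Finset.univ \ {none, some 0, some 1} : Finset GolayPt).card = 21 by decide +kernel]
      at hr
    rw [Finset.sum_insert (by decide), Finset.sum_insert (by decide), Finset.sum_singleton] at hs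
    rw [sqNorm] at hu
    have hb : x none ^ 2 + x (some 0) ^ 2 + x (some 1) ^ 2 ≤ 27 := by
      push_cast at hr
      linarith
    have h3 : x none = x (some 0) + 2 * (x none - 3) := by omega
    have he1 : x (some 1) = x (some 0) := by omega
    rw [he1, show x (some 0) = 6 - x none by omega] at hb
    have hlo : 3 ≤ x none := by nlinarith
    have hhi : x none ≤ 5 := by nlinarith
    have := hodd none
    omega

/-- a normal form of the triples -/
theorem normal_triple (u v x : leechLattice) (hu : sqNorm (u : GolayPt → ℤ) = 48)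
    (hv : sqNorm (v : GolayPt → ℤ) = 32) (hx : sqNorm (x : GolayPt → ℤ) = 32)
    (huv : dotInt (u : GolayPt → ℤ) (v : GolayPt → ℤ) = 24)
    (hux : dotInt (u : GolayPt → ℤ) (x : GolayPt → ℤ) = 24)
    (hvx : dotInt (v : GolayPt → ℤ) (x : GolayPt → ℤ) = 16) :
    ∃ g : ↥Co0, ((g • u : leechLattice) : GolayPt → ℤ) = Spor.vecV ∧
      g • v = -Spor.leechU ∧ g • x = -tripX := by
  classical
  have hneg : ∀ a b : GolayPt → ℤ, dotInt a (-b) = -dotInt a b :=
    fun a b => by simp [dotInt, -Fintype.sum_option]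
  have hU : dotInt Spor.vecU (tripX : GolayPt → ℤ) = 16 := by decide +kernel
  have hXn : sqNorm (tripX : GolayPt → ℤ) = 32 := by decide +kernel
  have hUn : sqNorm Spor.vecU = 32 := by decide +kernel
  obtain ⟨g, gv, gx⟩ := trans_pairs' v (-x) Spor.leechU (-tripX) hv
    (by rw [AddSubgroup.coe_neg, ← dot_self, hneg, dotInt_comm, hneg, dot_self, hx]; rfl) hUn
    (by rw [AddSubgroup.coe_neg, ← dot_self, hneg, dotInt_comm, hneg, dot_self, hXn]; rfl)
    (-16) (Or.inl rfl) (by rw [AddSubgroup.coe_neg, hneg, hvx])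
    (by rw [AddSubgroup.coe_neg, hneg]; show -dotInt Spor.vecU _ = _; rw [hU])
  have hgn : ∀ (k : ↥Co0) (a : leechLattice), k • (-a) = -(k • a) := fun k a => by
    have h0 : k • (0 : leechLattice) = 0 := by
      have := smul_add' k 0 0
      rwa [add_zero, left_eq_add] at this
    have := smul_add' k a (-a)
    rw [add_neg_cancel, h0] at this
    exact (neg_eq_of_add_eq_zero_right this.symm).symm
  have gx' : g • x = tripX := by rw [hgn] at gx; exact neg_injective gx
  set u1 := g • u with hu1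
  have hn1 : sqNorm (u1 : GolayPt → ℤ) = 48 := by rw [hu1, sqNorm_smul]; exact hu
  have hU1 : (tripX : GolayPt → ℤ) = Pi.single none 4 + Pi.single (some 1) 4 := by decide +kernel
  have e0 : (u1 : GolayPt → ℤ) none + (u1 : GolayPt → ℤ) (some 0) = 6 := by
    have e := dotInt_smul g v u
    rw [gv, dotInt_comm (v : GolayPt → ℤ), huv] at e
    rw [show ((Spor.leechU : leechLattice) : GolayPt → ℤ) = Spor.vecU from rfl, dot_vecU] at e
    rw [hu1]; omega
  have e1 : (u1 : GolayPt → ℤ) none + (u1 : GolayPt → ℤ) (some 1) = 6 := by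
    have e := dotInt_smul g u x
    rw [gx', hux, hU1, dotInt_add_right, dot_single, dot_single] at e
    rw [hu1]; omega
  obtain ⟨w, hwn, hwu, hwv, hwx⟩ : ∃ w : leechLattice, sqNorm (w : GolayPt → ℤ) = 64 ∧
      dotInt (u1 : GolayPt → ℤ) (w : GolayPt → ℤ) = 40 ∧
      dotInt Spor.vecU (w : GolayPt → ℤ) = 32 ∧
      dotInt (tripX : GolayPt → ℤ) (w : GolayPt → ℤ) = 32 := by
    have h01 : (some 0 : GolayPt) ≠ some 1 := by decide
    have hfour : ∀ f s, f ≠ none → f ≠ some 0 → f ≠ some 1 → s ^ 2 = (1 : ℤ) →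
        4 * ((u1 : GolayPt → ℤ) none + (u1 : GolayPt → ℤ) (some 0) +
          (u1 : GolayPt → ℤ) (some 1) + s * (u1 : GolayPt → ℤ) f) = 40 →
        ∃ w : leechLattice, sqNorm (w : GolayPt → ℤ) = 64 ∧
          dotInt (u1 : GolayPt → ℤ) (w : GolayPt → ℤ) = 40 ∧
          dotInt Spor.vecU (w : GolayPt → ℤ) = 32 ∧
          dotInt (tripX : GolayPt → ℤ) (w : GolayPt → ℤ) = 32 := by
      intro f s hf hf0 hf1 hs hdot
      set z : GolayPt → ℤ := Pi.single none 1 + Pi.single (some 0) 1 + Pi.single (some 1) 1 +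
        Pi.single f s with hz
      have hmem : (fun i => 4 * z i) ∈ leechLattice := by
        refine quarter_mem leechLattice (fun k _ => pm_mem k) _ ?_
        rw [show (∑ i, z i) = 3 + s by simp [hz, Finset.sum_add_distrib, -Fintype.sum_option]]
        rcases sq_eq_one_iff.1 hs with rfl | rfl <;> norm_num
      have hd : ∀ a : GolayPt → ℤ, dotInt a (fun i => 4 * z i) =
          4 * (a none + a (some 0) + a (some 1) + s * a f) := fun a => by
        rw [show (fun i => 4 * z i) = Pi.single none 4 + Pi.single (some 0) 4 +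
          Pi.single (some 1) 4 + Pi.single f (4 * s) by
            funext i; simp only [hz, Pi.add_apply, Pi.single_apply]; split_ifs <;> ring]
        rw [dotInt_add_right, dotInt_add_right, dotInt_add_right, dot_single, dot_single,
          dot_single, dot_single]
        ring
      refine ⟨⟨_, hmem⟩, ?_, (hd _).trans hdot, (hd _).trans ?_, (hd _).trans ?_⟩
      · show sqNorm (fun i => 4 * z i) = 64
        rw [← dot_self, hd]
        simp [hz, hf, hf0, hf1, hf.symm, hf0.symm, hf1.symm, h01, h01.symm]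
        linear_combination 16 * hs
      · simp [Spor.vecU, hf, hf0, h01.symm]
      · simp [hU1, hf, hf1, h01]
    rcases three_cases u1 hn1 e0 e1 with h | h | ⟨h, f, hf, hf0, hf1, hfv⟩
    · obtain ⟨f, hf, hff⟩ : ∃ f, f ∉ ({none, some 0, some 1} : Finset GolayPt) ∧
          (u1 : GolayPt → ℤ) f ^ 2 = 1 := by
        have hodd : ∀ i, ¬ (2 : ℤ) ∣ (u1 : GolayPt → ℤ) i := fun i hh => by
          have := (odd_all u1.2 i).1 hh
          rw [h] at this
          norm_num at this
        obtain ⟨B, hB, h3⟩ : ∃ B : Finset GolayPt,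
            (∀ i, i ∉ B → (u1 : GolayPt → ℤ) i ^ 2 = 1) ∧ 8 * (B.card : ℤ) + 24 ≤ 48 :=
          ⟨_, fun i hi => of_not_not fun h => hi (Finset.mem_filter.2 ⟨Finset.mem_univ i, h⟩),
            hn1 ▸ odd_few_big _ hodd⟩
        obtain ⟨f, -, hf⟩ := Finset.exists_mem_notMem_of_card_lt_card
          (s := {none, some 0, some 1} ∪ B) (t := Finset.univ) (by
              rw [Finset.card_univ, card_golayPt]
              refine lt_of_le_of_lt ((Finset.card_union_le _ _).trans
                (Nat.add_le_add_right Finset.card_le_three _)) ?_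
              omega)
        simp only [Finset.mem_union, not_or] at hf
        exact ⟨f, hf.1, hB f hf.2⟩
      simp only [Finset.mem_insert, Finset.mem_singleton, not_or] at hf
      exact hfour f ((u1 : GolayPt → ℤ) f) hf.1 hf.2.1 hf.2.2 hff (by
        rw [← sq, hff]; omega)
    · refine ⟨oct none, ?_, ?_, ?_, ?_⟩
      · decide +kernel
      · show dotInt _ (Pi.single none 8) = _
        rw [dot_single]; omega
      · decide +kernel
      · decide +kernel
    · rcases hfv with e | e
      · exact hfour f 1 hf hf0 hf1 (one_pow 2) (by rw [e]; omega)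
      · exact hfour f (-1) hf hf0 hf1 (by norm_num) (by rw [e]; omega)
  obtain ⟨h, i, hh⟩ := reach_pos w hwn
  have hproj : ∀ a : leechLattice,
      ((h • a : leechLattice) : GolayPt → ℤ) i * 8 = dotInt (a : GolayPt → ℤ) (w : GolayPt → ℤ) :=
    fun a => by rw [← dot_single, ← hh, dotInt_smul]
  have h5 := hproj u1
  have hvi := hproj Spor.leechU
  have hxi := hproj tripX
  rw [show ((Spor.leechU : leechLattice) : GolayPt → ℤ) = Spor.vecU from rfl, hwv] at hvi
  rw [hwu] at h5
  rw [hwx] at hxi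
  obtain ⟨k, hk, hkw⟩ := to_vecV (h • u1) (by rw [sqNorm_smul]; exact hn1) i (by omega)
  set m := k * h * g with hm
  have hmu : ((m • u : leechLattice) : GolayPt → ℤ) = Spor.vecV := by
    rw [hm, mul_smul, mul_smul]; exact hk
  have hpair : ∀ a : leechLattice, sqNorm (a : GolayPt → ℤ) = 32 →
      dotInt (u : GolayPt → ℤ) (a : GolayPt → ℤ) = 24 →
      ((m • a : leechLattice) : GolayPt → ℤ) none = -4 →
      ∃ b, b ≠ none ∧ ((m • a : leechLattice) : GolayPt → ℤ) =
        Pi.single none (-4) + Pi.single b (-4) := by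
    intro a ha hua hn
    have hm4 : (((-(m • a)) : leechLattice) : GolayPt → ℤ) none = 4 := by
      rw [AddSubgroup.coe_neg, Pi.neg_apply, hn]; rfl
    obtain ⟨b, hb, hb4, hrest⟩ := shape32 (-(m • a))
      (by rw [AddSubgroup.coe_neg, ← dot_self, hneg, dotInt_comm, hneg, dot_self, sqNorm_smul, ha]; rfl)
      none hm4
    refine ⟨b, hb, ?_⟩
    have hsh : ((m • a : leechLattice) : GolayPt → ℤ) =
        Pi.single none (-4) + Pi.single b (((m • a : leechLattice) : GolayPt → ℤ) b) := by
      funext p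
      by_cases h1 : p = none
      · subst h1; simp [hn, hb.symm]
      by_cases h2 : p = b
      · subst h2; simp [h1]
      · have := hrest p h1 h2
        simp only [AddSubgroup.coe_neg, Pi.neg_apply, neg_eq_zero] at this
        simp [h1, h2, this]
    have e := dotInt_smul m u a
    rw [hmu, hua, hsh, dotInt_add_right, dot_single, dot_single] at e
    simp only [Spor.vecV, hb, if_true, if_false] at e
    rw [hsh, show ((m • a : leechLattice) : GolayPt → ℤ) b = -4 by omega]
  obtain ⟨b, hb, hvb⟩ := hpair v hv huv (by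
    rw [hm, mul_smul, mul_smul, gv, hkw]; omega)
  obtain ⟨c, hc, hxc⟩ := hpair x hx hux (by
    rw [hm, mul_smul, mul_smul, gx', hkw]; omega)
  have hbc : b ≠ c := by
    rintro rfl
    have e := dotInt_smul m v x
    rw [hvb, hxc, hvx, dotInt_add_right, dot_single, dot_single] at e
    simp [hb, hb.symm] at e
  obtain ⟨σ, hσ, hmap⟩ := exists_move [none, b, c] [none, some 0, some 1]
    (by simp [hb.symm, hc.symm, hbc]) (by decide) rfl (by simp)
  simp only [List.map_cons, List.map_nil, List.cons.injEq, and_true] at hmap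
  obtain ⟨hσn, hσb, hσc⟩ := hmap
  have hinv : ∀ p q, σ p = q → ∀ r, (σ⁻¹ r = p ↔ r = q) := fun p q h r => by
    rw [Equiv.Perm.inv_eq_iff_eq, h]
  refine ⟨permCo0 σ hσ * m, funext fun p => ?_, Subtype.ext (funext fun p => ?_),
    Subtype.ext (funext fun p => ?_)⟩
  · rw [mul_smul, permCo0_apply, hmu]
    simp only [Spor.vecV, hinv none none hσn p]
  · rw [mul_smul, permCo0_apply, hvb]
    show _ = -Spor.vecU p
    rw [show Spor.vecU = Pi.single none 4 + Pi.single (some 0) 4 by decide +kernel]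
    simp only [Pi.add_apply, Pi.single_apply, hinv none none hσn p, hinv b _ hσb p]
    split_ifs <;> rfl
  · rw [mul_smul, permCo0_apply, hxc]
    show _ = -(tripX : GolayPt → ℤ) p
    rw [hU1]
    simp only [Pi.add_apply, Pi.single_apply, hinv none none hσn p, hinv c _ hσc p]
    split_ifs <;> rfl

theorem ncard_275 (u v : leechLattice) (hp : (u, v) ∈ pairSet 48 32 24) :
    {x : leechLattice | x ∈ layer 32 ∧ dotInt (u : GolayPt → ℤ) (x : GolayPt → ℤ) = 24 ∧
      dotInt (v : GolayPt → ℤ) (x : GolayPt → ℤ) = 16}.ncard = 275 := by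
  set a := {x : leechLattice | x ∈ layer 32 ∧ dotInt (u : GolayPt → ℤ) (x : GolayPt → ℤ) = 24 ∧
    dotInt (v : GolayPt → ℤ) (x : GolayPt → ℤ) = 16}.ncard
  let r : leechLattice × leechLattice → leechLattice × leechLattice → Prop := fun p q =>
    p.2 = q.1 ∧ dotInt (p.1 : GolayPt → ℤ) (q.2 : GolayPt → ℤ) = 24
  have hUn : sqNorm Spor.vecU = 32 := by decide +kernel
  have hXn : sqNorm ((-tripX : leechLattice) : GolayPt → ℤ) = 32 := by decide +kernel
  have hU1 : (tripX : GolayPt → ℤ) = Pi.single none 4 + Pi.single (some 1) 4 := by decide +kernel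
  have ha : ∀ p ∈ pairSet 48 32 24, {q | q ∈ pairSet 32 32 16 ∧ r p q}.ncard = a := by
    rintro ⟨u1, v1⟩ ⟨hu1, hv1, hd1⟩
    obtain ⟨g, g1, g2⟩ := trans_triangle u1 v1 u v hu1 hp.1 hv1 hp.2.1 hd1 hp.2.2
    refine Set.ncard_congr (fun q _ => g • q.2) ?_ ?_ ?_
    · rintro ⟨v2, x⟩ ⟨⟨-, hx, hd⟩, (rfl : v1 = v2), hr⟩
      refine ⟨by simp only [layer, Set.mem_setOf_eq, sqNorm_smul]; exact hx, ?_, ?_⟩
      · rw [← g1, dotInt_smul]; exact hr
      · rw [← g2, dotInt_smul]; exact hd
    · rintro ⟨v2, x⟩ ⟨v3, y⟩ ⟨-, (rfl : v1 = v2), -⟩ ⟨-, (rfl : v1 = v3), -⟩ h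
      rw [show x = y from MulAction.injective g h]
    · rintro x ⟨hx, h24, h16⟩
      refine ⟨(v1, g⁻¹ • x), ⟨⟨hv1, ?_, ?_⟩, rfl, ?_⟩, smul_inv_smul g x⟩
      · simp only [layer, Set.mem_setOf_eq, sqNorm_smul]; exact hx
      · rw [← dotInt_smul g, g2, smul_inv_smul]; exact h16
      · rw [← dotInt_smul g, g1, smul_inv_smul]; exact h24
  have hb : ∀ q ∈ pairSet 32 32 16, {p | p ∈ pairSet 48 32 24 ∧ r p q}.ncard = 2816 := by
    rintro ⟨v1, x1⟩ ⟨hv1, hx1, hd1⟩
    have hneg : ∀ a b : GolayPt → ℤ, dotInt a (-b) = -dotInt a b :=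
      fun a b => by simp [dotInt, -Fintype.sum_option]
    have hx1' : sqNorm (x1 : GolayPt → ℤ) = 32 := hx1
    obtain ⟨g, g1, g2⟩ := trans_pairs' v1 (-x1) Spor.leechU (-tripX) hv1
      (by rw [AddSubgroup.coe_neg, ← dot_self, hneg, dotInt_comm, hneg, dot_self, hx1']; rfl)
      hUn hXn (-16) (Or.inl rfl) (by rw [AddSubgroup.coe_neg, hneg, hd1]) (by decide +kernel)
    have key : ∀ b : leechLattice,
        dotInt (b : GolayPt → ℤ) (x1 : GolayPt → ℤ) =
          4 * (((g • b : leechLattice) : GolayPt → ℤ) none +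
            ((g • b : leechLattice) : GolayPt → ℤ) (some 1)) := fun b => by
      have e := dotInt_smul g b (-x1)
      rw [g2, AddSubgroup.coe_neg, AddSubgroup.coe_neg, hneg, hneg, hU1, dotInt_add_right,
        dot_single, dot_single] at e
      omega
    have key0 : ∀ b : leechLattice,
        dotInt (b : GolayPt → ℤ) (v1 : GolayPt → ℤ) =
          4 * (((g • b : leechLattice) : GolayPt → ℤ) none +
            ((g • b : leechLattice) : GolayPt → ℤ) (some 0)) := fun b => by
      rw [← dotInt_smul g, g1, dotInt_comm]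
      exact dot_vecU _
    have hu3 := ncard_2816
    have hfin : ∀ p q r : ℤ, (fixedSet 12 [none, some 0, some 1] [p, q, r]).Finite := fun p q r =>
      (ncard_fixedSet 12 3 (by norm_num) (by norm_num) rfl [none, some 0, some 1] (by decide)
        [p, q, r] rfl hist3 hist3_eq).2
    have hne : ∀ p q r p' q' r' : ℤ, p ≠ p' → Disjoint
        (fixedSet 12 [none, some 0, some 1] [p, q, r])
        (fixedSet 12 [none, some 0, some 1] [p', q', r']) := fun p q r p' q' r' h => by
      rw [Set.disjoint_left]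
      rintro y ⟨-, -, e⟩ ⟨-, -, e'⟩
      simp only [List.map_cons, List.map_nil, List.cons.injEq, and_true] at e e'
      omega
    rw [← Set.ncard_union_eq (hne _ _ _ _ _ _ (by norm_num)) (hfin _ _ _) (hfin _ _ _),
      ← Set.ncard_union_eq (Set.disjoint_union_left.2
        ⟨hne _ _ _ _ _ _ (by norm_num), hne _ _ _ _ _ _ (by norm_num)⟩)
        ((hfin _ _ _).union (hfin _ _ _)) (hfin _ _ _)] at hu3
    rw [← hu3]
    refine Set.ncard_congr (fun p _ => ((g • p.1 : leechLattice) : GolayPt → ℤ)) ?_ ?_ ?_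
    · rintro ⟨u1, v2⟩ ⟨⟨hu1, -, hd⟩, (rfl : v2 = v1), hr⟩
      have e0 := key0 u1
      have e1 := key u1
      have hd' : dotInt (u1 : GolayPt → ℤ) (v2 : GolayPt → ℤ) = 24 := hd
      have hr' : dotInt (u1 : GolayPt → ℤ) (x1 : GolayPt → ℤ) = 24 := hr
      have hn : sqNorm ((g • u1 : leechLattice) : GolayPt → ℤ) = 48 := by
        rw [sqNorm_smul]; exact hu1
      simp only [Set.mem_union, fixedSet, Set.mem_setOf_eq, List.map_cons, List.map_nil,
        List.cons.injEq, and_true, SetLike.coe_mem, true_and]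
      rcases three_cases (g • u1) hn (by omega) (by omega) with h | h | ⟨h, -⟩
      · exact Or.inl (Or.inl ⟨hn, h, by omega, by omega⟩)
      · exact Or.inr ⟨hn, h, by omega, by omega⟩
      · exact Or.inl (Or.inr ⟨hn, h, by omega, by omega⟩)
    · rintro ⟨v1', t2⟩ ⟨v2', t3⟩ ⟨-, (rfl : t2 = v1), -⟩ ⟨-, (rfl : t3 = t2), -⟩ h
      rw [show v1' = v2' from MulAction.injective g (Subtype.ext h)]
    · intro y hy
      have hy' : y ∈ leechLattice ∧ sqNorm y = 4 * (12 : ℤ) ∧ y none + y (some 0) = 6 ∧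
          y none + y (some 1) = 6 := by
        rcases hy with (⟨a, b, c⟩ | ⟨a, b, c⟩) | ⟨a, b, c⟩ <;>
          simp only [List.map_cons, List.map_nil, List.cons.injEq, and_true] at c <;>
          exact ⟨a, b, by omega, by omega⟩
      obtain ⟨hmem, hn, h0, h1⟩ := hy'
      refine ⟨(g⁻¹ • (⟨y, hmem⟩ : leechLattice), v1), ⟨⟨?_, hv1, ?_⟩, rfl, ?_⟩, by simp⟩
      · simp only [layer, Set.mem_setOf_eq, sqNorm_smul]; omega
      · rw [key0, smul_inv_smul]; show 4 * (y none + y (some 0)) = 24; omega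
      · rw [key, smul_inv_smul]; show 4 * (y none + y (some 1)) = 24; omega
  have h := double_count (finite_pairSet finite_layer48 finite_layer32 _)
    (finite_pairSet finite_layer32 finite_layer32 _) r a 2816 ha hb
  rw [ncard_pairSet finite_layer48 finite_layer32 _ 552 (fun u hu => ncard_552 u hu),
    ncard_pairSet finite_layer32 finite_layer32 _ 4600 (fun x hx => by
      have e : (pairSumSet 8 4).ncard = 4600 := by
        rw [ncard_pairSumSet 8 1 (by norm_num) (by norm_num) rfl]; decide +kernel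
      rw [← e, ← ncard_layer_dot x hx 8 16 4 (by norm_num)]; rfl),
    ncard_layer, ncard_norm48, ncard_layer, ncard_norm32] at h
  omega

/-! ### the two statements -/

theorem hundred_main (v w : leechLattice) (hv : sqNorm (v : GolayPt → ℤ) = 48)
    (hw : sqNorm (w : GolayPt → ℤ) = 48)
    (hvw : dotInt (v : GolayPt → ℤ) (w : GolayPt → ℤ) = -32) :
    {x : leechLattice | sqNorm (x : GolayPt → ℤ) = 32 ∧
      dotInt (v : GolayPt → ℤ) (x : GolayPt → ℤ) = 24 ∧
      dotInt (w : GolayPt → ℤ) (x : GolayPt → ℤ) = -24}.ncard = 100 ∧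
    ∀ x ∈ {x : leechLattice | sqNorm (x : GolayPt → ℤ) = 32 ∧
      dotInt (v : GolayPt → ℤ) (x : GolayPt → ℤ) = 24 ∧
      dotInt (w : GolayPt → ℤ) (x : GolayPt → ℤ) = -24},
      ∀ x' ∈ {x : leechLattice | sqNorm (x : GolayPt → ℤ) = 32 ∧
      dotInt (v : GolayPt → ℤ) (x : GolayPt → ℤ) = 24 ∧
      dotInt (w : GolayPt → ℤ) (x : GolayPt → ℤ) = -24},
      ∃ g : ↥Co0, g • v = v ∧ g • w = w ∧ g • x = x' := by
  have hneg : ∀ a b : GolayPt → ℤ, dotInt a (-b) = -dotInt a b :=
    fun a b => by simp [dotInt, -Fintype.sum_option]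
  obtain ⟨t, ht, htd⟩ : ∃ t : leechLattice, t = -(v + w) ∧
      ∀ a : GolayPt → ℤ, dotInt a (t : GolayPt → ℤ) =
        -(dotInt a (v : GolayPt → ℤ) + dotInt a (w : GolayPt → ℤ)) :=
    ⟨_, rfl, fun a => by rw [AddSubgroup.coe_neg, AddSubgroup.coe_add, hneg, dotInt_add_right]⟩
  have htv : dotInt (v : GolayPt → ℤ) (t : GolayPt → ℤ) = -16 := by
    rw [htd, dot_self, hv, hvw]; rfl
  have htn : sqNorm (t : GolayPt → ℤ) = 32 := by
    rw [← dot_self, htd, dotInt_comm (t : GolayPt → ℤ), dotInt_comm (t : GolayPt → ℤ), htv, htd,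
      dotInt_comm (w : GolayPt → ℤ) (v : GolayPt → ℤ), hvw, dot_self, hw]
    rfl
  have htx : ∀ x : leechLattice, dotInt (t : GolayPt → ℤ) (x : GolayPt → ℤ) =
      -(dotInt (v : GolayPt → ℤ) (x : GolayPt → ℤ) + dotInt (w : GolayPt → ℤ) (x : GolayPt → ℤ)) :=
    fun x => by rw [dotInt_comm, htd, dotInt_comm (x : GolayPt → ℤ), dotInt_comm (x : GolayPt → ℤ)]
  constructor
  · rw [← ncard_hundred v t ⟨hv, htn, htv⟩]
    congr 1
    ext x
    simp only [Set.mem_setOf_eq, layer, htx x]
    constructor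
    · rintro ⟨a, b, c⟩; exact ⟨a, by omega, b⟩
    · rintro ⟨a, b, c⟩; exact ⟨a, c, by omega⟩
  · rintro x ⟨hx, hvx, hwx⟩ x' ⟨hx', hvx', hwx'⟩
    obtain ⟨g, g1, g2, g3⟩ := trans_hundred t x v x' htn hx hx' hv htv
      (by rw [htx]; omega) (by rw [htx]; omega) hvx hvx'
    refine ⟨g, g1, ?_, g3⟩
    have h0 : g • (0 : leechLattice) = 0 := by
      have := smul_add' g 0 0
      rwa [add_zero, left_eq_add] at this
    have h1 : g • (t + v + w) = 0 := by rw [show t + v + w = 0 by rw [ht]; abel, h0]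
    rw [smul_add', smul_add', g1, g2, add_eq_zero_iff_neg_eq] at h1
    rw [← h1, ht]
    abel

theorem main275 (u v : leechLattice) (hu : sqNorm (u : GolayPt → ℤ) = 48)
    (hv : sqNorm (v : GolayPt → ℤ) = 32 ∧
      sqNorm ((u : GolayPt → ℤ) - (v : GolayPt → ℤ)) = 32) :
    {x : leechLattice | sqNorm (x : GolayPt → ℤ) = 32 ∧
      sqNorm ((u : GolayPt → ℤ) - (x : GolayPt → ℤ)) = 32 ∧
      dotInt (v : GolayPt → ℤ) (x : GolayPt → ℤ) = 16}.ncard = 275 ∧
    ∀ x ∈ {x : leechLattice | sqNorm (x : GolayPt → ℤ) = 32 ∧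
      sqNorm ((u : GolayPt → ℤ) - (x : GolayPt → ℤ)) = 32 ∧
      dotInt (v : GolayPt → ℤ) (x : GolayPt → ℤ) = 16},
      ∀ x' ∈ {x : leechLattice | sqNorm (x : GolayPt → ℤ) = 32 ∧
      sqNorm ((u : GolayPt → ℤ) - (x : GolayPt → ℤ)) = 32 ∧
      dotInt (v : GolayPt → ℤ) (x : GolayPt → ℤ) = 16},
      ∃ g : ↥Co0, g • u = u ∧ g • v = v ∧ g • x = x' := by
  have huv := (sq_sub_iff u v hu hv.1).1 hv.2
  constructor
  · rw [← ncard_275 u v ⟨hu, hv.1, huv⟩]
    congr 1
    ext x
    simp only [Set.mem_setOf_eq, layer]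
    constructor
    · rintro ⟨a, b, c⟩; exact ⟨a, (sq_sub_iff u x hu a).1 b, c⟩
    · rintro ⟨a, b, c⟩; exact ⟨a, (sq_sub_iff u x hu a).2 b, c⟩
  · rintro x ⟨hx, hux, hvx⟩ x' ⟨hx', hux', hvx'⟩
    obtain ⟨g, a1, a2, a3⟩ :=
      normal_triple u v x hu hv.1 hx huv ((sq_sub_iff u x hu hx).1 hux) hvx
    obtain ⟨k, b1, b2, b3⟩ :=
      normal_triple u v x' hu hv.1 hx' huv ((sq_sub_iff u x' hu hx').1 hux') hvx'
    refine ⟨k⁻¹ * g, ?_, ?_, ?_⟩
    · rw [mul_smul, inv_smul_eq_iff]; exact Subtype.ext (a1.trans b1.symm)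
    · rw [mul_smul, inv_smul_eq_iff, a2, b2]
    · rw [mul_smul, inv_smul_eq_iff, a3, b3]

end Cfsg.Agent.Leech
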