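import Mathlib
import Cfsg.Prelude.Def_Sporadic_a
import Cfsg.Prelude.Def_Spor_Conway
import Cfsg.Agent.Leech.Code
import Cfsg.Agent.Leech.Lattice
import Cfsg.Agent.Leech.ModRep
import Cfsg.Agent.Leech.Orbits
import Cfsg.Agent.Leech.Pairs
import Cfsg.Agent.Leech.PairsOrth
import Cfsg.Agent.Leech.CountAt
import Cfsg.Agent.Leech.DotCounts
import Cfsg.Agent.Leech.ModTwo
import Cfsg.Agent.Leech.TwoThree
import Cfsg.Agent.Leech.Triples
import Cfsg.Agent.Leech.OrbitCert

/-! The 2025 vectors attached to a pair with scalar product `-8`. -/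

set_option autoImplicit false

namespace Cfsg.Agent.Leech
open Cfsg

theorem mem_of_parity (x : GolayPt → ℤ) (m : ℤ) (h1 : ∀ i, x i = m + 2 * ((x i - m) / 2))
    (h2 : (8 : ℤ) ∣ (∑ i, x i) - 4 * m)
    (h3 : dec (red2 fun i => (x i - m) / 2) = red2 fun i => (x i - m) / 2) : x ∈ leechLattice :=
  mem_lattice_iff.2 ⟨m, _, h1, h2, (mem_iff _).2 h3⟩

/-- a vector from its coordinate list -/
def ofL (l : List ℤ) : GolayPt → ℤ := fun p => l.getD (idx p) 0

/-- the partner with scalar product `-8` -/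
def eW : leechLattice :=
  ⟨fun i => if i = some 0 then -3 else 1,
    mem_of_parity _ 1 (by decide +kernel) (by decide +kernel) (by decide +kernel)⟩

/-- the orthogonal partner -/
def eX : leechLattice := fourPair none (some 0) 1 (-1) (by norm_num)

theorem eX_coe : (eX : GolayPt → ℤ) = Spor.vecU' := by decide +kernel

theorem ncard_1024' : (fixedSet 8 [none, some 0] [1, -3]).ncard = 1024 := by
  rw [(ncard_fixedSet 8 1 (by norm_num) (by norm_num) rfl [none, some 0] (by simp) [1, -3] rfl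
    hist2 hist2_eq).1]
  decide +kernel

/-- the entries of the third vector -/
theorem third_entries (g : ↥Co0) (v w x : leechLattice)
    (hv : ((g • v : leechLattice) : GolayPt → ℤ) = Spor.vecU)
    (hx : ((g • x : leechLattice) : GolayPt → ℤ) = Spor.vecU') :
    dotInt (v : GolayPt → ℤ) (w : GolayPt → ℤ) =
        4 * (((g • w : leechLattice) : GolayPt → ℤ) none + ((g • w : leechLattice) : GolayPt → ℤ) (some 0)) ∧
      dotInt (w : GolayPt → ℤ) (x : GolayPt → ℤ) =
        4 * (((g • w : leechLattice) : GolayPt → ℤ) none - ((g • w : leechLattice) : GolayPt → ℤ) (some 0)) := by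
  refine ⟨?_, ?_⟩
  · rw [← dotInt_smul g v w, hv, dot_vecU]
  · rw [← dotInt_smul g w x, hx,
      show Spor.vecU' = Pi.single none 4 + Pi.single (some 0) (-4) by decide +kernel,
      dotInt_add_right, dot_single, dot_single]
    ring

/-- signs bring the third vector to normal form -/
theorem conj_1024 (w : leechLattice) (hn : sqNorm (w : GolayPt → ℤ) = 32)
    (h0 : (w : GolayPt → ℤ) none = 1) (h1 : (w : GolayPt → ℤ) (some 0) = -3) :
    ∃ k : ↥Co0, k • Spor.leechU = Spor.leechU ∧ k • eX = eX ∧ k • w = eW := by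
  obtain ⟨c, hc, hc4⟩ := odd_normal w.2 (by rw [h0]; norm_num)
  have hodd : ∀ i, ¬ (2 : ℤ) ∣ (w : GolayPt → ℤ) i := fun i h => by
    have := (odd_all w.2 i).1 h
    rw [h0] at this
    norm_num at this
  have hc0 : c none = 0 ∧ c (some 0) = 0 := by
    constructor <;> refine (zmod2_cases _).resolve_right fun h => ?_
    · have := hc4 none; simp only [negOn, h, h0, one_ne_zero, if_false] at this; omega
    · have := hc4 (some 0); simp only [negOn, h, h1, one_ne_zero, if_false] at this; omega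
  have hrest : ∀ i, i ≠ none → i ≠ some 0 → (w : GolayPt → ℤ) i ^ 2 = 1 := by
    intro i hi hi0
    by_contra hne
    obtain ⟨hge, k, hk⟩ := odd_sq_bound (hodd i)
    have hr : ((Finset.univ \ {none, some 0, i} : Finset GolayPt).card : ℤ) ≤
        ∑ q ∈ Finset.univ \ {none, some 0, i}, (w : GolayPt → ℤ) q ^ 2 := by
      have := Finset.sum_le_sum (s := (Finset.univ \ {none, some 0, i} : Finset GolayPt))
        fun q _ => (odd_sq_bound (hodd q)).1
      simpa using this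
    have hs := Finset.sum_sdiff (f := fun i => (w : GolayPt → ℤ) i ^ 2)
      (Finset.subset_univ ({none, some 0, i} : Finset GolayPt))
    have hcard : ({none, some 0, i} : Finset GolayPt).card = 3 := by
      simp [Ne.symm hi, Ne.symm hi0]
    rw [Finset.card_sdiff_of_subset (Finset.subset_univ _), Finset.card_univ, card_golayPt,
      hcard] at hr
    rw [Finset.sum_insert (by simp [Ne.symm hi]), Finset.sum_insert (by simp [Ne.symm hi0]),
      Finset.sum_singleton, h0, h1] at hs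
    rw [sqNorm] at hn
    push_cast at hr
    have : (9 : ℤ) ≤ (w : GolayPt → ℤ) i ^ 2 := by omega
    linarith
  refine ⟨signCo0 c hc, ?_, ?_, Subtype.ext (funext fun i => ?_)⟩
  · refine Subtype.ext (funext fun i => ?_)
    rw [signCo0_apply]
    show negOn c Spor.vecU i = Spor.vecU i
    simp only [negOn, Spor.vecU]
    split_ifs with a b b <;> first | rfl | (exfalso; rcases b with rfl | rfl <;> simp [hc0] at a)
  · refine Subtype.ext (funext fun i => ?_)
    rw [signCo0_apply, eX_coe]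
    simp only [negOn, Spor.vecU']
    by_cases a : i = none
    · subst a; simp [hc0]
    by_cases b : i = some 0
    · subst b; simp [hc0]
    simp [a, b]
  · rw [signCo0_apply]
    show _ = if i = some 0 then (-3 : ℤ) else 1
    by_cases a : i = none
    · subst a; simp [negOn, hc0, h0]
    by_cases b : i = some 0
    · subst b; simp [negOn, hc0, h1]
    have := hc4 i
    rw [if_neg b]
    simp only [negOn] at this ⊢
    rcases sq_eq_one_iff.1 (hrest i a b) with e | e <;> split_ifs at this ⊢ <;> omega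

/-- normal form of the triples -/
theorem normal_2025 (v w x : leechLattice) (hv : sqNorm (v : GolayPt → ℤ) = 32)
    (hw : sqNorm (w : GolayPt → ℤ) = 32) (hx : sqNorm (x : GolayPt → ℤ) = 32)
    (hvw : dotInt (v : GolayPt → ℤ) (w : GolayPt → ℤ) = -8)
    (hvx : dotInt (v : GolayPt → ℤ) (x : GolayPt → ℤ) = 0)
    (hwx : dotInt (w : GolayPt → ℤ) (x : GolayPt → ℤ) = 16) :
    ∃ g : ↥Co0, g • v = Spor.leechU ∧ g • w = eW ∧ g • x = eX := by
  obtain ⟨g, g1, g2⟩ := normal_orth v x hv hx hvx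
  obtain ⟨e1, e2⟩ := third_entries g v w x g1 g2
  obtain ⟨k, k1, k2, k3⟩ := conj_1024 (g • w) (by rw [sqNorm_smul]; exact hw) (by omega) (by omega)
  refine ⟨k * g, ?_, by rw [mul_smul]; exact k3, ?_⟩
  · rw [mul_smul, show g • v = Spor.leechU from Subtype.ext g1]; exact k1
  · rw [mul_smul, show g • x = eX from Subtype.ext (g2.trans eX_coe.symm)]; exact k2

theorem trans_2025 (v w x x' : leechLattice) (hv : sqNorm (v : GolayPt → ℤ) = 32)
    (hw : sqNorm (w : GolayPt → ℤ) = 32)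
    (hvw : dotInt (v : GolayPt → ℤ) (w : GolayPt → ℤ) = -8)
    (hx : sqNorm (x : GolayPt → ℤ) = 32 ∧ dotInt (v : GolayPt → ℤ) (x : GolayPt → ℤ) = 0 ∧
      dotInt (w : GolayPt → ℤ) (x : GolayPt → ℤ) = 16)
    (hx' : sqNorm (x' : GolayPt → ℤ) = 32 ∧ dotInt (v : GolayPt → ℤ) (x' : GolayPt → ℤ) = 0 ∧
      dotInt (w : GolayPt → ℤ) (x' : GolayPt → ℤ) = 16) :
    ∃ g : ↥Co0, g • v = v ∧ g • w = w ∧ g • x = x' := by
  obtain ⟨g, a1, a2, a3⟩ := normal_2025 v w x hv hw hx.1 hvw hx.2.1 hx.2.2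
  obtain ⟨k, b1, b2, b3⟩ := normal_2025 v w x' hv hw hx'.1 hvw hx'.2.1 hx'.2.2
  refine ⟨k⁻¹ * g, ?_, ?_, ?_⟩
  · rw [mul_smul, inv_smul_eq_iff, a1, b1]
  · rw [mul_smul, inv_smul_eq_iff, a2, b2]
  · rw [mul_smul, inv_smul_eq_iff, a3, b3]

theorem ncard_2025 (v w : leechLattice) (hp : (v, w) ∈ pairSet 32 32 (-8)) :
    {x : leechLattice | x ∈ layer 32 ∧ dotInt (v : GolayPt → ℤ) (x : GolayPt → ℤ) = 0 ∧
      dotInt (w : GolayPt → ℤ) (x : GolayPt → ℤ) = 16}.ncard = 2025 := by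
  set a := {x : leechLattice | x ∈ layer 32 ∧ dotInt (v : GolayPt → ℤ) (x : GolayPt → ℤ) = 0 ∧
    dotInt (w : GolayPt → ℤ) (x : GolayPt → ℤ) = 16}.ncard
  let r : leechLattice × leechLattice → leechLattice × leechLattice → Prop := fun p q =>
    p.1 = q.1 ∧ dotInt (p.2 : GolayPt → ℤ) (q.2 : GolayPt → ℤ) = 16
  have ha : ∀ p ∈ pairSet 32 32 (-8), {q | q ∈ pairSet 32 32 0 ∧ r p q}.ncard = a := by
    rintro ⟨v1, w1⟩ ⟨hv1, hw1, hd1⟩
    obtain ⟨g, g1, g2⟩ :=
      trans_pairs' v1 w1 v w hv1 hw1 hp.1 hp.2.1 (-8) (Or.inr rfl) hd1 hp.2.2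
    refine Set.ncard_congr (fun q _ => g • q.2) ?_ ?_ ?_
    · rintro ⟨t2, x⟩ ⟨⟨-, hx, hd⟩, (rfl : v1 = t2), hr⟩
      refine ⟨by simp only [layer, Set.mem_setOf_eq, sqNorm_smul]; exact hx, ?_, ?_⟩
      · rw [← g1, dotInt_smul]; exact hd
      · rw [← g2, dotInt_smul]; exact hr
    · rintro ⟨t2, x⟩ ⟨t3, y⟩ ⟨-, (rfl : v1 = t2), -⟩ ⟨-, (rfl : v1 = t3), -⟩ h
      rw [show x = y from MulAction.injective g h]
    · rintro x ⟨hx, h0, h16⟩
      refine ⟨(v1, g⁻¹ • x), ⟨⟨hv1, ?_, ?_⟩, rfl, ?_⟩, smul_inv_smul g x⟩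
      · simp only [layer, Set.mem_setOf_eq, sqNorm_smul]; exact hx
      · rw [← dotInt_smul g, g1, smul_inv_smul]; exact h0
      · rw [← dotInt_smul g, g2, smul_inv_smul]; exact h16
  have hb : ∀ q ∈ pairSet 32 32 0, {p | p ∈ pairSet 32 32 (-8) ∧ r p q}.ncard = 1024 := by
    rintro ⟨v1, x1⟩ ⟨hv1, hx1, hd1⟩
    obtain ⟨g, g1, g2⟩ := normal_orth v1 x1 hv1 hx1 hd1
    rw [← ncard_1024']
    refine Set.ncard_congr (fun p _ => ((g • p.2 : leechLattice) : GolayPt → ℤ)) ?_ ?_ ?_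
    · rintro ⟨v2, w1⟩ ⟨⟨-, hw1, hd⟩, (rfl : v2 = v1), hr⟩
      obtain ⟨e1, e2⟩ := third_entries g v2 w1 x1 g1 g2
      have hd' : dotInt (v2 : GolayPt → ℤ) (w1 : GolayPt → ℤ) = -8 := hd
      have hr' : dotInt (w1 : GolayPt → ℤ) (x1 : GolayPt → ℤ) = 16 := hr
      refine ⟨SetLike.coe_mem _, by rw [sqNorm_smul]; exact hw1, ?_⟩
      simp only [List.map_cons, List.map_nil, List.cons.injEq, and_true]
      omega
    · rintro ⟨v2, w1⟩ ⟨v3, w2⟩ ⟨-, (rfl : v2 = v1), -⟩ ⟨-, (rfl : v3 = v2), -⟩ h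
      rw [show w1 = w2 from MulAction.injective g (Subtype.ext h)]
    · rintro y ⟨hy, hn, hvals⟩
      simp only [List.map_cons, List.map_nil, List.cons.injEq, and_true] at hvals
      obtain ⟨e1, e2⟩ := third_entries g v1 (g⁻¹ • (⟨y, hy⟩ : leechLattice)) x1 g1 g2
      rw [smul_inv_smul] at e1 e2
      refine ⟨(v1, g⁻¹ • (⟨y, hy⟩ : leechLattice)), ⟨⟨hv1, ?_, ?_⟩, rfl, ?_⟩, by simp⟩
      · simp only [layer, Set.mem_setOf_eq, sqNorm_smul]; exact hn
      · rw [e1]; show 4 * (y none + y (some 0)) = -8; omega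
      · show dotInt _ _ = 16; rw [e2]; show 4 * (y none - y (some 0)) = 16; omega
  have h := double_count (finite_pairSet finite_layer32 finite_layer32 _)
    (finite_pairSet finite_layer32 finite_layer32 _) r a 1024 ha hb
  rw [ncard_pairSet finite_layer32 finite_layer32 _ 47104 (fun x hx => by
      rw [← ncard_pairSum32.2.1, ← ncard_layer_dot x hx 8 (-8) (-2) (by norm_num)]; rfl),
    ncard_pairSet finite_layer32 finite_layer32 _ 93150 (fun x hx => by
      rw [← ncard_pairSum32.2.2, ← ncard_layer_dot x hx 8 0 0 (by norm_num)]; rfl),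
    ncard_layer, ncard_norm32] at h
  omega

/-- orbits correspond under conjugation -/
theorem ncard_orbit_conj (g : ↥Co0) (a b c y : leechLattice) :
    (MulAction.orbit ↥(MulAction.stabilizer ↥Co0 a ⊓ MulAction.stabilizer ↥Co0 b ⊓
        MulAction.stabilizer ↥Co0 c) (g⁻¹ • y)).ncard =
      (MulAction.orbit ↥(MulAction.stabilizer ↥Co0 (g • a) ⊓ MulAction.stabilizer ↥Co0 (g • b) ⊓
        MulAction.stabilizer ↥Co0 (g • c)) y).ncard := by
  refine Set.ncard_congr (fun z _ => g • z) ?_ (fun _ _ _ _ e => MulAction.injective g e) ?_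
  · rintro z ⟨⟨h, hh⟩, rfl⟩
    simp only [Subgroup.mem_inf, MulAction.mem_stabilizer_iff] at hh
    refine ⟨⟨g * h * g⁻¹, ?_⟩, ?_⟩
    · simp only [Subgroup.mem_inf, MulAction.mem_stabilizer_iff, mul_smul, inv_smul_smul, hh,
        and_self]
    · show (g * h * g⁻¹) • y = g • h • g⁻¹ • y
      rw [mul_smul, mul_smul]
  · rintro z ⟨⟨h, hh⟩, rfl⟩
    simp only [Subgroup.mem_inf, MulAction.mem_stabilizer_iff] at hh
    refine ⟨g⁻¹ • h • y, ⟨⟨g⁻¹ * h * g, ?_⟩, ?_⟩, smul_inv_smul g _⟩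
    · simp only [Subgroup.mem_inf, MulAction.mem_stabilizer_iff, mul_smul, hh, inv_smul_smul,
        and_self]
    · show (g⁻¹ * h * g) • g⁻¹ • y = g⁻¹ • h • y
      rw [mul_smul, mul_smul, smul_inv_smul]

end Cfsg.Agent.Leech
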