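import Mathlib
import Cfsg.Prelude.Def_Sporadic_a
import Cfsg.Prelude.Def_Spor_Conway
import Cfsg.Agent.Leech.Code
import Cfsg.Agent.Leech.Lattice
import Cfsg.Agent.Leech.OrbitCert
import Cfsg.Agent.Leech.PairsEight

/-! The three nontrivial suborbits on the 2025 vectors. -/

set_option autoImplicit false

namespace Cfsg.Agent.Leech
open Cfsg

/-- the stabiliser of the normal triple -/
def stab1634 : Subgroup ↥Co0 :=
  MulAction.stabilizer ↥Co0 Spor.leechU ⊓ MulAction.stabilizer ↥Co0 eW ⊓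
    MulAction.stabilizer ↥Co0 eX

/-- a generator -/
def mg0 : LGen := monGen [0, 1, 4, 8, 7, 17, 23, 16, 12, 6, 18, 20, 21, 11, 10, 15, 9, 19, 5, 22, 3, 13, 14, 2]
  [0, 1, 23, 20, 2, 18, 9, 4, 3, 16, 14, 13, 8, 21, 22, 15, 7, 5, 10, 17, 11, 12, 19, 6] 0 (by decide +kernel) (by decide +kernel) (by decide +kernel) (by decide +kernel)
  (by decide +kernel)
/-- a generator -/
def mg1 : LGen := monGen [0, 1, 22, 17, 12, 15, 13, 19, 6, 7, 2, 18, 23, 11, 4, 8, 9, 14, 5, 10, 3, 21, 16, 20]
  [0, 1, 10, 20, 14, 18, 8, 9, 15, 16, 19, 13, 4, 6, 17, 5, 22, 3, 11, 7, 23, 21, 2, 12] 0 (by decide +kernel) (by decide +kernel) (by decide +kernel) (by decide +kernel)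
  (by decide +kernel)

theorem gens_mem : ∀ a ∈ [mg0, mg1], a.g ∈ stab1634 := by
  have key : ∀ (a : LGen) (u : leechLattice),
      a.f (toL (u : GolayPt → ℤ)) = toL (u : GolayPt → ℤ) → a.g • u = u :=
    fun a u h => Subtype.ext (toL_injective ((a.spec u).trans h))
  intro a ha
  simp only [stab1634, Subgroup.mem_inf, MulAction.mem_stabilizer_iff]
  simp only [List.mem_cons, List.not_mem_nil, or_false] at ha
  rcases ha with rfl | rfl <;>
    exact ⟨⟨key _ _ (by decide +kernel), key _ _ (by decide +kernel)⟩, key _ _ (by decide +kernel)⟩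

/-- a representative -/
def rep0 : leechLattice :=
  ⟨ofL [0, 0, 0, 0, 0, 0, 0, 0, 0, 0, 0, 2, 2, 2, 2, 2, 0, 0, 2, 0, 0, 2, 0, 2],
    mem_of_parity _ 0 (by decide +kernel) (by decide +kernel) (by decide +kernel)⟩

theorem orbit0 : 330 ≤ (MulAction.orbit ↥stab1634 rep0).ncard :=
  le_ncard_orbit [mg0, mg1] stab1634 gens_mem rep0 [0, 0, 0, 0, 0, 0, 0, 0, 0, 0, 0, 2, 2, 2, 2, 2, 0, 0, 2, 0, 0, 2, 0, 2] (by decide +kernel)
    (unpack 3 658 151883907455266802991950775502805913467846652237618690814471039107738458651457166176389767188762072107194918594590783071910783019745103035275734258024971251926689877321810310319867598589871762890011024230213470749188248596702258480785697647939034761520527431011553793234293615955688434285560272640311316078)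
    [monF [0, 1, 4, 8, 7, 17, 23, 16, 12, 6, 18, 20, 21, 11, 10, 15, 9, 19, 5, 22, 3, 13, 14, 2] 0, monF [0, 1, 22, 17, 12, 15, 13, 19, 6, 7, 2, 18, 23, 11, 4, 8, 9, 14, 5, 10, 3, 21, 16, 20] 0] rfl 6611 330 (by decide +kernel)
/-- a representative -/
def rep16 : leechLattice :=
  ⟨ofL [2, -2, -2, 0, 0, 0, 0, 0, 0, 0, 0, 0, 0, 0, 2, 0, 2, 0, 2, 2, 2, 0, 0, 0],
    mem_of_parity _ 0 (by decide +kernel) (by decide +kernel) (by decide +kernel)⟩

theorem orbit16 : 462 ≤ (MulAction.orbit ↥stab1634 rep16).ncard :=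
  le_ncard_orbit [mg0, mg1] stab1634 gens_mem rep16 [2, -2, -2, 0, 0, 0, 0, 0, 0, 0, 0, 0, 0, 0, 2, 0, 2, 0, 2, 2, 2, 0, 0, 0] (by decide +kernel)
    (unpack 3 922 85670035118951136078552051176411625207628780620711213597928396348445721222875730328987812999977690488560475279472157470135025482291494707506228535454005413935541351555141822101196438866545232642582053232926951467790159430774457250208763255585392252773827622853925962)
    [monF [0, 1, 4, 8, 7, 17, 23, 16, 12, 6, 18, 20, 21, 11, 10, 15, 9, 19, 5, 22, 3, 13, 14, 2] 0, monF [0, 1, 22, 17, 12, 15, 13, 19, 6, 7, 2, 18, 23, 11, 4, 8, 9, 14, 5, 10, 3, 21, 16, 20] 0] rfl 9973 462 (by decide +kernel)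
/-- a representative -/
def rep8 : leechLattice :=
  ⟨ofL [1, -1, -1, -1, -1, -1, 1, 1, -1, 1, 1, -1, 1, 3, 1, 1, 1, 1, 1, 1, 1, 1, 1, 1],
    mem_of_parity _ 1 (by decide +kernel) (by decide +kernel) (by decide +kernel)⟩

theorem orbit8 : 1232 ≤ (MulAction.orbit ↥stab1634 rep8).ncard :=
  le_ncard_orbit [mg0, mg1] stab1634 gens_mem rep8 [1, -1, -1, -1, -1, -1, 1, 1, -1, 1, 1, -1, 1, 3, 1, 1, 1, 1, 1, 1, 1, 1, 1, 1] (by decide +kernel)
    (unpack 3 2462 8239765740576590193965963552743905291515998544780691920068537640871449715668675406785080034192524051102346404824586904844985128579356900723925701498078422566079142525882619940573454487994200741692109262083858077444365252596190264029270823267286243245759145276548240597049571289729294885352167435395058926063481579270260807168255018888627175568077538228855847077431736947419850465280581910095902614939892198758476669489759924209564446615561847134642367185393880575690947974228345796306305174590385565765687826325772217059490473444549368965498408007404539749042953435773247430418338528900506794612333984395951381699659550671315186658113248117043621321855145132879433600909173423646642436889438889575580976262786824354226403615895091687756165885410709345092816535810008133281507054705337159749192575631223301344583088476774838802285672154526494852864455103930026081494058532616322357524194108426)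
    [monF [0, 1, 4, 8, 7, 17, 23, 16, 12, 6, 18, 20, 21, 11, 10, 15, 9, 19, 5, 22, 3, 13, 14, 2] 0, monF [0, 1, 22, 17, 12, 15, 13, 19, 6, 7, 2, 18, 23, 11, 4, 8, 9, 14, 5, 10, 3, 21, 16, 20] 0] rfl 41347 1232 (by decide +kernel)

theorem rep_facts :
    (sqNorm (rep0 : GolayPt → ℤ) = 32 ∧ dotInt Spor.vecU (rep0 : GolayPt → ℤ) = 0 ∧
      dotInt (eW : GolayPt → ℤ) (rep0 : GolayPt → ℤ) = 16 ∧
      dotInt (eX : GolayPt → ℤ) (rep0 : GolayPt → ℤ) = 0) ∧
    (sqNorm (rep16 : GolayPt → ℤ) = 32 ∧ dotInt Spor.vecU (rep16 : GolayPt → ℤ) = 0 ∧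
      dotInt (eW : GolayPt → ℤ) (rep16 : GolayPt → ℤ) = 16 ∧
      dotInt (eX : GolayPt → ℤ) (rep16 : GolayPt → ℤ) = 16) ∧
    (sqNorm (rep8 : GolayPt → ℤ) = 32 ∧ dotInt Spor.vecU (rep8 : GolayPt → ℤ) = 0 ∧
      dotInt (eW : GolayPt → ℤ) (rep8 : GolayPt → ℤ) = 16 ∧
      dotInt (eX : GolayPt → ℤ) (rep8 : GolayPt → ℤ) = 8) := by decide +kernel

/-- the three suborbits are exactly the classes by scalar product -/
theorem orbit_sizes : (MulAction.orbit ↥stab1634 rep0).ncard = 330 ∧
    (MulAction.orbit ↥stab1634 rep16).ncard = 462 ∧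
    (MulAction.orbit ↥stab1634 rep8).ncard = 1232 := by
  obtain ⟨f0, f16, f8⟩ := rep_facts
  set X : Set leechLattice := {x | x ∈ layer 32 ∧ dotInt Spor.vecU (x : GolayPt → ℤ) = 0 ∧
    dotInt (eW : GolayPt → ℤ) (x : GolayPt → ℤ) = 16} with hX
  have hcard : X.ncard = 2025 := ncard_2025 Spor.leechU eW ⟨show sqNorm Spor.vecU = 32 by decide +kernel,
    show sqNorm (eW : GolayPt → ℤ) = 32 by decide +kernel,
    by decide +kernel⟩
  have hsub : ∀ (y : leechLattice) (d : ℤ), sqNorm (y : GolayPt → ℤ) = 32 →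
      dotInt Spor.vecU (y : GolayPt → ℤ) = 0 → dotInt (eW : GolayPt → ℤ) (y : GolayPt → ℤ) = 16 →
      dotInt (eX : GolayPt → ℤ) (y : GolayPt → ℤ) = d →
      MulAction.orbit ↥stab1634 y ⊆ {x | x ∈ X ∧ dotInt (eX : GolayPt → ℤ) (x : GolayPt → ℤ) = d} := by
    rintro y d h1 h2 h3 h4 z ⟨⟨h, hh⟩, rfl⟩
    simp only [stab1634, Subgroup.mem_inf, MulAction.mem_stabilizer_iff] at hh
    obtain ⟨⟨e1, e2⟩, e3⟩ := hh
    show (h • y) ∈ X ∧ dotInt (eX : GolayPt → ℤ) ((h • y : leechLattice) : GolayPt → ℤ) = d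
    refine ⟨⟨?_, ?_, ?_⟩, ?_⟩
    · show sqNorm _ = 32; rw [sqNorm_smul]; exact h1
    · have := dotInt_smul h Spor.leechU y
      rw [e1] at this; exact this.trans h2
    · conv_lhs => rw [← e2]
      rw [dotInt_smul]; exact h3
    · conv_lhs => rw [← e3]
      rw [dotInt_smul]; exact h4
  have s0 := hsub rep0 0 f0.1 f0.2.1 f0.2.2.1 f0.2.2.2
  have s16 := hsub rep16 16 f16.1 f16.2.1 f16.2.2.1 f16.2.2.2
  have s8 := hsub rep8 8 f8.1 f8.2.1 f8.2.2.1 f8.2.2.2
  have hd : ∀ {A B : Set leechLattice} {d e : ℤ}, d ≠ e →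
      A ⊆ {x | x ∈ X ∧ dotInt (eX : GolayPt → ℤ) (x : GolayPt → ℤ) = d} →
      B ⊆ {x | x ∈ X ∧ dotInt (eX : GolayPt → ℤ) (x : GolayPt → ℤ) = e} → Disjoint A B :=
    fun hde hA hB => Set.disjoint_left.2 fun z za zb => hde ((hA za).2.symm.trans (hB zb).2)
  have hXfin : X.Finite := Set.finite_of_ncard_ne_zero (by omega)
  have sx : ({eX} : Set leechLattice) ⊆
      {x | x ∈ X ∧ dotInt (eX : GolayPt → ℤ) (x : GolayPt → ℤ) = 32} := by
    rintro z rfl
    exact ⟨⟨show sqNorm (eX : GolayPt → ℤ) = 32 by decide +kernel, by decide +kernel, by decide +kernel⟩,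
      by decide +kernel⟩
  have hall : MulAction.orbit ↥stab1634 rep0 ∪ MulAction.orbit ↥stab1634 rep16 ∪
      MulAction.orbit ↥stab1634 rep8 ∪ {eX} ⊆ X :=
    Set.union_subset (Set.union_subset (Set.union_subset (fun z h => (s0 h).1) fun z h => (s16 h).1)
      fun z h => (s8 h).1) fun z h => (sx h).1
  have hle := Set.ncard_le_ncard hall hXfin
  have fo := fun y => finite_orbit stab1634 y
  rw [Set.ncard_union_eq (Set.disjoint_union_left.2 ⟨Set.disjoint_union_left.2
        ⟨hd (by norm_num) s0 sx, hd (by norm_num) s16 sx⟩, hd (by norm_num) s8 sx⟩)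
      (((fo _).union (fo _)).union (fo _)) (Set.finite_singleton _),
    Set.ncard_union_eq (Set.disjoint_union_left.2
        ⟨hd (by norm_num) s0 s8, hd (by norm_num) s16 s8⟩) ((fo _).union (fo _)) (fo _),
    Set.ncard_union_eq (hd (by norm_num) s0 s16) (fo _) (fo _), Set.ncard_singleton, hcard] at hle
  have := orbit0; have := orbit16; have := orbit8
  omega

end Cfsg.Agent.Leech
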