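import Mathlib

/-! Lower bounds for orders of permutation groups, checked by the kernel on packed lists. -/

set_option autoImplicit false

namespace Cfsg.Agent.Leech.Model

/-- entry `i` of a list packed with `w` bits per entry -/
def pk (w P i : ℕ) : ℕ := (P >>> (w * i)) % (2 ^ w)

/-- no two of the values agree, checked with a bit set -/
def noRep : ℕ → List ℕ → Bool
  | _, [] => true
  | acc, a :: t => !(acc.testBit a) && noRep (acc ||| 2 ^ a) t

theorem noRep_spec : ∀ (l : List ℕ) (acc : ℕ), noRep acc l = true →
    l.Nodup ∧ ∀ a ∈ l, acc.testBit a = false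
  | [], _, _ => ⟨List.nodup_nil, by simp⟩
  | a :: t, acc, h => by
    simp only [noRep, Bool.and_eq_true, Bool.not_eq_true'] at h
    obtain ⟨h1, h2⟩ := noRep_spec t _ h.2
    refine ⟨List.nodup_cons.2 ⟨fun hm => ?_, h1⟩, fun b hb => ?_⟩
    · have := h2 a hm
      simp [Nat.testBit_two_pow_self] at this
    · rcases List.mem_cons.1 hb with rfl | hb
      · exact h.1
      · have := h2 b hb
        simp only [Nat.testBit_or, Bool.or_eq_false_iff] at this
        exact this.1

theorem noRep_range {f : ℕ → ℕ} {n : ℕ} (h : noRep 0 ((List.range n).map f) = true) {i j : ℕ}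
    (hi : i < n) (hj : j < n) (e : f i = f j) : i = j :=
  List.inj_on_of_nodup_map (noRep_spec _ 0 h).1 (List.mem_range.2 hi) (List.mem_range.2 hj) e

/-- a permutation given by a packed list -/
def IsPacked {N : ℕ} (P : ℕ) (g : Equiv.Perm (Fin N)) : Prop := ∀ i, (g i : ℕ) = pk 10 P i

/-- a packed list gives a permutation -/
def packCheck (N P : ℕ) : Bool :=
  ((List.range N).all fun i => Nat.blt (pk 10 P i) N) &&
    noRep 0 ((List.range N).map (pk 10 P))

theorem exists_isPacked {N P : ℕ} (h : packCheck N P = true) :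
    ∃ g : Equiv.Perm (Fin N), IsPacked P g := by
  simp only [packCheck, Bool.and_eq_true, List.all_eq_true, List.mem_range] at h
  obtain ⟨h1, h2⟩ := h
  let f : Fin N → Fin N := fun i => ⟨pk 10 P i, by simpa using h1 i i.2⟩
  have hf : Function.Injective f := fun i j e =>
    Fin.ext (noRep_range h2 i.2 j.2 (congrArg Fin.val e))
  exact ⟨Equiv.ofBijective f (Finite.injective_iff_bijective.1 hf), fun i => rfl⟩

theorem IsPacked.unique {N P : ℕ} {g h : Equiv.Perm (Fin N)} (hg : IsPacked P g)
    (hh : IsPacked P h) : g = h :=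
  Equiv.ext fun i => Fin.ext ((hg i).trans (hh i).symm)

/-- the group generated by packed permutations -/
def genGroup (N : ℕ) (ps : List ℕ) : Subgroup (Equiv.Perm (Fin N)) :=
  Subgroup.closure {g | ∃ P ∈ ps, IsPacked P g}

/-- apply a word in the packed permutations to a point -/
def evW (ps : List ℕ) (w : List ℕ) (x : ℕ) : ℕ := w.foldr (fun a y => pk 10 (ps.getD a 0) y) x

theorem exists_word {N : ℕ} (ps : List ℕ) (hps : ps.all (packCheck N) = true) :
    ∀ w : List ℕ, (w.all fun a => Nat.blt a ps.length) = true →
      ∃ g ∈ genGroup N ps, ∀ i : Fin N, (g i : ℕ) = evW ps w i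
  | [], _ => ⟨1, one_mem _, fun _ => rfl⟩
  | a :: w, h => by
    rw [List.all_cons, Bool.and_eq_true] at h
    obtain ⟨g, hg, hgi⟩ := exists_word ps hps w h.2
    have ha : a < ps.length := by simpa using h.1
    have hmem : ps[a] ∈ ps := List.getElem_mem ha
    obtain ⟨s, hs⟩ := exists_isPacked (List.all_eq_true.1 hps _ hmem)
    refine ⟨s * g, mul_mem (Subgroup.subset_closure ⟨_, hmem, hs⟩) hg, fun i => ?_⟩
    rw [Equiv.Perm.mul_apply, hs, hgi]
    simp [evW, List.getD_eq_getElem?_getD, ha]

/-- one step of a chain: base point, generating words, orbit, parents, labels -/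
structure Level where
  base : ℕ
  words : List (List ℕ)
  size : ℕ
  pts : ℕ
  par : ℕ
  lab : ℕ

/-- a step is in order, given the earlier base points -/
def Level.check (N : ℕ) (ps : List ℕ) (prev : List ℕ) (L : Level) : Bool :=
  (L.words.all fun w => w.all fun a => Nat.blt a ps.length) &&
  (L.words.all fun w => prev.all fun b => Nat.beq (evW ps w b) b) &&
  Nat.blt L.base N && Nat.beq (pk 10 L.pts 0) L.base &&
  ((List.range L.size).all fun k => Nat.beq k 0 ||
    (Nat.blt (pk 10 L.par k) k && Nat.blt (pk 10 L.lab k) L.words.length &&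
      Nat.beq (evW ps (L.words.getD (pk 10 L.lab k) []) (pk 10 L.pts (pk 10 L.par k)))
        (pk 10 L.pts k))) &&
  noRep 0 ((List.range L.size).map (pk 10 L.pts))

/-- a chain is in order -/
def chainCheck (N : ℕ) (ps : List ℕ) : List ℕ → List Level → Bool
  | _, [] => true
  | prev, L :: t => L.check N ps prev && chainCheck N ps (L.base :: prev) t

/-- the product of the orbit lengths -/
def chainProd : List Level → ℕ
  | [] => 1
  | L :: t => L.size * chainProd t

/-- the elements fixing the given points -/
def fixPts (N : ℕ) (prev : List ℕ) : Subgroup (Equiv.Perm (Fin N)) where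
  carrier := {g | ∀ i : Fin N, (i : ℕ) ∈ prev → g i = i}
  one_mem' := fun _ _ => rfl
  mul_mem' := fun ha hb i hi => by rw [Equiv.Perm.mul_apply, hb i hi, ha i hi]
  inv_mem' := fun ha i hi => by rw [Equiv.Perm.inv_eq_iff_eq]; exact (ha i hi).symm

theorem chain_card_aux {N : ℕ} (ps : List ℕ) (hps : ps.all (packCheck N) = true) :
    ∀ (prev : List ℕ) (t : List Level), chainCheck N ps prev t = true →
      chainProd t ≤ Nat.card ↥(genGroup N ps ⊓ fixPts N prev)
  | prev, [], _ => by
    simp only [chainProd]
    exact Nat.card_pos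
  | prev, L :: t, h => by
    rw [chainCheck, Bool.and_eq_true] at h
    have ih := chain_card_aux ps hps (L.base :: prev) t h.2
    obtain ⟨⟨⟨⟨⟨hwd, hfix⟩, hb⟩, h0⟩, htree⟩, hnd⟩ := by
      simpa only [Level.check, Bool.and_eq_true] using h.1
    have hbN : L.base < N := by simpa using hb
    have h0' : pk 10 L.pts 0 = L.base := Nat.eq_of_beq_eq_true h0
    set G := genGroup N ps ⊓ fixPts N prev with hG
    let b : Fin N := ⟨L.base, hbN⟩
    have horb : ∀ k, k < L.size → ∃ g ∈ G, (g b : ℕ) = pk 10 L.pts k := by
      intro k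
      induction k using Nat.strong_induction_on with
      | _ k ihk =>
        intro hk
        by_cases hk0 : k = 0
        · subst hk0; exact ⟨1, one_mem _, h0'.symm⟩
        · have hk' := List.all_eq_true.1 htree k (List.mem_range.2 hk)
          rw [Bool.or_eq_true] at hk'
          have hk'' := hk'.resolve_left fun e => hk0 (Nat.eq_of_beq_eq_true e)
          simp only [Bool.and_eq_true] at hk''
          obtain ⟨⟨hp, hl⟩, he⟩ := hk''
          have hp' : pk 10 L.par k < k := by simpa using hp
          have hl' : pk 10 L.lab k < L.words.length := by simpa using hl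
          obtain ⟨g, hg, hgb⟩ := ihk _ hp' (by omega)
          have hw : L.words.getD (pk 10 L.lab k) [] ∈ L.words := by
            rw [List.getD_eq_getElem?_getD, List.getElem?_eq_getElem hl']
            exact List.getElem_mem hl'
          obtain ⟨s, hs, hsi⟩ := exists_word ps hps _ (List.all_eq_true.1 hwd _ hw)
          have hsF : s ∈ fixPts N prev := fun i hi => Fin.ext <| by
            rw [hsi]
            exact Nat.eq_of_beq_eq_true (List.all_eq_true.1 (List.all_eq_true.1 hfix _ hw) _ hi)
          refine ⟨s * g, mul_mem ⟨hs, hsF⟩ hg, ?_⟩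
          rw [Equiv.Perm.mul_apply, hsi, hgb]
          exact Nat.eq_of_beq_eq_true he
    choose g hg hgb using horb
    let f : Fin L.size → MulAction.orbit ↥G b := fun k => ⟨g k k.2 b, ⟨⟨g k k.2, hg k k.2⟩, rfl⟩⟩
    have hf : Function.Injective f := fun i j e => Fin.ext <| noRep_range hnd i.2 j.2 <| by
      rw [← hgb i i.2, ← hgb j j.2]
      exact congrArg (fun z : MulAction.orbit ↥G b => ((z : Fin N) : ℕ)) e
    have hsize : L.size ≤ (MulAction.orbit ↥G b).ncard := by
      rw [← Nat.card_coe_set_eq, ← Nat.card_fin L.size]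
      exact Nat.card_le_card_of_injective f hf
    have hsub : genGroup N ps ⊓ fixPts N (L.base :: prev) ≤
        (MulAction.stabilizer ↥G b).map G.subtype := by
      rintro x ⟨hx1, hx2⟩
      have hxG : x ∈ G := ⟨hx1, fun i hi => hx2 i (List.mem_cons_of_mem _ hi)⟩
      exact ⟨⟨x, hxG⟩, hx2 b List.mem_cons_self, rfl⟩
    have hcard := Subgroup.card_le_of_le hsub
    rw [Subgroup.card_map_of_injective G.subtype_injective] at hcard
    rw [chainProd, ← (MulAction.stabilizer ↥G b).index_mul_card, MulAction.index_stabilizer]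
    exact Nat.mul_le_mul hsize (ih.trans hcard)

theorem chain_card {N : ℕ} (ps : List ℕ) (t : List Level) (hps : ps.all (packCheck N) = true)
    (h : chainCheck N ps [] t = true) : chainProd t ≤ Nat.card ↥(genGroup N ps) :=
  (chain_card_aux ps hps [] t h).trans (Subgroup.card_le_of_le inf_le_left)

end Cfsg.Agent.Leech.Model
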