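import Mathlib
import Cfsg.Prelude.Def_Sporadic_a
import Cfsg.Prelude.Def_Spor_Conway
import Cfsg.Agent.Leech.Sextet
import Cfsg.Agent.Leech.OrbitCert
import Cfsg.Agent.Leech.Orbits2025
import Cfsg.Agent.Leech.PermChain

/-! Data for the centraliser of an octad sign change in the stabiliser of a short vector. -/

set_option autoImplicit false

namespace Cfsg.Agent.Leech.CentTwo
open Cfsg

/-- a monomial element -/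
def tGen : LGen := monGen [0, 1, 2, 3, 4, 5, 6, 7, 8, 9, 10, 11, 12, 13, 14, 15, 16, 17, 18, 19, 20, 21, 22, 23]
  [0, 1, 2, 3, 4, 5, 6, 7, 8, 9, 10, 11, 12, 13, 14, 15, 16, 17, 18, 19, 20, 21, 22, 23] 7430140 (by decide +kernel) (by decide +kernel) (by decide +kernel) (by decide +kernel)
  (by decide +kernel)

/-- a monomial element -/
def kS0 : LGen := monGen [0, 1, 2, 3, 4, 5, 6, 7, 8, 9, 10, 11, 12, 13, 14, 15, 16, 17, 18, 19, 20, 21, 22, 23]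
  [0, 1, 2, 3, 4, 5, 6, 7, 8, 9, 10, 11, 12, 13, 14, 15, 16, 17, 18, 19, 20, 21, 22, 23] 21116 (by decide +kernel) (by decide +kernel) (by decide +kernel) (by decide +kernel)
  (by decide +kernel)

/-- a monomial element -/
def kS1 : LGen := monGen [0, 1, 2, 3, 4, 5, 6, 7, 8, 9, 10, 11, 12, 13, 14, 15, 16, 17, 18, 19, 20, 21, 22, 23]
  [0, 1, 2, 3, 4, 5, 6, 7, 8, 9, 10, 11, 12, 13, 14, 15, 16, 17, 18, 19, 20, 21, 22, 23] 72588 (by decide +kernel) (by decide +kernel) (by decide +kernel) (by decide +kernel)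
  (by decide +kernel)

/-- a monomial element -/
def kS2 : LGen := monGen [0, 1, 2, 3, 4, 5, 6, 7, 8, 9, 10, 11, 12, 13, 14, 15, 16, 17, 18, 19, 20, 21, 22, 23]
  [0, 1, 2, 3, 4, 5, 6, 7, 8, 9, 10, 11, 12, 13, 14, 15, 16, 17, 18, 19, 20, 21, 22, 23] 1050548 (by decide +kernel) (by decide +kernel) (by decide +kernel) (by decide +kernel)
  (by decide +kernel)

/-- a monomial element -/
def kS3 : LGen := monGen [0, 1, 2, 3, 4, 5, 6, 7, 8, 9, 10, 11, 12, 13, 14, 15, 16, 17, 18, 19, 20, 21, 22, 23]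
  [0, 1, 2, 3, 4, 5, 6, 7, 8, 9, 10, 11, 12, 13, 14, 15, 16, 17, 18, 19, 20, 21, 22, 23] 2101096 (by decide +kernel) (by decide +kernel) (by decide +kernel) (by decide +kernel)
  (by decide +kernel)

/-- a monomial element -/
def kS4 : LGen := monGen [0, 1, 2, 3, 4, 5, 6, 7, 8, 9, 10, 11, 12, 13, 14, 15, 16, 17, 18, 19, 20, 21, 22, 23]
  [0, 1, 2, 3, 4, 5, 6, 7, 8, 9, 10, 11, 12, 13, 14, 15, 16, 17, 18, 19, 20, 21, 22, 23] 4202192 (by decide +kernel) (by decide +kernel) (by decide +kernel) (by decide +kernel)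
  (by decide +kernel)

/-- a monomial element -/
def kP0 : LGen := monGen [0, 1, 3, 2, 6, 14, 4, 11, 16, 12, 22, 7, 9, 13, 5, 15, 8, 17, 18, 19, 21, 20, 10, 23]
  [0, 1, 3, 2, 6, 14, 4, 11, 16, 12, 22, 7, 9, 13, 5, 15, 8, 17, 18, 19, 21, 20, 10, 23] 0 (by decide +kernel) (by decide +kernel) (by decide +kernel) (by decide +kernel)
  (by decide +kernel)

/-- a monomial element -/
def kP1 : LGen := monGen [0, 1, 4, 6, 2, 9, 3, 20, 10, 5, 8, 21, 14, 13, 12, 15, 22, 17, 18, 19, 7, 11, 16, 23]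
  [0, 1, 4, 6, 2, 9, 3, 20, 10, 5, 8, 21, 14, 13, 12, 15, 22, 17, 18, 19, 7, 11, 16, 23] 0 (by decide +kernel) (by decide +kernel) (by decide +kernel) (by decide +kernel)
  (by decide +kernel)

/-- a monomial element -/
def kP2 : LGen := monGen [0, 1, 5, 14, 9, 2, 12, 10, 20, 4, 7, 22, 6, 13, 3, 15, 21, 17, 18, 19, 8, 16, 11, 23]
  [0, 1, 5, 14, 9, 2, 12, 10, 20, 4, 7, 22, 6, 13, 3, 15, 21, 17, 18, 19, 8, 16, 11, 23] 0 (by decide +kernel) (by decide +kernel) (by decide +kernel) (by decide +kernel)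
  (by decide +kernel)

/-- a monomial element -/
def kP3 : LGen := monGen [0, 1, 7, 11, 20, 10, 21, 2, 9, 8, 5, 3, 16, 13, 22, 15, 12, 17, 18, 19, 4, 6, 14, 23]
  [0, 1, 7, 11, 20, 10, 21, 2, 9, 8, 5, 3, 16, 13, 22, 15, 12, 17, 18, 19, 4, 6, 14, 23] 0 (by decide +kernel) (by decide +kernel) (by decide +kernel) (by decide +kernel)
  (by decide +kernel)

/-- a monomial element -/
def gM0 : LGen := monGen [0, 1, 22, 8, 10, 14, 16, 3, 7, 5, 11, 4, 12, 13, 9, 15, 21, 23, 18, 17, 2, 6, 20, 19]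
  [0, 1, 20, 7, 11, 9, 21, 8, 3, 14, 4, 10, 12, 13, 5, 15, 6, 19, 18, 23, 22, 16, 2, 17] 0 (by decide +kernel) (by decide +kernel) (by decide +kernel) (by decide +kernel)
  (by decide +kernel)

/-- a monomial element -/
def gM1 : LGen := monGen [0, 1, 3, 4, 7, 20, 21, 12, 14, 6, 10, 5, 2, 18, 11, 13, 9, 19, 17, 15, 8, 22, 16, 23]
  [0, 1, 12, 2, 3, 11, 9, 4, 20, 16, 10, 14, 7, 15, 8, 19, 22, 18, 13, 17, 5, 6, 21, 23] 0 (by decide +kernel) (by decide +kernel) (by decide +kernel) (by decide +kernel)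
  (by decide +kernel)

/-- a monomial element -/
def gM2 : LGen := monGen [0, 1, 2, 3, 4, 5, 6, 7, 8, 9, 10, 11, 12, 13, 14, 15, 16, 17, 18, 19, 20, 21, 22, 23]
  [0, 1, 2, 3, 4, 5, 6, 7, 8, 9, 10, 11, 12, 13, 14, 15, 16, 17, 18, 19, 20, 21, 22, 23] 157028 (by decide +kernel) (by decide +kernel) (by decide +kernel) (by decide +kernel)
  (by decide +kernel)

/-- a monomial element -/
def gMX : LGen := monGen [19, 15, 2, 3, 16, 5, 8, 7, 6, 21, 10, 11, 20, 17, 14, 1, 4, 13, 23, 0, 12, 9, 22, 18]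
  [19, 15, 2, 3, 16, 5, 8, 7, 6, 21, 10, 11, 20, 17, 14, 1, 4, 13, 23, 0, 12, 9, 22, 18] 0 (by decide +kernel) (by decide +kernel) (by decide +kernel) (by decide +kernel)
  (by decide +kernel)

/-- a sextet -/
def gSext : Sextet where
  lab i := Fin.ofNat 6 ([0, 0, 1, 2, 3, 1, 4, 2, 4, 3, 2, 1, 4, 5, 2, 0, 3, 5, 5, 0, 4, 3, 1, 5].getD (idx i) 0)
  card_fib := by decide +kernel
  pair k := (mem_iff _).2 (by revert k; decide +kernel)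

/-- a reflection followed by a monomial element -/
def gX : LGen := gMX.comp (xiGen gSext [0, 0, 1, 2, 3, 1, 4, 2, 4, 3, 2, 1, 4, 5, 2, 0, 3, 5, 5, 0, 4, 3, 1, 5] (by decide +kernel))

/-- generators of the kernel -/
def kGens : List LGen := [kS0, kS1, kS2, kS3, kS4, kP0, kP1, kP2, kP3]

/-- the lifts of the generators of the quotient -/
def qGens : List LGen := [gM0, gM1, gM2, gX]

/-- the coordinates of the octad -/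
def octL : List ℕ := [0, 1, 13, 15, 17, 18, 19, 23]

/-- the candidates in the fixed space -/
def s126 : List (List ℤ) := [
  [8, 0, 0, 0, 0, 0, 0, 0],
  [6, 2, -2, -2, -2, -2, -2, 2],
  [6, 2, -2, -2, -2, -2, 2, -2],
  [6, 2, -2, -2, -2, 2, -2, -2],
  [6, 2, -2, -2, -2, 2, 2, 2],
  [6, 2, -2, -2, 2, -2, -2, -2],
  [6, 2, -2, -2, 2, -2, 2, 2],
  [6, 2, -2, -2, 2, 2, -2, 2],
  [6, 2, -2, -2, 2, 2, 2, -2],
  [6, 2, -2, 2, -2, -2, -2, -2],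
  [6, 2, -2, 2, -2, -2, 2, 2],
  [6, 2, -2, 2, -2, 2, -2, 2],
  [6, 2, -2, 2, -2, 2, 2, -2],
  [6, 2, -2, 2, 2, -2, -2, 2],
  [6, 2, -2, 2, 2, -2, 2, -2],
  [6, 2, -2, 2, 2, 2, -2, -2],
  [6, 2, -2, 2, 2, 2, 2, 2],
  [6, 2, 2, -2, -2, -2, -2, -2],
  [6, 2, 2, -2, -2, -2, 2, 2],
  [6, 2, 2, -2, -2, 2, -2, 2],
  [6, 2, 2, -2, -2, 2, 2, -2],
  [6, 2, 2, -2, 2, -2, -2, 2],
  [6, 2, 2, -2, 2, -2, 2, -2],
  [6, 2, 2, -2, 2, 2, -2, -2],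
  [6, 2, 2, -2, 2, 2, 2, 2],
  [6, 2, 2, 2, -2, -2, -2, 2],
  [6, 2, 2, 2, -2, -2, 2, -2],
  [6, 2, 2, 2, -2, 2, -2, -2],
  [6, 2, 2, 2, -2, 2, 2, 2],
  [6, 2, 2, 2, 2, -2, -2, -2],
  [6, 2, 2, 2, 2, -2, 2, 2],
  [6, 2, 2, 2, 2, 2, -2, 2],
  [6, 2, 2, 2, 2, 2, 2, -2],
  [4, 4, -4, -4, 0, 0, 0, 0],
  [4, 4, -4, 0, -4, 0, 0, 0],
  [4, 4, -4, 0, 0, -4, 0, 0],
  [4, 4, -4, 0, 0, 0, -4, 0],
  [4, 4, -4, 0, 0, 0, 0, -4],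
  [4, 4, -4, 0, 0, 0, 0, 4],
  [4, 4, -4, 0, 0, 0, 4, 0],
  [4, 4, -4, 0, 0, 4, 0, 0],
  [4, 4, -4, 0, 4, 0, 0, 0],
  [4, 4, -4, 4, 0, 0, 0, 0],
  [4, 4, 0, -4, -4, 0, 0, 0],
  [4, 4, 0, -4, 0, -4, 0, 0],
  [4, 4, 0, -4, 0, 0, -4, 0],
  [4, 4, 0, -4, 0, 0, 0, -4],
  [4, 4, 0, -4, 0, 0, 0, 4],
  [4, 4, 0, -4, 0, 0, 4, 0],
  [4, 4, 0, -4, 0, 4, 0, 0],
  [4, 4, 0, -4, 4, 0, 0, 0],
  [4, 4, 0, 0, -4, -4, 0, 0],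
  [4, 4, 0, 0, -4, 0, -4, 0],
  [4, 4, 0, 0, -4, 0, 0, -4],
  [4, 4, 0, 0, -4, 0, 0, 4],
  [4, 4, 0, 0, -4, 0, 4, 0],
  [4, 4, 0, 0, -4, 4, 0, 0],
  [4, 4, 0, 0, 0, -4, -4, 0],
  [4, 4, 0, 0, 0, -4, 0, -4],
  [4, 4, 0, 0, 0, -4, 0, 4],
  [4, 4, 0, 0, 0, -4, 4, 0],
  [4, 4, 0, 0, 0, 0, -4, -4],
  [4, 4, 0, 0, 0, 0, -4, 4],
  [4, 4, 0, 0, 0, 0, 4, -4],
  [4, 4, 0, 0, 0, 0, 4, 4],
  [4, 4, 0, 0, 0, 4, -4, 0],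
  [4, 4, 0, 0, 0, 4, 0, -4],
  [4, 4, 0, 0, 0, 4, 0, 4],
  [4, 4, 0, 0, 0, 4, 4, 0],
  [4, 4, 0, 0, 4, -4, 0, 0],
  [4, 4, 0, 0, 4, 0, -4, 0],
  [4, 4, 0, 0, 4, 0, 0, -4],
  [4, 4, 0, 0, 4, 0, 0, 4],
  [4, 4, 0, 0, 4, 0, 4, 0],
  [4, 4, 0, 0, 4, 4, 0, 0],
  [4, 4, 0, 4, -4, 0, 0, 0],
  [4, 4, 0, 4, 0, -4, 0, 0],
  [4, 4, 0, 4, 0, 0, -4, 0],
  [4, 4, 0, 4, 0, 0, 0, -4],
  [4, 4, 0, 4, 0, 0, 0, 4],
  [4, 4, 0, 4, 0, 0, 4, 0],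
  [4, 4, 0, 4, 0, 4, 0, 0],
  [4, 4, 0, 4, 4, 0, 0, 0],
  [4, 4, 4, -4, 0, 0, 0, 0],
  [4, 4, 4, 0, -4, 0, 0, 0],
  [4, 4, 4, 0, 0, -4, 0, 0],
  [4, 4, 4, 0, 0, 0, -4, 0],
  [4, 4, 4, 0, 0, 0, 0, -4],
  [4, 4, 4, 0, 0, 0, 0, 4],
  [4, 4, 4, 0, 0, 0, 4, 0],
  [4, 4, 4, 0, 0, 4, 0, 0],
  [4, 4, 4, 0, 4, 0, 0, 0],
  [4, 4, 4, 4, 0, 0, 0, 0],
  [2, 6, -2, -2, -2, -2, -2, 2],
  [2, 6, -2, -2, -2, -2, 2, -2],
  [2, 6, -2, -2, -2, 2, -2, -2],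
  [2, 6, -2, -2, -2, 2, 2, 2],
  [2, 6, -2, -2, 2, -2, -2, -2],
  [2, 6, -2, -2, 2, -2, 2, 2],
  [2, 6, -2, -2, 2, 2, -2, 2],
  [2, 6, -2, -2, 2, 2, 2, -2],
  [2, 6, -2, 2, -2, -2, -2, -2],
  [2, 6, -2, 2, -2, -2, 2, 2],
  [2, 6, -2, 2, -2, 2, -2, 2],
  [2, 6, -2, 2, -2, 2, 2, -2],
  [2, 6, -2, 2, 2, -2, -2, 2],
  [2, 6, -2, 2, 2, -2, 2, -2],
  [2, 6, -2, 2, 2, 2, -2, -2],
  [2, 6, -2, 2, 2, 2, 2, 2],
  [2, 6, 2, -2, -2, -2, -2, -2],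
  [2, 6, 2, -2, -2, -2, 2, 2],
  [2, 6, 2, -2, -2, 2, -2, 2],
  [2, 6, 2, -2, -2, 2, 2, -2],
  [2, 6, 2, -2, 2, -2, -2, 2],
  [2, 6, 2, -2, 2, -2, 2, -2],
  [2, 6, 2, -2, 2, 2, -2, -2],
  [2, 6, 2, -2, 2, 2, 2, 2],
  [2, 6, 2, 2, -2, -2, -2, 2],
  [2, 6, 2, 2, -2, -2, 2, -2],
  [2, 6, 2, 2, -2, 2, -2, -2],
  [2, 6, 2, 2, -2, 2, 2, 2],
  [2, 6, 2, 2, 2, -2, -2, -2],
  [2, 6, 2, 2, 2, -2, 2, 2],
  [2, 6, 2, 2, 2, 2, -2, 2],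
  [2, 6, 2, 2, 2, 2, 2, -2],
  [0, 8, 0, 0, 0, 0, 0, 0]]

/-- representatives of the pairs, by code of the symplectic vector -/
def pairL : List ℕ := [0, 37, 38, 49, 44, 55, 52, 1, 32, 16, 17, 22, 11, 27, 6, 39, 36, 61, 62, 53, 54, 41, 34, 15, 18, 31, 2, 28, 5, 12, 21, 50, 43, 60, 57, 56, 51, 48, 45, 20, 13, 29, 4, 26, 7, 23, 10, 58, 59, 40, 35, 46, 47, 42, 33, 30, 3, 14, 19, 24, 9, 8, 25]

/-- the partner of a candidate -/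
def partnerL : List ℕ := [125, 124, 123, 122, 121, 120, 119, 118, 117, 116, 115, 114, 113, 112, 111, 110, 109, 108, 107, 106, 105, 104, 103, 102, 101, 100, 99, 98, 97, 96, 95, 94, 93, 92, 91, 90, 89, 88, 87, 86, 85, 84, 83, 82, 81, 80, 79, 78, 77, 76, 75, 74, 73, 72, 71, 70, 69, 68, 67, 66, 65, 64, 63, 62, 61, 60, 59, 58, 57, 56, 55, 54, 53, 52, 51, 50, 49, 48, 47, 46, 45, 44, 43, 42, 41, 40, 39, 38, 37, 36, 35, 34, 33, 32, 31, 30, 29, 28, 27, 26, 25, 24, 23, 22, 21, 20, 19, 18, 17, 16, 15, 14, 13, 12, 11, 10, 9, 8, 7, 6, 5, 4, 3, 2, 1, 0]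

/-- a test vector -/
def testV0 : leechLattice :=
  ⟨ofL [0, -2, 0, -2, 0, 0, 2, -2, 0, 0, -2, 0, 0, 0, 0, 0, 0, 0, -2, 0, 0, -2, 2, 0],
    mem_of_parity _ 0 (by decide +kernel) (by decide +kernel) (by decide +kernel)⟩

/-- a test vector -/
def testV1 : leechLattice :=
  ⟨ofL [0, 0, 0, 0, 2, 2, 0, 0, 0, 0, 0, 0, 2, 0, -2, 0, 2, 0, 2, 2, 0, -2, 0, 0],
    mem_of_parity _ 0 (by decide +kernel) (by decide +kernel) (by decide +kernel)⟩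

/-- a test vector -/
def testV2 : leechLattice :=
  ⟨ofL [-1, -1, -1, 1, -1, -3, 1, -1, 1, -1, 1, 1, -1, -1, 1, -1, 1, 1, -1, 1, 1, -1, 1, -1],
    mem_of_parity _ 1 (by decide +kernel) (by decide +kernel) (by decide +kernel)⟩

/-- a test vector -/
def testV3 : leechLattice :=
  ⟨ofL [-1, 1, -1, 1, -1, -1, -1, 1, 1, -1, 3, -1, 1, 1, -1, 1, -1, -1, 1, -1, -1, -1, -1, -1],
    mem_of_parity _ 1 (by decide +kernel) (by decide +kernel) (by decide +kernel)⟩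

/-- the test vectors -/
def tests : List leechLattice := [testV0, testV1, testV2, testV3]

/-- a vector moved by every monomial element -/
def probeV : leechLattice :=
  ⟨ofL [8, 16, 24, 32, 40, 48, 56, 64, 72, 80, 88, 96, 104, 112, 120, 128, 136, 144, 152, 160, 168, 176, 184, 192],
    mem_of_parity _ 0 (by decide +kernel) (by decide +kernel) (by decide +kernel)⟩

/-- the permutations of the pairs -/
def pairPerms : List ℕ := [0x290a83c0ec2d0b8380dc360d41f080320c4230902809c3d0f82c0ac390e8330d0220842f0c0260940b0301a064070201e0741003c050181404c010080e034170600a0241b070110480400c1505800, 0x2e0b41a0643e0f40a0242609412044360d4020040e0343a0e41e0742a0a406014320c416054220840c02c380dc1c06c2809c0400c300bc1404c2007c2c0ac1805c3c0ec0801c2408c1003c340cc00, 0x2809c290a82c0ac2d0b8350d8340cc310c8300bc370e03a0e43b0f03e0f42609423090220841f080070200a0240b0300e0341605413050120440f0401805c190681c06c1d078050180400c0100800,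 0x170f4190ec100d8120d03906c37074320503005804088060800b0a40d09c26000240082d01c2b024110cc0f0d41a0f0180f82f0543104c380783a0700e0a00c0a80507c030842c0282e0202300425]

/-- the matrices, column by column -/
def pairMats : List (List ℕ) := [[1, 23, 4, 29, 3, 38], [1, 52, 16, 8, 32, 34], [1, 3, 4, 31, 17, 33], [38, 2, 9, 34, 29, 10]]

/-- a chain of point stabilisers -/
def pairChain : List Model.Level :=
  [⟨0, [[0], [1], [2], [3]], 63, 0x170201d0300b0d8100600d09c2a0e43e0582f0cc0303c190a41a0e83d078010c8350100e0a02d04c1b0ec2b0882601c150c01c0f02c04402090310b83805009080210280608c370481f0143409400, 0x320b02b09c2709023088200801d0701c06c1b0681805815054150501404c120401003c0f03c0e0340c0300b02c0b0280a02809024080200701c0701805014040100400c0300c02008020040100000, 0x3000010040000801008010000200400004000000100c03008010040000c020080100c010000200802004030040000c010000200403000030080100803000030080100c0200403004000040000c00⟩,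
   ⟨30, [[1], [3, 1, 3, 2, 3, 0, 0, 3]], 32, 0xb83e0b00702c1d0e83b0381b05c290240a0dc0d0641a09c080e02d0f43c0a01c0e42a0602b0301e, 0x641805c160501404c130400f0380d02c0b0280a0240801c06018050140300c02008010040000000, 0x401000010040000400004000040000400004000040000401000010000100001000010000100000⟩,
   ⟨5, [[1, 3, 1, 3, 2, 3, 0, 0, 3, 1], [1, 1, 1, 1, 3, 1, 3, 2, 3, 0, 0, 1, 3, 2, 3, 0, 0, 3, 1]], 15, 0x1f0c02604c3503c310881604801010230d005, 0xc02c0901c070180401003008020040100000, 0x4000040100000004000040000000⟩,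
   ⟨59, [[1, 1, 1, 1, 3, 1, 3, 2, 3, 0, 0, 1, 3, 2, 3, 0, 0, 3, 1], [1, 1, 1, 1, 3, 0, 3, 2, 3, 1, 1, 1, 1, 3, 1, 1, 1, 3, 0, 3, 2, 3, 1, 1, 1, 1, 3, 1, 1, 1, 3, 0, 3, 2, 3, 1, 1, 1, 1, 0, 3, 2, 3, 1, 1, 1, 1, 3, 1, 1, 3, 1, 3, 2, 3, 0, 0, 3, 1, 1, 3, 1, 3, 2, 3, 0, 0, 1, 3, 2, 3, 0, 0, 1, 3, 2, 3, 0, 0, 3, 1, 1, 3, 1, 3, 2, 3, 0, 0, 3, 1]], 8, 0xf83a0dc0e02c070283b, 0x1003008020040000000, 0x400004000040100000⟩,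
   ⟨43, [[1, 1, 1, 1, 3, 0, 3, 2, 3, 1, 1, 1, 1, 0, 3, 2, 3, 1, 1, 1, 1, 0, 3, 2, 3, 1, 1, 1, 1, 3, 1, 1, 1, 3, 0, 3, 2, 3, 1, 1, 1, 1, 3, 1, 1, 1, 3, 0, 3, 2, 3, 1, 1, 1, 1, 0, 3, 2, 3, 1, 1, 1, 1, 3, 1, 1, 3, 1, 3, 2, 3, 0, 0, 3, 1, 1, 3, 1, 3, 2, 3, 0, 0, 1, 3, 2, 3, 0, 0, 3, 1, 1, 1, 3, 0, 3, 2, 3, 1, 1, 1, 1, 0, 3, 2, 3, 1, 1, 1, 1, 3, 1, 1, 3, 1, 3, 2, 3, 0, 0, 3, 1, 1, 3, 1, 3, 2, 3, 0, 0, 1, 3, 2, 3, 0, 0, 1, 3, 2, 3, 0, 0, 3, 1, 1, 3, 1, 3, 2, 3, 0, 0, 1, 3, 2, 3, 0, 0, 1, 3, 2, 3, 0, 0, 3, 1], [1, 1, 1, 1, 3, 0, 3, 2, 3, 1, 1, 1, 1, 3, 1, 1, 1, 3, 0, 3, 2, 3, 1, 1, 1, 1, 3, 1, 1, 1, 3, 0, 3, 2, 3, 1, 1, 1, 1, 0, 3, 2, 3, 1, 1, 1, 1, 3, 1, 1, 3, 1, 3, 2, 3, 0, 0, 3, 1, 1, 3, 1, 3, 2, 3, 0, 0, 1, 3, 2, 3, 0, 0, 3, 1, 1, 1, 3, 0, 3, 2, 3, 1, 1, 1, 1, 0, 3, 2, 3, 1, 1, 1, 1, 3, 1, 1, 3, 1, 3, 2, 3, 0, 0,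 3, 1, 1, 3, 1, 3, 2, 3, 0, 0, 1, 3, 2, 3, 0, 0, 1, 3, 2, 3, 0, 0, 3, 1, 1, 3, 1, 3, 2, 3, 0, 0, 1, 3, 2, 3, 0, 0, 3, 1, 1, 1, 3, 0, 3, 2, 3, 1, 1, 1, 1, 3, 1, 1, 1, 3, 0, 3, 2, 3, 1, 1, 1, 1, 0, 3, 2, 3, 1, 1, 1, 1, 3, 1, 1, 3, 1, 3, 2, 3, 0, 0, 3, 1, 1, 3, 1, 3, 2, 3, 0, 0, 1, 3, 2, 3, 0, 0, 1, 3, 2, 3, 0, 0, 3, 1, 1, 3, 1, 3, 2, 3, 0, 0, 3, 1]], 3, 0x1a0b82b, 0x100000, 0x0⟩,
   ⟨53, [[1, 1, 1, 1, 3, 0, 3, 2, 3, 1, 1, 1, 1, 3, 1, 1, 1, 3, 0, 3, 2, 3, 1, 1, 1, 1, 3, 1, 1, 1, 3, 0, 3, 2, 3, 1, 1, 1, 1, 0, 3, 2, 3, 1, 1, 1, 1, 3, 1, 1, 3, 1, 3, 2, 3, 0, 0, 3, 1, 1, 3, 1, 3, 2, 3, 0, 0, 1, 3, 2, 3, 0, 0, 3, 1, 1, 1, 3, 0, 3, 2, 3, 1, 1, 1, 1, 0, 3, 2, 3, 1, 1, 1, 1, 3, 1, 1, 3, 1, 3, 2, 3, 0, 0, 3, 1, 1, 3, 1, 3, 2, 3, 0, 0, 1, 3, 2, 3, 0, 0, 1, 3, 2, 3, 0, 0, 3, 1, 1, 3, 1, 3, 2, 3, 0, 0, 1, 3, 2, 3, 0, 0, 3, 1,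 1, 1, 3, 0, 3, 2, 3, 1, 1, 1, 1, 3, 1, 1, 1, 3, 0, 3, 2, 3, 1, 1, 1, 1, 0, 3, 2, 3, 1, 1, 1, 1, 3, 1, 1, 3, 1, 3, 2, 3, 0, 0, 3, 1, 1, 3, 1, 3, 2, 3, 0, 0, 1, 3, 2, 3, 0, 0, 1, 3, 2, 3, 0, 0, 3, 1, 1, 3, 1, 3, 2, 3, 0, 0, 3, 1]], 2, 0x435, 0x0, 0x0⟩]

theorem pairChain_check : Model.chainCheck 63 pairPerms [] pairChain = true := by decide +kernel

theorem pairPerms_check : pairPerms.all (Model.packCheck 63) = true := by decide +kernel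

theorem pairChain_prod : Model.chainProd pairChain = 1451520 := by decide +kernel

end Cfsg.Agent.Leech.CentTwo
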