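import Mathlib

/-! Simplicity from a simple point stabiliser and the absence of invariant blocks. -/

set_option autoImplicit false

namespace Cfsg.Agent.Leech

variable {G : Type*} [Group G] {X : Type*} [MulAction G X]

theorem orbit_stab_invariant (N : Subgroup G) (x : X)
    (hN : ∀ s ∈ MulAction.stabilizer G x, ∀ n ∈ N, s * n * s⁻¹ ∈ N)
    (s : G) (hs : s ∈ MulAction.stabilizer G x) (y : X) (hy : y ∈ MulAction.orbit N x) :
    s • y ∈ MulAction.orbit N x := by
  obtain ⟨⟨n, hn⟩, rfl⟩ := hy
  refine ⟨⟨s * n * s⁻¹, hN s hs n hn⟩, ?_⟩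
  show (s * n * s⁻¹) • x = s • n • x
  rw [MulAction.mem_stabilizer_iff] at hs
  rw [mul_smul, mul_smul, inv_smul_eq_iff.2 hs.symm]

theorem ncard_orbit_dvd [Finite G] [MulAction.IsPretransitive G X] (N : Subgroup G) [N.Normal]
    (x : X) : (MulAction.orbit N x).ncard ∣ Nat.card X := by
  set S := MulAction.stabilizer G x
  rw [← MulAction.index_stabilizer N x, ← MulAction.index_stabilizer_of_transitive G x]
  have hNS : MulAction.stabilizer N x = S.subgroupOf N := by
    ext n
    simp [S, Subgroup.mem_subgroupOf, Subgroup.smul_def]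
  rw [hNS]
  show S.relIndex N ∣ S.index
  have key : S.relIndex (N ⊔ S) = S.relIndex N := by
    have a1 := Subgroup.relIndex_mul_relIndex ⊥ S (N ⊔ S) bot_le le_sup_right
    have a2 := Subgroup.relIndex_mul_relIndex ⊥ N (N ⊔ S) bot_le le_sup_left
    have a3 := Subgroup.relIndex_mul_relIndex ⊥ (N ⊓ S) S bot_le inf_le_right
    have a4 := Subgroup.relIndex_mul_relIndex ⊥ (N ⊓ S) N bot_le inf_le_left
    rw [Subgroup.relIndex_sup_left] at a2
    rw [Subgroup.inf_relIndex_right] at a3
    rw [Subgroup.inf_relIndex_left] at a4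
    simp only [Subgroup.relIndex_bot_left] at a1 a2 a3 a4
    have hpos : 0 < Nat.card S := Nat.card_pos
    refine Nat.eq_of_mul_eq_mul_left hpos ?_
    rw [a1, ← a2, ← a4, ← a3]
    ring
  rw [← key]
  exact Subgroup.relIndex_dvd_index_of_le le_sup_right

/-- a set stable under a subgroup meeting each class is the union of the classes it meets -/
theorem class_inter (B C : Set X) (S : Set G) (hB : ∀ s ∈ S, ∀ y ∈ B, s • y ∈ B)
    (hC : ∀ y ∈ C, ∀ z ∈ C, ∃ s ∈ S, s • y = z) : B ∩ C = ∅ ∨ C ⊆ B := by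
  rcases Set.eq_empty_or_nonempty (B ∩ C) with h | ⟨y, hyB, hyC⟩
  · exact Or.inl h
  · exact Or.inr fun z hz => by
      obtain ⟨s, hs, rfl⟩ := hC y hyC z hz
      exact hB s hs y hyB

/-- the block criterion -/
theorem isSimple_of_blocks [Finite G] [Finite X] [MulAction.IsPretransitive G X]
    [FaithfulSMul G X] [Nontrivial G] (x : X) (hS : IsSimpleGroup (MulAction.stabilizer G x))
    (hblock : ∀ B : Set X, x ∈ B → (∀ s ∈ MulAction.stabilizer G x, ∀ y ∈ B, s • y ∈ B) →
      B.ncard ∣ Nat.card X → B = {x} ∨ B = Set.univ)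
    (hreg : ∀ N : Subgroup G, Nat.card N = Nat.card X → ∃ P : Subgroup N, P.Characteristic ∧
      Nat.card P ∣ Nat.card X ∧ Nat.card P ≠ 1 ∧ Nat.card P ≠ Nat.card X) :
    IsSimpleGroup G := by
  set S := MulAction.stabilizer G x
  refine ⟨fun N hN => ?_⟩
  have hinv : ∀ s ∈ S, ∀ y ∈ MulAction.orbit N x, s • y ∈ MulAction.orbit N x :=
    orbit_stab_invariant N x fun s _ n hn => hN.conj_mem n hn s
  rcases hblock _ (MulAction.mem_orbit_self x) hinv (ncard_orbit_dvd N x) with h | h
  · refine Or.inl ((Subgroup.eq_bot_iff_forall _).2 fun n hn => ?_)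
    refine eq_of_smul_eq_smul (α := X) fun y => ?_
    obtain ⟨g, rfl⟩ := MulAction.exists_smul_eq G x y
    have hfix : (g⁻¹ * n * g) • x = x := by
      have hmem : g⁻¹ * n * g ∈ N := by simpa using hN.conj_mem n hn g⁻¹
      have : (g⁻¹ * n * g) • x ∈ MulAction.orbit N x := ⟨⟨_, hmem⟩, rfl⟩
      rw [h] at this
      exact this
    rw [mul_smul, mul_smul, inv_smul_eq_iff] at hfix
    rw [hfix, one_smul]
  · have hSN : (N.subgroupOf S).Normal := inferInstance
    rcases hS.eq_bot_or_eq_top_of_normal _ hSN with h0 | h1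
    · exfalso
      have hdis : ∀ n ∈ N, n • x = x → n = 1 := fun n hn hx => by
        have : (⟨n, hx⟩ : S) ∈ N.subgroupOf S := hn
        rw [h0, Subgroup.mem_bot] at this
        exact congrArg Subtype.val this
      have hinj : Function.Injective fun n : N => (n : G) • x := fun a b e => by
        have := hdis _ (mul_mem (inv_mem b.2) a.2) (by rw [mul_smul]; exact inv_smul_eq_iff.2 e)
        exact Subtype.ext (inv_mul_eq_one.1 this).symm
      have hbij : Nat.card N = Nat.card X := by
        rw [← Set.ncard_univ X, ← h, ← Nat.card_coe_set_eq]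
        exact Nat.card_congr (Equiv.ofInjective _ hinj)
      obtain ⟨P, hP, hd, h1, hne⟩ := hreg N hbij
      set P' := P.map N.subtype
      have hPn : P'.Normal := inferInstance
      have hcardP : (MulAction.orbit P' x).ncard = Nat.card P := by
        rw [← Nat.card_coe_set_eq]
        refine (Nat.card_congr (Equiv.ofBijective
          (fun p : P => (⟨((p : N) : G) • x,
            ⟨⟨_, ⟨(p : N), p.2, rfl⟩⟩, rfl⟩⟩ : MulAction.orbit P' x)) ⟨?_, ?_⟩)).symm
        · intro a b e
          exact Subtype.ext (hinj (congrArg Subtype.val e))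
        · rintro ⟨_, ⟨_, n, hn, rfl⟩, rfl⟩
          exact ⟨⟨n, hn⟩, rfl⟩
      rcases hblock _ (MulAction.mem_orbit_self x)
          (orbit_stab_invariant P' x fun s _ n hn => hPn.conj_mem n hn s)
          (hcardP ▸ hd) with h | h
      · rw [h, Set.ncard_singleton] at hcardP; exact h1 hcardP.symm
      · rw [h, Set.ncard_univ] at hcardP; exact hne hcardP.symm
    · refine Or.inr ((Subgroup.eq_top_iff' _).2 fun g => ?_)
      obtain ⟨⟨n, hn⟩, hnx⟩ := (h ▸ Set.mem_univ (g • x) : g • x ∈ MulAction.orbit N x)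
      have hs : n⁻¹ * g ∈ S := by
        show (n⁻¹ * g) • x = x
        rw [mul_smul, inv_smul_eq_iff]
        exact hnx.symm
      have : (⟨_, hs⟩ : S) ∈ N.subgroupOf S := h1 ▸ Subgroup.mem_top _
      have := mul_mem hn (Subgroup.mem_subgroupOf.1 this)
      simpa using this

end Cfsg.Agent.Leech
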