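import Mathlib
import Cfsg.Prelude.Def_Sporadic_a
import Cfsg.Prelude.Def_Spor_Conway
import Cfsg.Agent.Leech.Code
import Cfsg.Agent.Leech.AbstractCode
import Cfsg.Agent.Leech.Punctured
import Cfsg.Agent.Leech.Steiner
import Cfsg.Agent.Leech.Lattice
import Cfsg.Agent.Leech.ModRep
import Cfsg.Agent.Leech.Transitive
import Cfsg.Agent.Leech.Orbits
import Cfsg.Agent.Leech.Pairs
import Cfsg.Agent.Leech.PairsOrth
import Cfsg.Agent.Leech.DotCounts
import Cfsg.Agent.Leech.ModTwo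
import Cfsg.Agent.Leech.TwoThree
import Cfsg.Agent.Leech.Shape48
import Cfsg.Agent.Leech.ThreeTwo
import Cfsg.Agent.Leech.Triples

/-! The rank three structure on the hundred. -/

set_option autoImplicit false

namespace Cfsg.Agent.Leech
open Cfsg

/-- the chosen vector of squared length 48 -/
def hV : leechLattice :=
  ⟨fun i => if i = some 0 then 5 else 1, mem_lattice_iff.2
    ⟨1, fun i => if i = some 0 then 2 else 0, by decide +kernel, by decide +kernel,
      (mem_iff _).2 (by decide +kernel)⟩⟩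

/-- the chosen vector of squared length 32 -/
def hT : leechLattice := fourPair none (some 0) 1 (-1) (by norm_num)

theorem three_one_mem (f : GolayPt) :
    (fun i => if i = f then (-3 : ℤ) else 1) ∈ leechLattice := by
  refine mem_lattice_iff.2 ⟨1, fun i => if i = f then -2 else 0, fun i => ?_, ?_, ?_⟩
  · by_cases h : i = f <;> simp [h]
  · revert f; decide +kernel
  · convert zero_mem golayCode using 1
    funext i
    simp only [red2]
    split_ifs
    · rfl
    · rfl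

/-- the twenty-two -/
def hY (f : GolayPt) : leechLattice := ⟨_, three_one_mem f⟩

theorem octVec2_mem (O : Finset GolayPt)
    (hO : O ∈ wordsOfWeight (golayCode : Set (GolayPt → ZMod 2)) 8) :
    (fun i => if i ∈ O then (2 : ℤ) else 0) ∈ leechLattice := by
  obtain ⟨o, ho, rfl⟩ := hO.1
  convert two_mul_word_mem ho using 1
  funext i
  rcases zmod2_cases (o i) with e | e <;> simp [mem_support₂, e]
  rfl

theorem hV_facts : sqNorm (hV : GolayPt → ℤ) = 48 ∧ sqNorm (hT : GolayPt → ℤ) = 32 ∧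
    dotInt (hV : GolayPt → ℤ) (hT : GolayPt → ℤ) = -16 ∧
    dotInt (hT : GolayPt → ℤ) Spor.vecU = 0 ∧ dotInt (hV : GolayPt → ℤ) Spor.vecU = 24 ∧
    sqNorm Spor.vecU = 32 := by decide +kernel

theorem hY_facts : ∀ f : GolayPt, f ≠ none → f ≠ some 0 → sqNorm (hY f : GolayPt → ℤ) = 32 ∧
    dotInt (hV : GolayPt → ℤ) (hY f : GolayPt → ℤ) = 24 ∧
    dotInt (hT : GolayPt → ℤ) (hY f : GolayPt → ℤ) = 0 ∧
    dotInt Spor.vecU (hY f : GolayPt → ℤ) = 8 := by decide +kernel

theorem hO_facts (O : Finset GolayPt) (h8 : O.card = 8) (hn : none ∈ O) (h0 : some 0 ∈ O) :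
    sqNorm (fun i => if i ∈ O then (2 : ℤ) else 0) = 32 ∧
    dotInt (hV : GolayPt → ℤ) (fun i => if i ∈ O then (2 : ℤ) else 0) = 24 ∧
    dotInt (hT : GolayPt → ℤ) (fun i => if i ∈ O then (2 : ℤ) else 0) = 0 ∧
    dotInt Spor.vecU (fun i => if i ∈ O then (2 : ℤ) else 0) = 16 := by
  refine ⟨?_, ?_, ?_, ?_⟩
  · simp only [sqNorm, ite_pow, zero_pow (two_ne_zero)]
    rw [Finset.sum_ite_mem, Finset.univ_inter, Finset.sum_const, h8]
    rfl
  · simp only [dotInt, mul_ite, mul_zero]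
    rw [Finset.sum_ite_mem, Finset.univ_inter, ← Finset.add_sum_erase _ _ h0,
      Finset.sum_congr rfl (g := fun _ => 2) fun i hi => ?_, Finset.sum_const,
      Finset.card_erase_of_mem h0, h8]
    · rfl
    · show (if i = some 0 then (5 : ℤ) else 1) * 2 = 2
      rw [if_neg (Finset.ne_of_mem_erase hi)]; rfl
  · rw [dotInt_comm, hT, dot_fourPair]
    simp [hn, h0]
  · rw [dot_vecU]
    simp [hn, h0]

/-- the octads through the first two points -/
noncomputable def oct77 : Finset (Finset GolayPt) :=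
  (Set.toFinite (wordsOfWeight (golayCode : Set (GolayPt → ZMod 2)) 8)).toFinset.filter
    fun b => ({none, some 0} : Finset GolayPt) ⊆ b

theorem card_oct77 : oct77.card = 77 := by
  have h := lam_mul (steiner golayCode card_golayPt finrank_golayCode orth_golay min_golay)
    (Set.toFinite (wordsOfWeight (golayCode : Set (GolayPt → ZMod 2)) 8)).toFinset
    (fun b => Set.Finite.mem_toFinset _) {none, some 0} (by simp)
  rw [card_golayPt, show ({none, some 0} : Finset GolayPt).card = 2 by simp] at h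
  rw [show Nat.choose (8 - 2) (5 - 2) = 20 from rfl, show Nat.choose (24 - 2) (5 - 2) = 1540 by decide] at h
  unfold oct77
  omega

theorem mem_oct77 {O : Finset GolayPt} (h : O ∈ oct77) :
    O ∈ wordsOfWeight (golayCode : Set (GolayPt → ZMod 2)) 8 ∧ none ∈ O ∧ some 0 ∈ O := by
  obtain ⟨h1, h2⟩ := Finset.mem_filter.1 h
  exact ⟨(Set.Finite.mem_toFinset _).1 h1, h2 (by simp), h2 (by simp)⟩

/-- the standard hundred -/
def hX : Set leechLattice := {x | x ∈ layer 32 ∧
  dotInt (hT : GolayPt → ℤ) (x : GolayPt → ℤ) = 0 ∧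
  dotInt (hV : GolayPt → ℤ) (x : GolayPt → ℤ) = 24}

/-- its part of size twenty-two -/
def hX22 : Set leechLattice := hY '' {f | f ≠ none ∧ f ≠ some 0}

/-- its part of size seventy-seven -/
def hX77 : Set leechLattice :=
  {x | ∃ O ∈ oct77, (x : GolayPt → ℤ) = fun i => if i ∈ O then 2 else 0}

theorem ncard_hX22 : hX22.ncard = 22 := by
  rw [hX22, Set.InjOn.ncard_image]
  · rw [Set.ncard_eq_toFinset_card']
    decide +kernel
  · intro a _ b _ h
    have := congrFun (congrArg Subtype.val h) a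
    by_contra hne
    simp [hY, hne] at this

theorem ncard_hX77 : hX77.ncard = 77 := by
  rw [← card_oct77, ← Set.ncard_coe_finset]
  refine (Set.ncard_congr (fun O hO => (⟨_, octVec2_mem O (mem_oct77 hO).1⟩ : leechLattice))
    ?_ ?_ ?_).symm
  · intro O hO; exact ⟨O, hO, rfl⟩
  · intro a b _ _ h
    ext i
    have := congrFun (congrArg Subtype.val h) i
    simp only at this
    by_cases ha : i ∈ a <;> by_cases hb : i ∈ b <;> simp [ha, hb] at this ⊢
  · rintro x ⟨O, hO, hx⟩; exact ⟨O, hO, Subtype.ext hx.symm⟩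

theorem hX_facts (x : leechLattice) :
    (x ∈ hX22 → dotInt Spor.vecU (x : GolayPt → ℤ) = 8) ∧
    (x ∈ hX77 → dotInt Spor.vecU (x : GolayPt → ℤ) = 16) := by
  constructor
  · rintro ⟨f, hf, rfl⟩; exact (hY_facts f hf.1 hf.2).2.2.2
  · rintro ⟨O, hO, hx⟩
    obtain ⟨h1, h2, h3⟩ := mem_oct77 hO
    rw [hx]
    exact (hO_facts O h1.2 h2 h3).2.2.2

theorem hX_eq : hX = {Spor.leechU} ∪ (hX22 ∪ hX77) := by
  obtain ⟨f1, f2, f3, f4, f5, f6⟩ := hV_facts
  have hcard : hX.ncard = 100 := ncard_hundred hV hT ⟨f1, f2, f3⟩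
  refine (Set.eq_of_subset_of_ncard_le ?_ ?_ (Set.finite_of_ncard_ne_zero (by omega))).symm
  · rintro x (h | ⟨f, hf, rfl⟩ | ⟨O, hO, hx⟩)
    · rw [Set.mem_singleton_iff] at h; subst h; exact ⟨f6, f4, f5⟩
    · obtain ⟨a, b, c, -⟩ := hY_facts f hf.1 hf.2
      exact ⟨a, c, b⟩
    · obtain ⟨h1, h2, h3⟩ := mem_oct77 hO
      obtain ⟨a, b, c, -⟩ := hO_facts O h1.2 h2 h3
      refine ⟨?_, ?_, ?_⟩
      · show sqNorm _ = 32; rw [hx]; exact a
      · rw [hx]; exact c
      · rw [hx]; exact b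
  · have hf22 : hX22.Finite := Set.finite_of_ncard_ne_zero (by rw [ncard_hX22]; norm_num)
    have hf77 : hX77.Finite := Set.finite_of_ncard_ne_zero (by rw [ncard_hX77]; norm_num)
    have hU : dotInt Spor.vecU Spor.vecU = 32 := by decide +kernel
    rw [hcard, Set.ncard_union_eq ?_ (Set.finite_singleton _) (hf22.union hf77),
      Set.ncard_union_eq ?_ hf22 hf77, ncard_hX22, ncard_hX77, Set.ncard_singleton]
    · rw [Set.disjoint_left]
      intro x a b
      have := (hX_facts x).1 a; have := (hX_facts x).2 b; omega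
    · rw [Set.disjoint_singleton_left]
      rintro (a | b)
      · have e := (hX_facts _).1 a
        rw [show ((Spor.leechU : leechLattice) : GolayPt → ℤ) = Spor.vecU from rfl, hU] at e
        norm_num at e
      · have e := (hX_facts _).2 b
        rw [show ((Spor.leechU : leechLattice) : GolayPt → ℤ) = Spor.vecU from rfl, hU] at e
        norm_num at e

theorem perm_fix {σ : Equiv.Perm GolayPt} (hσ : σ ∈ M24) (h0 : σ none = none)
    (h1 : σ (some 0) = some 0) :
    permCo0 σ hσ • hV = hV ∧ permCo0 σ hσ • hT = hT ∧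
      permCo0 σ hσ • Spor.leechU = Spor.leechU := by
  have hf : ∀ (F : GolayPt → ℤ), (∀ i, i ≠ none → i ≠ some 0 → F i = F (some 1)) →
      ∀ p, F (σ⁻¹ p) = F p := fun F h p => by
    obtain ⟨q, rfl⟩ : ∃ q, σ q = p := ⟨σ⁻¹ p, by simp⟩
    rw [show σ⁻¹ (σ q) = q by simp]
    by_cases a : q = none
    · rw [a, h0]
    by_cases b : q = some 0
    · rw [b, h1]
    rw [h q a b, h (σ q) (fun e => a (σ.injective (e.trans h0.symm)))
      (fun e => b (σ.injective (e.trans h1.symm)))]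
  refine ⟨?_, ?_, ?_⟩ <;>
    refine Subtype.ext (funext fun p => ?_) <;>
    rw [permCo0_apply] <;>
    refine hf _ ?_ p <;>
    decide +kernel

theorem trans22 {x y : leechLattice} (hx : x ∈ hX22) (hy : y ∈ hX22) :
    ∃ g : ↥Co0, g • hV = hV ∧ g • hT = hT ∧ g • Spor.leechU = Spor.leechU ∧ g • x = y := by
  obtain ⟨f, hf, rfl⟩ := hx
  obtain ⟨f', hf', rfl⟩ := hy
  obtain ⟨σ, hσ, hmap⟩ := exists_move [none, some 0, f] [none, some 0, f']
    (by simp [Ne.symm hf.1, Ne.symm hf.2]) (by simp [Ne.symm hf'.1, Ne.symm hf'.2]) rfl (by simp)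
  simp only [List.map_cons, List.map_nil, List.cons.injEq, and_true] at hmap
  obtain ⟨h0, h1, h2⟩ := hmap
  obtain ⟨a, b, c⟩ := perm_fix hσ h0 h1
  refine ⟨_, a, b, c, Subtype.ext (funext fun p => ?_)⟩
  rw [permCo0_apply]
  refine if_congr ?_ rfl rfl
  rw [Equiv.Perm.inv_eq_iff_eq, h2]

theorem trans77 {x y : leechLattice} (hx : x ∈ hX77) (hy : y ∈ hX77) :
    ∃ g : ↥Co0, g • hV = hV ∧ g • hT = hT ∧ g • Spor.leechU = Spor.leechU ∧ g • x = y := by
  classical
  obtain ⟨O1, hO1, hx⟩ := hx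
  obtain ⟨O2, hO2, hy⟩ := hy
  have hext : ∀ O ∈ oct77, ∃ a b c, [none, some 0, a, b, c].Nodup ∧
      ∀ i ∈ [none, some 0, a, b, c], i ∈ O := by
    intro O hO
    obtain ⟨h, hn, h0⟩ := mem_oct77 hO
    have h3 : 3 ≤ (O \ {none, some 0}).card := by
      have := Finset.le_card_sdiff ({none, some 0} : Finset GolayPt) O
      rw [h.2] at this
      have := Finset.card_le_two (a := (none : GolayPt)) (b := some 0)
      omega
    obtain ⟨T, hT, hT3⟩ := Finset.exists_subset_card_eq h3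
    obtain ⟨a, b, c, hab, hac, hbc, rfl⟩ := Finset.card_eq_three.1 hT3
    simp only [Finset.insert_subset_iff, Finset.singleton_subset_iff, Finset.mem_sdiff,
      Finset.mem_insert, Finset.mem_singleton, not_or] at hT
    obtain ⟨⟨ha, ha0, ha1⟩, ⟨hb, hb0, hb1⟩, hc, hc0, hc1⟩ := hT
    exact ⟨a, b, c, by simp [hab, hac, hbc, Ne.symm ha0, Ne.symm ha1, Ne.symm hb0, Ne.symm hb1,
      Ne.symm hc0, Ne.symm hc1], by simp [hn, h0, ha, hb, hc]⟩
  obtain ⟨a, b, c, hnd1, hmem1⟩ := hext O1 hO1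
  obtain ⟨a', b', c', hnd2, hmem2⟩ := hext O2 hO2
  obtain ⟨σ, hσ, hmap⟩ := exists_move _ _ hnd1 hnd2 rfl (by simp)
  obtain ⟨h1w, -, -⟩ := mem_oct77 hO1
  obtain ⟨h2w, -, -⟩ := mem_oct77 hO2
  have hu5 := (steiner golayCode card_golayPt finrank_golayCode orth_golay min_golay).2
    [none, some 0, a, b, c].toFinset (List.toFinset_card_of_nodup hnd1)
  have hO : ∀ i, i ∈ O1 ↔ σ i ∈ O2 := by
    obtain ⟨o, ho, rfl⟩ : ∃ o ∈ golayCode, support₂ o = O2 := by
      obtain ⟨o, ho, ho'⟩ := h2w.1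
      exact ⟨o, ho, ho'⟩
    set o' : GolayPt → ZMod 2 := fun i => o (σ i) with ho'
    have hos : ∀ i, i ∈ support₂ o' ↔ σ i ∈ support₂ o := fun i => by
      rw [mem_support₂, mem_support₂]
    have hB : support₂ o' ∈ wordsOfWeight (golayCode : Set (GolayPt → ZMod 2)) 8 :=
      ⟨(mem_supports_iff _).2 (comp_mem_of_M24 hσ ho),
        (Finset.card_equiv σ fun i => hos i).trans h2w.2⟩
    have := hu5.unique ⟨h1w, fun i hi => hmem1 i (List.mem_toFinset.1 hi)⟩ ⟨hB, fun i hi =>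
      (hos i).2 (hmem2 _ (hmap ▸ List.mem_map.2 ⟨i, List.mem_toFinset.1 hi, rfl⟩))⟩
    intro i
    rw [this, hos]
  simp only [List.map_cons, List.map_nil, List.cons.injEq, and_true] at hmap
  obtain ⟨hσn, hσ0, -, -, -⟩ := hmap
  obtain ⟨e1, e2, e3⟩ := perm_fix hσ hσn hσ0
  refine ⟨_, e1, e2, e3, Subtype.ext (funext fun p => ?_)⟩
  obtain ⟨q, rfl⟩ : ∃ q, σ q = p := ⟨σ⁻¹ p, by simp⟩
  rw [permCo0_apply, show σ⁻¹ (σ q) = q by simp, hx, hy]
  exact if_congr (hO q) rfl rfl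

/-- the rank three structure, transported -/
theorem rank_three (v w x : leechLattice) (hv : sqNorm (v : GolayPt → ℤ) = 48)
    (hw : sqNorm (w : GolayPt → ℤ) = 48)
    (hvw : dotInt (v : GolayPt → ℤ) (w : GolayPt → ℤ) = -32)
    (hx : sqNorm (x : GolayPt → ℤ) = 32 ∧ dotInt (v : GolayPt → ℤ) (x : GolayPt → ℤ) = 24 ∧
      dotInt (w : GolayPt → ℤ) (x : GolayPt → ℤ) = -24) :
    ∃ g : ↥Co0, g • x = Spor.leechU ∧
      (∀ y : leechLattice, (sqNorm (y : GolayPt → ℤ) = 32 ∧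
        dotInt (v : GolayPt → ℤ) (y : GolayPt → ℤ) = 24 ∧
        dotInt (w : GolayPt → ℤ) (y : GolayPt → ℤ) = -24) ↔ g • y ∈ hX) ∧
      ∀ h : ↥Co0, h • hV = hV → h • hT = hT → (g⁻¹ * h * g) • v = v ∧ (g⁻¹ * h * g) • w = w := by
  have hneg : ∀ a b : GolayPt → ℤ, dotInt a (-b) = -dotInt a b :=
    fun a b => by simp [dotInt, -Fintype.sum_option]
  obtain ⟨t, ht, htd⟩ : ∃ t : leechLattice, t = -(v + w) ∧
      ∀ a : GolayPt → ℤ, dotInt a (t : GolayPt → ℤ) =
        -(dotInt a (v : GolayPt → ℤ) + dotInt a (w : GolayPt → ℤ)) :=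
    ⟨_, rfl, fun a => by rw [AddSubgroup.coe_neg, AddSubgroup.coe_add, hneg, dotInt_add_right]⟩
  have htv : dotInt (v : GolayPt → ℤ) (t : GolayPt → ℤ) = -16 := by
    rw [htd, dot_self, hv, hvw]; rfl
  have htn : sqNorm (t : GolayPt → ℤ) = 32 := by
    rw [← dot_self, htd, dotInt_comm (t : GolayPt → ℤ), dotInt_comm (t : GolayPt → ℤ), htv, htd,
      dotInt_comm (w : GolayPt → ℤ) (v : GolayPt → ℤ), hvw, dot_self, hw]
    rfl
  have htx : ∀ x : leechLattice, dotInt (t : GolayPt → ℤ) (x : GolayPt → ℤ) =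
      -(dotInt (v : GolayPt → ℤ) (x : GolayPt → ℤ) + dotInt (w : GolayPt → ℤ) (x : GolayPt → ℤ)) :=
    fun x => by rw [dotInt_comm, htd, dotInt_comm (x : GolayPt → ℤ), dotInt_comm (x : GolayPt → ℤ)]
  obtain ⟨f1, f2, f3, f4, f5, f6⟩ := hV_facts
  obtain ⟨g, g1, g2⟩ := trans_sixteen v t hV hT hv f1 htn f2 htv f3
  obtain ⟨k, k1, k2, k3⟩ := trans_hundred hT (g • x) hV Spor.leechU f2
    (by rw [sqNorm_smul]; exact hx.1) f6 f1 f3
    (by rw [← g2, dotInt_smul, htx, hx.2.1, hx.2.2]; rfl) f4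
    (by rw [← g1, dotInt_smul]; exact hx.2.1) f5
  have gv : (k * g) • v = hV := by rw [mul_smul, g1, k1]
  have gt : (k * g) • t = hT := by rw [mul_smul, g2, k2]
  refine ⟨k * g, by rw [mul_smul, k3], fun y => ?_, fun h hh1 hh2 => ?_⟩
  · simp only [hX, layer, Set.mem_setOf_eq, sqNorm_smul]
    rw [← gv, ← gt, dotInt_smul, dotInt_smul, htx]
    constructor
    · rintro ⟨a, b, c⟩; exact ⟨a, by omega, b⟩
    · rintro ⟨a, b, c⟩; exact ⟨a, c, by omega⟩
  · set m := k * g with hm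
    have hmv : (m⁻¹ * h * m) • v = v := by
      rw [mul_smul, mul_smul, gv, hh1, inv_smul_eq_iff, gv]
    have hmt : (m⁻¹ * h * m) • t = t := by
      rw [mul_smul, mul_smul, gt, hh2, inv_smul_eq_iff, gt]
    refine ⟨hmv, ?_⟩
    have h0 : (m⁻¹ * h * m) • (0 : leechLattice) = 0 := by
      have := smul_add' (m⁻¹ * h * m) 0 0
      rwa [add_zero, left_eq_add] at this
    have e : (m⁻¹ * h * m) • (t + v + w) = 0 := by
      rw [show t + v + w = 0 by rw [ht]; abel, h0]
    rw [smul_add', smul_add', hmv, hmt, add_eq_zero_iff_neg_eq] at e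
    rw [← e, ht]
    abel

end Cfsg.Agent.Leech
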