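import Mathlib
import Cfsg.Prelude.Def_Sporadic_a
import Cfsg.Prelude.Def_Spor_Conway
import Cfsg.Prelude.Def_Spor_Mathieu
import Cfsg.Agent.Compute.Mathieu
import Cfsg.Agent.Leech.Code
import Cfsg.Agent.Leech.Lattice
import Cfsg.Agent.Leech.ModRep
import Cfsg.Agent.Leech.Monomial
import Cfsg.Agent.Leech.Orbits
import Cfsg.Agent.Leech.OrbitCert
import Cfsg.Agent.Leech.Hundred

/-! The pointwise stabiliser of the standard triple is the two point stabiliser in the
permutation group of the code. -/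

set_option autoImplicit false

namespace Cfsg.Agent.Leech
open Cfsg

/-- the stabiliser of the standard triple -/
def stdStab : Subgroup ↥Co0 :=
  MulAction.stabilizer ↥Co0 hV ⊓ MulAction.stabilizer ↥Co0 hT ⊓
    MulAction.stabilizer ↥Co0 Spor.leechU

theorem oct_fixed_eqs : oct none = Spor.leechU + hT ∧
    oct (some 0) = Spor.leechU + -hT :=
  ⟨Subtype.ext (by decide +kernel), Subtype.ext (by decide +kernel)⟩

theorem oct_other : ∀ f : GolayPt, f ≠ none → f ≠ some 0 →
    oct f + (hY f + hY f) + oct (some 0) = hV + hV := by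
  intro f h1 h2
  refine Subtype.ext ?_
  revert f
  decide +kernel

theorem smul_zero' (g : ↥Co0) : g • (0 : leechLattice) = 0 := by
  have := smul_add' g 0 0
  rwa [add_zero, left_eq_add] at this

theorem smul_neg' (g : ↥Co0) (a : leechLattice) : g • (-a) = -(g • a) := by
  have := smul_add' g a (-a)
  rw [add_neg_cancel, smul_zero'] at this
  exact (neg_eq_of_add_eq_zero_right this.symm).symm

theorem stdStab_monomial {g : ↥Co0} (hg : g ∈ stdStab) :
    ∃ σ, ∃ hσ : σ ∈ M24, σ none = none ∧ σ (some 0) = some 0 ∧ g = permCo0 σ hσ := by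
  classical
  simp only [stdStab, Subgroup.mem_inf, MulAction.mem_stabilizer_iff] at hg
  obtain ⟨⟨gV, gT⟩, gU⟩ := hg
  obtain ⟨o1, o2⟩ := oct_fixed_eqs
  have gn : g • oct none = oct none := by rw [o1, smul_add', gU, gT]
  have g0 : g • oct (some 0) = oct (some 0) := by rw [o2, smul_add', smul_neg', gU, gT]
  have hmem : ∀ f, f ≠ none → f ≠ some 0 → ∃ f', (f' ≠ none ∧ f' ≠ some 0) ∧ g • hY f = hY f' := by
    intro f h1 h2
    obtain ⟨a, b, c, d⟩ := hY_facts f h1 h2
    have hx : g • hY f ∈ hX := by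
      refine ⟨?_, ?_, ?_⟩
      · show sqNorm ((g • hY f : leechLattice) : GolayPt → ℤ) = 32
        rw [sqNorm_smul]; exact a
      · rw [← gT, dotInt_smul]; exact c
      · rw [← gV, dotInt_smul]; exact b
    have h8 : dotInt Spor.vecU ((g • hY f : leechLattice) : GolayPt → ℤ) = 8 := by
      have e := dotInt_smul g Spor.leechU (hY f)
      rw [gU] at e
      exact e.trans d
    rw [hX_eq] at hx
    rcases hx with h | ⟨f', hf', he⟩ | h
    · rw [Set.mem_singleton_iff] at h
      rw [h] at h8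
      exact absurd h8 (by decide +kernel)
    · exact ⟨f', hf', he.symm⟩
    · exact absurd ((hX_facts _).2 h) (by rw [h8]; norm_num)
  choose F hF using hmem
  let π : GolayPt → GolayPt := fun f =>
    if h : f = none ∨ f = some 0 then f else F f (fun e => h (Or.inl e)) (fun e => h (Or.inr e))
  have hoct : ∀ f, g • oct f = oct (π f) := by
    intro f
    by_cases h : f = none ∨ f = some 0
    · simp only [π, dif_pos h]
      rcases h with rfl | rfl
      · exact gn
      · exact g0
    · simp only [π, dif_neg h]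
      push Not at h
      obtain ⟨⟨e1, e2⟩, e3⟩ := hF f h.1 h.2
      have ha := congrArg (g • ·) (oct_other f h.1 h.2)
      simp only [smul_add', e3, gV, g0] at ha
      rw [← oct_other _ e1 e2] at ha
      exact add_right_cancel (add_right_cancel ha)
  have hinj : Function.Injective π := fun a b h => by
    have e : oct a = oct b := MulAction.injective g ((hoct a).trans (h ▸ (hoct b).symm))
    by_contra hne
    have := congrFun (congrArg Subtype.val e) a
    simp [oct, hne] at this
  obtain ⟨hσ, c, hc, hc0, hgc⟩ := exists_monomial g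
    (Equiv.ofBijective π (Finite.injective_iff_bijective.1 hinj)) (fun _ => 1)
    (fun _ => Or.inl rfl) (fun i => by rw [hoct i]; simp [oct])
  refine ⟨_, hσ, ?_, ?_, ?_⟩
  · show π none = none; simp [π]
  · show π (some 0) = some 0; simp [π]
  rw [hgc]
  have h1 : c = 0 := funext fun q => by rw [hc0 q]; simp
  subst h1
  refine ext_of_oct fun i => Subtype.ext ?_
  rw [mul_smul, signCo0_apply]
  funext q
  simp [negOn]

theorem permCo0_mul (σ τ : Equiv.Perm GolayPt) (hσ : σ ∈ M24) (hτ : τ ∈ M24) :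
    permCo0 (σ * τ) (mul_mem hσ hτ) = permCo0 σ hσ * permCo0 τ hτ :=
  ext_of_oct fun i => Subtype.ext (funext fun q => by
    simp only [permCo0_apply, mul_smul, mul_inv_rev, Equiv.Perm.coe_mul, Function.comp_apply])

theorem mem_M24_of_M22 {σ : Equiv.Perm GolayPt} (h : σ ∈ Spor.M22) :
    σ ∈ M24 ∧ σ none = none ∧ σ (some 0) = some 0 := by
  simp only [Spor.M22, Spor.M23, Subgroup.mem_inf, MulAction.mem_stabilizer_iff,
    Equiv.Perm.smul_def] at h
  exact ⟨h.1.1, h.1.2, h.2⟩

/-- the embedding of the two point stabiliser -/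
def m22Hom : Spor.M22 →* ↥Co0 :=
  MonoidHom.mk' (fun σ => permCo0 σ.1 (mem_M24_of_M22 σ.2).1) fun a b =>
    permCo0_mul a.1 b.1 _ _

theorem m22Hom_injective : Function.Injective m22Hom := fun a b h => by
  refine Subtype.ext (inv_injective (Equiv.ext fun q => ?_))
  have := congrFun (congrArg Subtype.val
    (congrArg (fun g : ↥Co0 => g • oct ((b.1 : Equiv.Perm GolayPt)⁻¹ q)) h)) q
  simp only [m22Hom, MonoidHom.mk'_apply, permCo0_apply, oct, Pi.single_eq_same] at this
  by_contra hne
  rw [Pi.single_eq_of_ne hne] at this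
  norm_num at this

theorem m22Hom_range : m22Hom.range = stdStab := by
  ext g
  constructor
  · rintro ⟨σ, rfl⟩
    obtain ⟨h, h0, h1⟩ := mem_M24_of_M22 σ.2
    obtain ⟨a, b, c⟩ := perm_fix h h0 h1
    simp only [stdStab, Subgroup.mem_inf, MulAction.mem_stabilizer_iff]
    exact ⟨⟨a, b⟩, c⟩
  · intro hg
    obtain ⟨σ, hσ, h0, h1, rfl⟩ := stdStab_monomial hg
    refine ⟨⟨σ, ?_⟩, rfl⟩
    simp only [Spor.M22, Spor.M23, Subgroup.mem_inf, MulAction.mem_stabilizer_iff,
      Equiv.Perm.smul_def]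
    exact ⟨⟨hσ, h0⟩, h1⟩

theorem stdStab_iso : Nonempty (↥stdStab ≃* Spor.M22) :=
  ⟨((MonoidHom.ofInjective m22Hom_injective).trans (MulEquiv.subgroupCongr m22Hom_range)).symm⟩

theorem card_stdStab : Nat.card ↥stdStab = 443520 := by
  obtain ⟨e⟩ := stdStab_iso
  rw [Nat.card_congr e.toEquiv]
  exact Compute.card_m22

theorem isSimple_stdStab : IsSimpleGroup ↥stdStab := by
  obtain ⟨e⟩ := stdStab_iso
  have := Compute.isSimpleGroup_m22
  exact MulEquiv.isSimpleGroup e

theorem eq_one_of_fixes_hX {g : ↥Co0} (hg : g ∈ stdStab) (h : ∀ x ∈ hX, g • x = x) : g = 1 := by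
  obtain ⟨σ, hσ, h0, h1, rfl⟩ := stdStab_monomial hg
  refine ext_of_oct fun f => ?_
  rw [one_smul]
  by_cases hf : f = none ∨ f = some 0
  · obtain ⟨o1, o2⟩ := oct_fixed_eqs
    obtain ⟨-, b, c⟩ := perm_fix hσ h0 h1
    rcases hf with rfl | rfl
    · rw [o1, smul_add', b, c]
    · rw [o2, smul_add', smul_neg', b, c]
  push Not at hf
  have hy : hY f ∈ hX := by
    obtain ⟨a, b, c, -⟩ := hY_facts f hf.1 hf.2
    exact ⟨a, c, b⟩
  have ha := congrArg (permCo0 σ hσ • ·) (oct_other f hf.1 hf.2)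
  simp only [smul_add', h _ hy, (perm_fix hσ h0 h1).1] at ha
  obtain ⟨-, o2⟩ := oct_fixed_eqs
  rw [show permCo0 σ hσ • oct (some 0) = oct (some 0) by
    rw [o2, smul_add', smul_neg', (perm_fix hσ h0 h1).2.1, (perm_fix hσ h0 h1).2.2]] at ha
  exact add_right_cancel (add_right_cancel (ha.trans (oct_other f hf.1 hf.2).symm))

end Cfsg.Agent.Leech
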