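import Mathlib
import Cfsg.Prelude.Def_Sporadic_a
import Cfsg.Prelude.Def_Spor_Conway
import Cfsg.Prelude.Def_Spor_Mathieu
import Cfsg.Agent.Leech.Code
import Cfsg.Agent.Leech.AbstractCode
import Cfsg.Agent.Leech.Lattice
import Cfsg.Agent.Leech.ModRep
import Cfsg.Agent.Leech.Monomial
import Cfsg.Agent.Leech.Orbits
import Cfsg.Agent.Leech.OrbitCert
import Cfsg.Agent.Leech.PairsEight
import Cfsg.Agent.Leech.StabM22

/-! The sign changes fixing the standard short vector. -/

set_option autoImplicit false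

namespace Cfsg.Agent.Leech
open Cfsg

/-- position data of four permutations fixing the first two points -/
def permData : List (List ℕ × List ℕ) :=
  [([0, 1, 17, 5, 10, 3, 15, 13, 8, 9, 4, 16, 20, 7, 14, 6, 11, 2, 21, 19, 12, 18, 22, 23], [0, 1, 17, 5, 10, 3, 15, 13, 8, 9, 4, 16, 20, 7, 14, 6, 11, 2, 21, 19, 12, 18, 22, 23]),
    ([0, 1, 2, 21, 19, 13, 6, 18, 17, 20, 10, 16, 12, 5, 14, 23, 11, 8, 7, 4, 9, 3, 22, 15], [0, 1, 2, 21, 19, 13, 6, 18, 17, 20, 10, 16, 12, 5, 14, 23, 11, 8, 7, 4, 9, 3, 22, 15]),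
    ([0, 1, 16, 22, 13, 5, 4, 9, 11, 17, 8, 10, 3, 6, 14, 23, 18, 7, 2, 19, 20, 15, 12, 21], [0, 1, 18, 12, 6, 5, 13, 17, 10, 7, 11, 8, 22, 4, 14, 21, 2, 9, 16, 19, 20, 23, 3, 15]),
    ([0, 1, 4, 8, 7, 17, 23, 16, 12, 6, 18, 20, 21, 11, 10, 15, 9, 19, 5, 22, 3, 13, 14, 2], [0, 1, 23, 20, 2, 18, 9, 4, 3, 16, 14, 13, 8, 21, 22, 15, 7, 5, 10, 17, 11, 12, 19, 6])]

/-- the mask of the transformed word, compared bit by bit -/
def diffWeight (P : List ℕ) (m : ℕ) : ℕ :=
  ((List.range 24).filter fun i => m.testBit i != m.testBit (P.getD i 0)).length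

/-- weight of a mask -/
def maskWeight (m : ℕ) : ℕ := ((List.range 24).filter fun i => m.testBit i).length

theorem weight_table : ∀ m ∈ allMasks, m % 4 = 0 → m ≠ 0 → maskWeight m = 8 ∨
    ∃ d ∈ permData, diffWeight d.1 m = 8 := by
  have h : (allMasks.all fun m => !(m % 4 == 0) || m == 0 || maskWeight m == 8 ||
      permData.any fun d => diffWeight d.1 m == 8) = true := by decide +kernel
  intro m hm h4 h0
  have := List.all_eq_true.1 h m hm
  simp only [Bool.or_eq_true, Bool.not_eq_true', beq_eq_false_iff_ne, beq_iff_eq,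
    List.any_eq_true] at this
  rcases this with ((a | a) | a) | a
  · exact absurd h4 a
  · exact absurd a h0
  · exact Or.inl a
  · exact Or.inr a

/-- generators of the sign words as commutators -/
def commData : List (ℕ × ℕ × ℕ) := [(9691140, 0, 1161408), (14442512, 0, 3421328), (10420264, 0, 3610628), (12951624, 0, 2435240), (9691140, 1, 1256224), (14442512, 1, 9740960), (10420264, 1, 12561336), (9691140, 2, 10953232), (14442512, 2, 12951624), (9691140, 3, 7563492)]

theorem comm_span : ∀ m ∈ allMasks, m % 4 = 0 → m ∈ spanList (commData.map fun d => d.2.2) := by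
  have h : (allMasks.all fun m => !(m % 4 == 0) ||
      (spanList (commData.map fun d => d.2.2)).contains m) = true := by decide +kernel
  intro m hm h4
  have := List.all_eq_true.1 h m hm
  simp only [Bool.or_eq_true, Bool.not_eq_true', beq_eq_false_iff_ne,
    List.contains_iff_mem] at this
  exact this.resolve_left fun a => a h4

theorem comm_check : ∀ d ∈ commData, dec (bitWord d.1) = bitWord d.1 ∧ d.1 % 4 = 0 ∧
    d.2.1 < 4 ∧ ∀ i < 24, d.2.2.testBit i =
      (d.1.testBit i != d.1.testBit ((permData.getD d.2.1 ([], [])).1.getD i 0)) := by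
  decide +kernel

theorem permData_check : ∀ d ∈ permData,
    (∀ p, ptOf (d.1.getD (idx (ptOf (d.2.getD (idx p) 0))) 0) = p) ∧
    (∀ p, ptOf (d.2.getD (idx (ptOf (d.1.getD (idx p) 0))) 0) = p) ∧
    (∀ i, dec (row i ∘ fun p => ptOf (d.2.getD (idx p) 0)) =
      row i ∘ fun p => ptOf (d.2.getD (idx p) 0)) ∧
    ptOf (d.2.getD 0 0) = none ∧ ptOf (d.2.getD 1 0) = some 0 ∧ ∀ i < 24, d.1.getD i 0 < 24 := by
  decide +kernel

theorem separate_check : ((List.range 24).all fun i => (List.range 24).all fun j =>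
    i < 2 || i == j || (List.range 4096).any fun n =>
      (maskOf n % 4 == 0) && (maskOf n).testBit i && !(maskOf n).testBit j) = true := by
  decide +kernel

theorem octad_check : ((List.range 4096).all fun n =>
    !(maskOf n % 4 == 0) || !(maskWeight (maskOf n) == 8) || (List.range 4096).any fun k =>
      maskWeight (maskOf k) == 8 && (maskOf k).testBit 1 && !(maskOf k).testBit 0 &&
        (maskOf k &&& maskOf n) == 0) = true := by
  decide +kernel

/-- the code words vanishing at the first two points -/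
def IsDWord (c : GolayPt → ZMod 2) : Prop := c ∈ golayCode ∧ c none = 0 ∧ c (some 0) = 0

theorem bit_zero_iff (m : ℕ) : bitWord m none = 0 ∧ bitWord m (some 0) = 0 ↔ m % 4 = 0 := by
  have e : m.testBit 0 = decide (m % 2 = 1) ∧ m.testBit 1 = decide (m / 2 % 2 = 1) :=
    ⟨Nat.testBit_zero m, by rw [Nat.testBit_succ, Nat.testBit_zero]⟩
  simp only [bitWord, idx, ZMod.val_zero, Nat.zero_add, e.1, e.2, decide_eq_true_eq]
  split_ifs <;> simp <;> omega

theorem exists_dmask {c : GolayPt → ZMod 2} (hc : IsDWord c) :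
    ∃ m ∈ allMasks, m % 4 = 0 ∧ bitWord m = c := by
  obtain ⟨m, hm, rfl⟩ := exists_mask hc.1
  exact ⟨m, hm, (bit_zero_iff m).1 hc.2, rfl⟩

theorem signCo0_mul (a b : GolayPt → ZMod 2) (ha : a ∈ golayCode) (hb : b ∈ golayCode) :
    signCo0 a ha * signCo0 b hb = signCo0 (a + b) (add_mem ha hb) :=
  ext_of_oct fun i => Subtype.ext (funext fun q => by
    rw [mul_smul]
    simp only [signCo0_apply, negOn, Pi.add_apply]
    rcases zmod2_cases (a q) with e | e <;> rcases zmod2_cases (b q) with f | f <;>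
      simp [e, f, show (1 : ZMod 2) + 1 = 0 from rfl])

theorem signCo0_congr {a b : GolayPt → ZMod 2} (h : a = b) (ha : a ∈ golayCode)
    (hb : b ∈ golayCode) : signCo0 a ha = signCo0 b hb := by subst h; rfl

theorem signCo0_zero : signCo0 0 (zero_mem golayCode) = 1 :=
  ext_of_oct fun i => Subtype.ext (funext fun q => by
    rw [signCo0_apply, one_smul]; simp [negOn])

theorem signCo0_inv (a : GolayPt → ZMod 2) (ha : a ∈ golayCode) :
    (signCo0 a ha)⁻¹ = signCo0 a ha := by
  refine inv_eq_of_mul_eq_one_right ?_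
  rw [signCo0_mul, signCo0_congr (CharTwo.add_self_eq_zero a) _ (zero_mem _), signCo0_zero]

theorem sign_fix_U {c : GolayPt → ZMod 2} (hc : IsDWord c) :
    signCo0 c hc.1 • Spor.leechU = Spor.leechU := by
  refine Subtype.ext (funext fun p => ?_)
  rw [signCo0_apply]
  show negOn c Spor.vecU p = Spor.vecU p
  simp only [negOn, Spor.vecU]
  by_cases h : p = none ∨ p = some 0
  · rcases h with rfl | rfl <;> simp [hc.2.1, hc.2.2]
  · simp [h]

theorem conj_perm_sign (σ : Equiv.Perm GolayPt) (hσ : σ ∈ M24) (c : GolayPt → ZMod 2)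
    (hc : c ∈ golayCode) :
    permCo0 σ hσ * signCo0 c hc * (permCo0 σ hσ)⁻¹ =
      signCo0 (fun p => c (σ⁻¹ p)) (comp_mem_of_M24 (inv_mem hσ) hc) := by
  rw [mul_inv_eq_iff_eq_mul]
  refine ext_of_oct fun i => Subtype.ext (funext fun q => ?_)
  simp only [mul_smul, permCo0_apply, signCo0_apply, negOn]

/-- a subgroup stable under conjugation by the two point stabiliser and the sign group -/
theorem sum_mem_of_normalised (K : Subgroup ↥Co0) (c : GolayPt → ZMod 2) (hc : IsDWord c)
    (σ : Equiv.Perm GolayPt) (hσ : σ ∈ M24)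
    (h : signCo0 c hc.1 ∈ K ∧ (∀ x ∈ K, permCo0 σ hσ * x * (permCo0 σ hσ)⁻¹ ∈ K) ∨
      permCo0 σ hσ ∈ K ∧ (∀ x ∈ K, signCo0 c hc.1 * x * (signCo0 c hc.1)⁻¹ ∈ K)) :
    signCo0 (c + fun p => c (σ⁻¹ p))
      (add_mem hc.1 (comp_mem_of_M24 (inv_mem hσ) hc.1)) ∈ K := by
  rw [← signCo0_mul c (fun p => c (σ⁻¹ p)) hc.1 (comp_mem_of_M24 (inv_mem hσ) hc.1),
    ← conj_perm_sign σ hσ c hc.1]
  rcases h with ⟨hk, hn⟩ | ⟨hk, hn⟩
  · exact mul_mem hk (hn _ hk)
  · have := mul_mem (hn _ hk) (inv_mem hk)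
    rw [signCo0_inv] at this
    simpa only [mul_assoc] using this

theorem perm_of_data {d : List ℕ × List ℕ} (hd : d ∈ permData) :
    ∃ σ, ∃ hσ : σ ∈ M24, σ none = none ∧ σ (some 0) = some 0 ∧
      permCo0 σ hσ ∈ stdStab ∧ ∀ p, σ⁻¹ p = ptOf (d.1.getD (idx p) 0) := by
  obtain ⟨h1, h2, h3, h4, h5, -⟩ := permData_check d hd
  have hσ : permOfLists d.1 d.2 h1 h2 ∈ M24 := mem_M24_of_rows h3
  have h0 : permOfLists d.1 d.2 h1 h2 none = none := h4
  have h0' : permOfLists d.1 d.2 h1 h2 (some 0) = some 0 := by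
    show ptOf (d.2.getD (idx (some 0)) 0) = some 0
    rwa [show idx (some 0) = 1 from rfl]
  refine ⟨_, hσ, h0, h0', ?_, fun p => rfl⟩
  obtain ⟨a, b, c⟩ := perm_fix hσ h0 h0'
  simp only [stdStab, Subgroup.mem_inf, MulAction.mem_stabilizer_iff]
  exact ⟨⟨a, b⟩, c⟩

theorem bitWord_diff {d : List ℕ × List ℕ} (hd : d ∈ permData) (m : ℕ) (p : GolayPt) :
    bitWord m p + bitWord m (ptOf (d.1.getD (idx p) 0)) =
      if m.testBit (idx p) != m.testBit (d.1.getD (idx p) 0) then 1 else 0 := by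
  simp only [bitWord]
  rw [idx_ptOf _ ((permData_check d hd).2.2.2.2.2 _ (idx_lt p))]
  cases m.testBit (idx p) <;> cases m.testBit (d.1.getD (idx p) 0) <;> decide

/-- from a nontrivial sign change to one on an octad -/
theorem exists_octad_sign (K : Subgroup ↥Co0)
    (hK : ∀ g ∈ stdStab, ∀ x ∈ K, g * x * g⁻¹ ∈ K) {c : GolayPt → ZMod 2} (hc : IsDWord c)
    (h0 : c ≠ 0) (hmem : signCo0 c hc.1 ∈ K) :
    ∃ o, ∃ ho : IsDWord o, hammingNorm o = 8 ∧ signCo0 o ho.1 ∈ K := by
  obtain ⟨m, hm, h4, rfl⟩ := exists_dmask hc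
  have hm0 : m ≠ 0 := fun e => h0 (by rw [e, bitWord_zero])
  rcases weight_table m hm h4 hm0 with h8 | ⟨d, hd, h8⟩
  · exact ⟨_, hc, by rw [hammingNorm_bitWord]; exact h8, hmem⟩
  obtain ⟨σ, hσ, a, b, hs, hinv⟩ := perm_of_data hd
  have ho : IsDWord (bitWord m + fun p => bitWord m (σ⁻¹ p)) := by
    refine ⟨add_mem hc.1 (comp_mem_of_M24 (inv_mem hσ) hc.1), ?_, ?_⟩
    · simp only [Pi.add_apply, Equiv.Perm.inv_eq_iff_eq.2 a.symm, hc.2.1, add_zero]
    · simp only [Pi.add_apply, Equiv.Perm.inv_eq_iff_eq.2 b.symm, hc.2.2, add_zero]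
  refine ⟨_, ho, ?_, sum_mem_of_normalised K _ hc σ hσ (Or.inl ⟨hmem, hK _ hs⟩)⟩
  rw [hammingNorm, ← h8, diffWeight]
  have e : ∀ p, (bitWord m + fun p => bitWord m (σ⁻¹ p)) p =
      if m.testBit (idx p) != m.testBit (d.1.getD (idx p) 0) then 1 else 0 := fun p => by
    rw [Pi.add_apply, hinv, bitWord_diff hd]
  simp only [e]
  rw [← List.toFinset_card_of_nodup (List.nodup_range.filter _)]
  refine Finset.card_bij (fun p _ => idx p) ?_ ?_ ?_
  · intro p hp
    simp only [Finset.mem_filter, Finset.mem_univ, true_and] at hp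
    simp only [List.mem_toFinset, List.mem_filter, List.mem_range]
    refine ⟨idx_lt p, ?_⟩
    by_contra hh
    exact hp (if_neg hh)
  · intro p _ q _ h
    rw [← ptOf_idx p, h, ptOf_idx]
  · intro i hi
    simp only [List.mem_toFinset, List.mem_filter, List.mem_range] at hi
    refine ⟨ptOf i, ?_, idx_ptOf i hi.1⟩
    simp only [Finset.mem_filter, Finset.mem_univ, true_and, idx_ptOf i hi.1, hi.2, if_true]
    decide

/-- a subgroup containing the two point stabiliser and stable under signs contains every sign -/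
theorem signs_le (K : Subgroup ↥Co0) (hS : stdStab ≤ K)
    (hK : ∀ (c : GolayPt → ZMod 2) (hc : IsDWord c), ∀ x ∈ K,
      signCo0 c hc.1 * x * (signCo0 c hc.1)⁻¹ ∈ K)
    {c : GolayPt → ZMod 2} (hc : IsDWord c) : signCo0 c hc.1 ∈ K := by
  have hgen : ∀ d ∈ commData, ∃ h : bitWord d.2.2 ∈ golayCode,
      signCo0 (bitWord d.2.2) h ∈ K := by
    intro d hd
    obtain ⟨hdec, h4, hk, hbits⟩ := comm_check d hd
    have hmem : permData.getD d.2.1 ([], []) ∈ permData := by
      rw [List.getD_eq_getElem?_getD, List.getElem?_eq_getElem (show d.2.1 < permData.length from hk)]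
      exact List.getElem_mem _
    obtain ⟨σ, hσ, a, b, hs, hinv⟩ := perm_of_data hmem
    have hd1 : IsDWord (bitWord d.1) := ⟨(mem_iff _).2 hdec, (bit_zero_iff _).2 h4⟩
    have he : bitWord d.2.2 = bitWord d.1 + fun p => bitWord d.1 (σ⁻¹ p) := funext fun p => by
      rw [Pi.add_apply, hinv, bitWord_diff hmem]
      simp only [bitWord, hbits _ (idx_lt p)]
    have hcode : bitWord d.2.2 ∈ golayCode :=
      he ▸ add_mem hd1.1 (comp_mem_of_M24 (inv_mem hσ) hd1.1)
    refine ⟨hcode, ?_⟩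
    rw [signCo0_congr he hcode (add_mem hd1.1 (comp_mem_of_M24 (inv_mem hσ) hd1.1))]
    exact sum_mem_of_normalised K _ hd1 σ hσ (Or.inr ⟨hS hs, hK _ hd1⟩)
  have hspan : ∀ l : List (ℕ × ℕ × ℕ), (∀ d ∈ l, ∃ h : bitWord d.2.2 ∈ golayCode,
      signCo0 (bitWord d.2.2) h ∈ K) →
      ∀ m ∈ spanList (l.map fun d => d.2.2), ∃ h : bitWord m ∈ golayCode,
        signCo0 (bitWord m) h ∈ K := by
    intro l
    induction l with
    | nil =>
      intro _ m hm
      simp only [List.map_nil, spanList, List.mem_singleton] at hm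
      subst hm
      exact ⟨bitWord_zero ▸ zero_mem _, by
        rw [signCo0_congr bitWord_zero _ (zero_mem _), signCo0_zero]; exact K.one_mem⟩
    | cons a t ih =>
      intro hl m hm
      have ht := ih fun d hd => hl d (List.mem_cons_of_mem _ hd)
      simp only [List.map_cons, spanList] at hm
      rcases List.mem_append.1 hm with hm | hm
      · exact ht m hm
      · obtain ⟨b, hb, rfl⟩ := List.mem_map.1 hm
        obtain ⟨ha, ha'⟩ := hl a List.mem_cons_self
        obtain ⟨hb', hb''⟩ := ht b hb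
        refine ⟨by rw [bitWord_xor]; exact add_mem ha hb', ?_⟩
        rw [signCo0_congr (bitWord_xor a.2.2 b) _ (add_mem ha hb'), ← signCo0_mul _ _ ha hb']
        exact mul_mem ha' hb''
  obtain ⟨m, hm, h4, rfl⟩ := exists_dmask hc
  exact (hspan commData hgen m (comm_span m hm h4)).2

theorem exists_separating {i j : GolayPt} (hi : i ≠ none) (hi' : i ≠ some 0) (hij : i ≠ j) :
    ∃ c, IsDWord c ∧ c i = 1 ∧ c j = 0 := by
  have h := List.all_eq_true.1 (List.all_eq_true.1 separate_check (idx i)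
    (List.mem_range.2 (idx_lt i))) (idx j) (List.mem_range.2 (idx_lt j))
  have h2 : ¬ idx i < 2 := fun h => by
    have e : idx i = 0 ∨ idx i = 1 := by omega
    rcases e with e | e
    · exact hi (by rw [← ptOf_idx i, e]; rfl)
    · exact hi' (by rw [← ptOf_idx i, e]; rfl)
  have h3 : idx i ≠ idx j := fun h => hij (by rw [← ptOf_idx i, h, ptOf_idx])
  simp only [h2, decide_false, beq_eq_false_iff_ne.2 h3, Bool.false_or, List.any_eq_true,
    List.mem_range, Bool.and_eq_true, Bool.not_eq_true', beq_iff_eq] at h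
  obtain ⟨n, hn, ⟨h4, hbi⟩, hbj⟩ := h
  refine ⟨enum ⟨n, hn⟩, ⟨enum_mem _, (bit_zero_iff _).2 h4⟩, ?_, ?_⟩
  · show (if (maskOf n).testBit (idx i) then (1 : ZMod 2) else 0) = 1
    rw [if_pos hbi]
  · show (if (maskOf n).testBit (idx j) then (1 : ZMod 2) else 0) = 0
    rw [hbj]; rfl

/-- a sign change on an octad fixes a partner with scalar product `-8` -/
theorem octad_sign_fixes {o : GolayPt → ZMod 2} (ho : IsDWord o) (h8 : hammingNorm o = 8) :
    ∃ w : leechLattice, sqNorm (w : GolayPt → ℤ) = 32 ∧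
      dotInt Spor.vecU (w : GolayPt → ℤ) = -8 ∧ signCo0 o ho.1 • w = w := by
  classical
  obtain ⟨n, rfl⟩ := exists_enum ho.1
  have h := List.all_eq_true.1 octad_check n.1 (List.mem_range.2 n.2)
  have e4 : maskOf n.1 % 4 = 0 := (bit_zero_iff _).1 ho.2
  have e8 : maskWeight (maskOf n.1) = 8 := (hammingNorm_bitWord _).symm.trans h8
  simp only [e4, e8, beq_self_eq_true, Bool.not_true, Bool.false_or, List.any_eq_true,
    List.mem_range, Bool.and_eq_true, Bool.not_eq_true', beq_iff_eq] at h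
  obtain ⟨k, hk, ⟨⟨hk8, hk1⟩, hk0⟩, hand⟩ := h
  set p := enum ⟨k, hk⟩ with hp
  have hp8 : hammingNorm p = 8 := (hammingNorm_bitWord _).trans hk8
  have hcard : (support₂ p).card = 8 := by rw [← hammingNorm_eq_card]; exact hp8
  have hmem : ∀ i, i ∈ support₂ p ↔ (maskOf k).testBit (idx i) = true := fun i => by
    rw [mem_support₂]
    show (if (maskOf k).testBit (idx i) then (1 : ZMod 2) else 0) = 1 ↔ _
    cases (maskOf k).testBit (idx i) <;> simp
  have hn0 : (none : GolayPt) ∉ support₂ p := by rw [hmem, show idx none = 0 from rfl, hk0]; simp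
  have h01 : (some 0 : GolayPt) ∈ support₂ p := by rw [hmem]; exact hk1
  obtain ⟨f, hf, hf0⟩ := Finset.exists_mem_ne (s := support₂ p) (by omega) (some 0)
  have hpair : ∑ i ∈ support₂ p, (if i = some 0 ∨ i = f then (1 : ZMod 2) else 0) = 0 := by
    rw [← Finset.sum_filter, show ((support₂ p).filter fun i => i = some 0 ∨ i = f) = {some 0, f}
      from Finset.ext fun i => by
        simp only [Finset.mem_filter, Finset.mem_insert, Finset.mem_singleton]
        exact ⟨fun h => h.2, fun h => ⟨by rcases h with rfl | rfl <;> assumption, h⟩⟩,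
      Finset.sum_pair (Ne.symm hf0)]
    decide
  obtain ⟨d, hd, hdv⟩ := exists_octad_signs (enum_mem ⟨k, hk⟩) hp8
    (fun i => if i = some 0 ∨ i = f then (1 : ZMod 2) else 0) hpair
  set x : GolayPt → ℤ := fun i => 2 * ((p i).val : ℤ) with hx
  have hxv : ∀ i, x i = if i ∈ support₂ p then 2 else 0 := fun i => by
    simp only [hx, mem_support₂]
    rcases zmod2_cases (p i) with e | e <;> rw [e] <;> rfl
  refine ⟨⟨negOn d x, negOn_mem hd (two_mul_word_mem (enum_mem _))⟩, ?_, ?_, ?_⟩
  · show sqNorm (negOn d x) = 32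
    rw [sqNorm_negOn, sqNorm]
    simp only [hxv, ite_pow, zero_pow two_ne_zero]
    rw [Finset.sum_ite_mem, Finset.univ_inter, Finset.sum_const, hcard]
    rfl
  · show dotInt Spor.vecU (negOn d x) = -8
    rw [dot_vecU]
    simp only [negOn, hxv, hn0, h01, hdv _ h01, true_or, if_true, if_false, one_ne_zero, neg_zero,
      ite_self]
    rfl
  · refine Subtype.ext (funext fun i => ?_)
    rw [signCo0_apply]
    show negOn (enum n) (negOn d x) i = negOn d x i
    by_cases hi : i ∈ support₂ p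
    · have hb := (hmem i).1 hi
      have hn : (maskOf n.1).testBit (idx i) = false := by
        have := congrArg (fun m : ℕ => m.testBit (idx i)) hand
        simpa [hb] using this
      have : enum n i = 0 := by
        show (if (maskOf n.1).testBit (idx i) then (1 : ZMod 2) else 0) = 0
        rw [hn]; rfl
      simp [negOn, this]
    · simp [negOn, hxv, hi]

end Cfsg.Agent.Leech
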