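import Mathlib

/-! Characteristic subgroups in groups of order 100 and 2025. -/

set_option autoImplicit false

namespace Cfsg.Agent.Leech

theorem char_order100 {N : Type*} [Group N] (h : Nat.card N = 100) :
    ∃ P : Subgroup N, P.Characteristic ∧ Nat.card P = 25 := by
  have : Finite N := Nat.finite_of_card_ne_zero (by omega)
  have : Fact (Nat.Prime 5) := ⟨by norm_num⟩
  obtain ⟨P⟩ : Nonempty (Sylow 5 N) := inferInstance
  have hP : Nat.card P = 25 := by
    obtain ⟨n, hn⟩ := P.isPGroup'.exists_card_eq
    have hd : (5 : ℕ) ^ n ∣ 100 := hn ▸ h ▸ (P : Subgroup N).card_subgroup_dvd_card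
    have hnd := P.not_dvd_index
    have hm := (P : Subgroup N).card_mul_index
    rw [h, hn] at hm
    have hn3 : n ≤ 2 := by
      by_contra hc
      have := (Nat.pow_dvd_pow 5 (by omega : 3 ≤ n)).trans hd
      norm_num at this
    interval_cases n <;> first | omega | exact hn
  have hidx : P.index = 4 := by
    have := (P : Subgroup N).card_mul_index
    rw [hP, h] at this
    omega
  have h1 : Nat.card (Sylow 5 N) = 1 := by
    have hd := P.card_dvd_index
    rw [hidx] at hd
    have hm := card_sylow_modEq_one 5 N
    have := Nat.le_of_dvd (by norm_num) hd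
    unfold Nat.ModEq at hm
    omega
  have : Subsingleton (Sylow 5 N) := (Nat.card_eq_one_iff_unique.1 h1).1
  exact ⟨P, P.characteristic_of_subsingleton, hP⟩

theorem char_order2025 {N : Type*} [Group N] (h : Nat.card N = 2025) :
    ∃ P : Subgroup N, P.Characteristic ∧ (Nat.card P = 25 ∨ Nat.card P = 81) := by
  have : Finite N := Nat.finite_of_card_ne_zero (by omega)
  have : Fact (Nat.Prime 5) := ⟨by norm_num⟩
  obtain ⟨P⟩ : Nonempty (Sylow 5 N) := inferInstance
  have hP : Nat.card P = 25 := by
    obtain ⟨n, hn⟩ := P.isPGroup'.exists_card_eq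
    have hd : (5 : ℕ) ^ n ∣ 2025 := hn ▸ h ▸ (P : Subgroup N).card_subgroup_dvd_card
    have hnd := P.not_dvd_index
    have hm := (P : Subgroup N).card_mul_index
    rw [h, hn] at hm
    have hn3 : n ≤ 2 := by
      by_contra hc
      have := (Nat.pow_dvd_pow 5 (by omega : 3 ≤ n)).trans hd
      norm_num at this
    interval_cases n <;> first | omega | exact hn
  have hidx : P.index = 81 := by
    have := (P : Subgroup N).card_mul_index
    rw [hP, h] at this
    omega
  have hd := P.card_dvd_index
  rw [hidx] at hd
  rcases (Nat.dvd_prime_pow (by norm_num : Nat.Prime 3)).1 (show _ ∣ 3 ^ 4 by simpa using hd) with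
    ⟨k, hk, hk'⟩
  have hm := card_sylow_modEq_one 5 N
  rw [hk'] at hm
  have hk0 : k = 0 ∨ k = 4 := by
    unfold Nat.ModEq at hm
    interval_cases k <;> simp at hm ⊢
  rcases hk0 with rfl | rfl
  · have : Subsingleton (Sylow 5 N) := (Nat.card_eq_one_iff_unique.1 hk').1
    exact ⟨P, P.characteristic_of_subsingleton, Or.inl hP⟩
  have hidn : (Subgroup.normalizer ((P : Subgroup N) : Set N)).index = 81 := by
    have e := P.card_eq_index_normalizer
    rw [hk'] at e
    exact e.symm.trans rfl
  have heq : Subgroup.normalizer ((P : Subgroup N) : Set N) = P := by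
    refine (Subgroup.eq_of_le_of_card_ge Subgroup.le_normalizer ?_).symm
    have a := (Subgroup.normalizer ((P : Subgroup N) : Set N)).card_mul_index
    rw [hidn, h] at a
    rw [hP]
    omega
  have hcomm := (IsPGroup.isMulCommutative_of_card_eq_prime_sq (p := 5) (G := P)
    (by rw [hP]; norm_num)).is_comm.comm
  have hle : Subgroup.normalizer ((P : Subgroup N) : Set N) ≤
      Subgroup.centralizer ((P : Subgroup N) : Set N) := by
    rw [heq]
    intro a ha b hb
    exact congrArg Subtype.val (hcomm ⟨b, hb⟩ ⟨a, ha⟩)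
  have hK := MonoidHom.ker_transferSylow_isComplement' P hle
  set K := (MonoidHom.transferSylow P hle).ker
  have hKc : Nat.card K = 81 := by
    have := hK.card_mul
    rw [hP, h] at this
    omega
  refine ⟨K, ?_, Or.inr hKc⟩
  have : Fact (Nat.Prime 3) := ⟨by norm_num⟩
  have hK3 : IsPGroup 3 K := IsPGroup.of_card (n := 4) (by rw [hKc]; rfl)
  have hKi : K.index = 25 := by
    have := K.card_mul_index
    rw [hKc, h] at this
    omega
  exact (hK3.toSylow (show ¬ 3 ∣ K.index by rw [hKi]; norm_num)).characteristic_of_normal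
    (MonoidHom.normal_ker (MonoidHom.transferSylow P hle))

end Cfsg.Agent.Leech
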