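import Mathlib
import Cfsg.Prelude.Def_Sporadic_a
import Cfsg.Prelude.Def_Sporadic
import Cfsg.Prelude.Def_Spor_Conway
import Cfsg.Agent.Leech.Lattice
import Cfsg.Agent.Leech.ModRep
import Cfsg.Agent.Leech.ModTwo
import Cfsg.Agent.Leech.TwoThree
import Cfsg.Agent.Leech.ThreeTwo
import Cfsg.Agent.Leech.Triples
import Cfsg.Agent.Leech.Hundred
import Cfsg.Agent.Leech.OrbitCert
import Cfsg.Agent.Leech.PairsEight
import Cfsg.Agent.Leech.Orbits2025
import Cfsg.Agent.Leech.StabM22
import Cfsg.Agent.Leech.Blocks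
import Cfsg.Agent.Leech.SmallGroups

/-! The pair stabilisers of types 48,48,-32 and 32,32,-8 are simple. -/

set_option autoImplicit false

namespace Cfsg.Agent.Leech
open Cfsg

theorem simple_orbit (G : Subgroup ↥Co0) (x : leechLattice) (n : ℕ) (hn2 : 2 ≤ n)
    (hn : (MulAction.orbit ↥G x).ncard = n) (hst : G ⊓ MulAction.stabilizer ↥Co0 x = stdStab)
    (hfix : ∀ g ∈ stdStab, (∀ y ∈ MulAction.orbit ↥G x, g • y = y) → g = 1)
    (hblock : ∀ B ⊆ MulAction.orbit ↥G x, x ∈ B → (∀ s ∈ stdStab, ∀ y ∈ B, s • y ∈ B) →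
      B.ncard ∣ n → B = {x} ∨ B = MulAction.orbit ↥G x)
    (hreg : ∀ N : Type, [Group N] → Nat.card N = n →
      ∃ P : Subgroup N, P.Characteristic ∧ Nat.card P ∣ n ∧ Nat.card P ≠ 1 ∧ Nat.card P ≠ n) :
    IsSimpleGroup ↥G ∧ Nat.card ↥G = n * 443520 := by
  classical
  have := finite_co0
  let X := ↥(MulAction.orbit ↥G x)
  have : Finite X := (finite_orbit G x).to_subtype
  have hX : Nat.card X = n := by rw [← hn, ← Nat.card_coe_set_eq]
  let x0 : X := ⟨x, MulAction.mem_orbit_self x⟩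
  have hle : stdStab ≤ G := hst ▸ inf_le_left
  have hmem : ∀ g : ↥G, g ∈ MulAction.stabilizer ↥G x0 ↔ (g : ↥Co0) ∈ stdStab := fun g => by
    rw [← hst, Subgroup.mem_inf]
    exact ⟨fun h => ⟨g.2, congrArg Subtype.val h⟩, fun h => Subtype.ext h.2⟩
  have hS : MulAction.stabilizer ↥G x0 = stdStab.subgroupOf G := Subgroup.ext fun g => by
    rw [hmem, Subgroup.mem_subgroupOf]
  let e : ↥(MulAction.stabilizer ↥G x0) ≃* ↥stdStab :=
    (MulEquiv.subgroupCongr hS).trans (Subgroup.subgroupOfEquivOfLe hle)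
  have hfaith : FaithfulSMul ↥G X := ⟨fun {g h} hgh => by
    have hk : ∀ y : X, (h⁻¹ * g) • y = y := fun y => by
      rw [mul_smul, inv_smul_eq_iff]; exact hgh y
    have := hfix _ ((hmem _).1 (hk x0)) fun y hy => congrArg Subtype.val (hk ⟨y, hy⟩)
    exact (inv_mul_eq_one.1 (Subtype.ext this)).symm⟩
  have hcard : Nat.card ↥G = n * 443520 := by
    rw [← (MulAction.stabilizer ↥G x0).index_mul_card, MulAction.index_stabilizer_of_transitive,
      hX, Nat.card_congr e.toEquiv, card_stdStab]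
  have : Nontrivial ↥G := Finite.one_lt_card_iff_nontrivial.1 (by omega)
  refine ⟨isSimple_of_blocks x0 ?_ ?_ ?_, hcard⟩
  · have := isSimple_stdStab
    exact MulEquiv.isSimpleGroup e
  · intro B hx hinv hd
    have hB : (Subtype.val '' B).ncard = B.ncard := Set.ncard_image_of_injective _ Subtype.val_injective
    rcases hblock (Subtype.val '' B) (fun y hy => by obtain ⟨z, -, rfl⟩ := hy; exact z.2)
      ⟨x0, hx, rfl⟩ (fun s hs y hy => by
        obtain ⟨z, hz, rfl⟩ := hy
        exact ⟨_, hinv ⟨s, hle hs⟩ ((hmem _).2 hs) z hz, rfl⟩)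
      (hB ▸ hX ▸ hd) with h | h
    · refine Or.inl (Set.image_injective.2 Subtype.val_injective ?_)
      rw [h, Set.image_singleton]
    · refine Or.inr (Set.eq_univ_of_forall fun z => ?_)
      obtain ⟨w, hw, e⟩ : (z : leechLattice) ∈ Subtype.val '' B := by rw [h]; exact z.2
      rwa [← Subtype.ext e]
  · intro N hN
    rw [hX]
    exact hreg ↥N (hN.trans hX)

/-- stabilisers of conjugate pairs are isomorphic -/
theorem stab_pair_iso (g : ↥Co0) (a b : leechLattice) :
    Nonempty (↥(MulAction.stabilizer ↥Co0 a ⊓ MulAction.stabilizer ↥Co0 b) ≃*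
      ↥(MulAction.stabilizer ↥Co0 (g • a) ⊓ MulAction.stabilizer ↥Co0 (g • b))) := by
  refine ⟨((MulAut.conj g).subgroupMap _).trans (MulEquiv.subgroupCongr ?_)⟩
  ext h
  simp only [Subgroup.mem_map, Subgroup.mem_inf, MulAction.mem_stabilizer_iff]
  constructor
  · rintro ⟨k, ⟨k1, k2⟩, rfl⟩
    show (g * k * g⁻¹) • g • a = g • a ∧ (g * k * g⁻¹) • g • b = g • b
    simp only [mul_smul, inv_smul_smul, k1, k2, and_self]
  · rintro ⟨h1, h2⟩
    exact ⟨g⁻¹ * h * g, ⟨by rw [mul_smul, mul_smul, h1, inv_smul_smul],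
      by rw [mul_smul, mul_smul, h2, inv_smul_smul]⟩,
      show g * (g⁻¹ * h * g) * g⁻¹ = h by group⟩

theorem inter_cases {B C : Set leechLattice} (hB : ∀ s ∈ stdStab, ∀ y ∈ B, s • y ∈ B)
    (hC : ∀ y ∈ C, ∀ z ∈ C, ∃ s ∈ stdStab, s • y = z) (fC : C.Finite) :
    (B ∩ C).ncard = 0 ∨ (B ∩ C).ncard = C.ncard ∧ C ⊆ B := by
  rcases class_inter (G := ↥Co0) B C (stdStab : Set ↥Co0) hB hC with h | h
  · exact Or.inl (by rw [h, Set.ncard_empty])
  · exact Or.inr ⟨by rw [Set.inter_eq_right.2 h], h⟩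

/-- the standard pair of type 48, 32 with scalar product `-16` -/
def hsGroup : Subgroup ↥Co0 := MulAction.stabilizer ↥Co0 hV ⊓ MulAction.stabilizer ↥Co0 hT

theorem orbit_hsGroup : MulAction.orbit ↥hsGroup Spor.leechU = hX := by
  obtain ⟨f1, f2, f3, f4, f5, f6⟩ := hV_facts
  ext y
  constructor
  · rintro ⟨⟨g, hg⟩, rfl⟩
    simp only [hsGroup, Subgroup.mem_inf, MulAction.mem_stabilizer_iff] at hg
    refine ⟨?_, ?_, ?_⟩
    · show sqNorm ((g • Spor.leechU : leechLattice) : GolayPt → ℤ) = 32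
      rw [sqNorm_smul]; exact f6
    · show dotInt (hT : GolayPt → ℤ) ((g • Spor.leechU : leechLattice) : GolayPt → ℤ) = 0
      rw [← hg.2, dotInt_smul]; exact f4
    · show dotInt (hV : GolayPt → ℤ) ((g • Spor.leechU : leechLattice) : GolayPt → ℤ) = 24
      rw [← hg.1, dotInt_smul]; exact f5
  · rintro ⟨a, b, c⟩
    obtain ⟨g, g1, g2, g3⟩ := trans_hundred hT Spor.leechU hV y f2 f6 a f1 f3 f4 b f5 c
    exact ⟨⟨g, g1, g2⟩, g3⟩

theorem simple_hs : IsSimpleGroup ↥hsGroup ∧ Nat.card ↥hsGroup = 44352000 := by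
  obtain ⟨f1, f2, f3, f4, f5, f6⟩ := hV_facts
  have hcard : hX.ncard = 100 := ncard_hundred hV hT ⟨f1, f2, f3⟩
  have hfin : hX.Finite := Set.finite_of_ncard_ne_zero (by omega)
  refine simple_orbit hsGroup Spor.leechU 100 (by norm_num) (by rw [orbit_hsGroup, hcard]) rfl
    (fun g hg h => eq_one_of_fixes_hX hg (orbit_hsGroup ▸ h)) ?_ ?_
  · rw [orbit_hsGroup]
    intro B hsub hx hinv hd
    have c22 : ∀ y ∈ hX22, ∀ z ∈ hX22, ∃ s ∈ stdStab, s • y = z := fun y hy z hz => by
      obtain ⟨g, a, b, c, d⟩ := trans22 hy hz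
      exact ⟨g, ⟨⟨a, b⟩, c⟩, d⟩
    have c77 : ∀ y ∈ hX77, ∀ z ∈ hX77, ∃ s ∈ stdStab, s • y = z := fun y hy z hz => by
      obtain ⟨g, a, b, c, d⟩ := trans77 hy hz
      exact ⟨g, ⟨⟨a, b⟩, c⟩, d⟩
    have s22 : hX22 ⊆ hX := fun z h => by rw [hX_eq]; exact Or.inr (Or.inl h)
    have s77 : hX77 ⊆ hX := fun z h => by rw [hX_eq]; exact Or.inr (Or.inr h)
    have hUU : dotInt Spor.vecU ((Spor.leechU : leechLattice) : GolayPt → ℤ) = 32 := by
      decide +kernel
    have hB : B = {Spor.leechU} ∪ (B ∩ hX22 ∪ B ∩ hX77) := by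
      ext z
      constructor
      · intro hz
        have := hsub hz
        rw [hX_eq] at this
        rcases this with h | h | h
        · exact Or.inl h
        · exact Or.inr (Or.inl ⟨hz, h⟩)
        · exact Or.inr (Or.inr ⟨hz, h⟩)
      · rintro (h | h | h)
        · rw [Set.mem_singleton_iff] at h; exact h ▸ hx
        · exact h.1
        · exact h.1
    have hn : B.ncard = 1 + ((B ∩ hX22).ncard + (B ∩ hX77).ncard) := by
      conv_lhs => rw [hB]
      rw [Set.ncard_union_eq ?_ (Set.finite_singleton _)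
          ((hfin.subset (Set.inter_subset_right.trans s22)).union
            (hfin.subset (Set.inter_subset_right.trans s77))),
        Set.ncard_union_eq ?_ (hfin.subset (Set.inter_subset_right.trans s22))
          (hfin.subset (Set.inter_subset_right.trans s77)), Set.ncard_singleton]
      · exact Set.disjoint_left.2 fun z a b => by
          have := (hX_facts z).1 a.2; have := (hX_facts z).2 b.2; omega
      · rw [Set.disjoint_singleton_left]
        rintro (h | h)
        · have := (hX_facts _).1 h.2; omega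
        · have := (hX_facts _).2 h.2; omega
    rcases inter_cases hinv c22 (hfin.subset s22) with a | ⟨a, a'⟩ <;>
      rcases inter_cases hinv c77 (hfin.subset s77) with b | ⟨b, b'⟩ <;>
      rw [hn, a, b] at hd <;> (try simp only [ncard_hX22, ncard_hX77] at hd)
    · left
      have hfB := hfin.subset hsub
      exact Set.eq_singleton_iff_unique_mem.2 ⟨hx, fun z hz =>
        (Set.ncard_le_one hfB).1 (by omega) z hz _ hx⟩
    · norm_num at hd
    · norm_num at hd
    · right
      refine Set.Subset.antisymm hsub ?_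
      rw [hX_eq]
      rintro z (h | h | h)
      · rw [Set.mem_singleton_iff] at h; exact h ▸ hx
      · exact a' h
      · exact b' h
  · intro N _ hN
    obtain ⟨P, hP, hc⟩ := char_order100 hN
    exact ⟨P, hP, by rw [hc]; norm_num, by rw [hc]; norm_num, by rw [hc]; norm_num⟩

/-- the standard pair with scalar product `-8` -/
def mclGroup : Subgroup ↥Co0 :=
  MulAction.stabilizer ↥Co0 Spor.leechU ⊓ MulAction.stabilizer ↥Co0 eW

theorem eW_eq : hV = eW + oct (some 0) ∧ eX = hT :=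
  ⟨Subtype.ext (by decide +kernel), rfl⟩

theorem stab1634_eq : stab1634 = stdStab := by
  obtain ⟨e1, e2⟩ := eW_eq
  obtain ⟨-, o2⟩ := oct_fixed_eqs
  have hW : eW = hV + -(Spor.leechU + -hT) := by rw [e1, o2]; abel
  ext g
  simp only [stab1634, stdStab, Subgroup.mem_inf, MulAction.mem_stabilizer_iff, e2]
  constructor
  · rintro ⟨⟨a, b⟩, c⟩
    refine ⟨⟨?_, c⟩, a⟩
    rw [e1, o2, smul_add', smul_add', smul_neg', a, b, c]
  · rintro ⟨⟨a, b⟩, c⟩
    refine ⟨⟨c, ?_⟩, b⟩
    rw [hW, smul_add', smul_neg', smul_add', smul_neg', a, b, c]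

theorem simple_mcl : IsSimpleGroup ↥mclGroup ∧ Nat.card ↥mclGroup = 898128000 := by
  obtain ⟨n0, n16, n8⟩ := orbit_sizes
  obtain ⟨f0, f16, f8⟩ := rep_facts
  have hv : sqNorm Spor.vecU = 32 := by decide +kernel
  have hw : sqNorm (eW : GolayPt → ℤ) = 32 := by decide +kernel
  have hvw : dotInt Spor.vecU (eW : GolayPt → ℤ) = -8 := by decide +kernel
  have hxm : sqNorm (eX : GolayPt → ℤ) = 32 ∧ dotInt Spor.vecU (eX : GolayPt → ℤ) = 0 ∧
      dotInt (eW : GolayPt → ℤ) (eX : GolayPt → ℤ) = 16 := by decide +kernel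
  set X : Set leechLattice := {x | x ∈ layer 32 ∧ dotInt Spor.vecU (x : GolayPt → ℤ) = 0 ∧
    dotInt (eW : GolayPt → ℤ) (x : GolayPt → ℤ) = 16} with hXdef
  have hcard : X.ncard = 2025 := ncard_2025 Spor.leechU eW ⟨hv, hw, hvw⟩
  have hfin : X.Finite := Set.finite_of_ncard_ne_zero (by omega)
  have horb : MulAction.orbit ↥mclGroup eX = X := by
    ext y
    constructor
    · rintro ⟨⟨g, hg⟩, rfl⟩
      simp only [mclGroup, Subgroup.mem_inf, MulAction.mem_stabilizer_iff] at hg
      refine ⟨?_, ?_, ?_⟩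
      · show sqNorm ((g • eX : leechLattice) : GolayPt → ℤ) = 32
        rw [sqNorm_smul]; exact hxm.1
      · show dotInt ((Spor.leechU : leechLattice) : GolayPt → ℤ) ((g • eX : leechLattice) : GolayPt → ℤ) = 0
        rw [← hg.1, dotInt_smul]; exact hxm.2.1
      · show dotInt (eW : GolayPt → ℤ) ((g • eX : leechLattice) : GolayPt → ℤ) = 16
        rw [← hg.2, dotInt_smul]; exact hxm.2.2
    · rintro ⟨a, b, c⟩
      obtain ⟨g, g1, g2, g3⟩ := trans_2025 Spor.leechU eW eX y hv hw hvw hxm ⟨a, b, c⟩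
      exact ⟨⟨g, g1, g2⟩, g3⟩
  have hst : mclGroup ⊓ MulAction.stabilizer ↥Co0 eX = stdStab := stab1634_eq
  set O0 := MulAction.orbit ↥stab1634 rep0
  set O16 := MulAction.orbit ↥stab1634 rep16
  set O8 := MulAction.orbit ↥stab1634 rep8
  have hsub : ∀ (r : leechLattice) (d : ℤ), sqNorm (r : GolayPt → ℤ) = 32 →
      dotInt Spor.vecU (r : GolayPt → ℤ) = 0 → dotInt (eW : GolayPt → ℤ) (r : GolayPt → ℤ) = 16 →
      dotInt (eX : GolayPt → ℤ) (r : GolayPt → ℤ) = d →
      ∀ z ∈ MulAction.orbit ↥stab1634 r, z ∈ X ∧ dotInt (eX : GolayPt → ℤ) (z : GolayPt → ℤ) = d := by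
    rintro r d h1 h2 h3 h4 z ⟨⟨g, hg⟩, rfl⟩
    simp only [stab1634, Subgroup.mem_inf, MulAction.mem_stabilizer_iff] at hg
    obtain ⟨⟨a, b⟩, c⟩ := hg
    refine ⟨⟨?_, ?_, ?_⟩, ?_⟩
    · show sqNorm ((g • r : leechLattice) : GolayPt → ℤ) = 32; rw [sqNorm_smul]; exact h1
    · show dotInt ((Spor.leechU : leechLattice) : GolayPt → ℤ) ((g • r : leechLattice) : GolayPt → ℤ) = 0
      rw [← a, dotInt_smul]; exact h2
    · show dotInt (eW : GolayPt → ℤ) ((g • r : leechLattice) : GolayPt → ℤ) = 16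
      rw [← b, dotInt_smul]; exact h3
    · show dotInt (eX : GolayPt → ℤ) ((g • r : leechLattice) : GolayPt → ℤ) = d
      rw [← c, dotInt_smul]; exact h4
  have s0 := hsub rep0 0 f0.1 f0.2.1 f0.2.2.1 f0.2.2.2
  have s16 := hsub rep16 16 f16.1 f16.2.1 f16.2.2.1 f16.2.2.2
  have s8 := hsub rep8 8 f8.1 f8.2.1 f8.2.2.1 f8.2.2.2
  have hU : dotInt (eX : GolayPt → ℤ) (eX : GolayPt → ℤ) = 32 := by decide +kernel
  have fo := fun y => finite_orbit stab1634 y
  have hun : ∀ B : Set leechLattice, eX ∈ B → B ⊆ X →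
      B.ncard = 1 + ((B ∩ O0).ncard + (B ∩ O16).ncard + (B ∩ O8).ncard) ∧
        ({eX} ∪ (O0 ∪ O16 ∪ O8) = X) := by
    intro B hx hB
    have dd : Disjoint O0 O16 ∧ Disjoint (O0 ∪ O16) O8 ∧ eX ∉ O0 ∪ O16 ∪ O8 := by
      refine ⟨Set.disjoint_left.2 fun z a b => ?_, Set.disjoint_left.2 fun z a b => ?_, ?_⟩
      · have := (s0 z a).2; have := (s16 z b).2; omega
      · rcases a with a | a
        · have := (s0 z a).2; have := (s8 z b).2; omega
        · have := (s16 z a).2; have := (s8 z b).2; omega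
      · rintro ((a | a) | a)
        · have := (s0 _ a).2; omega
        · have := (s16 _ a).2; omega
        · have := (s8 _ a).2; omega
    have hall : {eX} ∪ (O0 ∪ O16 ∪ O8) = X := by
      refine Set.eq_of_subset_of_ncard_le ?_ ?_ hfin
      · rintro z (h | (h | h) | h)
        · rw [Set.mem_singleton_iff] at h
          exact h ▸ ⟨hxm.1, hxm.2.1, hxm.2.2⟩
        · exact (s0 z h).1
        · exact (s16 z h).1
        · exact (s8 z h).1
      · rw [hcard, Set.ncard_union_eq (Set.disjoint_singleton_left.2 dd.2.2) (Set.finite_singleton _)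
          (((fo _).union (fo _)).union (fo _)), Set.ncard_union_eq dd.2.1 ((fo _).union (fo _)) (fo _),
          Set.ncard_union_eq dd.1 (fo _) (fo _), Set.ncard_singleton, n0, n16, n8]
    refine ⟨?_, hall⟩
    have hBeq : B = {eX} ∪ (B ∩ O0 ∪ B ∩ O16 ∪ B ∩ O8) := by
      rw [← Set.inter_union_distrib_left, ← Set.inter_union_distrib_left]
      ext z
      constructor
      · intro hz
        have := hB hz
        rw [← hall] at this
        exact this.imp id fun h => ⟨hz, h⟩
      · rintro (h | h)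
        · rw [Set.mem_singleton_iff] at h; exact h ▸ hx
        · exact h.1
    have fB : ∀ r, (B ∩ MulAction.orbit ↥stab1634 r).Finite := fun r =>
      (fo r).subset Set.inter_subset_right
    conv_lhs => rw [hBeq]
    rw [Set.ncard_union_eq (Set.disjoint_singleton_left.2 fun h => dd.2.2
          (h.elim (fun h => h.elim (fun h => Or.inl (Or.inl h.2)) (fun h => Or.inl (Or.inr h.2)))
            (fun h => Or.inr h.2))) (Set.finite_singleton _) (((fB _).union (fB _)).union (fB _)),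
      Set.ncard_union_eq (dd.2.1.mono (Set.union_subset_union Set.inter_subset_right
          Set.inter_subset_right) Set.inter_subset_right) ((fB _).union (fB _)) (fB _),
      Set.ncard_union_eq (dd.1.mono Set.inter_subset_right Set.inter_subset_right) (fB _) (fB _),
      Set.ncard_singleton]
  refine simple_orbit mclGroup eX 2025 (by norm_num) (by rw [horb, hcard]) hst ?_ ?_ ?_
  · intro g hg h
    rw [horb] at h
    let K : Subgroup ↥stdStab :=
      (⨅ y ∈ X, MulAction.stabilizer ↥Co0 y).subgroupOf stdStab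
    have hK : ∀ s : ↥stdStab, s ∈ K ↔ ∀ y ∈ X, (s : ↥Co0) • y = y := fun s => by
      simp only [K, Subgroup.mem_subgroupOf, Subgroup.mem_iInf, MulAction.mem_stabilizer_iff]
    have hXinv : ∀ s ∈ stdStab, ∀ y ∈ X, s • y ∈ X := fun s hs y hy => by
      rw [← horb] at hy ⊢
      obtain ⟨k, rfl⟩ := hy
      exact ⟨⟨s, (hst ▸ inf_le_left : stdStab ≤ mclGroup) hs⟩ * k, mul_smul (⟨s, (hst ▸ inf_le_left : stdStab ≤ mclGroup) hs⟩ : ↥mclGroup) k eX⟩
    have hKn : K.Normal := ⟨fun n hn s => (hK _).2 fun y hy => by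
      show ((s : ↥Co0) * n * (s : ↥Co0)⁻¹) • y = y
      rw [mul_smul, mul_smul, (hK n).1 hn _ (hXinv _ (inv_mem s.2) y hy), smul_inv_smul]⟩
    have hmem : (⟨g, hg⟩ : ↥stdStab) ∈ K := (hK _).2 h
    rcases isSimple_stdStab.eq_bot_or_eq_top_of_normal K hKn with h1 | h1
    · rw [h1, Subgroup.mem_bot] at hmem
      exact congrArg Subtype.val hmem
    · exfalso
      have hsub1 : O0 ⊆ {rep0} := by
        rintro z ⟨⟨k, hk⟩, rfl⟩
        rw [stab1634_eq] at hk
        exact (hK ⟨k, hk⟩).1 (h1 ▸ Subgroup.mem_top _) _ (s0 _ (MulAction.mem_orbit_self _)).1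
      have := Set.ncard_le_ncard hsub1 (Set.finite_singleton _)
      rw [n0, Set.ncard_singleton] at this
      omega
  · rw [horb]
    intro B hsub' hx hinv hd
    rw [← stab1634_eq] at hinv
    obtain ⟨hn, hall⟩ := hun B hx hsub'
    have hc : ∀ r : leechLattice, ∀ y ∈ MulAction.orbit ↥stab1634 r, ∀ z ∈ MulAction.orbit ↥stab1634 r,
        ∃ s ∈ stdStab, s • y = z := by
      rintro r y ⟨⟨a, ha⟩, rfl⟩ z ⟨⟨b, hb⟩, rfl⟩
      rw [← stab1634_eq]
      exact ⟨b * a⁻¹, mul_mem hb (inv_mem ha), by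
        show (b * a⁻¹) • a • r = b • r
        rw [mul_smul, inv_smul_smul]⟩
    rw [stab1634_eq] at hinv
    rcases inter_cases hinv (hc rep0) (fo _) with a | ⟨a, a'⟩ <;>
      rcases inter_cases hinv (hc rep16) (fo _) with b | ⟨b, b'⟩ <;>
      rcases inter_cases hinv (hc rep8) (fo _) with c | ⟨c, c'⟩ <;>
      rw [hn, a, b, c] at hd <;> (try simp only [O0, O16, O8, n0, n16, n8] at hd) <;>
      first
        | (exfalso; norm_num at hd; done)
        | (left
           rw [a, b, c] at hn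
           exact Set.eq_singleton_iff_unique_mem.2 ⟨hx, fun z hz =>
             (Set.ncard_le_one (hfin.subset hsub')).1 (le_of_eq hn) z hz _ hx⟩)
        | (right
           refine Set.Subset.antisymm hsub' ?_
           rw [← hall]
           exact Set.union_subset (Set.singleton_subset_iff.2 hx)
             (Set.union_subset (Set.union_subset a' b') c'))
  · intro N _ hN
    obtain ⟨P, hP, hc⟩ := char_order2025 hN
    rcases hc with hc | hc <;>
      exact ⟨P, hP, by rw [hc]; norm_num, by rw [hc]; norm_num, by rw [hc]; norm_num⟩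

end Cfsg.Agent.Leech
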