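import Mathlib
import Cfsg.Prelude.Def_Sporadic_a
import Cfsg.Prelude.Def_Sporadic
import Cfsg.Prelude.Def_Spor_Conway
import Cfsg.Prelude.Def_Spor_Mathieu
import Cfsg.Agent.Leech.Code
import Cfsg.Agent.Leech.AbstractCode
import Cfsg.Agent.Leech.Punctured
import Cfsg.Agent.Leech.Lattice
import Cfsg.Agent.Leech.ModRep
import Cfsg.Agent.Leech.Monomial
import Cfsg.Agent.Leech.Transitive
import Cfsg.Agent.Leech.CountAt
import Cfsg.Agent.Leech.DotCounts
import Cfsg.Agent.Leech.ModTwo
import Cfsg.Agent.Leech.Orbits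
import Cfsg.Agent.Leech.Pairs
import Cfsg.Agent.Leech.TwoThree
import Cfsg.Agent.Leech.Shape48
import Cfsg.Agent.Leech.PairsEight
import Cfsg.Agent.Leech.OrbitCert
import Cfsg.Agent.Leech.StabM22
import Cfsg.Agent.Leech.Blocks
import Cfsg.Agent.Leech.SimpleHSMcL
import Cfsg.Agent.Leech.SignGroup

/-! The stabiliser of a short vector is simple. -/

set_option autoImplicit false

namespace Cfsg.Agent.Leech
open Cfsg

/-- the stabiliser of the standard short vector -/
def stabU : Subgroup ↥Co0 := MulAction.stabilizer ↥Co0 Spor.leechU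

/-- its orbit of size 47104 -/
def part8 : Set leechLattice :=
  {w | w ∈ layer 32 ∧ dotInt Spor.vecU (w : GolayPt → ℤ) = -8}

theorem ncard_part8 : part8.ncard = 47104 := by
  rw [← ncard_pairSum32.2.1,
    ← ncard_layer_dot Spor.leechU (show sqNorm Spor.vecU = 32 by decide +kernel) 8 (-8) (-2)
      (by norm_num)]
  rfl

theorem eW_mem_part8 : eW ∈ part8 :=
  ⟨show sqNorm (eW : GolayPt → ℤ) = 32 by decide +kernel, by decide +kernel⟩

theorem orbit_stabU : MulAction.orbit ↥stabU eW = part8 := by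
  have hU : sqNorm Spor.vecU = 32 := by decide +kernel
  obtain ⟨h1, h2⟩ := eW_mem_part8
  ext y
  constructor
  · rintro ⟨⟨g, hg⟩, rfl⟩
    refine ⟨?_, ?_⟩
    · show sqNorm ((g • eW : leechLattice) : GolayPt → ℤ) = 32
      rw [sqNorm_smul]; exact h1
    · have e := dotInt_smul g Spor.leechU eW
      rw [show g • Spor.leechU = Spor.leechU from hg] at e
      exact e.trans h2
  · rintro ⟨a, b⟩
    obtain ⟨g, g1, g2⟩ := trans_pairs' Spor.leechU eW Spor.leechU y hU h1 hU a (-8) (Or.inr rfl) h2 b
    exact ⟨⟨g, g1⟩, g2⟩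

/-- partners with first entries one and minus three -/
theorem class13 {w : leechLattice} (hn : sqNorm (w : GolayPt → ℤ) = 32)
    (h0 : (w : GolayPt → ℤ) none = 1) (h1 : (w : GolayPt → ℤ) (some 0) = -3) :
    ∃ c, ∃ hc : IsDWord c, signCo0 c hc.1 • eW = w := by
  obtain ⟨c, hc, hc4⟩ := odd_normal w.2 (by rw [h0]; norm_num)
  have hodd : ∀ i, ¬ (2 : ℤ) ∣ (w : GolayPt → ℤ) i := fun i h => by
    have := (odd_all w.2 i).1 h
    rw [h0] at this
    norm_num at this
  have hcD : IsDWord c := by
    refine ⟨hc, ?_, ?_⟩ <;> refine (zmod2_cases _).resolve_right fun h => ?_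
    · have := hc4 none; simp only [negOn, h, h0, one_ne_zero, if_false] at this; omega
    · have := hc4 (some 0); simp only [negOn, h, h1, one_ne_zero, if_false] at this; omega
  have hbig := odd_few_big _ hodd
  rw [hn] at hbig
  have hrest : ∀ i, i ≠ some 0 → (w : GolayPt → ℤ) i ^ 2 = 1 := fun i hi => by
    by_contra hne
    have h2 : ({some 0, i} : Finset GolayPt) ⊆
        Finset.univ.filter fun i => (w : GolayPt → ℤ) i ^ 2 ≠ 1 := by
      intro j hj
      simp only [Finset.mem_insert, Finset.mem_singleton] at hj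
      refine Finset.mem_filter.2 ⟨Finset.mem_univ j, ?_⟩
      rcases hj with rfl | rfl
      · rw [h1]; norm_num
      · exact hne
    have := Finset.card_le_card h2
    rw [Finset.card_pair (Ne.symm hi)] at this
    omega
  refine ⟨c, hcD, Subtype.ext (funext fun i => ?_)⟩
  rw [signCo0_apply]
  show negOn c (fun i => if i = some 0 then (-3 : ℤ) else 1) i = _
  have h := hc4 i
  simp only [negOn] at h ⊢
  by_cases hi : i = some 0
  · subst hi
    simp [hcD.2.2, h1]
  · rcases sq_eq_one_iff.1 (hrest i hi) with e | e <;> simp only [hi, if_false] <;>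
      split_ifs at h ⊢ <;> omega

/-- partners with first entries minus one, minus one: one orbit of the monomial part -/
theorem class11 {w1 w2 : leechLattice} (hn1 : sqNorm (w1 : GolayPt → ℤ) = 32)
    (hn2 : sqNorm (w2 : GolayPt → ℤ) = 32)
    (ha : (w1 : GolayPt → ℤ) none = -1) (hb : (w1 : GolayPt → ℤ) (some 0) = -1)
    (ha' : (w2 : GolayPt → ℤ) none = -1) (hb' : (w2 : GolayPt → ℤ) (some 0) = -1) :
    ∃ c, ∃ hc : IsDWord c, ∃ σ, ∃ hσ : σ ∈ M24, permCo0 σ hσ ∈ stdStab ∧
      (signCo0 c hc.1 * permCo0 σ hσ) • w1 = w2 := by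
  obtain ⟨c1, hc1, r1, hr10, hr11, hc10, hc11, hx1⟩ := shape8 w1 hn1 ha hb
  obtain ⟨c2, hc2, r2, hr20, hr21, hc20, hc21, hx2⟩ := shape8 w2 hn2 ha' hb'
  obtain ⟨σ, hσ, hmap⟩ := exists_move [none, some 0, r1] [none, some 0, r2]
    (by simp [Ne.symm hr10, Ne.symm hr11]) (by simp [Ne.symm hr20, Ne.symm hr21]) rfl (by simp)
  simp only [List.map_cons, List.map_nil, List.cons.injEq, and_true] at hmap
  obtain ⟨hσ0, hσ1, hσr⟩ := hmap
  have hc : IsDWord (c2 + fun p => c1 (σ⁻¹ p)) := by
    refine ⟨add_mem hc2 (comp_mem_of_M24 (inv_mem hσ) hc1), ?_, ?_⟩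
    · simp only [Pi.add_apply, Equiv.Perm.inv_eq_iff_eq.2 hσ0.symm, hc10, hc20]; rfl
    · simp only [Pi.add_apply, Equiv.Perm.inv_eq_iff_eq.2 hσ1.symm, hc11, hc21]; rfl
  obtain ⟨a, b, c⟩ := perm_fix hσ hσ0 hσ1
  refine ⟨_, hc, σ, hσ, ⟨⟨a, b⟩, c⟩, ?_⟩
  rw [← signCo0_mul c2 (fun p => c1 (σ⁻¹ p)) hc2 (comp_mem_of_M24 (inv_mem hσ) hc1),
    ← conj_perm_sign σ hσ c1 hc1,
    show signCo0 c2 hc2 * (permCo0 σ hσ * signCo0 c1 hc1 * (permCo0 σ hσ)⁻¹) * permCo0 σ hσ =
      signCo0 c2 hc2 * permCo0 σ hσ * signCo0 c1 hc1 by group]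
  refine Subtype.ext (funext fun i => ?_)
  rw [mul_smul, mul_smul, signCo0_apply]
  simp only [negOn, permCo0_apply, signCo0_apply]
  obtain ⟨j, rfl⟩ : ∃ j, σ j = i := ⟨σ⁻¹ i, by simp⟩
  rw [show σ⁻¹ (σ j) = j by simp]
  have e : negOn c1 (w1 : GolayPt → ℤ) j = negOn c2 (w2 : GolayPt → ℤ) (σ j) := by
    rw [hx1, hx2]
    refine if_congr ?_ rfl rfl
    rw [← hσr]; simp
  simp only [negOn] at e
  split_ifs at e ⊢ <;> omega

/-- an octad vector with scalar product sixteen with both -/
def bridgeX : leechLattice :=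
  ⟨ofL [0, 0, 2, 0, 0, 0, 0, 0, 0, 0, 0, 0, 0, 2, 2, 2, 2, 2, 0, 0, 2, 0, 0, 2],
    mem_of_parity _ 0 (by decide +kernel) (by decide +kernel) (by decide +kernel)⟩

/-- a partner in the second class -/
def bridgeW : leechLattice :=
  ⟨ofL [-1, -1, 1, -1, 1, 1, -1, 1, 1, 1, 1, 1, 1, 1, 1, 1, 3, -1, 1, -1, 1, 1, -1, 1],
    mem_of_parity _ 1 (by decide +kernel) (by decide +kernel) (by decide +kernel)⟩

theorem bridge_facts : sqNorm (bridgeX : GolayPt → ℤ) = 32 ∧
    dotInt Spor.vecU (bridgeX : GolayPt → ℤ) = 0 ∧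
    dotInt (eW : GolayPt → ℤ) (bridgeX : GolayPt → ℤ) = 16 ∧
    sqNorm (bridgeW : GolayPt → ℤ) = 32 ∧ dotInt Spor.vecU (bridgeW : GolayPt → ℤ) = -8 ∧
    dotInt (bridgeW : GolayPt → ℤ) (bridgeX : GolayPt → ℤ) = 16 ∧
    (bridgeW : GolayPt → ℤ) none = -1 ∧ (bridgeW : GolayPt → ℤ) (some 0) = -1 := by decide +kernel

theorem ncard_classes : (fixedSet 8 [none, some 0] [-1, -1]).ncard = 22528 := by
  rw [(ncard_fixedSet 8 1 (by norm_num) (by norm_num) rfl [none, some 0] (by simp) [-1, -1] rfl
    hist2 hist2_eq).1]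
  decide +kernel

theorem ncard_class (a b : ℤ) :
    {w : leechLattice | w ∈ layer 32 ∧ (w : GolayPt → ℤ) none = a ∧
      (w : GolayPt → ℤ) (some 0) = b}.ncard = (fixedSet 8 [none, some 0] [a, b]).ncard :=
  Set.ncard_congr (fun w _ => (w : GolayPt → ℤ))
    (fun w hw => ⟨w.2, hw.1, by simp [hw.2.1, hw.2.2]⟩) (fun _ _ _ _ h => Subtype.ext h)
    (fun x hx => by
      obtain ⟨h1, h2, h3⟩ := hx
      simp only [List.map_cons, List.map_nil, List.cons.injEq, and_true] at h3
      exact ⟨⟨x, h1⟩, ⟨h2, h3.1, h3.2⟩, rfl⟩)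

/-- a normal subgroup containing the two-vector stabiliser is transitive -/
theorem orbit_full (K : Subgroup ↥Co0) (hK : K ≤ stabU)
    (hKn : ∀ g ∈ stabU, ∀ x ∈ K, g * x * g⁻¹ ∈ K) (hS : mclGroup ≤ K)
    (hdvd : (MulAction.orbit ↥K eW).ncard ∣ 47104) : MulAction.orbit ↥K eW = part8 := by
  have hstd : stdStab ≤ K := le_trans (stab1634_eq ▸ inf_le_left) hS
  have hD : ∀ {c : GolayPt → ZMod 2} (hc : IsDWord c), signCo0 c hc.1 ∈ K := fun hc =>
    signs_le K hstd (fun c hc x hx => hKn _ (sign_fix_U hc) x hx) hc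
  have hB : MulAction.orbit ↥K eW ⊆ part8 := by
    rintro w ⟨⟨g, hg⟩, rfl⟩
    exact orbit_stabU ▸ ⟨⟨g, hK hg⟩, rfl⟩
  have hfin : part8.Finite := Set.finite_of_ncard_ne_zero (by rw [ncard_part8]; norm_num)
  have hmul : ∀ k ∈ K, ∀ w ∈ MulAction.orbit ↥K eW, k • w ∈ MulAction.orbit ↥K eW := by
    rintro k hk w ⟨⟨g, hg⟩, rfl⟩
    exact ⟨⟨k * g, mul_mem hk hg⟩, mul_smul k g eW⟩
  have h13 : {w : leechLattice | w ∈ layer 32 ∧ (w : GolayPt → ℤ) none = 1 ∧
      (w : GolayPt → ℤ) (some 0) = -3} ⊆ MulAction.orbit ↥K eW := fun w hw => by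
    obtain ⟨c, hc, e⟩ := class13 hw.1 hw.2.1 hw.2.2
    exact e ▸ hmul _ (hD hc) _ (MulAction.mem_orbit_self eW)
  obtain ⟨x1, x2, x3, w1, w2, w3, wa, wb⟩ := bridge_facts
  have hbridge : bridgeW ∈ MulAction.orbit ↥K eW := by
    obtain ⟨g, g1, g2, g3⟩ := normal_2025 Spor.leechU eW bridgeX
      (show sqNorm Spor.vecU = 32 by decide +kernel) eW_mem_part8.1 x1 eW_mem_part8.2 x2 x3
    have hg : g ∈ K := hS ⟨g1, g2⟩
    have e1 := dotInt_smul g Spor.leechU bridgeW
    rw [g1] at e1
    have e2 := dotInt_smul g bridgeW bridgeX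
    rw [g3, eX_coe, show Spor.vecU' = Pi.single none 4 + Pi.single (some 0) (-4) by decide +kernel,
      dotInt_add_right, dot_single, dot_single, w3] at e2
    have e1' : 4 * (((g • bridgeW : leechLattice) : GolayPt → ℤ) none +
        ((g • bridgeW : leechLattice) : GolayPt → ℤ) (some 0)) = -8 :=
      (dot_vecU _).symm.trans (e1.trans w2)
    have hmem : g • bridgeW ∈ MulAction.orbit ↥K eW := h13 ⟨show sqNorm
      ((g • bridgeW : leechLattice) : GolayPt → ℤ) = 32 by rw [sqNorm_smul]; exact w1,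
      by omega, by omega⟩
    have := hmul g⁻¹ (inv_mem hg) _ hmem
    rwa [inv_smul_smul] at this
  have h11 : {w : leechLattice | w ∈ layer 32 ∧ (w : GolayPt → ℤ) none = -1 ∧
      (w : GolayPt → ℤ) (some 0) = -1} ⊆ MulAction.orbit ↥K eW := fun w hw => by
    obtain ⟨c, hc, σ, hσ, hs, e⟩ := class11 w1 hw.1 wa wb hw.2.1 hw.2.2
    exact e ▸ hmul _ (mul_mem (hD hc) (hstd hs)) _ hbridge
  refine Set.eq_of_subset_of_ncard_le hB ?_ hfin
  obtain ⟨σ, hσ, hmap⟩ := exists_move [none, some 0] [some 0, none] (by simp) (by simp) rfl (by simp)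
  simp only [List.map_cons, List.map_nil, List.cons.injEq, and_true] at hmap
  obtain ⟨hσ0, hσ1⟩ := hmap
  have hinv : ∀ i, (σ⁻¹ i = none ↔ i = some 0) ∧ (σ⁻¹ i = some 0 ↔ i = none) := fun i => by
    simp only [Equiv.Perm.inv_eq_iff_eq, hσ0, hσ1, and_self]
  have hσU : permCo0 σ hσ ∈ stabU := Subtype.ext (funext fun i => by
    rw [permCo0_apply]
    show Spor.vecU (σ⁻¹ i) = Spor.vecU i
    simp only [Spor.vecU, hinv i]
    split_ifs <;> simp_all)
  have hsw : ∀ w : leechLattice, ((permCo0 σ hσ • w : leechLattice) : GolayPt → ℤ) none =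
      (w : GolayPt → ℤ) (some 0) ∧ ((permCo0 σ hσ • w : leechLattice) : GolayPt → ℤ) (some 0) =
      (w : GolayPt → ℤ) none := fun w => by
    rw [permCo0_apply, permCo0_apply, (hinv none).2.2 rfl, (hinv (some 0)).1.2 rfl]
    exact ⟨rfl, rfl⟩
  have h31 : permCo0 σ hσ • eW ∈ MulAction.orbit ↥K eW := by
    have hmem : permCo0 σ hσ • bridgeW ∈ MulAction.orbit ↥K eW := h11 ⟨show sqNorm
      ((permCo0 σ hσ • bridgeW : leechLattice) : GolayPt → ℤ) = 32 by rw [sqNorm_smul]; exact w1,
      (hsw _).1.trans wb, (hsw _).2.trans wa⟩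
    obtain ⟨⟨k, hk⟩, e⟩ := hbridge
    have := hmul _ (inv_mem (hKn _ hσU k hk)) _ hmem
    have e' : k • eW = bridgeW := e
    have e'' : (permCo0 σ hσ * k * (permCo0 σ hσ)⁻¹)⁻¹ * (permCo0 σ hσ * k) = permCo0 σ hσ := by
      group
    rwa [← e', ← mul_smul, ← mul_smul, mul_assoc, e''] at this
  have hle := Set.ncard_le_ncard (Set.insert_subset h31 (Set.union_subset h13 h11))
    (hfin.subset hB)
  have hnot : permCo0 σ hσ • eW ∉ {w : leechLattice | w ∈ layer 32 ∧ (w : GolayPt → ℤ) none = 1 ∧
      (w : GolayPt → ℤ) (some 0) = -3} ∪ {w : leechLattice | w ∈ layer 32 ∧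
      (w : GolayPt → ℤ) none = -1 ∧ (w : GolayPt → ℤ) (some 0) = -1} := by
    have e : ((permCo0 σ hσ • eW : leechLattice) : GolayPt → ℤ) none = -3 := (hsw _).1.trans rfl
    rintro (⟨-, h, -⟩ | ⟨-, h, -⟩) <;> rw [e] at h <;> norm_num at h
  rw [Set.ncard_insert_of_notMem hnot (((hfin.subset hB).subset h13).union
      ((hfin.subset hB).subset h11)),
    Set.ncard_union_eq ?_ ((hfin.subset hB).subset h13) ((hfin.subset hB).subset h11),
    ncard_class, ncard_class, ncard_1024', ncard_classes] at hle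
  · rw [ncard_part8]
    obtain ⟨k, hk⟩ := hdvd
    have hk2 : k < 3 := by
      by_contra hc
      have := Nat.mul_le_mul hle (by omega : 3 ≤ k)
      omega
    have hk0 : k ≠ 0 := by rintro rfl; omega
    rcases (show k = 1 ∨ k = 2 by omega) with rfl | rfl <;> linarith
  · exact Set.disjoint_left.2 fun w a b => by have := a.2.1; have := b.2.1; omega

/-- elements commuting with every sign change are sign changes -/
theorem eq_sign_of_commute (g : ↥Co0) (hg : g ∈ stabU)
    (hc : ∀ {c : GolayPt → ZMod 2} (hc : IsDWord c),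
      g * signCo0 c hc.1 = signCo0 c hc.1 * g) :
    ∃ d, ∃ hd : IsDWord d, g = signCo0 d hd.1 := by
  classical
  have hgU : g • Spor.leechU = Spor.leechU := hg
  set x : GolayPt → GolayPt → ℤ := fun j => ((g • oct j : leechLattice) : GolayPt → ℤ) with hxdef
  have hn : ∀ j, sqNorm (x j) = 64 := fun j => by
    rw [hxdef, sqNorm_smul]
    show ∑ i, (Pi.single j 8 : GolayPt → ℤ) i ^ 2 = 64
    rw [Finset.sum_eq_single j (fun b _ hb => by simp [hb]) (by simp), Pi.single_eq_same]
    rfl
  have hsneg : ∀ {c : GolayPt → ZMod 2} (hcD : IsDWord c) (j : GolayPt), c j = 1 →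
      negOn c (x j) = -x j := by
    intro c hcD j hj
    have h1 : signCo0 c hcD.1 • oct j = -oct j := Subtype.ext (funext fun q => by
      rw [signCo0_apply]
      by_cases h : q = j
      · subst h; simp [negOn, oct, hj]
      · simp [negOn, oct, h])
    have h2 := congrArg (fun k : ↥Co0 => k • oct j) (hc hcD)
    simp only [mul_smul, h1, smul_neg'] at h2
    exact ((congrArg Subtype.val h2).trans (signCo0_apply _ _ _)).symm
  have hspos : ∀ {c : GolayPt → ZMod 2} (hcD : IsDWord c) (j : GolayPt), c j = 0 →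
      negOn c (x j) = x j := by
    intro c hcD j hj
    have h1 : signCo0 c hcD.1 • oct j = oct j := Subtype.ext (funext fun q => by
      rw [signCo0_apply]
      by_cases h : q = j
      · subst h; simp [negOn, oct, hj]
      · simp [negOn, oct, h])
    have h2 := congrArg (fun k : ↥Co0 => k • oct j) (hc hcD)
    simp only [mul_smul, h1] at h2
    exact ((congrArg Subtype.val h2).trans (signCo0_apply _ _ _)).symm
  have hsupp : ∀ j i, i ≠ j → i ≠ none → i ≠ some 0 → x j i = 0 := by
    intro j i hij hi hi0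
    obtain ⟨c, hcD, hci, hcj⟩ := exists_separating hi hi0 hij
    have := congrFun (hspos hcD j hcj) i
    simp only [negOn, hci, one_ne_zero, if_false] at this
    omega
  have hsupp' : ∀ j, j ≠ none → j ≠ some 0 → ∀ i, i ≠ j → x j i = 0 := by
    intro j hj hj0 i hij
    by_cases hi : i = none ∨ i = some 0
    · obtain ⟨c, hcD, hcj, -⟩ := exists_separating hj hj0 (show j ≠ none from hj)
      have := congrFun (hsneg hcD j hcj) i
      have hci : c i = 0 := by rcases hi with rfl | rfl; exacts [hcD.2.1, hcD.2.2]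
      simp only [negOn, hci, if_true, Pi.neg_apply] at this
      omega
    · push Not at hi
      exact hsupp j i hij hi.1 hi.2
  have h8 : ∀ j, j ≠ none → j ≠ some 0 → x j j = 8 ∨ x j j = -8 := fun j hj hj0 => by
    have h := hn j
    rw [sqNorm, Finset.sum_eq_single j (fun b _ hb => by simp [hsupp' j hj hj0 b hb]) (by simp)] at h
    have : (x j j - 8) * (x j j + 8) = 0 := by linear_combination h
    rcases mul_eq_zero.1 this with e | e <;> omega
  have hpair : ∀ j, j = none ∨ j = some 0 →
      x j none ^ 2 + x j (some 0) ^ 2 = 64 ∧ x j none + x j (some 0) = 8 := by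
    intro j hj
    refine ⟨?_, ?_⟩
    · have h := hn j
      rw [sqNorm, Finset.sum_eq_add none (some 0) (by simp) (fun b _ hb => by
        rw [hsupp j b (by rcases hj with rfl | rfl; exacts [hb.1, hb.2]) hb.1 hb.2]; rfl)
        (by simp) (by simp)] at h
      exact h
    · have e := dotInt_smul g Spor.leechU (oct j)
      rw [hgU] at e
      have e' : dotInt Spor.vecU (x j) = dotInt Spor.vecU (Pi.single j 8) := e
      rw [dot_vecU, dot_single] at e'
      rcases hj with rfl | rfl <;> simp [Spor.vecU] at e' <;> omega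
  have hpt : ∀ j, j = none ∨ j = some 0 → x j = Pi.single none 8 ∨ x j = Pi.single (some 0) 8 := by
    intro j hj
    obtain ⟨e1, e2⟩ := hpair j hj
    have : x j none * x j (some 0) = 0 := by
      have : (x j none + x j (some 0)) ^ 2 = 64 := by rw [e2]; rfl
      linarith [show (x j none + x j (some 0)) ^ 2 =
        x j none ^ 2 + x j (some 0) ^ 2 + 2 * (x j none * x j (some 0)) by ring]
    have hout : ∀ i, i ≠ none → i ≠ some 0 → x j i = 0 := fun i hi hi0 =>
      hsupp j i (by rcases hj with rfl | rfl <;> assumption) hi hi0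
    rcases mul_eq_zero.1 this with h | h
    · right; funext i
      by_cases a : i = none
      · subst a; simp [h]
      by_cases b : i = some 0
      · subst b; simp; omega
      simp [b, hout i a b]
    · left; funext i
      by_cases a : i = none
      · subst a; simp; omega
      by_cases b : i = some 0
      · subst b; simp [h]
      simp [a, hout i a b]
  let τ : GolayPt → GolayPt := fun j =>
    if j = none ∨ j = some 0 then (if x j none = 8 then none else some 0) else j
  let s : GolayPt → ℤ := fun j => x j (τ j) / 8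
  have hτ : ∀ j, x j = Pi.single (τ j) (8 * s j) ∧ (s j = 1 ∨ s j = -1) := by
    intro j
    by_cases hj : j = none ∨ j = some 0
    · rcases hpt j hj with h | h <;>
        simp [τ, s, hj, h]
    · have hj' := not_or.1 hj
      have h := h8 j hj'.1 hj'.2
      have e : x j = Pi.single j (x j j) := funext fun i => by
        by_cases a : i = j
        · subst a; simp
        · simp [a, hsupp' j hj'.1 hj'.2 i a]
      simp only [τ, s, hj, if_false]
      rcases h with h | h <;> rw [h] at e ⊢ <;> exact ⟨e, by norm_num⟩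
  have hinj : Function.Injective τ := by
    intro a b hab
    by_contra hne
    have h1 := dotInt_smul g (oct a) (oct b)
    have h0 : dotInt (oct a : GolayPt → ℤ) (oct b : GolayPt → ℤ) = 0 := by
      show dotInt (Pi.single a 8) (Pi.single b 8) = 0
      rw [dot_single, Pi.single_eq_of_ne (Ne.symm hne)]; rfl
    rw [h0] at h1
    have h2 : dotInt (x a) (x b) = 0 := h1
    rw [(hτ a).1, (hτ b).1, hab, dot_single, Pi.single_eq_same] at h2
    rcases (hτ a).2 with e | e <;> rcases (hτ b).2 with f | f <;> rw [e, f] at h2 <;> omega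
  obtain ⟨hσ, c, hcc, hc0, hgc⟩ := exists_monomial g
    (Equiv.ofBijective τ (Finite.injective_iff_bijective.1 hinj)) s (fun j => (hτ j).2)
    (fun j => (hτ j).1)
  set σ := Equiv.ofBijective τ (Finite.injective_iff_bijective.1 hinj) with hσdef
  have hfix : ∀ j, j ≠ none → j ≠ some 0 → σ j = j := fun j a b => by
    show τ j = j; simp [τ, a, b]
  have hσ1 : σ = 1 := by
    have hcases : σ none = none ∨ σ none = some 0 := by
      show τ none = none ∨ τ none = some 0
      simp only [τ, true_or, if_true]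
      split_ifs
      · exact Or.inl rfl
      · exact Or.inr rfl
    rcases hcases with h | h
    · refine Equiv.ext fun j => ?_
      by_cases a : j = none
      · subst a; exact h
      by_cases b : j = some 0
      · subst b
        by_contra hne
        by_cases c0 : σ (some 0) = none
        · exact absurd (σ.injective (c0.trans h.symm)) (by simp)
        · exact hne (σ.injective (hfix (σ (some 0)) c0 hne))
      exact hfix j a b
    · exfalso
      have hsw : σ = Equiv.swap none (some 0) := Equiv.ext fun j => by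
        by_cases a : j = none
        · subst a; simp [h]
        by_cases b : j = some 0
        · subst b
          rw [Equiv.swap_apply_right]
          by_contra hne
          by_cases c0 : σ (some 0) = some 0
          · exact absurd (σ.injective (c0.trans h.symm)) (by simp)
          · exact c0 (σ.injective (hfix (σ (some 0)) hne c0))
        rw [Equiv.swap_apply_of_ne_of_ne a b]; exact hfix j a b
      have := comp_mem_of_M24 (hsw ▸ hσ) (row_mem 0)
      rw [mem_iff] at this
      revert this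
      decide +kernel
  have hpermOne : permCo0 σ hσ = 1 := ext_of_oct fun i => Subtype.ext (funext fun q => by
    rw [permCo0_apply, one_smul, hσ1]; simp)
  rw [hpermOne, mul_one] at hgc
  have hU := hgU
  rw [hgc] at hU
  have hU' : negOn c Spor.vecU = Spor.vecU := (signCo0_apply _ _ _).symm.trans (congrArg Subtype.val hU)
  refine ⟨c, ⟨hcc, ?_, ?_⟩, hgc⟩ <;> refine (zmod2_cases _).resolve_right fun h => ?_
  · have := congrFun hU' none; simp [negOn, h, Spor.vecU] at this
  · have := congrFun hU' (some 0); simp [negOn, h, Spor.vecU] at this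

/-- a normal two-subgroup without fixed partners is trivial -/
theorem no_two_group (N : Subgroup ↥stabU) [N.Normal] (h2 : IsPGroup 2 N)
    (hfree : ∀ n ∈ N, ∀ w ∈ part8, (n : ↥Co0) • w = w → n = 1) : N = ⊥ := by
  classical
  have := finite_co0
  by_contra hne
  let DG : Subgroup ↥stabU :=
    { carrier := {g | ∃ c, ∃ hc : IsDWord c, (g : ↥Co0) = signCo0 c hc.1}
      one_mem' := ⟨0, ⟨zero_mem _, rfl, rfl⟩, signCo0_zero.symm⟩
      mul_mem' := by
        rintro a b ⟨c, hc, ha⟩ ⟨d, hd, hb⟩
        refine ⟨c + d, ⟨add_mem hc.1 hd.1, ?_, ?_⟩, ?_⟩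
        · simp [hc.2.1, hd.2.1]
        · simp [hc.2.2, hd.2.2]
        · rw [Subgroup.coe_mul, ha, hb, signCo0_mul]
      inv_mem' := by
        rintro a ⟨c, hc, ha⟩
        exact ⟨c, hc, by rw [Subgroup.coe_inv, ha, signCo0_inv]⟩ }
  have hD2 : IsPGroup 2 DG := fun g => ⟨1, by
    obtain ⟨c, hc, e⟩ := g.2
    refine Subtype.ext (Subtype.ext ?_)
    show ((g : ↥stabU) : ↥Co0) ^ (2 ^ 1) = 1
    rw [pow_one, sq, e, signCo0_mul, signCo0_congr (CharTwo.add_self_eq_zero c) _ (zero_mem _),
      signCo0_zero]⟩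
  let φ : DG →* MulAut N := MulAut.conjNormal.comp DG.subtype
  letI : MulAction DG N := MulAction.compHom N φ
  have hfp := hD2.card_modEq_card_fixedPoints N
  have : Fact (Nat.Prime 2) := ⟨Nat.prime_two⟩
  obtain ⟨k, hk⟩ := h2.exists_card_eq
  have hk0 : k ≠ 0 := fun e => hne (Subgroup.card_eq_one.1 (by rw [hk, e]; rfl))
  obtain ⟨n, hn, hn1⟩ : ∃ n ∈ MulAction.fixedPoints DG N, n ≠ 1 := by
    by_contra hall
    push Not at hall
    have : MulAction.fixedPoints DG N = {1} := Set.eq_singleton_iff_unique_mem.2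
      ⟨fun d => map_one (φ d), hall⟩
    rw [this, hk, Nat.card_coe_set_eq, Set.ncard_singleton] at hfp
    have h2d : (2 ^ k) % 2 = 0 := Nat.dvd_iff_mod_eq_zero.1 (dvd_pow_self 2 hk0)
    unfold Nat.ModEq at hfp
    omega
  obtain ⟨d, hd, hnd⟩ := eq_sign_of_commute ((n : ↥stabU) : ↥Co0) (n : ↥stabU).2 (by
    intro c hc
    have hcD : (⟨signCo0 c hc.1, sign_fix_U hc⟩ : ↥stabU) ∈ DG := ⟨c, hc, rfl⟩
    have := congrArg (fun m : N => (((m : ↥stabU)) : ↥Co0)) (hn ⟨_, hcD⟩)
    have e : signCo0 c hc.1 * ((n : ↥stabU) : ↥Co0) * (signCo0 c hc.1)⁻¹ =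
        ((n : ↥stabU) : ↥Co0) := this
    rw [mul_inv_eq_iff_eq_mul] at e
    exact e.symm)
  have hd0 : d ≠ 0 := fun e => hn1 (Subtype.ext (Subtype.ext (by
    rw [hnd, signCo0_congr e _ (zero_mem _), signCo0_zero]; rfl)))
  set K := N.map stabU.subtype
  have hKn : ∀ g ∈ stabU, ∀ x ∈ K, g * x * g⁻¹ ∈ K := by
    rintro g hg x ⟨m, hm, rfl⟩
    exact ⟨⟨g, hg⟩ * m * ⟨g, hg⟩⁻¹, Subgroup.Normal.conj_mem inferInstance m hm _, rfl⟩
  obtain ⟨o, ho, h8, hoK⟩ := exists_octad_sign K
    (fun g hg x hx => hKn g (show g • Spor.leechU = _ from hg.2) x hx) hd hd0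
    ⟨_, n.2, hnd⟩
  obtain ⟨m, hm, hmo⟩ := hoK
  obtain ⟨w, a, b, hw⟩ := octad_sign_fixes ho h8
  have hm1 := hfree m hm w ⟨a, b⟩ (by rw [show ((m : ↥stabU) : ↥Co0) = _ from hmo]; exact hw)
  subst hm1
  have ho0 : o ≠ 0 := fun e => by rw [e] at h8; simp at h8
  obtain ⟨i, hi⟩ := Function.ne_iff.1 ho0
  have := congrFun (congrArg Subtype.val (congrArg (fun k : ↥Co0 => k • oct i)
    (hmo : ((1 : ↥stabU) : ↥Co0) = _))) i
  simp only [Subgroup.coe_one, one_smul, signCo0_apply] at this
  rcases zmod2_cases (o i) with e | e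
  · exact hi e
  · simp [negOn, e, oct] at this

theorem oct_norm : ∀ j, sqNorm ((oct j : leechLattice) : GolayPt → ℤ) = 64 := by decide +kernel

theorem bad_vector : ¬ (16 : ℤ) ∣ sqNorm ((fun i : GolayPt => if i = none then (1 : ℤ) else
    if i = some 0 then -3 else -1) - (eW : GolayPt → ℤ)) := by decide +kernel

theorem one_ne_zero' : (some 1 : GolayPt) ≠ some 0 := by decide

theorem sol64 {t c : ℤ} (h : (8 - t) ^ 2 + t ^ 2 + 22 * c ^ 2 = 64) :
    c = 0 ∧ (t = 0 ∨ t = 8) := by
  have hb : -1 ≤ t ∧ t ≤ 9 := by constructor <;> nlinarith [sq_nonneg c]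
  have hc2 : -1 ≤ c ∧ c ≤ 1 := by
    constructor <;> nlinarith [sq_nonneg t, sq_nonneg (8 - t)]
  obtain ⟨hb1, hb2⟩ := hb
  obtain ⟨hc1, hc2⟩ := hc2
  interval_cases t <;> interval_cases c <;> norm_num at *

/-- no normal subgroup of prime order 23 without fixed partners -/
theorem no_order_23 (N : Subgroup ↥stabU) [N.Normal] (h23 : Nat.card N = 23)
    (hfree : ∀ n ∈ N, ∀ w ∈ part8, (n : ↥Co0) • w = w → n = 1) : False := by
  classical
  have := finite_co0
  have hle : stdStab ≤ stabU := fun g hg => hg.2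
  have : Fact (Nat.Prime 23) := ⟨by norm_num⟩
  have : IsCyclic N := isCyclic_of_prime_card h23
  let f : ↥stdStab →* MulAut N :=
    (MulAut.conjNormal (H := N)).comp (Subgroup.inclusion hle)
  have htriv : ∀ s, f s = 1 := by
    rcases isSimple_stdStab.eq_bot_or_eq_top_of_normal f.ker inferInstance with h | h
    · exfalso
      have hinj := (MonoidHom.ker_eq_bot_iff f).1 h
      have hcomm : ∀ a b : ↥stdStab, a * b = b * a := fun a b => hinj (by
        rw [map_mul, map_mul]
        refine (IsCyclic.mulAutMulEquiv (G := N)).injective ?_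
        rw [map_mul, map_mul, mul_comm])
      letI : CommGroup ↥stdStab :=
        { (inferInstance : Group ↥stdStab) with mul_comm := hcomm }
      have : IsSimpleGroup ↥stdStab := isSimple_stdStab
      have hp := IsSimpleGroup.prime_card (α := ↥stdStab)
      rw [card_stdStab] at hp
      norm_num at hp
    · intro s
      have : s ∈ f.ker := h ▸ Subgroup.mem_top s
      exact this
  have hnt : Nontrivial N := Finite.one_lt_card_iff_nontrivial.1 (by omega)
  obtain ⟨n, hn1⟩ : ∃ n : N, n ≠ 1 := exists_ne 1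
  have hn23 : n ^ 23 = 1 := h23 ▸ pow_card_eq_one'
  set a : ↥Co0 := ((n : ↥stabU) : ↥Co0) with ha
  have hcomm : ∀ g ∈ stdStab, g * a = a * g := fun g hg => by
    have := congrArg (fun k : MulAut N => (((k n : N) : ↥stabU) : ↥Co0)) (htriv ⟨g, hg⟩)
    have e : g * a * g⁻¹ = a := this
    rwa [mul_inv_eq_iff_eq_mul] at e
  have hinvar : ∀ y : leechLattice, (∀ g ∈ stdStab, g • y = y) → ∀ i j, i ≠ none → i ≠ some 0 →
      j ≠ none → j ≠ some 0 → (y : GolayPt → ℤ) i = (y : GolayPt → ℤ) j := by
    intro y hy i j hi hi0 hj hj0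
    obtain ⟨σ, hσ, hmap⟩ := exists_move [none, some 0, i] [none, some 0, j]
      (by simp [Ne.symm hi, Ne.symm hi0]) (by simp [Ne.symm hj, Ne.symm hj0]) rfl (by simp)
    simp only [List.map_cons, List.map_nil, List.cons.injEq, and_true] at hmap
    obtain ⟨h0, h1, h2⟩ := hmap
    obtain ⟨p, q, r⟩ := perm_fix hσ h0 h1
    have := congrFun (congrArg Subtype.val (hy _ ⟨⟨p, q⟩, r⟩)) j
    rw [permCo0_apply, Equiv.Perm.inv_eq_iff_eq.2 h2.symm] at this
    exact this
  have hfix : ∀ u : leechLattice, (∀ g ∈ stdStab, g • u = u) → ∀ g ∈ stdStab,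
      g • (a • u) = a • u := fun u hu g hg => by
    rw [← mul_smul, hcomm g hg, mul_smul, hu g hg]
  have haU : a • Spor.leechU = Spor.leechU := (n : ↥stabU).2
  obtain ⟨o1, o2⟩ := oct_fixed_eqs
  have hoct : ∀ g ∈ stdStab, g • oct none = oct none ∧ g • oct (some 0) = oct (some 0) :=
    fun g hg => by
    obtain ⟨⟨gV, gT⟩, gU⟩ := hg
    exact ⟨by rw [o1, smul_add', show g • Spor.leechU = _ from gU, show g • hT = _ from gT],
      by rw [o2, smul_add', smul_neg', show g • Spor.leechU = _ from gU, show g • hT = _ from gT]⟩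
  have hcases : ∀ j, j = none ∨ j = some 0 → a • oct j = oct none ∨ a • oct j = oct (some 0) := by
    intro j hj
    set y := ((a • oct j : leechLattice) : GolayPt → ℤ) with hy
    have hconst := hinvar (a • oct j) (hfix _ fun g hg => by
      rcases hj with rfl | rfl; exacts [(hoct g hg).1, (hoct g hg).2])
    have hnn : sqNorm y = 64 := by
      rw [hy, sqNorm_smul]
      exact oct_norm j
    have hd : y none + y (some 0) = 8 := by
      have e := dotInt_smul a Spor.leechU (oct j)
      rw [haU] at e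
      have e' : dotInt Spor.vecU y = dotInt Spor.vecU (Pi.single j 8) := e
      rw [dot_vecU, dot_single] at e'
      rcases hj with rfl | rfl <;> simp [Spor.vecU] at e' <;> omega
    set c := y (some 1) with hc
    have hyv : ∀ i, i ≠ none → i ≠ some 0 → y i = c := fun i a b =>
      hconst i (some 1) a b (by simp) one_ne_zero'
    have hsum : y none ^ 2 + y (some 0) ^ 2 + 22 * c ^ 2 = 64 := by
      rw [← hnn, sqNorm, ← Finset.sum_sdiff (Finset.subset_univ ({none, some 0} : Finset GolayPt)),
        Finset.sum_pair (by simp : (none : GolayPt) ≠ some 0),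
        Finset.sum_congr rfl fun i hi => by
          simp only [Finset.mem_sdiff, Finset.mem_insert, Finset.mem_singleton, not_or] at hi
          rw [hyv i hi.2.1 hi.2.2],
        Finset.sum_const, Finset.card_sdiff_of_subset (Finset.subset_univ _), Finset.card_univ,
        card_golayPt, Finset.card_pair (by simp : (none : GolayPt) ≠ some 0)]
      simp [add_comm]
    have hy0 : y none = 8 - y (some 0) := by omega
    rw [hy0] at hsum
    have hsol : c = 0 ∧ (y (some 0) = 0 ∨ y (some 0) = 8) := sol64 hsum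
    obtain ⟨rfl0, hs⟩ := hsol
    rcases hs with hs | hs
    · left
      refine Subtype.ext (funext fun i => ?_)
      show y i = (Pi.single none 8 : GolayPt → ℤ) i
      by_cases p : i = none
      · subst p; simp; omega
      by_cases q : i = some 0
      · subst q; simp [hs]
      simp [p, hyv i p q, rfl0]
    · right
      refine Subtype.ext (funext fun i => ?_)
      show y i = (Pi.single (some 0) 8 : GolayPt → ℤ) i
      by_cases p : i = none
      · subst p; simp; omega
      by_cases q : i = some 0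
      · subst q; simp [hs]
      simp [q, hyv i p q, rfl0]
  have hsq : ∀ j, j = none ∨ j = some 0 → (a ^ 2) • oct j = oct j := by
    intro j hj
    rw [sq, mul_smul]
    have hne : a • oct none ≠ a • oct (some 0) := fun e => by
      have := congrFun (congrArg Subtype.val (MulAction.injective a e)) none
      simp [oct] at this
    rcases hcases none (Or.inl rfl) with e | e <;> rcases hcases (some 0) (Or.inr rfl) with f | f
    · exact absurd (e.trans f.symm) hne
    · rcases hj with rfl | rfl <;> simp [e, f]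
    · rcases hj with rfl | rfl <;> simp [e, f]
    · exact absurd (e.trans f.symm) hne
  have hboth : ∀ j, j = none ∨ j = some 0 → a • oct j = oct j := by
    intro j hj
    have h24 : a = (a ^ 2) ^ 12 := by
      rw [← pow_mul, show 2 * 12 = 23 + 1 from rfl, pow_succ, ha,
        ← Subgroup.coe_pow, ← Subgroup.coe_pow, hn23]
      simp
    rw [h24]
    exact (MulAction.mem_stabilizer_iff).1 (pow_mem (MulAction.mem_stabilizer_iff.2 (hsq j hj)) 12)
  have hW : a • eW = eW := by
    set y := ((a • eW : leechLattice) : GolayPt → ℤ) with hy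
    have hconst := hinvar (a • eW) (hfix _ fun g hg => by
      rw [← stab1634_eq] at hg; exact hg.1.2)
    have hd0 : y none = 1 ∧ y (some 0) = -3 := by
      constructor
      · have e := dotInt_smul a eW (oct none)
        rw [hboth none (Or.inl rfl)] at e
        have e' : dotInt y (Pi.single none 8) = dotInt (eW : GolayPt → ℤ) (Pi.single none 8) := e
        rw [dot_single, dot_single, show (eW : GolayPt → ℤ) none = 1 from rfl] at e'
        omega
      · have e := dotInt_smul a eW (oct (some 0))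
        rw [hboth (some 0) (Or.inr rfl)] at e
        have e' : dotInt y (Pi.single (some 0) 8) = dotInt (eW : GolayPt → ℤ) (Pi.single (some 0) 8) := e
        rw [dot_single, dot_single, show (eW : GolayPt → ℤ) (some 0) = -3 from rfl] at e'
        omega
    set c := y (some 1) with hc
    have hyv : ∀ i, i ≠ none → i ≠ some 0 → y i = c := fun i a b =>
      hconst i (some 1) a b (by simp) one_ne_zero'
    have hnn : sqNorm y = 32 := by rw [hy, sqNorm_smul]; exact eW_mem_part8.1
    have hsum : y none ^ 2 + y (some 0) ^ 2 + 22 * c ^ 2 = 32 := by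
      rw [← hnn, sqNorm, ← Finset.sum_sdiff (Finset.subset_univ ({none, some 0} : Finset GolayPt)),
        Finset.sum_pair (by simp : (none : GolayPt) ≠ some 0),
        Finset.sum_congr rfl fun i hi => by
          simp only [Finset.mem_sdiff, Finset.mem_insert, Finset.mem_singleton, not_or] at hi
          rw [hyv i hi.2.1 hi.2.2],
        Finset.sum_const, Finset.card_sdiff_of_subset (Finset.subset_univ _), Finset.card_univ,
        card_golayPt, Finset.card_pair (by simp : (none : GolayPt) ≠ some 0)]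
      simp [add_comm]
    rw [hd0.1, hd0.2] at hsum
    have hc1 : c = 1 := by
      have : c ^ 2 = 1 := by linarith
      rcases sq_eq_one_iff.1 this with e | e
      · exact e
      · exfalso
        have hyneg : y = fun i => if i = none then 1 else if i = some 0 then -3 else -1 := by
          funext i
          by_cases p : i = none
          · subst p; simp [hd0.1]
          by_cases q : i = some 0
          · subst q; simp [hd0.2]
          simp [p, q, hyv i p q, e]
        have hm : y - (eW : GolayPt → ℤ) ∈ leechLattice := sub_mem (SetLike.coe_mem _) eW.2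
        have := sixteen_dvd_sqNorm hm
        rw [hyneg] at this
        exact bad_vector this
    refine Subtype.ext (funext fun i => ?_)
    show y i = if i = some 0 then -3 else 1
    by_cases q : i = some 0
    · subst q; simp [hd0.2]
    by_cases p : i = none
    · subst p; simp [hd0.1]
    simp [q, hyv i p q, hc1]
  exact hn1 (Subtype.ext (hfree _ n.2 eW eW_mem_part8 hW))

/-- the characteristic subgroup in a group of order dividing 47104 -/
theorem char_dvd_47104 {N : Type*} [Group N] (h : Nat.card N ∣ 47104) (h1 : Nat.card N ≠ 1) :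
    ∃ P : Subgroup N, P.Characteristic ∧
      ((IsPGroup 2 P ∧ P ≠ ⊥) ∨ Nat.card P = 23) := by
  have hf : Finite N := Nat.finite_of_card_ne_zero (fun e => by rw [e] at h; norm_num at h)
  have hn : Nat.card N ∣ 2 ^ 11 * 23 := by simpa using h
  obtain ⟨x, y, hx, hy, hxy⟩ := Nat.dvd_mul.1 hn
  obtain ⟨i, hi, rfl⟩ := (Nat.dvd_prime_pow Nat.prime_two).1 hx
  rcases (Nat.dvd_prime (by norm_num : Nat.Prime 23)).1 hy with rfl | rfl
  · refine ⟨⊤, inferInstance, Or.inl ⟨?_, ?_⟩⟩
    · exact IsPGroup.of_card (n := i) (by rw [Subgroup.card_top, ← hxy, mul_one])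
    · intro e
      apply h1
      rw [← Subgroup.card_top, e, Subgroup.card_bot]
  have : Fact (Nat.Prime 23) := ⟨by norm_num⟩
  obtain ⟨P⟩ : Nonempty (Sylow 23 N) := inferInstance
  have hP : Nat.card P = 23 := by
    obtain ⟨k, hk⟩ := P.isPGroup'.exists_card_eq
    have hnd := P.not_dvd_index
    have hm := (P : Subgroup N).card_mul_index
    rw [← hxy, hk] at hm
    rcases k with _ | _ | k
    · exfalso
      rw [pow_zero, one_mul] at hm
      exact hnd (hm ▸ dvd_mul_left _ _)
    · simpa using hk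
    · exfalso
      have e : 23 * (23 ^ k * 23 * P.index) = 23 * 2 ^ i := by
        rw [mul_comm 23 (2 ^ i), ← hm, pow_succ, pow_succ]; ring
      have := Nat.eq_of_mul_eq_mul_left (by norm_num) e
      have h23 : 23 ∣ 2 ^ i := ⟨23 ^ k * P.index, by rw [← this]; ring⟩
      have := (Nat.prime_dvd_prime_iff_eq (by norm_num) Nat.prime_two).1
        ((by norm_num : Nat.Prime 23).dvd_of_dvd_pow h23)
      norm_num at this
  have hidx : P.index = 2 ^ i := by
    have := (P : Subgroup N).card_mul_index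
    rw [hP, ← hxy] at this
    linarith
  have hd := P.card_dvd_index
  rw [hidx] at hd
  obtain ⟨k, hk, hk'⟩ := (Nat.dvd_prime_pow Nat.prime_two).1 hd
  have hm := card_sylow_modEq_one 23 N
  rw [hk'] at hm
  have hk0 : k = 0 ∨ k = 11 := by
    have : k ≤ 11 := hk.trans hi
    unfold Nat.ModEq at hm
    interval_cases k <;> simp at hm ⊢
  rcases hk0 with rfl | rfl
  · have : Subsingleton (Sylow 23 N) := (Nat.card_eq_one_iff_unique.1 hk').1
    exact ⟨P, P.characteristic_of_subsingleton, Or.inr hP⟩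
  obtain rfl : i = 11 := by omega
  have heq : Subgroup.normalizer ((P : Subgroup N) : Set N) = P := by
    refine (Subgroup.eq_of_le_of_card_ge Subgroup.le_normalizer ?_).symm
    have a := (Subgroup.normalizer ((P : Subgroup N) : Set N)).card_mul_index
    have e : Nat.card (Sylow 23 N) =
        (Subgroup.normalizer ((P : Subgroup N) : Set N)).index := P.card_eq_index_normalizer
    rw [hk'] at e
    rw [← e, ← hxy] at a
    rw [hP]
    omega
  have hle : Subgroup.normalizer ((P : Subgroup N) : Set N) ≤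
      Subgroup.centralizer ((P : Subgroup N) : Set N) := by
    rw [heq]
    intro a ha b hb
    have : IsCyclic P := isCyclic_of_prime_card hP
    exact congrArg Subtype.val
      ((IsCyclic.isMulCommutative (α := P)).is_comm.comm (⟨b, hb⟩ : P) ⟨a, ha⟩)
  have hK := MonoidHom.ker_transferSylow_isComplement' P hle
  set K := (MonoidHom.transferSylow P hle).ker
  have hKc : Nat.card K = 2 ^ 11 := by
    have := hK.card_mul_card
    rw [hP, ← hxy] at this
    omega
  have : Fact (Nat.Prime 2) := ⟨Nat.prime_two⟩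
  have hK2 : IsPGroup 2 K := IsPGroup.of_card (n := 11) hKc
  have hKi : K.index = 23 := by
    have := K.card_mul_index
    rw [hKc, ← hxy] at this
    omega
  refine ⟨K, (hK2.toSylow (show ¬ 2 ∣ K.index by rw [hKi]; norm_num)).characteristic_of_normal
    (MonoidHom.normal_ker (MonoidHom.transferSylow P hle)), Or.inl ⟨hK2, fun e => ?_⟩⟩
  rw [e, Subgroup.card_bot] at hKc
  norm_num at hKc

theorem stabU_transitive_facts : Nat.card ↥stabU = 42305421312000 := by
  have := finite_co0
  rw [← (MulAction.stabilizer ↥stabU eW).index_mul_card, MulAction.index_stabilizer,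
    orbit_stabU, ncard_part8]
  have h : MulAction.stabilizer ↥stabU eW = mclGroup.subgroupOf stabU := by
    ext g
    exact ⟨fun h => ⟨g.2, h⟩, fun h => h.2⟩
  have e : Nat.card ↥(mclGroup.subgroupOf stabU) = Nat.card ↥mclGroup :=
    Nat.card_congr (Subgroup.subgroupOfEquivOfLe (inf_le_left : mclGroup ≤ stabU)).toEquiv
  rw [h, e, simple_mcl.2]

theorem simple_stabU : IsSimpleGroup ↥stabU := by
  classical
  have := finite_co0
  have : Nontrivial ↥stabU := Finite.one_lt_card_iff_nontrivial.1 (by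
    rw [stabU_transitive_facts]; norm_num)
  refine ⟨fun N hN => ?_⟩
  set K := N.map stabU.subtype with hKdef
  have hKle : K ≤ stabU := by rintro _ ⟨m, -, rfl⟩; exact m.2
  have hKn : ∀ g ∈ stabU, ∀ x ∈ K, g * x * g⁻¹ ∈ K := by
    rintro g hg x ⟨m, hm, rfl⟩
    exact ⟨⟨g, hg⟩ * m * ⟨g, hg⟩⁻¹, hN.conj_mem m hm _, rfl⟩
  have hfin8 : part8.Finite := Set.finite_of_ncard_ne_zero (by rw [ncard_part8]; norm_num)
  let X := ↥(MulAction.orbit ↥stabU eW)
  have : Finite X := (finite_orbit stabU eW).to_subtype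
  let x0 : X := ⟨eW, MulAction.mem_orbit_self eW⟩
  have himg : (Subtype.val '' MulAction.orbit N x0) = MulAction.orbit ↥K eW := by
    ext w
    constructor
    · rintro ⟨_, ⟨⟨m, hm⟩, rfl⟩, rfl⟩
      exact ⟨⟨(m : ↥Co0), ⟨m, hm, rfl⟩⟩, rfl⟩
    · rintro ⟨⟨_, ⟨m, hm, rfl⟩⟩, rfl⟩
      exact ⟨_, ⟨⟨m, hm⟩, rfl⟩, rfl⟩
  have hdvd : (MulAction.orbit ↥K eW).ncard ∣ 47104 := by
    rw [← himg, Set.ncard_image_of_injective _ Subtype.val_injective, ← ncard_part8, ← orbit_stabU,
      ← Nat.card_coe_set_eq (MulAction.orbit ↥stabU eW)]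
    exact ncard_orbit_dvd N x0
  have hle : mclGroup ≤ stabU := inf_le_left
  rcases simple_mcl.1.eq_bot_or_eq_top_of_normal ((N.comap (Subgroup.inclusion hle)))
      inferInstance with h | h
  · left
    have hfree0 : ∀ m ∈ N, (m : ↥Co0) • eW = eW → m = 1 := fun m hm he => by
      have hmS : (m : ↥Co0) ∈ mclGroup := ⟨m.2, he⟩
      have : (⟨m, hmS⟩ : ↥mclGroup) ∈ N.comap (Subgroup.inclusion hle) := hm
      rw [h, Subgroup.mem_bot] at this
      exact Subtype.ext (congrArg (fun z : ↥mclGroup => (z : ↥Co0)) this)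
    have hfree : ∀ m ∈ N, ∀ w ∈ part8, (m : ↥Co0) • w = w → m = 1 := by
      intro m hm w hw he
      rw [← orbit_stabU] at hw
      obtain ⟨g, rfl⟩ := hw
      have := hfree0 (g⁻¹ * m * g) (by simpa using hN.conj_mem m hm g⁻¹) (by
        show ((g : ↥Co0)⁻¹ * (m : ↥Co0) * (g : ↥Co0)) • eW = eW
        rw [mul_smul, mul_smul, inv_smul_eq_iff]
        exact he)
      have := congrArg (fun z => g * z * g⁻¹) this
      simpa [mul_assoc] using this
    by_contra hne
    have hcardN : Nat.card N = (MulAction.orbit ↥K eW).ncard := by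
      rw [← himg, Set.ncard_image_of_injective _ Subtype.val_injective, ← Nat.card_coe_set_eq]
      refine Nat.card_congr (Equiv.ofInjective (fun m : N => (m : ↥stabU) • x0) fun a b e => ?_)
      have e' : ((a : ↥stabU) : ↥Co0) • eW = ((b : ↥stabU) : ↥Co0) • eW := congrArg Subtype.val e
      have := hfree0 _ (mul_mem (inv_mem b.2) a.2) (by
        show (((b : ↥stabU) : ↥Co0)⁻¹ * ((a : ↥stabU) : ↥Co0)) • eW = eW
        rw [mul_smul, inv_smul_eq_iff]; exact e')
      exact Subtype.ext (inv_mul_eq_one.1 this).symm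
    obtain ⟨P, hP, hcase⟩ := char_dvd_47104 (N := N) (hcardN ▸ hdvd)
      (fun e => hne (Subgroup.card_eq_one.1 e))
    set P' := P.map N.subtype
    have hPn : P'.Normal := inferInstance
    have hfreeP : ∀ m ∈ P', ∀ w ∈ part8, (m : ↥Co0) • w = w → m = 1 := by
      rintro m ⟨q, -, rfl⟩ w hw he
      exact hfree _ q.2 w hw he
    rcases hcase with ⟨h2, hP0⟩ | h23
    · have := no_two_group P' (h2.map N.subtype) hfreeP
      exact hP0 ((Subgroup.map_eq_bot_iff_of_injective _ N.subtype_injective).1 this)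
    · exact no_order_23 P' (by
        rw [← h23]; exact (Nat.card_congr (P.equivMapOfInjective _ N.subtype_injective).toEquiv).symm)
        hfreeP
  · right
    have hS : mclGroup ≤ K := fun g hg => by
      have : (⟨g, hg⟩ : ↥mclGroup) ∈ N.comap (Subgroup.inclusion hle) := h ▸ Subgroup.mem_top _
      exact ⟨⟨g, hle hg⟩, this, rfl⟩
    have horb := orbit_full K hKle hKn hS hdvd
    refine (Subgroup.eq_top_iff' N).2 fun g => ?_
    have hg : ((g : ↥Co0) • eW) ∈ MulAction.orbit ↥K eW :=
      horb ▸ orbit_stabU ▸ ⟨g, rfl⟩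
    obtain ⟨⟨k, hk⟩, e⟩ := hg
    have hmem : k⁻¹ * (g : ↥Co0) ∈ K := hS ⟨stabU.mul_mem (stabU.inv_mem (hKle hk)) g.2, by
      show (k⁻¹ * (g : ↥Co0)) • eW = eW
      rw [mul_smul, inv_smul_eq_iff]; exact e.symm⟩
    obtain ⟨m, hm, hme⟩ : (g : ↥Co0) ∈ K := by
      have := mul_mem hk hmem
      rwa [mul_inv_cancel_left] at this
    rwa [show g = m from Subtype.ext hme.symm]

end Cfsg.Agent.Leech
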