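import Mathlib
import Cfsg.Prelude.Def_Sporadic_a
import Cfsg.Agent.Leech.Lattice
import Cfsg.Agent.Leech.ModRep
import Cfsg.Agent.Leech.OrbitCert
import Cfsg.Agent.Leech.PermChain

/-! Permutation models of subgroups of the automorphism group of the lattice: a finite set of
vectors, blocks of sets of them, and a group of permutations of the blocks. -/

set_option autoImplicit false

namespace Cfsg.Agent.Leech.Model
open Cfsg

/-- a coordinate list packed with six bits per entry -/
def decV (c : ℕ) : List ℤ := (List.range 24).map fun i => Int.ofNat (pk 6 c i) - 32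

/-- equality of integer lists -/
def eqZ : List ℤ → List ℤ → Bool
  | [], [] => true
  | a :: s, b :: t => decide (a = b) && eqZ s t
  | _, _ => false

theorem eq_of_eqZ : ∀ {s t : List ℤ}, eqZ s t = true → s = t
  | [], [], _ => rfl
  | a :: s, b :: t, h => by
    simp only [eqZ, Bool.and_eq_true, decide_eq_true_eq] at h
    rw [h.1, eq_of_eqZ h.2]
  | [], _ :: _, h => by simp [eqZ] at h
  | _ :: _, [], h => by simp [eqZ] at h

/-- vector `i` of a packed family -/
def vecAt (V i : ℕ) : List ℤ := decV (pk 144 V i)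

/-- the bit set of a list -/
def maskOfList (l : List ℕ) : ℕ := l.foldr (fun a m => m ||| 2 ^ a) 0

theorem testBit_maskOfList : ∀ (l : List ℕ) (i : ℕ),
    (maskOfList l).testBit i = true ↔ i ∈ l
  | [], i => by simp [maskOfList]
  | a :: l, i => by
    rw [show maskOfList (a :: l) = maskOfList l ||| 2 ^ a from rfl, Nat.testBit_or, Bool.or_eq_true,
      testBit_maskOfList l i, Nat.testBit_two_pow, decide_eq_true_eq, List.mem_cons, eq_comm,
      or_comm]

/-- data of a model -/
structure Data where
  n : ℕ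
  N : ℕ
  vec : ℕ
  par : ℕ
  lab : ℕ
  cnt : ℕ
  len : ℕ
  blk : ℕ
  vperm : List ℕ
  bperm : List ℕ

/-- a block: some lists of indices -/
def Data.block (D : Data) (j : ℕ) : List (List ℕ) :=
  (List.range D.cnt).map fun s =>
    (List.range D.len).map fun i => pk 10 (pk (10 * D.len) D.blk (D.cnt * j + s)) i

/-- the action on the vectors is as recorded -/
def Data.vecCheck (D : Data) (fs : List (List ℤ → List ℤ)) : Bool :=
  Nat.beq D.vperm.length fs.length && Nat.beq D.bperm.length fs.length &&
  D.vperm.all (packCheck D.n) && D.bperm.all (packCheck D.N) &&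
  (List.range fs.length).all fun a => (List.range D.n).all fun i =>
    eqZ ((fs.getD a id) (vecAt D.vec i)) (vecAt D.vec (pk 10 (D.vperm.getD a 0) i))

/-- one function carries a packed family to another -/
def stepOK (f : List ℤ → List ℤ) (n A B : ℕ) : Bool :=
  (List.range n).all fun i => eqZ (f (vecAt A i)) (vecAt B i)

/-- the action of one generator is as recorded -/
def Data.actOK (D : Data) (f : List ℤ → List ℤ) (a : ℕ) : Bool :=
  (List.range D.n).all fun i =>
    eqZ (f (vecAt D.vec i)) (vecAt D.vec (pk 10 (D.vperm.getD a 0) i))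

theorem eqZ_refl : ∀ s : List ℤ, eqZ s s = true
  | [] => rfl
  | a :: s => by simp [eqZ, eqZ_refl s]

theorem stepOK.comp {f g : List ℤ → List ℤ} {n A B C : ℕ} (hf : stepOK f n A B = true)
    (hg : stepOK g n B C = true) : stepOK (g ∘ f) n A C = true := by
  simp only [stepOK, List.all_eq_true, List.mem_range] at hf hg ⊢
  intro i hi
  rw [Function.comp_apply, eq_of_eqZ (hf i hi), eq_of_eqZ (hg i hi)]
  exact eqZ_refl _

theorem actOK_of_steps (D : Data) {f g : List ℤ → List ℤ} {a B : ℕ}
    (hf : stepOK f D.n D.vec B = true)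
    (hg : ((List.range D.n).all fun i =>
      eqZ (g (vecAt B i)) (vecAt D.vec (pk 10 (D.vperm.getD a 0) i))) = true) :
    D.actOK (g ∘ f) a = true := by
  simp only [stepOK, Data.actOK, List.all_eq_true, List.mem_range] at hf hg ⊢
  intro i hi
  rw [Function.comp_apply, eq_of_eqZ (hf i hi)]
  exact hg i hi

theorem vecCheck_of_act (D : Data) (fs : List (List ℤ → List ℤ))
    (h1 : (Nat.beq D.vperm.length fs.length && Nat.beq D.bperm.length fs.length &&
      D.vperm.all (packCheck D.n) && D.bperm.all (packCheck D.N)) = true)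
    (h2 : ∀ (a : ℕ) (ha : a < fs.length), D.actOK fs[a] a = true) :
    D.vecCheck fs = true := by
  rw [Data.vecCheck, Bool.and_eq_true]
  refine ⟨h1, List.all_eq_true.2 fun a ha => ?_⟩
  rw [List.mem_range] at ha
  rw [List.getD_eq_getElem?_getD, List.getElem?_eq_getElem ha]
  exact h2 a ha

/-- every vector is reached from the first, and they are distinct -/
def Data.treeCheck (D : Data) (len M : ℕ) : Bool :=
  ((List.range D.n).all fun k => Nat.beq k 0 ||
    (Nat.blt (pk 10 D.par k) k && Nat.blt (pk 10 D.lab k) len &&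
      Nat.beq (pk 10 (D.vperm.getD (pk 10 D.lab k) 0) (pk 10 D.par k)) k)) &&
  noRep 0 ((List.range D.n).map fun i => encodeL (vecAt D.vec i) % M)

/-- the blocks: indices in range, distinct, and moved as recorded -/
def Data.blockCheck (D : Data) (M : ℕ) : Bool :=
  (((List.range D.N).map D.block).all fun b =>
    !b.isEmpty && b.all fun l => l.all fun i => Nat.blt i D.n) &&
  noRep 0 (((List.range D.N).map D.block).flatten.map fun l => maskOfList l % M) &&
  (List.range D.vperm.length).all fun a => (List.range D.N).all fun j =>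
    let img := (D.block j).map fun l =>
      maskOfList (l.map (pk 10 (D.vperm.getD a 0)))
    let tgt := (D.block (pk 10 (D.bperm.getD a 0) j)).map maskOfList
    (img.all fun m => tgt.any fun m' => Nat.beq m m') &&
      tgt.all fun m => img.any fun m' => Nat.beq m m'

variable {D : Data}

/-- the subset with a given bit set -/
def toSet (n m : ℕ) : Finset (Fin n) := Finset.univ.filter fun i => m.testBit i

/-- the family of subsets of a block -/
def blockSet (D : Data) (j : Fin D.N) : Finset (Finset (Fin D.n)) :=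
  ((D.block j).map fun l => toSet D.n (maskOfList l)).toFinset

theorem image_toSet {n : ℕ} (π : Equiv.Perm (Fin n)) (P : ℕ) (hπ : IsPacked P π) (l : List ℕ)
    (hl : ∀ i ∈ l, i < n) :
    (toSet n (maskOfList l)).image π = toSet n (maskOfList (l.map (pk 10 P))) := by
  ext i
  simp only [toSet, Finset.mem_image, Finset.mem_filter, Finset.mem_univ, true_and,
    testBit_maskOfList, List.mem_map]
  constructor
  · rintro ⟨k, hk, rfl⟩; exact ⟨k, hk, (hπ k).symm⟩
  · rintro ⟨k, hk, e⟩
    exact ⟨⟨k, hl k hk⟩, hk, Fin.ext (by rw [hπ]; exact e)⟩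

theorem blockSet_image {M : ℕ} (h : D.blockCheck M = true) {a : ℕ} (ha : a < D.vperm.length)
    {π : Equiv.Perm (Fin D.n)} {β : Equiv.Perm (Fin D.N)}
    (hπ : IsPacked (D.vperm.getD a 0) π) (hβ : IsPacked (D.bperm.getD a 0) β) (j : Fin D.N) :
    (blockSet D j).image (Finset.image π) = blockSet D (β j) := by
  simp only [Data.blockCheck, Bool.and_eq_true] at h
  obtain ⟨⟨hin, -⟩, hact⟩ := h
  have hj := List.all_eq_true.1 (List.all_eq_true.1 hact a (List.mem_range.2 ha)) j.1
    (List.mem_range.2 j.2)
  simp only [Bool.and_eq_true, List.all_eq_true, List.any_eq_true, List.mem_map,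
    forall_exists_index, and_imp, forall_apply_eq_imp_iff₂] at hj
  obtain ⟨h1, h2⟩ := hj
  have hbd : ∀ l ∈ D.block j, ∀ i ∈ l, i < D.n := fun l hl i hi => by
    have hmem : D.block j ∈ (List.range D.N).map D.block :=
      List.mem_map.2 ⟨j, List.mem_range.2 j.2, rfl⟩
    have := List.all_eq_true.1 hin _ hmem
    rw [Bool.and_eq_true] at this
    simpa using List.all_eq_true.1 (List.all_eq_true.1 this.2 l hl) i hi
  ext s
  simp only [blockSet, Finset.mem_image, List.mem_toFinset, List.mem_map, hβ j]
  constructor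
  · rintro ⟨t, ⟨l, hl, rfl⟩, rfl⟩
    obtain ⟨m, ⟨l', hl', rfl⟩, hm⟩ := h1 l hl
    refine ⟨l', hl', ?_⟩
    rw [image_toSet π _ hπ l (hbd l hl), Nat.eq_of_beq_eq_true hm]
  · rintro ⟨l, hl, rfl⟩
    obtain ⟨m, ⟨l', hl', rfl⟩, hm⟩ := h2 l hl
    refine ⟨_, ⟨l', hl', rfl⟩, ?_⟩
    rw [image_toSet π _ hπ l' (hbd l' hl'), Nat.eq_of_beq_eq_true hm]

theorem blockSet_injective {M : ℕ} (h : D.blockCheck M = true) :
    Function.Injective (blockSet D) := by
  simp only [Data.blockCheck, Bool.and_eq_true] at h
  obtain ⟨⟨hin, hnd⟩, -⟩ := h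
  set blocks := (List.range D.N).map D.block with hblocks
  have hlen' : blocks.length = D.N := by simp [hblocks]
  have hget : ∀ j : Fin D.N, D.block j = blocks[(j : ℕ)]'(hlen'.symm ▸ j.2) := fun j => by
    simp [hblocks]
  have hnd' := (noRep_spec _ 0 hnd).1
  have hp := (List.nodup_flatten.1 hnd'.of_map).2
  have hinj : ∀ l ∈ blocks.flatten, ∀ l' ∈ blocks.flatten,
      maskOfList l % M = maskOfList l' % M → l = l' := fun l hl l' hl' e =>
    List.inj_on_of_nodup_map hnd' hl hl' e
  have hbnd : ∀ l ∈ blocks.flatten, ∀ i ∈ l, i < D.n := fun l hl i hi => by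
    obtain ⟨b, hb, hlb⟩ := List.mem_flatten.1 hl
    have := List.all_eq_true.1 hin b hb
    rw [Bool.and_eq_true] at this
    simpa using List.all_eq_true.1 (List.all_eq_true.1 this.2 l hlb) i hi
  intro j k e
  by_contra hne
  have hb := List.all_eq_true.1 hin _ (List.getElem_mem (hlen'.symm ▸ j.2 : (j : ℕ) < blocks.length))
  rw [Bool.and_eq_true] at hb
  obtain ⟨l, hl⟩ : ∃ l, l ∈ blocks[(j : ℕ)]'(hlen'.symm ▸ j.2) :=
    List.exists_mem_of_ne_nil _ fun e0 => by simp [e0] at hb
  have hlj : toSet D.n (maskOfList l) ∈ blockSet D j := by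
    simp only [blockSet, List.mem_toFinset, List.mem_map, hget]
    exact ⟨l, hl, rfl⟩
  rw [e] at hlj
  simp only [blockSet, List.mem_toFinset, List.mem_map, hget] at hlj
  obtain ⟨l', hl', he⟩ := hlj
  have hlf : l ∈ blocks.flatten := List.mem_flatten.2 ⟨_, List.getElem_mem _, hl⟩
  have hlf' : l' ∈ blocks.flatten := List.mem_flatten.2 ⟨_, List.getElem_mem _, hl'⟩
  have hm : maskOfList l = maskOfList l' := by
    refine Nat.eq_of_testBit_eq fun i => Bool.eq_iff_iff.2 ?_
    rw [testBit_maskOfList, testBit_maskOfList]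
    by_cases hi : i < D.n
    · have := congrArg (fun s : Finset (Fin D.n) => (⟨i, hi⟩ : Fin D.n) ∈ s) he
      simp only [toSet, Finset.mem_filter, Finset.mem_univ, true_and, testBit_maskOfList] at this
      exact (Iff.of_eq this).symm
    · exact ⟨fun h => absurd (hbnd l hlf i h) hi, fun h => absurd (hbnd l' hlf' i h) hi⟩
  have hll : l = l' := hinj l hlf l' hlf' (by rw [hm])
  subst hll
  rcases lt_or_gt_of_ne (fun e => hne (Fin.ext e) : (j : ℕ) ≠ k) with hjk | hjk
  · exact List.pairwise_iff_getElem.1 hp j k _ _ hjk hl hl'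
  · exact List.pairwise_iff_getElem.1 hp k j _ _ hjk hl' hl

/-- compatible pairs -/
def compat (D : Data) (v : Fin D.n → leechLattice) : Subgroup (↥Co0 × Equiv.Perm (Fin D.N)) where
  carrier := {p | ∃ π : Equiv.Perm (Fin D.n), (∀ i, p.1 • v i = v (π i)) ∧
    ∀ j, (blockSet D j).image (Finset.image π) = blockSet D (p.2 j)}
  one_mem' := ⟨1, fun _ => one_smul _ _, fun j => by
    rw [show Finset.image ⇑(1 : Equiv.Perm (Fin D.n)) = id from funext fun s => by simp,
      Finset.image_id]
    rfl⟩
  mul_mem' := by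
    rintro ⟨g, β⟩ ⟨g', β'⟩ ⟨π, h1, h2⟩ ⟨π', h1', h2'⟩
    refine ⟨π * π', fun i => ?_, fun j => ?_⟩
    · show (g * g') • v i = _
      rw [mul_smul, h1', h1]
      rfl
    · show _ = blockSet D (β (β' j))
      rw [← h2, ← h2', Finset.image_image]
      refine Finset.image_congr fun s _ => ?_
      simp [Finset.image_image, Equiv.Perm.coe_mul]
  inv_mem' := by
    rintro ⟨g, β⟩ ⟨π, h1, h2⟩
    refine ⟨π⁻¹, fun i => ?_, fun j => ?_⟩
    · show g⁻¹ • v i = _
      rw [inv_smul_eq_iff, h1]
      simp
    · show _ = blockSet D (β⁻¹ j)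
      have := h2 (β⁻¹ j)
      rw [show β (β⁻¹ j) = j by simp] at this
      rw [← this, Finset.image_image]
      conv_rhs => rw [← Finset.image_id (s := blockSet D (β⁻¹ j))]
      refine Finset.image_congr fun s _ => ?_
      simp [Finset.image_image, Function.comp_def]

/-- a subgroup with enough generators is isomorphic to the group of permutations of the blocks -/
theorem model_iso (D : Data) (gens : List LGen) (A : Subgroup ↥Co0)
    (hA : ∀ a ∈ gens, a.g ∈ A) (fs : List (List ℤ → List ℤ)) (hfs : gens.map LGen.f = fs)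
    (y : leechLattice) (hy : toL (y : GolayPt → ℤ) = vecAt D.vec 0) (M : ℕ)
    (hv : D.vecCheck fs = true) (ht : D.treeCheck fs.length M = true)
    (hb : D.blockCheck M = true) (hcard : Nat.card ↥A ≤ Nat.card ↥(genGroup D.N D.bperm)) :
    Nonempty (↥A ≃* ↥(genGroup D.N D.bperm)) ∧
      Nat.card ↥(genGroup D.N D.bperm) = Nat.card ↥A := by
  classical
  have := finite_co0
  simp only [Data.vecCheck, Bool.and_eq_true] at hv
  obtain ⟨⟨⟨⟨hl1, hl2⟩, hpv⟩, hpb⟩, hact⟩ := hv
  have hlv : D.vperm.length = fs.length := Nat.eq_of_beq_eq_true hl1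
  have hlb : D.bperm.length = fs.length := Nat.eq_of_beq_eq_true hl2
  have hlg : gens.length = fs.length := by rw [← hfs, List.length_map]
  have hstep : ∀ (a : ℕ) (ha : a < gens.length) (i : ℕ), i < D.n → ∀ u : leechLattice,
      toL (u : GolayPt → ℤ) = vecAt D.vec i →
      toL ((gens[a].g • u : leechLattice) : GolayPt → ℤ) =
        vecAt D.vec (pk 10 (D.vperm.getD a 0) i) := by
    intro a ha i hi u hu
    have h := eq_of_eqZ (List.all_eq_true.1 (List.all_eq_true.1 hact a
      (List.mem_range.2 (hlg ▸ ha))) i (List.mem_range.2 hi))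
    rw [← h, LGen.spec, hu, ← hfs, List.getD_eq_getElem?_getD, List.getElem?_map,
      List.getElem?_eq_getElem ha]
    rfl
  simp only [Data.treeCheck, Bool.and_eq_true] at ht
  obtain ⟨htree, hvnd⟩ := ht
  have hex : ∀ k, k < D.n → ∃ u : leechLattice, toL (u : GolayPt → ℤ) = vecAt D.vec k := by
    intro k
    induction k using Nat.strong_induction_on with
    | _ k ih =>
      intro hk
      by_cases hk0 : k = 0
      · subst hk0; exact ⟨y, hy⟩
      · have hk' := List.all_eq_true.1 htree k (List.mem_range.2 hk)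
        rw [Bool.or_eq_true] at hk'
        have hk'' := hk'.resolve_left fun e => hk0 (Nat.eq_of_beq_eq_true e)
        simp only [Bool.and_eq_true] at hk''
        obtain ⟨⟨hp, hl⟩, he⟩ := hk''
        have hp' : pk 10 D.par k < k := by simpa using hp
        obtain ⟨u, hu⟩ := ih _ hp' (by omega)
        have hl' : pk 10 D.lab k < gens.length := by rw [hlg]; simpa using hl
        exact ⟨_, (hstep _ hl' _ (by omega) u hu).trans (by rw [Nat.eq_of_beq_eq_true he])⟩
  choose v hv using hex
  let w : Fin D.n → leechLattice := fun i => v i i.2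
  have hwinj : Function.Injective w := fun i j e => by
    refine Fin.ext (noRep_range hvnd i.2 j.2 ?_)
    rw [← hv i i.2, ← hv j j.2]
    exact congrArg (fun u : leechLattice => encodeL (toL (u : GolayPt → ℤ)) % M) e
  set Q : Subgroup (↥Co0 × Equiv.Perm (Fin D.N)) := compat D w ⊓ A.prod ⊤ with hQ
  -- the first projection is injective
  have hfst : Function.Injective ((MonoidHom.fst ↥Co0 (Equiv.Perm (Fin D.N))).comp Q.subtype) := by
    rw [injective_iff_map_eq_one]
    rintro ⟨⟨g, β⟩, hgβ⟩ (rfl : g = 1)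
    obtain ⟨π, h1, h2⟩ := hgβ.1
    have hπ : π = 1 := Equiv.ext fun i => hwinj (by
      have := h1 i
      simp only [one_smul] at this
      exact this.symm)
    refine Subtype.ext (Prod.ext rfl (Equiv.ext fun j => blockSet_injective hb ?_))
    rw [← h2 j, hπ, show Finset.image ⇑(1 : Equiv.Perm (Fin D.n)) = id from
      funext fun s => by simp, Finset.image_id]
    rfl
  let φ : ↥Q →* ↥A := ((MonoidHom.fst ↥Co0 (Equiv.Perm (Fin D.N))).comp Q.subtype).codRestrict A
    fun q => q.2.2.1
  have hφ : Function.Injective φ := fun a b e => hfst (congrArg Subtype.val e)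
  let ψ : ↥Q →* Equiv.Perm (Fin D.N) := (MonoidHom.snd ↥Co0 (Equiv.Perm (Fin D.N))).comp Q.subtype
  have hgen : genGroup D.N D.bperm ≤ ψ.range := by
    refine (Subgroup.closure_le _).2 ?_
    rintro β ⟨P, hP, hβ⟩
    obtain ⟨a, ha, rfl⟩ := List.getElem_of_mem hP
    have hag : a < gens.length := by omega
    obtain ⟨π, hπ⟩ := exists_isPacked (N := D.n) (List.all_eq_true.1 hpv (D.vperm.getD a 0) (by
      rw [List.getD_eq_getElem?_getD, List.getElem?_eq_getElem (by omega : a < D.vperm.length)]
      exact List.getElem_mem _))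
    refine ⟨⟨(gens[a].g, β), ⟨π, fun i => ?_, fun j => ?_⟩, hA _ (List.getElem_mem hag), trivial⟩,
      rfl⟩
    · refine Subtype.ext (toL_injective ?_)
      rw [hstep a hag i i.2 (w i) (hv i i.2), hv (π i) (π i).2, hπ i]
    · exact blockSet_image hb (by omega) hπ
        (by rwa [List.getD_eq_getElem?_getD, List.getElem?_eq_getElem ha]) j
  have h1 : Nat.card ↥Q ≤ Nat.card ↥A := Nat.card_le_card_of_injective φ hφ
  have h2 : Nat.card ↥(genGroup D.N D.bperm) ≤ Nat.card ↥ψ.range := Subgroup.card_le_of_le hgen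
  have h3 : Nat.card ↥ψ.range ≤ Nat.card ↥Q :=
    Nat.card_le_card_of_surjective ψ.rangeRestrict ψ.rangeRestrict_surjective
  have hψ : Function.Bijective ψ.rangeRestrict :=
    (Nat.bijective_iff_surjective_and_card _).2 ⟨ψ.rangeRestrict_surjective, by omega⟩
  have hφ' : Function.Bijective φ := (Nat.bijective_iff_injective_and_card _).2 ⟨hφ, by omega⟩
  have heq : genGroup D.N D.bperm = ψ.range := Subgroup.eq_of_le_of_card_ge hgen (by omega)
  refine ⟨⟨((MulEquiv.ofBijective φ hφ').symm.trans (MulEquiv.ofBijective _ hψ)).trans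
    (MulEquiv.subgroupCongr heq.symm)⟩, by omega⟩

end Cfsg.Agent.Leech.Model
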