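import Mathlib
import Cfsg.Prelude.Def_Sporadic_a
import Cfsg.Prelude.Def_Spor_Conway
import Cfsg.Agent.Leech.SimpleHSMcL
import Cfsg.Agent.Leech.PermChain

/-! Orders of stabilisers and transport by conjugation. -/

set_option autoImplicit false

namespace Cfsg.Agent.Leech
open Cfsg

/-- conjugate stabilisers of triples -/
theorem stab_triple_iso (g : ↥Co0) (a b c : leechLattice) :
    Nonempty (↥(MulAction.stabilizer ↥Co0 a ⊓ MulAction.stabilizer ↥Co0 b ⊓
        MulAction.stabilizer ↥Co0 c) ≃*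
      ↥(MulAction.stabilizer ↥Co0 (g • a) ⊓ MulAction.stabilizer ↥Co0 (g • b) ⊓
        MulAction.stabilizer ↥Co0 (g • c))) := by
  refine ⟨((MulAut.conj g).subgroupMap _).trans (MulEquiv.subgroupCongr ?_)⟩
  ext h
  simp only [Subgroup.mem_map, Subgroup.mem_inf, MulAction.mem_stabilizer_iff]
  constructor
  · rintro ⟨k, ⟨⟨k1, k2⟩, k3⟩, rfl⟩
    show ((g * k * g⁻¹) • g • a = g • a ∧ (g * k * g⁻¹) • g • b = g • b) ∧
      (g * k * g⁻¹) • g • c = g • c
    simp only [mul_smul, inv_smul_smul, k1, k2, k3, and_self]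
  · rintro ⟨⟨h1, h2⟩, h3⟩
    exact ⟨g⁻¹ * h * g, ⟨⟨by rw [mul_smul, mul_smul, h1, inv_smul_smul],
      by rw [mul_smul, mul_smul, h2, inv_smul_smul]⟩,
      by rw [mul_smul, mul_smul, h3, inv_smul_smul]⟩,
      show g * (g⁻¹ * h * g) * g⁻¹ = h by group⟩

/-- orbit times point stabiliser -/
theorem card_orbit_stab (V : Subgroup ↥Co0) (y : leechLattice) :
    Nat.card ↥V =
      (MulAction.orbit ↥V y).ncard * Nat.card ↥(V ⊓ MulAction.stabilizer ↥Co0 y) := by
  rw [← (MulAction.stabilizer ↥V y).index_mul_card, MulAction.index_stabilizer]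
  congr 1
  have h : MulAction.stabilizer ↥V y = (V ⊓ MulAction.stabilizer ↥Co0 y).subgroupOf V := by
    ext g
    exact ⟨fun h => ⟨g.2, h⟩, fun h => h.2⟩
  rw [h]
  exact Nat.card_congr (Subgroup.subgroupOfEquivOfLe inf_le_left).toEquiv

end Cfsg.Agent.Leech
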