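import Mathlib
import Cfsg.Prelude.Def_Sporadic_a
import Cfsg.Prelude.Def_Spor_Conway
import Cfsg.Agent.Leech.Cross
import Cfsg.Agent.Leech.Monomial
import Cfsg.Agent.Leech.Hundred
import Cfsg.Agent.Leech.StabM22
import Cfsg.Agent.Leech.SignGroup
import Cfsg.Agent.Leech.UnitaryStab
import Cfsg.Agent.Leech.Co2
import Cfsg.Agent.Leech.LatticeModel
import Cfsg.Agent.Leech.CentTwoData

/-! An upper bound for the centraliser of an octad sign change among the automorphisms of the
lattice fixing the standard short vector. -/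

set_option autoImplicit false

namespace Cfsg.Agent.Leech.CentTwo
open Cfsg

/-- the coordinates of the octad as points -/
def octF : Finset GolayPt := Finset.univ.filter fun p => idx p ∈ octL

/-- the centraliser -/
def CT : Subgroup ↥Co0 := stabU ⊓ Subgroup.centralizer {tGen.g}

theorem tGen_apply (v : leechLattice) (p : GolayPt) :
    ((tGen.g • v : leechLattice) : GolayPt → ℤ) p =
      if p ∈ octF then (v : GolayPt → ℤ) p else -(v : GolayPt → ℤ) p := by
  have h := congrArg (fun l : List ℤ => l.getD (idx p) 0) (tGen.spec v)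
  simp only [toL_getD _ _ (idx_lt p), ptOf_idx] at h
  rw [h]
  have key : ∀ q : GolayPt,
      [0, 1, 2, 3, 4, 5, 6, 7, 8, 9, 10, 11, 12, 13, 14, 15, 16, 17, 18, 19, 20, 21, 22, 23].getD (idx q) 0 = idx q
      ∧ (Nat.testBit 7430140 (idx q) || decide (q ∈ octF)) = true
      ∧ (Nat.testBit 7430140 (idx q) && decide (q ∈ octF)) = false := by decide +kernel
  obtain ⟨k1, k2, k3⟩ := key p
  simp only [tGen, monGen, monF]
  rw [List.getD_eq_getElem?_getD, List.getElem?_map, List.getElem?_range (idx_lt p)]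
  simp only [Option.map_some, Option.getD_some, k1, toL_getD _ _ (idx_lt p), ptOf_idx]
  by_cases hp : p ∈ octF <;> simp [hp] at k2 k3 <;> simp [hp, k2, k3]

theorem fixed_iff (v : leechLattice) :
    tGen.g • v = v ↔ ∀ p ∉ octF, (v : GolayPt → ℤ) p = 0 := by
  constructor
  · intro h p hp
    have := congrFun (congrArg Subtype.val h) p
    rw [tGen_apply, if_neg hp] at this
    omega
  · intro h
    refine Subtype.ext (funext fun p => ?_)
    rw [tGen_apply]
    split_ifs with hp
    · rfl
    · rw [h p hp]; rfl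

theorem mem_CT {g : ↥Co0} :
    g ∈ CT ↔ g • Spor.leechU = Spor.leechU ∧ tGen.g * g = g * tGen.g := by
  simp [CT, stabU, Subgroup.mem_centralizer_iff]

theorem fixed_smul {g : ↥Co0} (hg : g ∈ CT) {v : leechLattice} (hv : tGen.g • v = v) :
    tGen.g • (g • v) = g • v := by
  rw [← mul_smul, (mem_CT.1 hg).2, mul_smul, hv]

theorem eight_dvd_dot (x y : leechLattice) :
    (8 : ℤ) ∣ dotInt (x : GolayPt → ℤ) (y : GolayPt → ℤ) := by
  have h1 := sixteen_dvd_sqNorm (add_mem x.2 y.2)
  have h2 := sixteen_dvd_sqNorm x.2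
  have h3 := sixteen_dvd_sqNorm y.2
  rw [sqNorm_add] at h1
  omega

/-- bounded solutions of a sum of squares -/
def sols : ℕ → ℤ → List (List ℤ)
  | 0, n => if n = 0 then [[]] else []
  | k + 1, n => ([-4, -3, -2, -1, 0, 1, 2, 3, 4] : List ℤ).flatMap fun a =>
      if a * a ≤ n then (sols k (n - a * a)).map (a :: ·) else []

theorem mem_sols : ∀ (l : List ℤ) (n : ℤ), (l.map fun a => a * a).sum = n → n ≤ 16 →
    l ∈ sols l.length n
  | [], n, h, _ => by
    subst h
    decide
  | a :: l, n, h, hn => by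
    simp only [List.map_cons, List.sum_cons] at h
    have h0 : 0 ≤ (l.map fun a => a * a).sum := List.sum_nonneg (by
      intro x hx
      obtain ⟨b, -, rfl⟩ := List.mem_map.1 hx
      exact mul_self_nonneg b)
    have ha : -4 ≤ a ∧ a ≤ 4 := by constructor <;> nlinarith
    simp only [List.length_cons, sols, List.mem_flatMap]
    refine ⟨a, ?_, ?_⟩
    · obtain ⟨h1, h2⟩ := ha
      interval_cases a <;> decide
    · have := mul_self_nonneg a
      rw [if_pos (by omega), List.mem_map]
      exact ⟨l, mem_sols l _ (by omega) (by omega), rfl⟩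

/-- the scalar product on the octad -/
def dot8 : List ℤ → List ℤ → ℤ
  | a :: s, b :: t => a * b + dot8 s t
  | _, _ => 0

/-- membership in a list of coordinate lists -/
def inList (l : List ℤ) (L : List (List ℤ)) : Bool := L.any fun m => Model.eqZ l m

/-- every admissible half vector is among the candidates -/
def enumCheck (T : List (List ℤ)) : Bool :=
  ([0, 1, 2, 3, 4] : List ℤ).all fun a =>
    (sols 6 (16 - a * a - (4 - a) * (4 - a))).all fun l =>
      let w := (a :: (4 - a) :: l).map (2 * ·)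
      inList w s126 || T.any fun t => decide (dot8 t w % 8 ≠ 0)

/-- the restriction to the octad -/
def res (v : leechLattice) : List ℤ := octL.map fun i => (v : GolayPt → ℤ) (ptOf i)

theorem enum_ok : enumCheck (tests.map res) = true := by decide +kernel

theorem octL_pts : (octL.map ptOf).Nodup ∧ (octL.map ptOf).toFinset = octF ∧
    ptOf 0 = none ∧ ptOf 1 = some 0 := by decide +kernel

theorem sum_oct (f : GolayPt → ℤ) (h : ∀ p ∉ octF, f p = 0) :
    ∑ p, f p = (octL.map fun i => f (ptOf i)).sum := by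
  obtain ⟨h1, h2, -, -⟩ := octL_pts
  rw [← Finset.sum_subset (Finset.subset_univ octF) (fun p _ hp => h p hp), ← h2,
    List.sum_toFinset _ h1, List.map_map]
  rfl

theorem res_mem {v : leechLattice} (h1 : tGen.g • v = v) (h2 : sqNorm (v : GolayPt → ℤ) = 64)
    (h3 : dotInt Spor.vecU (v : GolayPt → ℤ) = 32) : res v ∈ s126 := by
  rw [fixed_iff] at h1
  have hev : ∀ p, (2 : ℤ) ∣ (v : GolayPt → ℤ) p := fun p => by
    have hp : ptOf 2 ∉ octF := by decide +kernel
    have := parity_dvd v p (ptOf 2)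
    rwa [h1 _ hp, sub_zero] at this
  choose y hy using hev
  have hsq : sqNorm (v : GolayPt → ℤ) = 4 * (octL.map fun i => y (ptOf i) * y (ptOf i)).sum := by
    rw [sqNorm, sum_oct _ (fun p hp => by rw [h1 p hp]; rfl), ← List.sum_map_mul_left]
    refine congrArg List.sum (List.map_congr_left fun i _ => ?_)
    rw [hy]; ring
  have hU : dotInt Spor.vecU (v : GolayPt → ℤ) = 8 * (y (ptOf 0) + y (ptOf 1)) := by
    rw [dot_vecU, hy, hy, octL_pts.2.2.1, octL_pts.2.2.2]; ring
  set l : List ℤ := [13, 15, 17, 18, 19, 23].map fun i => y (ptOf i)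
  have hl : octL.map (fun i => y (ptOf i)) = y (ptOf 0) :: y (ptOf 1) :: l := rfl
  have hres : res v = (y (ptOf 0) :: y (ptOf 1) :: l).map (2 * ·) := by
    rw [← hl, List.map_map]
    exact List.map_congr_left fun i _ => hy _
  have h16 : y (ptOf 0) * y (ptOf 0) + (y (ptOf 1) * y (ptOf 1) + (l.map fun a => a * a).sum) = 16 := by
    have e : (octL.map fun i => y (ptOf i) * y (ptOf i)) =
        (y (ptOf 0) :: y (ptOf 1) :: l).map fun a => a * a := by rfl
    rw [e] at hsq
    simp only [List.map_cons, List.sum_cons] at hsq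
    omega
  have hb : y (ptOf 1) = 4 - y (ptOf 0) := by omega
  have h0 : 0 ≤ (l.map fun a => a * a).sum := List.sum_nonneg (by
    intro x hx
    obtain ⟨b, -, rfl⟩ := List.mem_map.1 hx
    exact mul_self_nonneg b)
  rw [hb] at h16
  have ha : 0 ≤ y (ptOf 0) ∧ y (ptOf 0) ≤ 4 := by constructor <;> nlinarith
  have hmem := mem_sols l _ (show (l.map fun a => a * a).sum =
    16 - y (ptOf 0) * y (ptOf 0) - (4 - y (ptOf 0)) * (4 - y (ptOf 0)) by omega)
    (by nlinarith [mul_self_nonneg (y (ptOf 0)), mul_self_nonneg (4 - y (ptOf 0))])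
  have hc := List.all_eq_true.1 (List.all_eq_true.1 enum_ok (y (ptOf 0)) (by
    obtain ⟨a1, a2⟩ := ha
    interval_cases (y (ptOf 0)) <;> decide)) l hmem
  rw [← hb] at hc
  simp only [Bool.or_eq_true, List.any_eq_true, decide_eq_true_eq, inList] at hc
  rw [← hres] at hc
  rcases hc with ⟨m, hm, he⟩ | ⟨t, ht, hne⟩
  · rw [Model.eq_of_eqZ he]; exact hm
  · exfalso
    simp only [tests, List.map_cons, List.map_nil, List.mem_cons, List.not_mem_nil, or_false] at ht
    have key : ∀ u : leechLattice, dot8 (res u) (res v) % 8 = 0 := fun u => by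
      have h := eight_dvd_dot u v
      rw [dotInt, sum_oct _ (fun p hp => by rw [h1 p hp, mul_zero])] at h
      have e : dot8 (res u) (res v) =
          (octL.map fun i => (u : GolayPt → ℤ) (ptOf i) * (v : GolayPt → ℤ) (ptOf i)).sum := by
        simp [res, octL, dot8]
      omega
    rcases ht with rfl | rfl | rfl | rfl <;> exact hne (key _)

/-- the fixed vectors of squared length 64 with scalar product 32 -/
def pts126 : Set leechLattice :=
  {v | tGen.g • v = v ∧ sqNorm (v : GolayPt → ℤ) = 64 ∧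
    dotInt Spor.vecU (v : GolayPt → ℤ) = 32}

theorem res_injOn : Set.InjOn res pts126 := fun a ha b hb h => by
  refine Subtype.ext (funext fun p => ?_)
  by_cases hp : p ∈ octF
  · rw [← octL_pts.2.1, List.mem_toFinset] at hp
    obtain ⟨i, hi, rfl⟩ := List.mem_map.1 hp
    exact List.map_eq_map_iff.1 h i hi
  · rw [(fixed_iff a).1 ha.1 p hp, (fixed_iff b).1 hb.1 p hp]

theorem ncard_pts126 : pts126.ncard ≤ 126 := by
  rw [← res_injOn.ncard_image]
  have h : res '' pts126 ⊆ ↑s126.toFinset := by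
    rintro _ ⟨v, ⟨a, b, c⟩, rfl⟩
    exact List.mem_toFinset.2 (res_mem a b c)
  refine (Set.ncard_le_ncard h).trans ?_
  rw [Set.ncard_coe_finset]
  exact (List.toFinset_card_le _).trans (show s126.length ≤ 126 by decide +kernel)

theorem smul_pts {g : ↥Co0} (hg : g ∈ CT) {v : leechLattice} (hv : v ∈ pts126) :
    g • v ∈ pts126 := by
  refine ⟨fixed_smul hg hv.1, by rw [sqNorm_smul]; exact hv.2.1, ?_⟩
  have := dotInt_smul g Spor.leechU v
  rw [(mem_CT.1 hg).1] at this
  exact this.trans hv.2.2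

theorem oct_none_mem : oct none ∈ pts126 :=
  ⟨(fixed_iff _).2 (by decide +kernel), by decide +kernel, by decide +kernel⟩

/-- twice the octad word -/
def octX : leechLattice :=
  ⟨ofL [2, 2, 0, 0, 0, 0, 0, 0, 0, 0, 0, 0, 0, 2, 0, 2, 0, 2, 2, 2, 0, 0, 0, 2],
    mem_of_parity _ 0 (by decide +kernel) (by decide +kernel) (by decide +kernel)⟩

theorem octX_spec : ∀ p, (octX : GolayPt → ℤ) p = if p ∈ octF then 2 else 0 := by decide +kernel

theorem octX_mem : octX ∈ hX77 :=
  ⟨octF, Finset.mem_filter.2 ⟨(Set.Finite.mem_toFinset _).2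
    ⟨⟨_, (mem_iff (bitWord (2 ^ 24 - 1 - 7430140))).2 (by decide +kernel), by decide +kernel⟩,
      by decide +kernel⟩, by decide +kernel⟩, funext octX_spec⟩

theorem card_perm_part :
    Nat.card ↥(stdStab ⊓ MulAction.stabilizer ↥Co0 octX) ≤ 5760 := by
  have h := card_orbit_stab stdStab octX
  rw [card_stdStab] at h
  have hsub : hX77 ⊆ MulAction.orbit ↥stdStab octX := fun y hy => by
    obtain ⟨g, a, b, c, d⟩ := trans77 octX_mem hy
    exact ⟨⟨g, ⟨a, b⟩, c⟩, d⟩
  have := Set.ncard_le_ncard hsub (finite_orbit _ _)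
  rw [ncard_hX77] at this
  have hmul := Nat.mul_le_mul_right (Nat.card ↥(stdStab ⊓ MulAction.stabilizer ↥Co0 octX)) this
  omega

theorem card_dword : Nat.card {c : GolayPt → ZMod 2 // IsDWord c} ≤ 1024 := by
  set L := allMasks.filter fun m => m % 4 == 0 with hL
  have hmem : ∀ i : Fin L.length, IsDWord (bitWord L[i]) := fun i => by
    obtain ⟨h1, h2⟩ := List.mem_filter.1 (List.getElem_mem (l := L) i.2)
    exact ⟨bitWord_mem h1, (bit_zero_iff _).2 (by simpa using h2)⟩
  refine (Nat.card_le_card_of_surjective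
    (fun i => (⟨_, hmem i⟩ : {c // IsDWord c})) ?_).trans ?_
  · rintro ⟨c, hc⟩
    obtain ⟨m, hm, hm4, rfl⟩ := exists_dmask hc
    obtain ⟨i, hi, e⟩ := List.getElem_of_mem (show m ∈ L from List.mem_filter.2 ⟨hm, by simp [hm4]⟩)
    exact ⟨⟨i, hi⟩, Subtype.ext (by simp [e])⟩
  · rw [Nat.card_eq_fintype_card, Fintype.card_fin, hL]
    exact (show (allMasks.filter fun m => m % 4 == 0).length ≤ 1024 by decide +kernel)

theorem mono_stab {g : ↥Co0} (hg : g ∈ CT) (h0 : g • oct none = oct none) :
    ∃ c : {c : GolayPt → ZMod 2 // IsDWord c}, ∃ p : ↥(stdStab ⊓ MulAction.stabilizer ↥Co0 octX),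
      g = signCo0 c.1 c.2.1 * p.1 := by
  have hU := (mem_CT.1 hg).1
  have hcross : ∀ i, ((g • oct i : leechLattice) : GolayPt → ℤ) ∈ stdCross := fun i => by
    by_cases hi : i = none
    · rw [hi, h0]; exact oct_mem_stdCross none
    refine stdCross_class (oct_mem_stdCross none) (by rw [sqNorm_smul]; exact (stdCross_mem (oct_mem_stdCross i)).2)
      (g • fourPair none i 1 (-1) (by norm_num)).2 ?_
    have e : oct none = oct i + (fourPair none i 1 (-1) (by norm_num) + fourPair none i 1 (-1) (by norm_num)) := by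
      refine Subtype.ext (funext fun p => ?_)
      simp only [fourPair, AddSubgroup.coe_add, oct, Pi.add_apply, Pi.single_apply]
      split_ifs <;> first | omega | simp_all
    have h := congrArg (fun z : leechLattice => ((g • z : leechLattice) : GolayPt → ℤ)) e
    simp only [h0, smul_add', AddSubgroup.coe_add] at h
    rw [h]; abel
  obtain ⟨σ, hσ, c, hc, rfl⟩ := exists_of_stdFrame g hcross
  have happ : ∀ (v : leechLattice) (p : GolayPt),
      (((signCo0 c hc * permCo0 σ hσ) • v : leechLattice) : GolayPt → ℤ) p =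
        if c p = 0 then (v : GolayPt → ℤ) (σ⁻¹ p) else -(v : GolayPt → ℤ) (σ⁻¹ p) := fun v p => by
    rw [mul_smul, signCo0_apply]
    simp only [negOn, permCo0_apply]
  have hfix : ∀ a : GolayPt, (signCo0 c hc * permCo0 σ hσ) • oct a = oct a → c a = 0 ∧ σ a = a := by
    intro a ha
    have h := congrFun (congrArg Subtype.val ha) a
    rw [happ] at h
    simp only [oct, Pi.single_eq_same, Pi.single_apply] at h
    have hσa : σ⁻¹ a = a := by
      by_contra hne
      rw [if_neg hne] at h
      split_ifs at h <;> omega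
    refine ⟨?_, by conv_lhs => rw [← hσa, show σ (σ⁻¹ a) = a by simp]⟩
    by_contra hca
    simp [hσa, hca] at h
  have h1 : (signCo0 c hc * permCo0 σ hσ) • oct (some 0) = oct (some 0) := by
    have e : oct (some 0) = (Spor.leechU + Spor.leechU) + -oct none :=
      Subtype.ext (by decide +kernel)
    rw [e, smul_add', smul_add', smul_neg', hU, h0]
  obtain ⟨c0, σ0⟩ := hfix none h0
  obtain ⟨c1, σ1⟩ := hfix (some 0) h1
  obtain ⟨p1, p2, p3⟩ := perm_fix hσ σ0 σ1
  have hO : ∀ q ∈ octF, σ q ∈ octF := by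
    intro q hq
    by_contra hne
    have := (fixed_iff _).1 (fixed_smul hg ((fixed_iff octX).2 fun p hp => by
      rw [octX_spec, if_neg hp])) (σ q) hne
    rw [happ, show σ⁻¹ (σ q) = q by simp, octX_spec, if_pos hq] at this
    split_ifs at this <;> omega
  have himg : octF.image σ = octF :=
    Finset.eq_of_subset_of_card_le (fun _ hp => by
      obtain ⟨q, hq, rfl⟩ := Finset.mem_image.1 hp
      exact hO q hq) (by rw [Finset.card_image_of_injective _ σ.injective])
  have hX : permCo0 σ hσ • octX = octX := by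
    refine Subtype.ext (funext fun p => ?_)
    obtain ⟨q, rfl⟩ : ∃ q, σ q = p := ⟨σ⁻¹ p, by simp⟩
    rw [permCo0_apply, show σ⁻¹ (σ q) = q by simp, octX_spec, octX_spec]
    refine if_congr ⟨hO q, fun h => ?_⟩ rfl rfl
    rw [← himg, Finset.mem_image] at h
    obtain ⟨r, hr, e⟩ := h
    rwa [← σ.injective e]
  exact ⟨⟨c, hc, c0, c1⟩, ⟨permCo0 σ hσ, ⟨⟨p1, p2⟩, p3⟩, hX⟩, rfl⟩

theorem card_CT_le : Nat.card ↥CT ≤ 743178240 := by
  have := finite_co0
  rw [card_orbit_stab CT (oct none)]
  have h1 : (MulAction.orbit ↥CT (oct none)).ncard ≤ 126 := by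
    refine le_trans (Set.ncard_le_ncard ?_ ?_) ncard_pts126
    · rintro _ ⟨⟨g, hg⟩, rfl⟩
      exact smul_pts hg oct_none_mem
    · refine Set.Finite.of_finite_image ?_ res_injOn
      exact s126.finite_toSet.subset (by rintro _ ⟨v, ⟨a, b, c⟩, rfl⟩; exact res_mem a b c)
  have h2 : Nat.card ↥(CT ⊓ MulAction.stabilizer ↥Co0 (oct none)) ≤ 1024 * 5760 := by
    choose fc fp hf using fun g : ↥(CT ⊓ MulAction.stabilizer ↥Co0 (oct none)) =>
      mono_stab g.2.1 g.2.2
    refine (Nat.card_le_card_of_injective (fun g => (fc g, fp g)) ?_).trans ?_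
    · intro a b e
      simp only [Prod.mk.injEq] at e
      exact Subtype.ext (by rw [hf a, hf b, e.1, e.2])
    · rw [Nat.card_prod]
      exact Nat.mul_le_mul card_dword card_perm_part
  exact (Nat.mul_le_mul h1 h2).trans (by norm_num)

end Cfsg.Agent.Leech.CentTwo
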