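import Mathlib
import Cfsg.Prelude.Def_Sporadic_a
import Cfsg.Prelude.Def_Spor_Conway
import Cfsg.Agent.Leech.CentTwoBound
import Cfsg.Agent.Classical.SympGroup

/-! The centraliser of the octad sign change acts on sixty-three pairs as the symplectic group,
with an explicit kernel of order 512. -/

set_option autoImplicit false

namespace Cfsg.Agent.Leech.CentTwo
open Cfsg

/-- a vector from its restriction to the octad -/
def liftL (l : List ℤ) : List ℤ :=
  (List.range 24).map fun i => if i ∈ octL then l.getD (octL.idxOf i) 0 else 0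

theorem pairVec_mem (j : Fin 63) : ofL (liftL (s126.getD (pairL.getD j 0) [])) ∈ leechLattice :=
  mem_of_parity _ 0 (by revert j; decide +kernel) (by revert j; decide +kernel)
    (by revert j; decide +kernel)

/-- the representative of a pair -/
def pA (j : Fin 63) : leechLattice := ⟨_, pairVec_mem j⟩

/-- its partner -/
def pB (j : Fin 63) : leechLattice := (Spor.leechU + Spor.leechU) + -pA j

theorem pA_mem (j : Fin 63) : pA j ∈ pts126 := by
  refine ⟨(fixed_iff _).2 ?_, ?_, ?_⟩ <;> revert j <;> decide +kernel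

theorem pB_mem (j : Fin 63) : pB j ∈ pts126 := by
  refine ⟨(fixed_iff _).2 ?_, ?_, ?_⟩ <;> revert j <;> decide +kernel

theorem pairs_check :
    (∀ l ∈ s126, ((List.finRange 63).any fun j =>
      Model.eqZ l (res (pA j)) || Model.eqZ l (res (pB j))) = true) ∧
    ((List.finRange 63).all fun j => (List.finRange 63).all fun k => decide (j = k) ||
      !(Model.eqZ (res (pA j)) (res (pA k)) || Model.eqZ (res (pA j)) (res (pB k)))) = true := by
  decide +kernel

theorem exists_pair {v : leechLattice} (hv : v ∈ pts126) : ∃ j, v = pA j ∨ v = pB j := by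
  have h := pairs_check.1 _ (res_mem hv.1 hv.2.1 hv.2.2)
  obtain ⟨j, -, hj⟩ := List.any_eq_true.1 h
  rw [Bool.or_eq_true] at hj
  rcases hj with e | e
  · exact ⟨j, Or.inl (res_injOn hv (pA_mem j) (Model.eq_of_eqZ e))⟩
  · exact ⟨j, Or.inr (res_injOn hv (pB_mem j) (Model.eq_of_eqZ e))⟩

theorem pair_unique {j k : Fin 63} (h : pA j = pA k ∨ pA j = pB k) : j = k := by
  have := List.all_eq_true.1 (List.all_eq_true.1 pairs_check.2 j (List.mem_finRange j)) k
    (List.mem_finRange k)
  simp only [Bool.or_eq_true, decide_eq_true_eq, Bool.not_eq_true', Bool.or_eq_false_iff] at this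
  rcases this with e | ⟨e1, e2⟩
  · exact e
  · rcases h with h | h
    · rw [h, Model.eqZ_refl] at e1; cases e1
    · rw [h, Model.eqZ_refl] at e2; cases e2

theorem smul_pB {g : ↥Co0} (hg : g ∈ CT) (j : Fin 63) :
    g • pB j = (Spor.leechU + Spor.leechU) + -(g • pA j) := by
  rw [pB, smul_add', smul_add', smul_neg', (mem_CT.1 hg).1]

theorem pair_flip (j : Fin 63) : (Spor.leechU + Spor.leechU) + -pB j = pA j := by
  rw [pB]; abel

theorem exists_image (g : ↥CT) (j : Fin 63) :
    ∃ k, g.1 • pA j = pA k ∨ g.1 • pA j = pB k := exists_pair (smul_pts g.2 (pA_mem j))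

/-- the action on pairs -/
noncomputable def actFun (g : ↥CT) (j : Fin 63) : Fin 63 := (exists_image g j).choose

theorem actFun_spec (g : ↥CT) (j : Fin 63) :
    g.1 • pA j = pA (actFun g j) ∨ g.1 • pA j = pB (actFun g j) := (exists_image g j).choose_spec

theorem actFun_eq (g : ↥CT) (j k : Fin 63) (h : g.1 • pA j = pA k ∨ g.1 • pA j = pB k) :
    actFun g j = k := by
  rcases actFun_spec g j with e | e <;> rcases h with h | h <;> rw [e] at h
  · exact pair_unique (Or.inl h)
  · exact pair_unique (Or.inr h)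
  · exact (pair_unique (Or.inr h.symm)).symm
  · refine pair_unique (Or.inl ?_)
    rw [← pair_flip (actFun g j), h, pair_flip]

theorem actFun_mul (g h : ↥CT) (j : Fin 63) : actFun (g * h) j = actFun g (actFun h j) := by
  refine actFun_eq _ _ _ ?_
  rw [show (g * h : ↥CT).1 = g.1 * h.1 from rfl, mul_smul]
  rcases actFun_spec h j with e | e <;> rw [e]
  · exact actFun_spec g _
  · rw [smul_pB g.2]
    rcases actFun_spec g (actFun h j) with e' | e' <;> rw [e']
    · exact Or.inr rfl
    · exact Or.inl (pair_flip _)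

theorem actFun_one (j : Fin 63) : actFun 1 j = j :=
  actFun_eq _ _ _ (Or.inl (one_smul _ _))

/-- the action as a homomorphism -/
noncomputable def act : ↥CT →* Equiv.Perm (Fin 63) :=
  MonoidHom.mk'
    (fun g => ⟨actFun g, actFun g⁻¹,
      fun j => by rw [← actFun_mul, inv_mul_cancel, actFun_one],
      fun j => by rw [← actFun_mul, mul_inv_cancel, actFun_one]⟩)
    fun a b => Equiv.ext fun j => actFun_mul a b j

theorem mem_CT_of_lists {a : LGen}
    (h0 : a.f (toL (Spor.leechU : GolayPt → ℤ)) = toL (Spor.leechU : GolayPt → ℤ))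
    (h : ∀ i, tGen.f (a.f (toL (oct i : GolayPt → ℤ))) = a.f (tGen.f (toL (oct i : GolayPt → ℤ)))) :
    a.g ∈ CT :=
  mem_CT.2 ⟨Subtype.ext (toL_injective ((a.spec _).trans h0)), ext_of_oct fun i =>
    Subtype.ext (toL_injective (by
      rw [mul_smul, mul_smul, tGen.spec, a.spec, a.spec, tGen.spec]; exact h i))⟩

theorem qGens_mem : ∀ a ∈ qGens, a.g ∈ CT := by
  intro a ha
  simp only [qGens, List.mem_cons, List.not_mem_nil, or_false] at ha
  rcases ha with rfl | rfl | rfl | rfl <;>
    exact mem_CT_of_lists (by decide +kernel) (by decide +kernel)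

theorem kGens_mem : ∀ a ∈ kGens, a.g ∈ CT := by
  intro a ha
  simp only [kGens, List.mem_cons, List.not_mem_nil, or_false] at ha
  rcases ha with rfl | rfl | rfl | rfl | rfl | rfl | rfl | rfl | rfl <;>
    exact mem_CT_of_lists (by decide +kernel) (by decide +kernel)

theorem qAct_check : ((List.range 4).all fun a => (List.finRange 63).all fun j =>
    let k : Fin 63 := Fin.ofNat 63 (Model.pk 10 (pairPerms.getD a 0) j)
    let z := ((qGens.map LGen.f).getD a id) (toL (pA j : GolayPt → ℤ))
    Model.eqZ z (toL (pA k : GolayPt → ℤ)) || Model.eqZ z (toL (pB k : GolayPt → ℤ))) = true := by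
  decide +kernel

theorem kAct_check : ((kGens.map LGen.f).all fun f => (List.finRange 63).all fun j =>
    let z := f (toL (pA j : GolayPt → ℤ))
    Model.eqZ z (toL (pA j : GolayPt → ℤ)) || Model.eqZ z (toL (pB j : GolayPt → ℤ))) = true := by
  decide +kernel

theorem genGroup_le : Model.genGroup 63 pairPerms ≤ act.range := by
  refine (Subgroup.closure_le _).2 ?_
  rintro β ⟨P, hP, hβ⟩
  obtain ⟨a, ha, rfl⟩ := List.getElem_of_mem hP
  have ha4 : a < qGens.length := ha
  refine ⟨⟨qGens[a].g, qGens_mem _ (List.getElem_mem ha4)⟩, Equiv.ext fun j => actFun_eq _ _ _ ?_⟩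
  have h := List.all_eq_true.1 (List.all_eq_true.1 qAct_check a (List.mem_range.2 ha)) j
    (List.mem_finRange j)
  simp only [Bool.or_eq_true] at h
  have hk : (Fin.ofNat 63 (Model.pk 10 (pairPerms.getD a 0) j)) = β j := by
    rw [List.getD_eq_getElem?_getD, List.getElem?_eq_getElem ha, Option.getD_some, ← hβ j]
    exact Fin.ext (Nat.mod_eq_of_lt (β j).2)
  have hf : (qGens.map LGen.f).getD a id = qGens[a].f := by
    simp [List.getD_eq_getElem?_getD, ha4]
  rw [hk, hf] at h
  rcases h with e | e
  · exact Or.inl (Subtype.ext (toL_injective ((qGens[a].spec _).trans (Model.eq_of_eqZ e))))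
  · exact Or.inr (Subtype.ext (toL_injective ((qGens[a].spec _).trans (Model.eq_of_eqZ e))))

theorem kGens_ker : ∀ (a : LGen) (ha : a ∈ kGens), (⟨a.g, kGens_mem a ha⟩ : ↥CT) ∈ act.ker := by
  intro a ha
  rw [MonoidHom.mem_ker]
  refine Equiv.ext fun j => actFun_eq _ _ _ ?_
  have h := List.all_eq_true.1 (List.all_eq_true.1 kAct_check a.f (List.mem_map.2 ⟨a, ha, rfl⟩)) j
    (List.mem_finRange j)
  simp only [Bool.or_eq_true] at h
  rcases h with e | e
  · exact Or.inl (Subtype.ext (toL_injective ((a.spec _).trans (Model.eq_of_eqZ e))))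
  · exact Or.inr (Subtype.ext (toL_injective ((a.spec _).trans (Model.eq_of_eqZ e))))

/-- the generators inside the kernel -/
noncomputable def kK : List (↥act.ker × (List ℤ → List ℤ)) :=
  kGens.attach.map fun a => (⟨⟨a.1.g, kGens_mem a.1 a.2⟩, kGens_ker a.1 a.2⟩, a.1.f)

/-- elements of the kernel by number -/
noncomputable def kEl (i : ℕ) : List (↥act.ker × (List ℤ → List ℤ)) → ℕ → ↥act.ker
  | [], _ => 1
  | a :: t, k => if i.testBit k then a.1 * kEl i t (k + 1) else kEl i t (k + 1)

/-- their action on lists -/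
def kFun (i : ℕ) : List (List ℤ → List ℤ) → ℕ → List ℤ → List ℤ
  | [], _, l => l
  | f :: t, k, l => if i.testBit k then f (kFun i t (k + 1) l) else kFun i t (k + 1) l

theorem kEl_spec (i : ℕ) : ∀ (L : List (↥act.ker × (List ℤ → List ℤ))) (k : ℕ),
    (∀ a ∈ L, ∀ v : leechLattice, toL ((a.1.1.1 • v : leechLattice) : GolayPt → ℤ) =
      a.2 (toL (v : GolayPt → ℤ))) → ∀ v : leechLattice,
    toL (((kEl i L k).1.1 • v : leechLattice) : GolayPt → ℤ) =
      kFun i (L.map Prod.snd) k (toL (v : GolayPt → ℤ))
  | [], k, _, v => by simp [kEl, kFun]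
  | a :: t, k, h, v => by
    simp only [kEl, kFun, List.map_cons]
    have ih := kEl_spec i t (k + 1) (fun b hb => h b (List.mem_cons_of_mem _ hb))
    split_ifs
    · rw [Subgroup.coe_mul, Subgroup.coe_mul, mul_smul, h a List.mem_cons_self, ih]
    · exact ih v

/-- the action of the numbered element on lists -/
def kF (i : ℕ) : List ℤ → List ℤ := kFun i (kGens.map LGen.f) 0

/-- the numbered element -/
noncomputable def kG (i : Fin 512) : ↥act.ker := kEl i kK 0

theorem kG_spec (i : Fin 512) (v : leechLattice) :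
    toL (((kG i).1.1 • v : leechLattice) : GolayPt → ℤ) = kF i (toL (v : GolayPt → ℤ)) := by
  rw [kG, kEl_spec i kK 0 (fun a ha v => by
    obtain ⟨b, -, rfl⟩ := List.mem_map.1 ha
    exact b.1.spec v) v, kF, kK, List.map_map]
  congr 1

/-- a number for a list -/
def encP (l : List ℤ) : ℕ := l.foldl (fun acc a => acc * 512 + (a + 256).toNat) 0

theorem probe_check :
    Model.noRep 0 ((List.range 512).map fun i => encP (kF i (toL (probeV : GolayPt → ℤ))) % 65539)
      = true := by
  decide +kernel

theorem kG_injective : Function.Injective kG := fun i j e => by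
  refine Fin.ext (Model.noRep_range probe_check i.2 j.2 ?_)
  rw [← kG_spec, ← kG_spec, e]

theorem card_Sp : Nat.card (Matrix.symplecticGroup (Fin 3) (ZMod 2)) = 1451520 := by
  rw [Classical.card_symplecticGroup (q := 2) (ZMod.card 2)]
  decide

theorem counts : Nat.card ↥act.ker = 512 ∧ Nat.card ↥CT = 743178240 ∧
    act.range = Model.genGroup 63 pairPerms ∧ Nat.card ↥(Model.genGroup 63 pairPerms) = 1451520 := by
  have := finite_co0
  have h := act.ker.card_mul_index
  rw [Subgroup.index_ker] at h
  have h1 : 512 ≤ Nat.card ↥act.ker := by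
    have := Nat.card_le_card_of_injective kG kG_injective
    rwa [Nat.card_fin] at this
  have h2 := Model.chain_card pairPerms pairChain pairPerms_check pairChain_check
  rw [pairChain_prod] at h2
  have h3 := Subgroup.card_le_of_le genGroup_le
  have h4 := card_CT_le
  have h5 : Nat.card ↥act.ker = 512 := by
    by_contra hne
    have := Nat.mul_le_mul (show 513 ≤ Nat.card ↥act.ker by omega) (h2.trans h3)
    omega
  have h6 : Nat.card ↥act.range = 1451520 := by
    rw [h5] at h
    omega
  refine ⟨h5, ?_, (Subgroup.eq_of_le_of_card_ge genGroup_le (by omega)).symm, by omega⟩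
  rw [← h, h5, h6]

theorem kG_surjective : Function.Surjective kG := by
  have := finite_co0
  exact (Nat.bijective_iff_injective_and_card _).2
    ⟨kG_injective, by rw [Nat.card_fin, counts.1]⟩ |>.2

theorem eq_of_probe {a b : ↥act.ker}
    (h : (a.1.1 • probeV : leechLattice) = b.1.1 • probeV) : a = b := by
  obtain ⟨i, rfl⟩ := kG_surjective a
  obtain ⟨j, rfl⟩ := kG_surjective b
  congr 1
  refine Fin.ext (Model.noRep_range probe_check i.2 j.2 ?_)
  rw [← kG_spec, ← kG_spec, h]

end Cfsg.Agent.Leech.CentTwo
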