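import Mathlib
import Cfsg.Prelude.Def_Sporadic_a
import Cfsg.Prelude.Def_Spor_Conway
import Cfsg.Prelude.Def_Transfer
import Cfsg.Prelude.Def_Solvable
import Cfsg.Agent.Leech.CentTwoQuot
import Cfsg.Agent.Classical.SympGroup
import Cfsg.Agent.Core.PCore
import Cfsg.Agent.LargeExtra.Quotient

/-! The shape of the centraliser: extraspecial of order 512 extended by the symplectic group. -/

set_option autoImplicit false

namespace Cfsg.Agent.Leech.CentTwo
open Cfsg Matrix
open scoped commutatorElement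

/-- the six coordinates of a pair -/
def vecOf (j : Fin 63) : Fin 3 ⊕ Fin 3 → ZMod 2 :=
  Sum.elim (fun k => if (j.1 + 1).testBit k then 1 else 0)
    (fun k => if (j.1 + 1).testBit (k + 3) then 1 else 0)

theorem vecOf_ne (j : Fin 63) : vecOf j ≠ 0 := by revert j; decide +kernel

/-- pairs are the nonzero vectors -/
noncomputable def vecEquiv : Fin 63 ≃ {v : Fin 3 ⊕ Fin 3 → ZMod 2 // v ≠ 0} :=
  Equiv.ofBijective (fun j : Fin 63 => (⟨vecOf j, vecOf_ne j⟩ : {v : Fin 3 ⊕ Fin 3 → ZMod 2 // v ≠ 0}))
    ((Fintype.bijective_iff_injective_and_card _).2 ⟨by decide +kernel, by decide +kernel⟩)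

theorem mulVec_ne {A : Matrix.symplecticGroup (Fin 3) (ZMod 2)} {v : Fin 3 ⊕ Fin 3 → ZMod 2}
    (hv : v ≠ 0) : (A : Matrix (Fin 3 ⊕ Fin 3) (Fin 3 ⊕ Fin 3) (ZMod 2)) *ᵥ v ≠ 0 := fun h => by
  refine hv ?_
  have := congrArg (fun M : Matrix.symplecticGroup (Fin 3) (ZMod 2) =>
    (M : Matrix (Fin 3 ⊕ Fin 3) (Fin 3 ⊕ Fin 3) (ZMod 2)) *ᵥ v) (inv_mul_cancel A)
  simp only [Submonoid.coe_mul, ← Matrix.mulVec_mulVec, h, Matrix.mulVec_zero, Submonoid.coe_one,
    Matrix.one_mulVec] at this
  exact this.symm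

/-- the action of the symplectic group on the pairs -/
noncomputable def spHom : Matrix.symplecticGroup (Fin 3) (ZMod 2) →* Equiv.Perm (Fin 63) :=
  MonoidHom.mk'
    (fun A => vecEquiv.trans (Equiv.trans
      { toFun := fun v => ⟨(A : Matrix (Fin 3 ⊕ Fin 3) (Fin 3 ⊕ Fin 3) (ZMod 2)) *ᵥ v.1, mulVec_ne v.2⟩
        invFun := fun v => ⟨((A⁻¹ : Matrix.symplecticGroup (Fin 3) (ZMod 2)) :
          Matrix (Fin 3 ⊕ Fin 3) (Fin 3 ⊕ Fin 3) (ZMod 2)) *ᵥ v.1, mulVec_ne v.2⟩
        left_inv := fun v => Subtype.ext (by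
          simp only
          rw [Matrix.mulVec_mulVec, ← Submonoid.coe_mul, inv_mul_cancel, Submonoid.coe_one,
            Matrix.one_mulVec])
        right_inv := fun v => Subtype.ext (by
          simp only
          rw [Matrix.mulVec_mulVec, ← Submonoid.coe_mul, mul_inv_cancel, Submonoid.coe_one,
            Matrix.one_mulVec]) }
      vecEquiv.symm))
    fun A B => Equiv.ext fun j => vecEquiv.injective (Subtype.ext (by
      simp only [Equiv.Perm.mul_apply, Equiv.trans_apply, Equiv.coe_fn_mk, Equiv.apply_symm_apply,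
        Submonoid.coe_mul, Matrix.mulVec_mulVec]))

/-- the position of a coordinate -/
def pos6 : Fin 3 ⊕ Fin 3 → ℕ
  | Sum.inl k => k
  | Sum.inr k => k + 3

/-- the matrices of the generators -/
def genMat (a : Fin 4) : Matrix (Fin 3 ⊕ Fin 3) (Fin 3 ⊕ Fin 3) (ZMod 2) :=
  Matrix.of fun r c => if ((pairMats.getD a []).getD (pos6 c) 0).testBit (pos6 r) then 1 else 0

theorem genMat_check :
    (∀ a : Fin 4, genMat a * Matrix.J (Fin 3) (ZMod 2) * (genMat a)ᵀ = Matrix.J (Fin 3) (ZMod 2)) ∧
    (∀ (a : Fin 4) (j : Fin 63), genMat a *ᵥ vecOf j =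
      vecOf (Fin.ofNat 63 (Model.pk 10 (pairPerms.getD a 0) j))) := by
  decide +kernel

theorem spHom_range : spHom.range = Model.genGroup 63 pairPerms ∧ Function.Injective spHom := by
  have hle : Model.genGroup 63 pairPerms ≤ spHom.range := by
    refine (Subgroup.closure_le _).2 ?_
    rintro β ⟨P, hP, hβ⟩
    obtain ⟨a, ha, rfl⟩ := List.getElem_of_mem hP
    refine ⟨⟨genMat ⟨a, ha⟩, SymplecticGroup.mem_iff.2 (genMat_check.1 _)⟩,
      Equiv.ext fun j => vecEquiv.injective (Subtype.ext ?_)⟩
    simp only [spHom, MonoidHom.mk'_apply, Equiv.trans_apply, Equiv.coe_fn_mk,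
      Equiv.apply_symm_apply]
    show genMat ⟨a, ha⟩ *ᵥ vecOf j = vecOf (β j)
    rw [genMat_check.2]
    congr 1
    rw [List.getD_eq_getElem?_getD, List.getElem?_eq_getElem ha, Option.getD_some, ← hβ j]
    exact Fin.ext (Nat.mod_eq_of_lt (β j).2)
  have h1 : Nat.card ↥spHom.range ≤ Nat.card (Matrix.symplecticGroup (Fin 3) (ZMod 2)) :=
    Nat.card_le_card_of_surjective spHom.rangeRestrict spHom.rangeRestrict_surjective
  rw [card_Sp] at h1
  have h2 := counts.2.2.2
  refine ⟨(Subgroup.eq_of_le_of_card_ge hle (by omega)).symm, ?_⟩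
  have h3 := Subgroup.card_le_of_le hle
  have hb : Function.Bijective spHom.rangeRestrict :=
    (Nat.bijective_iff_surjective_and_card _).2
      ⟨spHom.rangeRestrict_surjective, by rw [card_Sp]; omega⟩
  exact fun a b e => hb.1 (Subtype.ext e)

theorem quot_iso : Nonempty (↥CT ⧸ act.ker ≃* Matrix.symplecticGroup (Fin 3) (ZMod 2)) :=
  ⟨((QuotientGroup.quotientKerEquivRange act).trans
    (MulEquiv.subgroupCongr (counts.2.2.1.trans spHom_range.1.symm))).trans
    (MonoidHom.ofInjective spHom_range.2).symm⟩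

theorem simple_Sp : IsSimpleGroup (Matrix.symplecticGroup (Fin 3) (ZMod 2)) := by
  have hc := Classical.card_center_symplectic (F := ZMod 2) (m := 3) (by norm_num)
  rw [ZMod.card] at hc
  have hbot : Subgroup.center (Matrix.symplecticGroup (Fin 3) (ZMod 2)) = ⊥ :=
    Subgroup.card_eq_one.1 (hc.trans (by norm_num))
  have := Classical.isSimpleGroup_psp (F := ZMod 2) (m := 3) (by norm_num) (fun h => by omega)
  have : Nontrivial (Matrix.symplecticGroup (Fin 3) (ZMod 2)) :=
    Finite.one_lt_card_iff_nontrivial.1 (by rw [card_Sp]; norm_num)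
  exact IsSimpleGroup.isSimpleGroup_of_surjective
    ((QuotientGroup.quotientMulEquivOfEq hbot).trans QuotientGroup.quotientBot).toMonoidHom
    (MulEquiv.surjective _)

theorem ker_isTwoGroup : IsPGroup 2 ↥act.ker :=
  IsPGroup.of_card (n := 9) (by rw [counts.1]; norm_num)

theorem pCore_CT : pCore 2 ↥CT = act.ker := by
  have := finite_co0
  refine le_antisymm ?_ (Core.le_pCore ker_isTwoGroup)
  obtain ⟨e⟩ := quot_iso
  set f : ↥CT →* Matrix.symplecticGroup (Fin 3) (ZMod 2) :=
    e.toMonoidHom.comp (QuotientGroup.mk' act.ker) with hf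
  have hfs : Function.Surjective f := e.surjective.comp (QuotientGroup.mk'_surjective _)
  have hn : ((pCore 2 ↥CT).map f).Normal := Subgroup.Normal.map Core.pCore_normal f hfs
  have hp : IsPGroup 2 ↥((pCore 2 ↥CT).map f) := Core.pCore_isPGroup.map f
  rcases simple_Sp.eq_bot_or_eq_top_of_normal _ hn with h | h
  · intro x hx
    have : f x = 1 := by
      have : f x ∈ (pCore 2 ↥CT).map f := ⟨x, hx, rfl⟩
      rwa [h] at this
    rw [hf, MonoidHom.comp_apply] at this
    exact (QuotientGroup.eq_one_iff x).1 (e.injective (this.trans (map_one e).symm))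
  · exfalso
    obtain ⟨k, hk⟩ := IsPGroup.iff_card.1 hp
    rw [h, Subgroup.card_top, card_Sp] at hk
    have h3 : 3 ∣ 2 ^ k := ⟨483840, by rw [← hk]⟩
    exact absurd (Nat.Prime.dvd_of_dvd_pow Nat.prime_three h3) (by norm_num)

/-- the numbered element is one of the two central ones or fails to commute with a generator -/
def cenTest (i : ℕ) : Bool :=
  decide (i = 0 ∨ i = 31) ||
    (List.range 9).any fun a => !Model.eqZ (kF i (kF (2 ^ a) (toL (probeV : GolayPt → ℤ))))
      (kF (2 ^ a) (kF i (toL (probeV : GolayPt → ℤ))))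

/-- the square is one of the two central elements and the element commutes with the involution -/
def sqTest (i : ℕ) : Bool :=
  (Model.eqZ (kF i (kF i (toL (probeV : GolayPt → ℤ)))) (kF 0 (toL (probeV : GolayPt → ℤ))) ||
    Model.eqZ (kF i (kF i (toL (probeV : GolayPt → ℤ)))) (kF 31 (toL (probeV : GolayPt → ℤ)))) &&
  Model.eqZ (kF i (kF 31 (toL (probeV : GolayPt → ℤ))))
    (kF 31 (kF i (toL (probeV : GolayPt → ℤ))))

theorem cenTest0 : ((List.range 64).all fun i => cenTest (0 + i)) = true := by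
  decide +kernel

theorem sqTest0 : ((List.range 64).all fun i => sqTest (0 + i)) = true := by
  decide +kernel

theorem cenTest1 : ((List.range 64).all fun i => cenTest (64 + i)) = true := by
  decide +kernel

theorem sqTest1 : ((List.range 64).all fun i => sqTest (64 + i)) = true := by
  decide +kernel

theorem cenTest2 : ((List.range 64).all fun i => cenTest (128 + i)) = true := by
  decide +kernel

theorem sqTest2 : ((List.range 64).all fun i => sqTest (128 + i)) = true := by
  decide +kernel

theorem cenTest3 : ((List.range 64).all fun i => cenTest (192 + i)) = true := by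
  decide +kernel

theorem sqTest3 : ((List.range 64).all fun i => sqTest (192 + i)) = true := by
  decide +kernel

theorem cenTest4 : ((List.range 64).all fun i => cenTest (256 + i)) = true := by
  decide +kernel

theorem sqTest4 : ((List.range 64).all fun i => sqTest (256 + i)) = true := by
  decide +kernel

theorem cenTest5 : ((List.range 64).all fun i => cenTest (320 + i)) = true := by
  decide +kernel

theorem sqTest5 : ((List.range 64).all fun i => sqTest (320 + i)) = true := by
  decide +kernel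

theorem cenTest6 : ((List.range 64).all fun i => cenTest (384 + i)) = true := by
  decide +kernel

theorem sqTest6 : ((List.range 64).all fun i => sqTest (384 + i)) = true := by
  decide +kernel

theorem cenTest7 : ((List.range 64).all fun i => cenTest (448 + i)) = true := by
  decide +kernel

theorem sqTest7 : ((List.range 64).all fun i => sqTest (448 + i)) = true := by
  decide +kernel

theorem tests_all (i : Fin 512) : cenTest i = true ∧ sqTest i = true := by
  obtain ⟨q, r, hq, hr, e⟩ : ∃ q r : ℕ, q < 8 ∧ r < 64 ∧ (i : ℕ) = 64 * q + r :=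
    ⟨i / 64, i % 64, by omega, by omega, by omega⟩
  rw [e]
  have key : ∀ (f : ℕ → Bool) (m : ℕ), ((List.range 64).all fun j => f (m + j)) = true →
      f (m + r) = true := fun f m h => List.all_eq_true.1 h r (List.mem_range.2 hr)
  interval_cases q
  · exact ⟨key _ _ cenTest0, key _ _ sqTest0⟩
  · exact ⟨key _ _ cenTest1, key _ _ sqTest1⟩
  · exact ⟨key _ _ cenTest2, key _ _ sqTest2⟩
  · exact ⟨key _ _ cenTest3, key _ _ sqTest3⟩
  · exact ⟨key _ _ cenTest4, key _ _ sqTest4⟩
  · exact ⟨key _ _ cenTest5, key _ _ sqTest5⟩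
  · exact ⟨key _ _ cenTest6, key _ _ sqTest6⟩
  · exact ⟨key _ _ cenTest7, key _ _ sqTest7⟩

theorem kG_zero : kG 0 = 1 := by
  refine eq_of_probe (Subtype.ext (toL_injective ?_))
  rw [kG_spec]
  show kF 0 _ = toL (((1 : ↥Co0) • probeV : leechLattice) : GolayPt → ℤ)
  rw [one_smul]
  decide +kernel

theorem kG_mul_probe (i j : Fin 512) :
    toL (((kG i * kG j).1.1 • probeV : leechLattice) : GolayPt → ℤ) =
      kF i (kF j (toL (probeV : GolayPt → ℤ))) := by
  rw [Subgroup.coe_mul, Subgroup.coe_mul, mul_smul, kG_spec, kG_spec]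

theorem kG_mul_eq {i j k l : Fin 512}
    (h : kF i (kF j (toL (probeV : GolayPt → ℤ))) = kF k (kF l (toL (probeV : GolayPt → ℤ)))) :
    kG i * kG j = kG k * kG l :=
  eq_of_probe (Subtype.ext (toL_injective ((kG_mul_probe i j).trans (h.trans (kG_mul_probe k l).symm))))

theorem isExtraspecial_ker : IsExtraspecial 2 ↥act.ker := by
  have := finite_co0
  have hzc : kG 31 ∈ Subgroup.center ↥act.ker := Subgroup.mem_center_iff.2 fun g => by
    obtain ⟨i, rfl⟩ := kG_surjective g
    have h := (tests_all i).2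
    simp only [sqTest, Bool.and_eq_true] at h
    exact kG_mul_eq (Model.eq_of_eqZ h.2)
  have hne1 : kG 31 ≠ 1 := fun e => absurd (kG_injective (e.trans kG_zero.symm)) (by decide)
  have hsq' : ∀ a : ↥act.ker, a * a = 1 ∨ a * a = kG 31 := fun a => by
    obtain ⟨i, rfl⟩ := kG_surjective a
    have h := (tests_all i).2
    simp only [sqTest, Bool.and_eq_true, Bool.or_eq_true] at h
    rcases h.1 with e | e
    · left
      rw [← kG_zero]
      exact eq_of_probe (Subtype.ext (toL_injective ((kG_mul_probe i i).trans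
        ((Model.eq_of_eqZ e).trans (kG_spec 0 probeV).symm))))
    · right
      exact eq_of_probe (Subtype.ext (toL_injective ((kG_mul_probe i i).trans
        ((Model.eq_of_eqZ e).trans (kG_spec 31 probeV).symm))))
  have hw2 : kG 31 * kG 31 = 1 := by
    rcases hsq' (kG 31) with e | e
    · exact e
    · exact absurd (mul_right_cancel (e.trans (one_mul _).symm)) hne1
  have hcenter : ∀ c ∈ Subgroup.center ↥act.ker, c = 1 ∨ c = kG 31 := fun c hc => by
    obtain ⟨i, rfl⟩ := kG_surjective c
    have h := (tests_all i).1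
    simp only [cenTest, Bool.or_eq_true, decide_eq_true_eq, List.any_eq_true, List.mem_range] at h
    rcases h with (e | e) | ⟨a, ha, e⟩
    · exact Or.inl (by rw [← kG_zero]; exact congrArg kG (Fin.ext e))
    · exact Or.inr (congrArg kG (Fin.ext e))
    · exfalso
      have hlt : 2 ^ a < 512 := by interval_cases a <;> norm_num
      have h2 := congrArg (fun x : ↥act.ker =>
        toL ((x.1.1 • probeV : leechLattice) : GolayPt → ℤ))
        (Subgroup.mem_center_iff.1 hc (kG ⟨2 ^ a, hlt⟩))
      simp only [kG_mul_probe] at h2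
      simp [h2, Model.eqZ_refl] at e
  have hzmul : ∀ {z : ↥act.ker}, z = 1 ∨ z = kG 31 → z ∈ Subgroup.center ↥act.ker := fun h => by
    rcases h with rfl | rfl
    exacts [Subgroup.one_mem _, hzc]
  have hcl : ∀ {x y : ↥act.ker}, x = 1 ∨ x = kG 31 → y = 1 ∨ y = kG 31 →
      x * y = 1 ∨ x * y = kG 31 := fun hx hy => by
    rcases hx with rfl | rfl <;> rcases hy with rfl | rfl <;> simp [hw2]
  have hinv : ∀ {x : ↥act.ker}, x = 1 ∨ x = kG 31 → x⁻¹ = 1 ∨ x⁻¹ = kG 31 := fun hx => by
    rcases hx with rfl | rfl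
    · simp
    · exact Or.inr (inv_eq_of_mul_eq_one_right hw2)
  refine LargeExtra.extraspecial_of ker_isTwoGroup hne1 hw2 hzc hcenter (fun a b => ?_) hsq' ?_
  · have e : ⁅a, b⁆ = (a * b) * (a * b) * (a * a)⁻¹ * (b * b)⁻¹ := by
      have h1 : (a * a) * b⁻¹ = b⁻¹ * (a * a) :=
        (Subgroup.mem_center_iff.1 (hzmul (hsq' a)) b⁻¹).symm
      rw [commutatorElement_def]
      calc a * b * a⁻¹ * b⁻¹ = a * b * (a * (a * a)⁻¹) * b⁻¹ := by group
        _ = a * b * a * ((a * a)⁻¹ * b⁻¹) := by group
        _ = a * b * a * (b⁻¹ * (a * a)⁻¹) := by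
          congr 1
          exact (Subgroup.mem_center_iff.1 (Subgroup.inv_mem _ (hzmul (hsq' a))) b⁻¹).symm
        _ = a * b * a * (b * (b * b)⁻¹ * (a * a)⁻¹) := by group
        _ = a * b * a * b * ((b * b)⁻¹ * (a * a)⁻¹) := by group
        _ = a * b * a * b * ((a * a)⁻¹ * (b * b)⁻¹) := by
          congr 1
          exact Subgroup.mem_center_iff.1 (Subgroup.inv_mem _ (hzmul (hsq' a))) _
        _ = _ := by group
    rw [e]
    exact hcl (hcl (hsq' _) (hinv (hsq' a))) (hinv (hsq' b))
  · by_contra! h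
    have h2 := congrArg (fun x : ↥act.ker => toL ((x.1.1 • probeV : leechLattice) : GolayPt → ℤ))
      (h (kG ⟨1, by norm_num⟩) (kG ⟨256, by norm_num⟩))
    simp only [kG_mul_probe] at h2
    revert h2
    decide +kernel

end Cfsg.Agent.Leech.CentTwo
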