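import Mathlib
import Cfsg.Prelude.Def_Sporadic
import Cfsg.Prelude.Def_Spor_Conway
import Cfsg.Agent.Leech.Co2
import Cfsg.Agent.Leech.OrbitCert
import Cfsg.Agent.Leech.Blocks
import Cfsg.Agent.Leech.PairsOrth
import Cfsg.Agent.S0397
import Cfsg.Agent.S0398

/-! The automorphism group of the lattice modulo its centre is simple. -/

set_option autoImplicit false

namespace Cfsg.Agent.Leech
open Cfsg

/-- minus the identity -/
def zneg : ↥Co0 := signCo0 1 one_mem

theorem zneg_smul (v : leechLattice) : zneg • v = -v := Subtype.ext (by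
  rw [zneg, signCo0_apply, negOn_one]; rfl)

theorem zneg_comm (g : ↥Co0) : g * zneg = zneg * g :=
  ext_of_oct fun i => by rw [mul_smul, mul_smul, zneg_smul, zneg_smul, smul_neg']

theorem zneg_ne_one : zneg ≠ 1 := by
  intro h
  have := congrArg (fun v : leechLattice => (v : GolayPt → ℤ) none) (zneg_smul (oct none))
  rw [h, one_smul] at this
  simp [oct] at this

theorem zneg_sq : zneg ^ 2 = 1 := by
  rw [sq]
  exact ext_of_oct fun i => by rw [mul_smul, zneg_smul, zneg_smul, neg_neg, one_smul]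

theorem zneg_mem_center : zneg ∈ Subgroup.center ↥Co0 :=
  Subgroup.mem_center_iff.2 zneg_comm

theorem dot_neg (x y : GolayPt → ℤ) : dotInt x (-y) = -dotInt x y := by
  simp [dotInt, Finset.sum_neg_distrib, -Fintype.sum_option]

theorem norm_add (x y : GolayPt → ℤ) :
    sqNorm (x + y) = sqNorm x + 2 * dotInt x y + sqNorm y := by
  simp only [sqNorm, dotInt, Finset.mul_sum, ← Finset.sum_add_distrib, Pi.add_apply]
  exact Finset.sum_congr rfl fun i _ => by ring

/-- scalar products of short vectors -/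
theorem dot_cases (v w : leechLattice) (hv : sqNorm (v : GolayPt → ℤ) = 32)
    (hw : sqNorm (w : GolayPt → ℤ) = 32) (h1 : w ≠ v) (h2 : w ≠ -v) :
    dotInt (v : GolayPt → ℤ) (w : GolayPt → ℤ) = 0 ∨
    (dotInt (v : GolayPt → ℤ) (w : GolayPt → ℤ) = 16 ∨ dotInt (v : GolayPt → ℤ) (w : GolayPt → ℤ) = -16) ∨
    (dotInt (v : GolayPt → ℤ) (w : GolayPt → ℤ) = 8 ∨ dotInt (v : GolayPt → ℤ) (w : GolayPt → ℤ) = -8) := by
  have hp : (v : GolayPt → ℤ) + (w : GolayPt → ℤ) ≠ 0 := fun e =>
    h2 (Subtype.ext (by rw [AddSubgroup.coe_neg]; exact eq_neg_of_add_eq_zero_right e))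
  have hm : (v : GolayPt → ℤ) + -(w : GolayPt → ℤ) ≠ 0 := fun e =>
    h1 (Subtype.ext (add_neg_eq_zero.1 e).symm)
  have a := min_norm (add_mem v.2 w.2) hp
  have b := min_norm (add_mem v.2 (neg_mem w.2)) hm
  have c := sixteen_dvd_sqNorm (add_mem v.2 w.2)
  have hn : sqNorm (-(w : GolayPt → ℤ)) = 32 := by
    simpa [sqNorm, -Fintype.sum_option] using hw
  rw [norm_add, hv, hw] at a c
  rw [norm_add, hv, hn, dot_neg] at b
  omega

/-- the classes around the standard short vector -/
def dotCls (d : ℤ) : Set leechLattice :=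
  {w | w ∈ layer 32 ∧ dotInt Spor.vecU (w : GolayPt → ℤ) = d}

theorem ncard_dotCls : (dotCls 16).ncard = 4600 ∧ (dotCls (-16)).ncard = 4600 ∧
    (dotCls 8).ncard = 47104 ∧ (dotCls (-8)).ncard = 47104 ∧ (dotCls 0).ncard = 93150 := by
  have hU : sqNorm (Spor.leechU : GolayPt → ℤ) = 32 := show sqNorm Spor.vecU = 32 by decide +kernel
  obtain ⟨c4, c2, c0⟩ := ncard_pairSum32
  have hneg : ∀ d, (dotCls d).ncard = (dotCls (-d)).ncard := fun d =>
    ncard_move zneg _ _ fun w => by
      show (sqNorm (w : GolayPt → ℤ) = 32 ∧ _) ↔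
        (sqNorm ((zneg • w : leechLattice) : GolayPt → ℤ) = 32 ∧ _)
      rw [sqNorm_smul, zneg_smul, AddSubgroup.coe_neg, dot_neg]
      exact and_congr_right fun _ => by constructor <;> intro h <;> omega
  have e4 : (dotCls (-16)).ncard = 4600 := by
    rw [← c4, ← ncard_layer_dot Spor.leechU hU 8 (-16) (-4) (by norm_num)]; rfl
  have e2 : (dotCls (-8)).ncard = 47104 := by
    rw [← c2, ← ncard_layer_dot Spor.leechU hU 8 (-8) (-2) (by norm_num)]; rfl
  refine ⟨by rw [hneg 16]; exact e4, e4, by rw [hneg 8]; exact e2, e2, ?_⟩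
  rw [← c0, ← ncard_layer_dot Spor.leechU hU 8 0 0 (by norm_num)]; rfl

theorem trans_dotCls (d : ℤ) (hd : d = 0 ∨ (d = 16 ∨ d = -16) ∨ (d = 8 ∨ d = -8))
    {a b : leechLattice} (ha : a ∈ dotCls d) (hb : b ∈ dotCls d) :
    ∃ g : ↥Co0, g • Spor.leechU = Spor.leechU ∧ g • a = b := by
  have hU : sqNorm (Spor.leechU : GolayPt → ℤ) = 32 := show sqNorm Spor.vecU = 32 by decide +kernel
  have hneg : ∀ D, D = -16 ∨ D = -8 → dotInt Spor.vecU (a : GolayPt → ℤ) = D →
      dotInt Spor.vecU (b : GolayPt → ℤ) = D →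
      ∃ g : ↥Co0, g • Spor.leechU = Spor.leechU ∧ g • a = b := fun D hD x y =>
    trans_pairs' Spor.leechU a Spor.leechU b hU ha.1 hU hb.1 D hD x y
  have hpos : ∀ D, D = -16 ∨ D = -8 → dotInt Spor.vecU (a : GolayPt → ℤ) = -D →
      dotInt Spor.vecU (b : GolayPt → ℤ) = -D →
      ∃ g : ↥Co0, g • Spor.leechU = Spor.leechU ∧ g • a = b := fun D hD x y => by
    have hn : ∀ c : leechLattice, c ∈ layer 32 →
        sqNorm ((-c : leechLattice) : GolayPt → ℤ) = 32 := fun c hc => by
      rw [← zneg_smul, sqNorm_smul]; exact hc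
    obtain ⟨g, g1, g2⟩ := trans_pairs' Spor.leechU (-a) Spor.leechU (-b) hU (hn a ha.1) hU
      (hn b hb.1) D hD
      (by rw [AddSubgroup.coe_neg, dot_neg]
          show -dotInt Spor.vecU (a : GolayPt → ℤ) = D
          omega)
      (by rw [AddSubgroup.coe_neg, dot_neg]
          show -dotInt Spor.vecU (b : GolayPt → ℤ) = D
          omega)
    exact ⟨g, g1, by rwa [smul_neg', neg_inj] at g2⟩
  rcases hd with rfl | (rfl | rfl) | (rfl | rfl)
  · exact trans_orth Spor.leechU a b hU ha.1 hb.1 ha.2 hb.2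
  · exact hpos (-16) (Or.inl rfl) ha.2 hb.2
  · exact hneg _ (Or.inl rfl) ha.2 hb.2
  · exact hpos (-8) (Or.inr rfl) ha.2 hb.2
  · exact hneg _ (Or.inr rfl) ha.2 hb.2

/-- the orbit of a normal subgroup containing minus the identity -/
theorem orbit_normal (M : Subgroup ↥Co0) [M.Normal] (hz : zneg ∈ M) :
    MulAction.orbit ↥M Spor.leechU = {Spor.leechU, -Spor.leechU} ∨
      MulAction.orbit ↥M Spor.leechU = layer 32 := by
  classical
  have := finite_co0
  set O := MulAction.orbit ↥M Spor.leechU with hO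
  have hU : sqNorm (Spor.leechU : GolayPt → ℤ) = 32 := show sqNorm Spor.vecU = 32 by decide +kernel
  have hsub : O ⊆ layer 32 := by
    rintro w ⟨m, rfl⟩
    show sqNorm (((m : ↥Co0) • Spor.leechU : leechLattice) : GolayPt → ℤ) = 32
    rw [sqNorm_smul]; exact hU
  have hpair : {Spor.leechU, -Spor.leechU} ⊆ O := by
    rintro w (rfl | rfl)
    · exact MulAction.mem_orbit_self _
    · exact ⟨⟨zneg, hz⟩, zneg_smul _⟩
  have hinv : ∀ g : ↥Co0, g • Spor.leechU = Spor.leechU → ∀ y ∈ O, g • y ∈ O := fun g hg y hy =>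
    orbit_stab_invariant M Spor.leechU (fun s _ n hn => Subgroup.Normal.conj_mem inferInstance n hn s)
      g hg y hy
  have hnegO : ∀ y ∈ O, -y ∈ O := by
    rintro y ⟨m, rfl⟩
    exact ⟨⟨zneg * m, mul_mem hz m.2⟩, (mul_smul _ _ _).trans (zneg_smul _)⟩
  have key : ∀ d : ℤ, (d = 0 ∨ d = 16 ∨ d = 8) →
      O ∩ (dotCls d ∪ dotCls (-d)) = ∅ ∨ dotCls d ∪ dotCls (-d) ⊆ O := by
    intro d hd
    rcases Set.eq_empty_or_nonempty (O ∩ (dotCls d ∪ dotCls (-d))) with h | ⟨y, hy, hy'⟩
    · exact Or.inl h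
    refine Or.inr ?_
    have hflip : ∀ c : leechLattice, ∀ e, c ∈ dotCls e → -c ∈ dotCls (-e) := fun c e hc =>
      ⟨show sqNorm ((-c : leechLattice) : GolayPt → ℤ) = 32 by
          rw [← zneg_smul, sqNorm_smul]; exact hc.1,
        by rw [AddSubgroup.coe_neg, dot_neg, hc.2]⟩
    obtain ⟨y0, hy0, hy0'⟩ : ∃ y0 ∈ O, y0 ∈ dotCls d := by
      rcases hy' with h | h
      · exact ⟨y, hy, h⟩
      · exact ⟨-y, hnegO y hy, neg_neg d ▸ hflip y _ h⟩
    have hone : ∀ x ∈ dotCls d, x ∈ O := fun x hx => by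
      obtain ⟨g, g1, rfl⟩ := trans_dotCls d (by omega) hy0' hx
      exact hinv g g1 y0 hy0
    rintro x (hx | hx)
    · exact hone x hx
    · exact neg_neg x ▸ hnegO _ (hone _ (neg_neg d ▸ hflip x _ hx))
  have hfin : ∀ {s : Set leechLattice}, s ⊆ layer 32 → s.Finite := fun h => finite_layer32.subset h
  obtain ⟨n16, m16, n8, m8, n0⟩ := ncard_dotCls
  set A := dotCls 16 ∪ dotCls (-16) with hA
  set B := dotCls 8 ∪ dotCls (-8) with hB
  set C := dotCls 0 ∪ dotCls (-0) with hC
  set D : Set leechLattice := {Spor.leechU, -Spor.leechU} with hD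
  have hA' : A ⊆ layer 32 := by rintro x (h | h) <;> exact h.1
  have hB' : B ⊆ layer 32 := by rintro x (h | h) <;> exact h.1
  have hC' : C ⊆ layer 32 := by rintro x (h | h) <;> exact h.1
  have hcA : A.ncard = 9200 := by
    rw [hA, Set.ncard_union_eq (Set.disjoint_left.2 fun x a b => by have := a.2; have := b.2; omega)
      (hfin fun x h => h.1) (hfin fun x h => h.1), n16, m16]
  have hcB : B.ncard = 94208 := by
    rw [hB, Set.ncard_union_eq (Set.disjoint_left.2 fun x a b => by have := a.2; have := b.2; omega)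
      (hfin fun x h => h.1) (hfin fun x h => h.1), n8, m8]
  have hcC : C.ncard = 93150 := by rw [hC, neg_zero, Set.union_self, n0]
  have hcD : D.ncard = 2 := by
    rw [hD, Set.ncard_pair]
    intro e
    have := congrArg (fun v : leechLattice => (v : GolayPt → ℤ) none) e
    simp [Spor.leechU, Spor.vecU] at this
  have hall : ∀ w ∈ layer 32, w ∈ D ∨ w ∈ A ∨ w ∈ B ∨ w ∈ C := by
    intro w hw
    by_cases e1 : w = Spor.leechU
    · exact Or.inl (Or.inl e1)
    by_cases e2 : w = -Spor.leechU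
    · exact Or.inl (Or.inr e2)
    rcases dot_cases Spor.leechU w hU hw e1 e2 with h | (h | h) | (h | h)
    · exact Or.inr (Or.inr (Or.inr (Or.inl ⟨hw, h⟩)))
    · exact Or.inr (Or.inl (Or.inl ⟨hw, h⟩))
    · exact Or.inr (Or.inl (Or.inr ⟨hw, h⟩))
    · exact Or.inr (Or.inr (Or.inl (Or.inl ⟨hw, h⟩)))
    · exact Or.inr (Or.inr (Or.inl (Or.inr ⟨hw, h⟩)))
  have hdotU : dotInt Spor.vecU Spor.vecU = 32 := by decide +kernel
  have hDd : ∀ x ∈ D, dotInt Spor.vecU (x : GolayPt → ℤ) = 32 ∨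
      dotInt Spor.vecU (x : GolayPt → ℤ) = -32 := by
    rintro x (rfl | rfl)
    · exact Or.inl hdotU
    · right; rw [AddSubgroup.coe_neg, dot_neg]; exact congrArg Neg.neg hdotU
  have hcard : O.ncard = 2 + (O ∩ A).ncard + (O ∩ B).ncard + (O ∩ C).ncard := by
    have e : O = D ∪ O ∩ A ∪ O ∩ B ∪ O ∩ C := by
      refine Set.Subset.antisymm (fun w hw => ?_) ?_
      · rcases hall w (hsub hw) with h | h | h | h
        · exact Or.inl (Or.inl (Or.inl h))
        · exact Or.inl (Or.inl (Or.inr ⟨hw, h⟩))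
        · exact Or.inl (Or.inr ⟨hw, h⟩)
        · exact Or.inr ⟨hw, h⟩
      · exact Set.union_subset (Set.union_subset (Set.union_subset hpair Set.inter_subset_left)
          Set.inter_subset_left) Set.inter_subset_left
    have fD : D.Finite := hfin (hpair.trans hsub)
    have fA : (O ∩ A).Finite := hfin (Set.inter_subset_left.trans hsub)
    have fB : (O ∩ B).Finite := hfin (Set.inter_subset_left.trans hsub)
    have fC : (O ∩ C).Finite := hfin (Set.inter_subset_left.trans hsub)
    conv_lhs => rw [e]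
    rw [Set.ncard_union_eq ?_ ((fD.union fA).union fB) fC, Set.ncard_union_eq ?_ (fD.union fA) fB,
      Set.ncard_union_eq ?_ fD fA, hcD]
    · refine Set.disjoint_left.2 fun x a b => ?_
      have := hDd x a
      rcases b.2 with h | h <;> have := h.2 <;> omega
    · refine Set.disjoint_left.2 fun x a b => ?_
      rcases a with a | a
      · have := hDd x a
        rcases b.2 with h | h <;> have := h.2 <;> omega
      · rcases b.2 with h | h <;> rcases a.2 with k | k <;> have := h.2 <;> have := k.2 <;> omega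
    · refine Set.disjoint_left.2 fun x a b => ?_
      rcases a with (a | a) | a
      · have := hDd x a
        rcases b.2 with h | h <;> have := h.2 <;> omega
      · rcases b.2 with h | h <;> rcases a.2 with k | k <;> have := h.2 <;> have := k.2 <;> omega
      · rcases b.2 with h | h <;> rcases a.2 with k | k <;> have := h.2 <;> have := k.2 <;> omega
  have h32 : (layer 32).ncard = 196560 := (ncard_layer 32).trans ncard_norm32
  let X := ↥(MulAction.orbit ↥Co0 Spor.leechU)
  have hX : MulAction.orbit ↥Co0 Spor.leechU = layer 32 := by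
    ext w
    refine ⟨?_, fun hw => ?_⟩
    · rintro ⟨g, rfl⟩
      show sqNorm ((g • Spor.leechU : leechLattice) : GolayPt → ℤ) = 32
      rw [sqNorm_smul]; exact hU
    · obtain ⟨g, hg⟩ := trans32 w hw
      exact ⟨g⁻¹, inv_smul_eq_iff.2 (Subtype.ext hg.symm)⟩
  let x0 : X := ⟨Spor.leechU, MulAction.mem_orbit_self _⟩
  have : Finite X := (hX ▸ finite_layer32).to_subtype
  have hdvd : O.ncard ∣ 196560 := by
    have himg : Subtype.val '' MulAction.orbit ↥M x0 = O := by
      ext w
      constructor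
      · rintro ⟨_, ⟨m, rfl⟩, rfl⟩; exact ⟨m, rfl⟩
      · rintro ⟨m, rfl⟩; exact ⟨_, ⟨m, rfl⟩, rfl⟩
    rw [← himg, Set.ncard_image_of_injective _ Subtype.val_injective, ← h32, ← hX,
      ← Nat.card_coe_set_eq (MulAction.orbit ↥Co0 Spor.leechU)]
    exact ncard_orbit_dvd M x0
  have val : ∀ S : Set leechLattice, (O ∩ S = ∅ ∨ S ⊆ O) →
      ((O ∩ S).ncard = 0 ∧ O ∩ S = ∅) ∨ ((O ∩ S).ncard = S.ncard ∧ S ⊆ O) := by
    rintro S (h | h)
    · exact Or.inl ⟨by rw [h, Set.ncard_empty], h⟩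
    · exact Or.inr ⟨by rw [Set.inter_eq_right.2 h], h⟩
  rcases val A (key 16 (by norm_num)) with ⟨a, a'⟩ | ⟨a, a'⟩ <;>
    rcases val B (key 8 (by norm_num)) with ⟨b, b'⟩ | ⟨b, b'⟩ <;>
    rcases val C (key 0 (by norm_num)) with ⟨c, c'⟩ | ⟨c, c'⟩ <;>
    simp only [a, b, c, hcA, hcB, hcC] at hcard <;> rw [hcard] at hdvd
  case inl.inl.inl =>
    left
    refine Set.Subset.antisymm (fun w hw => ?_) hpair
    rcases hall w (hsub hw) with h | h | h | h
    · exact h
    · exact absurd (a' ▸ (⟨hw, h⟩ : w ∈ O ∩ A)) (Set.notMem_empty w)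
    · exact absurd (b' ▸ (⟨hw, h⟩ : w ∈ O ∩ B)) (Set.notMem_empty w)
    · exact absurd (c' ▸ (⟨hw, h⟩ : w ∈ O ∩ C)) (Set.notMem_empty w)
  case inr.inr.inr =>
    exact Or.inr (Set.eq_of_subset_of_ncard_le hsub (by rw [h32, hcard]) finite_layer32)
  all_goals norm_num at hdvd

/-- no subgroup stable under the point stabiliser acts regularly -/
theorem no_regular (M : Subgroup ↥Co0) [M.Normal] (hz : zneg ∈ M)
    (hfree : ∀ m ∈ M, m • Spor.leechU = Spor.leechU → m = 1)
    (hdvd : Nat.card M = 196560) : False := by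
  have := finite_co0
  have hU : sqNorm (Spor.leechU : GolayPt → ℤ) = 32 := show sqNorm Spor.vecU = 32 by decide +kernel
  let d : ↥Co0 → ℤ := fun m =>
    dotInt Spor.vecU ((m • Spor.leechU : leechLattice) : GolayPt → ℤ)
  have hinj : ∀ a ∈ M, ∀ b ∈ M, a • Spor.leechU = b • Spor.leechU → a = b := fun a ha b hb e =>
    (inv_mul_eq_one.1 (hfree _ (mul_mem (inv_mem hb) ha) (by rw [mul_smul, e, inv_smul_smul]))).symm
  have hcases : ∀ m ∈ M, m ≠ 1 → m ≠ zneg →
      d m = 0 ∨ (d m = 16 ∨ d m = -16) ∨ (d m = 8 ∨ d m = -8) := fun m hm h1 h2 =>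
    dot_cases Spor.leechU (m • Spor.leechU) hU (by rw [sqNorm_smul]; exact hU)
      (fun e => h1 (hfree m hm e))
      (fun e => h2 (hinj m hm zneg hz (e.trans (zneg_smul _).symm)))
  have hconj : ∀ a ∈ M, ∀ b ∈ M, a ≠ 1 → a ≠ zneg → d a = d b → orderOf a = orderOf b := by
    intro a ha b hb h1 h2 e
    obtain ⟨g, g1, g2⟩ := trans_dotCls (d a) (hcases a ha h1 h2)
      (a := a • Spor.leechU) (b := b • Spor.leechU)
      ⟨show sqNorm _ = 32 by rw [sqNorm_smul]; exact hU, rfl⟩
      ⟨show sqNorm _ = 32 by rw [sqNorm_smul]; exact hU, e.symm⟩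
    have hg : g * a * g⁻¹ = b := hinj _ (Subgroup.Normal.conj_mem inferInstance a ha g) b hb (by
      rw [mul_smul, mul_smul, inv_smul_eq_iff.2 g1.symm]; exact g2)
    rw [← hg, ← MulEquiv.orderOf_eq (MulAut.conj g) a]
    rfl
  have hz2 : orderOf zneg = 2 := orderOf_eq_prime zneg_sq zneg_ne_one
  have hp : ∀ p : ℕ, Nat.Prime p → p ≠ 2 → p ∣ 196560 → ∃ m ∈ M, orderOf m = p ∧
      orderOf (zneg * m) = 2 * p ∧ d (zneg * m) = -d m ∧ zneg * m ∈ M := by
    intro p hp h2 hd
    have : Fact p.Prime := ⟨hp⟩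
    obtain ⟨⟨m, hm⟩, ho⟩ := exists_prime_orderOf_dvd_card' (G := M) p (hdvd ▸ hd)
    have ho' : orderOf m = p := (Subgroup.orderOf_mk (ha := hm)).symm.trans ho
    refine ⟨m, hm, ho', ?_, ?_, mul_mem hz hm⟩
    · rw [(show Commute zneg m from (zneg_comm m).symm).orderOf_mul_eq_mul_orderOf_of_coprime ?_, hz2, ho']
      rw [hz2, ho']
      exact (Nat.coprime_primes Nat.prime_two hp).2 (Ne.symm h2)
    · show dotInt Spor.vecU _ = -dotInt Spor.vecU _
      rw [mul_smul, zneg_smul, AddSubgroup.coe_neg, dot_neg]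
  obtain ⟨a, ha, oa, oa', na, ha'⟩ := hp 3 (by norm_num) (by norm_num) (by norm_num)
  obtain ⟨b, hb, ob, ob', nb, hb'⟩ := hp 5 (by norm_num) (by norm_num) (by norm_num)
  obtain ⟨c, hc, oc, oc', nc, hc'⟩ := hp 7 (by norm_num) (by norm_num) (by norm_num)
  have ne : ∀ m : ↥Co0, orderOf m ≠ 1 → orderOf m ≠ 2 → m ≠ 1 ∧ m ≠ zneg := fun m h1 h2 =>
    ⟨fun e => h1 (by rw [e, orderOf_one]), fun e => h2 (by rw [e, hz2])⟩
  obtain ⟨a1, a2⟩ := ne a (by omega) (by omega)
  obtain ⟨b1, b2⟩ := ne b (by omega) (by omega)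
  obtain ⟨c1, c2⟩ := ne c (by omega) (by omega)
  have sep : ∀ x ∈ M, ∀ y ∈ M, x ≠ 1 → x ≠ zneg → orderOf x ≠ orderOf y → d x ≠ d y :=
    fun x hx y hy h1 h2 h e => h (hconj x hx y hy h1 h2 e)
  have := sep a ha _ ha' a1 a2 (by omega)
  have := sep b hb _ hb' b1 b2 (by omega)
  have := sep c hc _ hc' c1 c2 (by omega)
  have := sep a ha _ hb' a1 a2 (by omega)
  have := sep a ha _ hc' a1 a2 (by omega)
  have := sep b hb _ hc' b1 b2 (by omega)
  have := sep a ha b hb a1 a2 (by omega)
  have := sep a ha c hc a1 a2 (by omega)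
  have := sep b hb c hc b1 b2 (by omega)
  have := hcases a ha a1 a2
  have := hcases b hb b1 b2
  have := hcases c hc c1 c2
  omega

theorem card_center_eq : (Subgroup.center ↥Co0 : Set ↥Co0) = {1, zneg} := by
  have := finite_co0
  refine (Set.eq_of_subset_of_ncard_le ?_ ?_ (Set.toFinite _)).symm
  · rintro x (rfl | rfl)
    · exact (Subgroup.center ↥Co0).one_mem
    · exact zneg_mem_center
  · rw [Set.ncard_pair zneg_ne_one.symm, ← Nat.card_coe_set_eq]
    exact le_of_eq S0398.result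

theorem simple_co1 : IsCo1 (↥Co0 ⧸ Subgroup.center ↥Co0) := by
  have := finite_co0
  set C := Subgroup.center ↥Co0 with hC
  have hU : sqNorm (Spor.leechU : GolayPt → ℤ) = 32 := show sqNorm Spor.vecU = 32 by decide +kernel
  have hcard : Nat.card (↥Co0 ⧸ C) = 4157776806543360000 := by
    have := C.card_eq_card_quotient_mul_card_subgroup
    rw [S0397.result, show Nat.card C = 2 from S0398.result] at this
    omega
  refine ⟨?_, hcard⟩
  have : Nontrivial (↥Co0 ⧸ C) :=
    Finite.one_lt_card_iff_nontrivial.1 (by rw [hcard]; norm_num)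
  refine ⟨fun N hN => ?_⟩
  set M := N.comap (QuotientGroup.mk' C) with hM
  have hCM : C ≤ M := fun x hx => by
    show QuotientGroup.mk' C x ∈ N
    rw [show QuotientGroup.mk' C x = 1 from (QuotientGroup.eq_one_iff x).2 hx]
    exact N.one_mem
  have hz : zneg ∈ M := hCM zneg_mem_center
  have hMn : M.Normal := inferInstance
  have hback : M.map (QuotientGroup.mk' C) = N :=
    Subgroup.map_comap_eq_self_of_surjective (QuotientGroup.mk'_surjective C) N
  have bot : M ≤ C → N = ⊥ := fun h => (Subgroup.eq_bot_iff_forall _).2 fun y hy => by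
    obtain ⟨x, rfl⟩ := QuotientGroup.mk'_surjective C y
    exact (QuotientGroup.eq_one_iff x).2 (h hy)
  rcases simple_stabU.eq_bot_or_eq_top_of_normal (M.subgroupOf stabU) inferInstance with h | h
  · have hfree : ∀ m ∈ M, m • Spor.leechU = Spor.leechU → m = 1 := fun m hm e => by
      have : (⟨m, e⟩ : ↥stabU) ∈ M.subgroupOf stabU := hm
      rw [h, Subgroup.mem_bot] at this
      exact congrArg Subtype.val this
    have hcardM : Nat.card M = (MulAction.orbit ↥M Spor.leechU).ncard := by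
      rw [← Nat.card_coe_set_eq]
      refine Nat.card_congr (Equiv.ofInjective (fun m : M => m • Spor.leechU) fun a b e => ?_)
      have e' : (a : ↥Co0) • Spor.leechU = (b : ↥Co0) • Spor.leechU := e
      refine Subtype.ext (inv_mul_eq_one.1 (hfree _ (mul_mem (inv_mem b.2) a.2) ?_)).symm
      rw [mul_smul, e', inv_smul_smul]
    rcases orbit_normal M hz with ho | ho
    · left
      refine bot fun m hm => ?_
      have hm' : m • Spor.leechU ∈ MulAction.orbit ↥M Spor.leechU := ⟨⟨m, hm⟩, rfl⟩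
      rw [ho] at hm'
      show m ∈ (C : Set ↥Co0)
      rw [hC, card_center_eq]
      rcases hm' with e | e
      · exact Or.inl (hfree m hm e)
      · refine Or.inr (inv_mul_eq_one.1 (hfree _ (mul_mem (inv_mem hz) hm) ?_)).symm
        rw [mul_smul, e, ← zneg_smul, inv_smul_smul]
    · refine (no_regular M hz hfree ?_).elim
      rw [hcardM, ho]
      exact (ncard_layer 32).trans ncard_norm32
  · have hS : stabU ≤ M := fun g hg => by
      have : (⟨g, hg⟩ : ↥stabU) ∈ M.subgroupOf stabU := h ▸ Subgroup.mem_top _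
      exact this
    rcases orbit_normal M hz with ho | ho
    · exfalso
      have hpm : ∀ m ∈ M, ∀ v ∈ layer 32, m • v = v ∨ m • v = -v := by
        intro m hm v hv
        obtain ⟨g, hg⟩ := trans32 v hv
        have hgv : g • v = Spor.leechU := Subtype.ext hg
        have hmem : (g * m * g⁻¹) • Spor.leechU ∈ MulAction.orbit ↥M Spor.leechU :=
          ⟨⟨_, hMn.conj_mem m hm g⟩, rfl⟩
        rw [ho, ← hgv, mul_smul, mul_smul, inv_smul_smul] at hmem
        rcases hmem with e | e
        · exact Or.inl (MulAction.injective g e)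
        · exact Or.inr (MulAction.injective g (e.trans (smul_neg' g v).symm))
      obtain ⟨n16, -⟩ := ncard_dotCls
      have : (dotCls 16).ncard ≤ 1 := by
        refine (Set.ncard_le_one (finite_layer32.subset fun x h => h.1)).2 fun a ha b hb => ?_
        obtain ⟨g, g1, g2⟩ := trans_dotCls 16 (by norm_num) ha hb
        rcases hpm g (hS g1) a ha.1 with e | e
        · exact e.symm.trans g2
        · exfalso
          have h1 := ha.2
          have h2 := hb.2
          rw [← g2, e, AddSubgroup.coe_neg, dot_neg, h1] at h2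
          omega
      omega
    · right
      rw [← hback]
      refine (Subgroup.eq_top_iff' _).2 fun y => ?_
      obtain ⟨g, rfl⟩ := QuotientGroup.mk'_surjective C y
      refine ⟨g, ?_, rfl⟩
      have hg : g • Spor.leechU ∈ MulAction.orbit ↥M Spor.leechU := by
        rw [ho]
        show sqNorm ((g • Spor.leechU : leechLattice) : GolayPt → ℤ) = 32
        rw [sqNorm_smul]; exact hU
      obtain ⟨⟨m, hm⟩, e⟩ := hg
      have : m⁻¹ * g ∈ M := hS (show (m⁻¹ * g) • Spor.leechU = Spor.leechU by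
        rw [mul_smul, inv_smul_eq_iff]; exact e.symm)
      have := mul_mem hm this
      rwa [mul_inv_cancel_left] at this

end Cfsg.Agent.Leech
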