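import Mathlib
import Cfsg.Prelude.Def_Classical
import Cfsg.Agent.Leech.Co1
import Cfsg.Agent.Leech.CentTwoQuot
import Cfsg.Agent.Leech.CentOneData

/-! The centraliser of an octad sign change acts on the fixed lattice modulo 2 as a group of
isometries of the hyperbolic form in dimension 8. -/

set_option autoImplicit false

namespace Cfsg.Agent.Leech.CentOne
open Cfsg Cfsg.Agent.Leech.CentTwo Matrix

/-- the index of the basis -/
abbrev J : Type := Fin 4 ⊕ Fin 4

/-- the position of an index -/
def posJ : J → ℕ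
  | Sum.inl i => i
  | Sum.inr i => i + 4

/-- the centraliser of the sign change -/
def CE : Subgroup ↥Co0 := Subgroup.centralizer {tGen.g}

theorem mem_CE {g : ↥Co0} : g ∈ CE ↔ tGen.g * g = g * tGen.g := by
  simp [CE, Subgroup.mem_centralizer_iff]

theorem CT_le_CE : CT ≤ CE := fun _ hg => hg.2

theorem fixed_smul_CE {g : ↥Co0} (hg : g ∈ CE) {v : leechLattice} (hv : tGen.g • v = v) :
    tGen.g • (g • v) = g • v := by
  rw [← mul_smul, mem_CE.1 hg, mul_smul, hv]

/-- a basis vector -/
def bV (j : J) : leechLattice :=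
  ⟨ofL (basisL.getD (posJ j) []),
    mem_of_parity _ 0 (by revert j; decide +kernel) (by revert j; decide +kernel)
      (by revert j; decide +kernel)⟩

/-- a dual vector -/
def tV (j : J) : leechLattice :=
  ⟨ofL (dualL.getD (posJ j) []),
    mem_of_parity _ ((dualL.getD (posJ j) []).getD 0 0 % 2) (by revert j; decide +kernel)
      (by revert j; decide +kernel) (by revert j; decide +kernel)⟩

theorem bV_fixed (j : J) : tGen.g • bV j = bV j :=
  (fixed_iff _).2 (by revert j; decide +kernel)

theorem dual_identity : ∀ p q : GolayPt, q ∈ octF →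
    ∑ j, (tV j : GolayPt → ℤ) q * (bV j : GolayPt → ℤ) p = if p = q then 8 else 0 := by
  decide +kernel

theorem bV_gram : ∀ i j : J,
    (16 : ℤ) ∣ dotInt (bV i : GolayPt → ℤ) (bV j : GolayPt → ℤ) := by
  decide +kernel

theorem dot_add_left (x y z : GolayPt → ℤ) : dotInt (x + y) z = dotInt x z + dotInt y z := by
  simp [dotInt, add_mul, Finset.sum_add_distrib]

theorem dot_comm' (x y : GolayPt → ℤ) : dotInt x y = dotInt y x := by
  simp [dotInt, mul_comm]

/-- the coordinate of a vector -/
def coef (j : J) (v : leechLattice) : ℤ := dotInt (v : GolayPt → ℤ) (tV j : GolayPt → ℤ) / 8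

theorem coef_spec (j : J) (v : leechLattice) :
    8 * coef j v = dotInt (v : GolayPt → ℤ) (tV j : GolayPt → ℤ) :=
  Int.mul_ediv_cancel' (eight_dvd_dot v (tV j))

/-- the coordinate as an additive map -/
def coefHom (j : J) : leechLattice →+ ℤ :=
  AddMonoidHom.mk' (coef j) fun v w => by
    have h1 := coef_spec j v
    have h2 := coef_spec j w
    have h3 := coef_spec j (v + w)
    rw [AddSubgroup.coe_add, dot_add_left] at h3
    omega

/-- a fixed vector is the combination given by its coordinates -/
theorem expand {v : leechLattice} (hv : tGen.g • v = v) : v = ∑ j, coef j v • bV j := by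
  refine Subtype.ext (funext fun p => ?_)
  rw [AddSubgroup.val_finsetSum, Finset.sum_apply]
  simp only [AddSubgroup.coe_zsmul, Pi.smul_apply, smul_eq_mul]
  have h8 : 8 * (v : GolayPt → ℤ) p = ∑ j, (8 * coef j v) * (bV j : GolayPt → ℤ) p := by
    simp only [coef_spec, dotInt, Finset.sum_mul]
    rw [Finset.sum_comm]
    have key : ∀ q, ∑ j, (v : GolayPt → ℤ) q * (tV j : GolayPt → ℤ) q * (bV j : GolayPt → ℤ) p =
        if p = q then 8 * (v : GolayPt → ℤ) q else 0 := by
      intro q
      by_cases hq : q ∈ octF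
      · simp only [mul_assoc, ← Finset.mul_sum, dual_identity p q hq]
        split_ifs <;> ring
      · simp [(fixed_iff v).1 hv q hq]
    simp only [key, Finset.sum_ite_eq, Finset.mem_univ, if_true]
  simp only [mul_assoc, ← Finset.mul_sum] at h8
  omega

/-- multiplication by an element as an additive map -/
def smulHom (g : ↥Co0) : leechLattice →+ leechLattice :=
  AddMonoidHom.mk' (fun v => g • v) (smul_add' g)

/-- the class modulo 2 -/
def red (v : leechLattice) : J → ZMod 2 := fun j => (coef j v : ZMod 2)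

theorem red_add (v w : leechLattice) : red (v + w) = red v + red w :=
  funext fun j => by
    simp only [red, Pi.add_apply]
    rw [show coef j (v + w) = coef j v + coef j w from (coefHom j).map_add v w, Int.cast_add]

/-- the matrix of an element -/
def Mat (g : ↥Co0) : Matrix J J (ZMod 2) := Matrix.of fun j k => red (g • bV k) j

theorem red_smul (g : ↥Co0) {v : leechLattice} (hv : tGen.g • v = v) :
    red (g • v) = Mat g *ᵥ red v := by
  funext j
  have h : coef j (g • v) = ∑ k, coef k v * coef j (g • bV k) := by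
    conv_lhs => rw [expand hv]
    show coefHom j (smulHom g (∑ k, coef k v • bV k)) = _
    simp only [map_sum, map_zsmul, smul_eq_mul]
    rfl
  simp only [red, Mat, h, Matrix.mulVec, dotProduct, Matrix.of_apply, Int.cast_sum, Int.cast_mul]
  exact Finset.sum_congr rfl fun k _ => mul_comm _ _

theorem red_bV : ∀ k j : J, red (bV k) j = if j = k then 1 else 0 := by decide +kernel

theorem Mat_one : Mat 1 = 1 := by
  ext j k
  rw [Mat, Matrix.of_apply, one_smul, red_bV, Matrix.one_apply]

theorem Mat_mul (g : ↥Co0) {h : ↥Co0} (hh : h ∈ CE) : Mat (g * h) = Mat g * Mat h := by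
  ext j k
  rw [Mat, Matrix.of_apply, mul_smul, red_smul g (fixed_smul_CE hh (bV_fixed k))]
  rfl

theorem dot_smul_right (x : GolayPt → ℤ) (c : J → ℤ) :
    dotInt x ((∑ j, c j • bV j : leechLattice) : GolayPt → ℤ) =
      ∑ j, c j * dotInt x (bV j : GolayPt → ℤ) := by
  simp only [dotInt, AddSubgroup.val_finsetSum, Finset.sum_apply, AddSubgroup.coe_zsmul,
    Pi.smul_apply, smul_eq_mul, Finset.mul_sum]
  rw [Finset.sum_comm]
  exact Finset.sum_congr rfl fun j _ => Finset.sum_congr rfl fun i _ => by ring

theorem dot16 {v w : leechLattice} (hv : tGen.g • v = v) (hw : tGen.g • w = w) :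
    (16 : ℤ) ∣ dotInt (v : GolayPt → ℤ) (w : GolayPt → ℤ) := by
  rw [expand hw, dot_smul_right]
  refine Finset.dvd_sum fun j _ => Dvd.dvd.mul_left ?_ _
  rw [dot_comm', expand hv, dot_smul_right]
  exact Finset.dvd_sum fun i _ => Dvd.dvd.mul_left (bV_gram j i) _

/-- half the scaled squared length -/
def halfNorm (v : leechLattice) : ZMod 2 :=
  ((dotInt (v : GolayPt → ℤ) (v : GolayPt → ℤ) / 32 : ℤ) : ZMod 2)

theorem halfNorm_add_two {v w : leechLattice} (hv : tGen.g • v = v) (hw : tGen.g • w = w) :
    halfNorm (v + (w + w)) = halfNorm v := by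
  unfold halfNorm
  obtain ⟨a, ha⟩ := dot16 hv hw
  obtain ⟨b, hb⟩ := dot16 hw hw
  have e : dotInt ((v + (w + w) : leechLattice) : GolayPt → ℤ)
      ((v + (w + w) : leechLattice) : GolayPt → ℤ) =
      dotInt (v : GolayPt → ℤ) (v : GolayPt → ℤ) + 32 * (2 * (a + b)) := by
    have e' : dotInt ((v + (w + w) : leechLattice) : GolayPt → ℤ)
        ((v + (w + w) : leechLattice) : GolayPt → ℤ) =
        dotInt (v : GolayPt → ℤ) (v : GolayPt → ℤ) + 4 * dotInt (v : GolayPt → ℤ) (w : GolayPt → ℤ) +
          4 * dotInt (w : GolayPt → ℤ) (w : GolayPt → ℤ) := by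
      simp only [dotInt, AddSubgroup.coe_add, Pi.add_apply, Finset.mul_sum,
        ← Finset.sum_add_distrib]
      exact Finset.sum_congr rfl fun i _ => by ring
    rw [e', ha, hb]
    ring
  rw [e, Int.add_mul_ediv_left _ _ (by norm_num : (32 : ℤ) ≠ 0), Int.cast_add, Int.cast_mul,
    show ((2 : ℤ) : ZMod 2) = 0 from rfl, zero_mul, add_zero]

/-- the standard lift of a class -/
def lift (c : J → ZMod 2) : leechLattice := ∑ j, ((c j).val : ℤ) • bV j

theorem lift_fixed (c : J → ZMod 2) : tGen.g • lift c = lift c := by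
  show smulHom tGen.g (lift c) = _
  simp only [lift, map_sum, map_zsmul]
  exact Finset.sum_congr rfl fun j _ => by
    show _ • (tGen.g • bV j) = _
    rw [bV_fixed]

theorem lift_check : ∀ c : J → ZMod 2,
    halfNorm (lift c) = quadFormPlus 4 (ZMod 2) c ∧ red (lift c) = c := by decide +kernel

theorem halfNorm_eq {v : leechLattice} (hv : tGen.g • v = v) :
    halfNorm v = quadFormPlus 4 (ZMod 2) (red v) := by
  rw [← (lift_check (red v)).1]
  set w : leechLattice := ∑ j, ((coef j v - ((red v j).val : ℤ)) / 2) • bV j with hw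
  have hwf : tGen.g • w = w := by
    show smulHom tGen.g w = _
    simp only [hw, map_sum, map_zsmul]
    exact Finset.sum_congr rfl fun j _ => by
      show _ • (tGen.g • bV j) = _
      rw [bV_fixed]
  have e : v = lift (red v) + (w + w) := by
    conv_lhs => rw [expand hv]
    rw [lift, hw, ← Finset.sum_add_distrib, ← Finset.sum_add_distrib]
    refine Finset.sum_congr rfl fun j _ => ?_
    rw [← add_zsmul, ← add_zsmul]
    congr 1
    have h1 : ((red v j).val : ℤ) = coef j v % 2 := by
      simp only [red]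
      rw [← ZMod.intCast_mod]
      rcases Int.emod_two_eq_zero_or_one (coef j v) with h | h <;> rw [show ((2 : ℕ) : ℤ) = 2 from rfl, h] <;> rfl
    rw [h1]
    omega
  conv_lhs => rw [e]
  exact halfNorm_add_two (lift_fixed _) hwf

/-- the matrices of the centraliser -/
noncomputable def matHom : ↥CE →* Matrix J J (ZMod 2) where
  toFun g := Mat g.1
  map_one' := Mat_one
  map_mul' g h := Mat_mul g.1 h.2

theorem matHom_mem (g : ↥CE) :
    matHom.toHomUnits g ∈ isometryGroup (ZMod 2) (quadFormPlus 4 (ZMod 2)) := by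
  intro c _
  show quadFormPlus 4 (ZMod 2) (Mat g.1 *ᵥ c) = quadFormPlus 4 (ZMod 2) c
  have h := (lift_check c).2
  have hf := lift_fixed c
  have hg : tGen.g • (g.1 • lift c) = g.1 • lift c := fixed_smul_CE g.2 hf
  calc quadFormPlus 4 (ZMod 2) (Mat g.1 *ᵥ c)
      = quadFormPlus 4 (ZMod 2) (red (g.1 • lift c)) := by rw [red_smul _ hf, h]
    _ = halfNorm (g.1 • lift c) := (halfNorm_eq hg).symm
    _ = halfNorm (lift c) := by rw [halfNorm, halfNorm, dotInt_smul]
    _ = quadFormPlus 4 (ZMod 2) c := (lift_check c).1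

/-- the representation -/
noncomputable def rho : ↥CE →* ↥(isometryGroup (ZMod 2) (quadFormPlus 4 (ZMod 2))) :=
  matHom.toHomUnits.codRestrict _ matHom_mem

theorem rho_eq {g : ↥CE} : rho g = 1 ↔ Mat g.1 = 1 := by
  constructor
  · intro h
    exact congrArg (fun x : ↥(isometryGroup (ZMod 2) (quadFormPlus 4 (ZMod 2))) =>
      ((x : GL J (ZMod 2)) : Matrix J J (ZMod 2))) h
  · intro h
    exact Subtype.ext (Units.ext h)

end Cfsg.Agent.Leech.CentOne
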