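import Mathlib
import Cfsg.Agent.Leech.CentOneRep
import Cfsg.Agent.Classical.OrthPOmega

/-! The image and the kernel of the representation: the commutator subgroup of the isometry group,
and the product of the centre with an extraspecial group of order 512. -/

set_option autoImplicit false

namespace Cfsg.Agent.Leech.CentOne
open Cfsg Cfsg.Agent.Leech.CentTwo Matrix

theorem sqNorm_eq_dot (x : GolayPt → ℤ) : sqNorm x = dotInt x x :=
  Finset.sum_congr rfl fun i _ => pow_two (x i)

theorem sqNorm_fixed {v : leechLattice} (hv : tGen.g • v = v) :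
    sqNorm (v : GolayPt → ℤ) = (octL.map fun i => (v : GolayPt → ℤ) (ptOf i) ^ 2).sum :=
  sum_oct _ fun p hp => by rw [(fixed_iff v).1 hv p hp]; rfl

/-- a test on the octad: membership of a candidate in the list, or a failing congruence -/
def candOK (y : List ℤ) : Bool :=
  ((List.range 8).any fun k =>
    decide (dot8 (octL.map fun i => (dualL.getD k []).getD i 0) (y.map (2 * ·)) % 8 ≠ 0)) ||
    inList (y.map (2 * ·)) rootsL

theorem cand_ok : (sols 8 8).all candOK = true := by decide +kernel

theorem dual_res : ∀ j : J,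
    res (tV j) = octL.map fun i => (dualL.getD (posJ j) []).getD i 0 := by decide +kernel

theorem exists_posJ : ∀ k < 8, ∃ j : J, posJ j = k := by decide +kernel

theorem dot8_res {u v : leechLattice} (hv : tGen.g • v = v) :
    dotInt (u : GolayPt → ℤ) (v : GolayPt → ℤ) = dot8 (res u) (res v) := by
  rw [dotInt, sum_oct _ (fun p hp => by rw [(fixed_iff v).1 hv p hp, mul_zero])]
  simp [res, octL, dot8]

theorem root_res {v : leechLattice} (hv : tGen.g • v = v)
    (hn : sqNorm (v : GolayPt → ℤ) = 32) : res v ∈ rootsL := by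
  have hev : ∀ p, (2 : ℤ) ∣ (v : GolayPt → ℤ) p := fun p => by
    have hp : ptOf 2 ∉ octF := by decide +kernel
    have := parity_dvd v p (ptOf 2)
    rwa [(fixed_iff v).1 hv _ hp, sub_zero] at this
  choose y hy using hev
  have hres : res v = (octL.map fun i => y (ptOf i)).map (2 * ·) := by
    rw [List.map_map]
    exact List.map_congr_left fun i _ => hy _
  have hsum : ((octL.map fun i => y (ptOf i)).map fun a => a * a).sum = 8 := by
    rw [sqNorm_fixed hv] at hn
    simp only [hy, octL, List.map_cons, List.map_nil, List.sum_cons, List.sum_nil] at hn ⊢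
    ring_nf at hn ⊢
    omega
  have hm := mem_sols (octL.map fun i => y (ptOf i)) 8 hsum (by norm_num)
  have hc := List.all_eq_true.1 cand_ok _ hm
  simp only [candOK, Bool.or_eq_true, List.any_eq_true, List.mem_range, decide_eq_true_eq,
    inList] at hc
  rcases hc with ⟨k, hk, hne⟩ | ⟨m, hm', he⟩
  · exfalso
    obtain ⟨j, rfl⟩ := exists_posJ k hk
    have h8 := eight_dvd_dot (tV j) v
    rw [dot8_res hv, hres, dual_res] at h8
    exact hne (Int.emod_eq_zero_of_dvd h8)
  · rw [hres, Model.eq_of_eqZ he]
    exact hm'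

theorem fixed_ext {a b : leechLattice} (ha : tGen.g • a = a) (hb : tGen.g • b = b)
    (h : res a = res b) : a = b := by
  refine Subtype.ext (funext fun p => ?_)
  by_cases hp : p ∈ octF
  · rw [← octL_pts.2.1, List.mem_toFinset] at hp
    obtain ⟨i, hi, rfl⟩ := List.mem_map.1 hp
    exact List.map_eq_map_iff.1 h i hi
  · rw [(fixed_iff a).1 ha p hp, (fixed_iff b).1 hb p hp]

/-- the classes modulo 2 read from the restriction -/
def redL (l : List ℤ) : ℕ :=
  ((List.range 8).map fun k =>
    ((dot8 (octL.map fun i => (dualL.getD k []).getD i 0) l / 8) % 2).toNat * 2 ^ k).sum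

theorem root_classes : (rootsL.all fun a => rootsL.all fun b =>
    !Nat.beq (redL a) (redL b) || Model.eqZ a b || Model.eqZ a (b.map fun x => -x)) = true := by
  decide +kernel

theorem redL_eq {v w : leechLattice} (hv : tGen.g • v = v) (hw : tGen.g • w = w)
    (h : red v = red w) : redL (res v) = redL (res w) := by
  unfold redL
  congr 1
  refine List.map_congr_left fun k hk => ?_
  obtain ⟨j, rfl⟩ := exists_posJ k (List.mem_range.1 hk)
  have key : ∀ u : leechLattice, tGen.g • u = u →
      (dot8 (octL.map fun i => (dualL.getD (posJ j) []).getD i 0) (res u) / 8) % 2 =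
        coef j u % 2 := fun u hu => by
    rw [coef, dot_comm', dot8_res hu, dual_res]
  rw [key v hv, key w hw]
  have := congrFun h j
  simp only [red] at this
  rw [ZMod.intCast_eq_intCast_iff'] at this
  rw [show ((2 : ℕ) : ℤ) = 2 from rfl] at this
  rw [this]

theorem root_unique {v w : leechLattice} (hv : tGen.g • v = v) (hw : tGen.g • w = w)
    (nv : sqNorm (v : GolayPt → ℤ) = 32) (nw : sqNorm (w : GolayPt → ℤ) = 32)
    (h : red v = red w) : v = w ∨ v = -w := by
  have hc := List.all_eq_true.1 (List.all_eq_true.1 root_classes _ (root_res hv nv)) _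
    (root_res hw nw)
  rw [redL_eq hv hw h, show Nat.beq (redL (res w)) (redL (res w)) = true from Nat.beq_refl _] at hc
  simp only [Bool.not_true, Bool.false_or, Bool.or_eq_true] at hc
  rcases hc with e | e
  · exact Or.inl (fixed_ext hv hw (Model.eq_of_eqZ e))
  · refine Or.inr (fixed_ext hv ?_ ?_)
    · rw [smul_neg', hw]
    · rw [Model.eq_of_eqZ e]
      simp only [res, List.map_map]
      exact List.map_congr_left fun i _ => rfl

theorem u_root : tGen.g • Spor.leechU = Spor.leechU ∧
    sqNorm (Spor.leechU : GolayPt → ℤ) = 32 :=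
  ⟨(fixed_iff _).2 (by decide +kernel), by decide +kernel⟩

theorem oGens_mem : ∀ a ∈ oGens, a.g ∈ CE := by
  intro a ha
  simp only [oGens, List.mem_cons, List.not_mem_nil, or_false] at ha
  rcases ha with rfl | rfl | rfl | rfl | rfl | rfl | rfl <;>
    (refine mem_CE.2 (ext_of_oct fun i => Subtype.ext (toL_injective ?_))
     rw [mul_smul, mul_smul, tGen.spec, LGen.spec, LGen.spec, tGen.spec]
     revert i
     decide +kernel)

theorem orbit_u : (MulAction.orbit ↥CE Spor.leechU).ncard = 240 := by
  refine le_antisymm ?_ ?_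
  · have hsub : res '' MulAction.orbit ↥CE Spor.leechU ⊆ ↑rootsL.toFinset := by
      rintro _ ⟨_, ⟨⟨g, hg⟩, rfl⟩, rfl⟩
      exact List.mem_toFinset.2 (root_res (fixed_smul_CE hg u_root.1)
        ((sqNorm_smul g _).trans u_root.2))
    have hinj : Set.InjOn res (MulAction.orbit ↥CE Spor.leechU) := by
      rintro _ ⟨⟨g, hg⟩, rfl⟩ _ ⟨⟨g', hg'⟩, rfl⟩ h
      exact fixed_ext (fixed_smul_CE hg u_root.1) (fixed_smul_CE hg' u_root.1) h
    rw [← hinj.ncard_image]
    refine (Set.ncard_le_ncard hsub).trans ?_
    rw [Set.ncard_coe_finset]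
    exact (List.toFinset_card_le _).trans (show rootsL.length ≤ 240 by decide +kernel)
  · exact le_ncard_orbit oGens CE oGens_mem Spor.leechU (toL Spor.vecU) rfl rootOps
      (oGens.map LGen.f) rfl 65539 240 (by decide +kernel)

theorem CE_inf_stab : CE ⊓ MulAction.stabilizer ↥Co0 Spor.leechU = CT := inf_comm _ _

theorem card_CE : Nat.card ↥CE = 178362777600 := by
  rw [card_orbit_stab CE Spor.leechU, orbit_u, CE_inf_stab, counts.2.1]

/-- minus one inside the centraliser -/
def znegE : ↥CE := ⟨zneg, mem_CE.2 (zneg_comm tGen.g)⟩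

/-- the kernel inside the centraliser -/
def kin : ↥act.ker →* ↥CE where
  toFun k := ⟨k.1.1, CT_le_CE k.1.2⟩
  map_one' := rfl
  map_mul' _ _ := rfl

theorem kin_injective : Function.Injective kin := fun a b h =>
  Subtype.ext (Subtype.ext (congrArg (fun x : ↥CE => (x : ↥Co0)) h :))

theorem kGens_basis : ((kGens.map LGen.f).all fun f => basisL.all fun l =>
    Model.eqZ (f l) l) = true := by
  decide +kernel

theorem kFun_fix (i : ℕ) {l : List ℤ} : ∀ (L : List (List ℤ → List ℤ)) (k : ℕ),
    (∀ f ∈ L, f l = l) → kFun i L k l = l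
  | [], _, _ => rfl
  | f :: t, k, h => by
    have ih := kFun_fix i t (k + 1) fun g hg => h g (List.mem_cons_of_mem _ hg)
    simp only [kFun]
    split_ifs
    · rw [ih, h f List.mem_cons_self]
    · exact ih

theorem toL_bV : ∀ j : J, toL (bV j : GolayPt → ℤ) = basisL.getD (posJ j) [] := by decide +kernel

theorem kG_fix (i : Fin 512) (j : J) : (kG i).1.1 • bV j = bV j := by
  refine Subtype.ext (toL_injective ?_)
  rw [kG_spec, toL_bV]
  have hj : posJ j < 8 := by revert j; decide
  refine kFun_fix _ _ _ fun f hf => Model.eq_of_eqZ (List.all_eq_true.1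
    (List.all_eq_true.1 kGens_basis f hf) _ ?_)
  rw [List.getD_eq_getElem _ _ (show posJ j < basisL.length from hj)]
  exact List.getElem_mem _

theorem rho_kin (k : ↥act.ker) : rho (kin k) = 1 := by
  obtain ⟨i, rfl⟩ := kG_surjective k
  rw [rho_eq]
  ext j l
  show red ((kG i).1.1 • bV l) j = _
  rw [kG_fix, red_bV, Matrix.one_apply]

theorem red_neg (v : leechLattice) : red (-v) = red v := funext fun j => by
  simp only [red]
  rw [show coef j (-v) = -coef j v from (coefHom j).map_neg v, Int.cast_neg]
  exact CharTwo.neg_eq _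

theorem rho_znegE : rho znegE = 1 := by
  rw [rho_eq]
  ext j l
  show red (zneg • bV l) j = _
  rw [zneg_smul, red_neg, red_bV, Matrix.one_apply]

theorem red_root_fixed {g : ↥CE} (hg : rho g = 1) {v : leechLattice} (hv : tGen.g • v = v)
    (nv : sqNorm (v : GolayPt → ℤ) = 32) : g.1 • v = v ∨ g.1 • v = -v := by
  refine root_unique (fixed_smul_CE g.2 hv) hv ((sqNorm_smul _ _).trans nv) nv ?_
  rw [red_smul _ hv, rho_eq.1 hg, Matrix.one_mulVec]

theorem pA_root : ∀ j : Fin 63,
    tGen.g • (pA j + -Spor.leechU) = pA j + -Spor.leechU ∧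
      sqNorm ((pA j + -Spor.leechU : leechLattice) : GolayPt → ℤ) = 32 := by
  intro j
  refine ⟨by rw [smul_add', smul_neg', (pA_mem j).1, u_root.1], ?_⟩
  revert j
  decide +kernel

theorem ker_cases {g : ↥CE} (hg : rho g = 1) :
    ∃ k : ↥act.ker, g = kin k ∨ g = znegE * kin k := by
  have main : ∀ x : ↥CE, rho x = 1 → x.1 • Spor.leechU = Spor.leechU → ∃ k, x = kin k := by
    intro x hx hu
    have hxT : x.1 ∈ CT := mem_CT.2 ⟨hu, mem_CE.1 x.2⟩
    refine ⟨⟨⟨x.1, hxT⟩, MonoidHom.mem_ker.2 (Equiv.ext fun j => actFun_eq _ _ _ ?_)⟩, rfl⟩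
    show x.1 • pA j = pA j ∨ x.1 • pA j = pB j
    obtain ⟨h1, h2⟩ := pA_root j
    have e : pA j = (pA j + -Spor.leechU) + Spor.leechU := by abel
    rcases red_root_fixed hx h1 h2 with h | h
    · left
      conv_lhs => rw [e, smul_add', h, hu, ← e]
    · right
      conv_lhs => rw [e, smul_add', h, hu]
      rw [pB]
      abel
  rcases red_root_fixed hg u_root.1 u_root.2 with h | h
  · obtain ⟨k, hk⟩ := main g hg h
    exact ⟨k, Or.inl hk⟩
  · obtain ⟨k, hk⟩ := main (znegE * g) (by rw [map_mul, hg, rho_znegE, mul_one]) (by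
      show (zneg * g.1) • Spor.leechU = _
      rw [mul_smul, h, zneg_smul, neg_neg])
    refine ⟨k, Or.inr ?_⟩
    rw [← hk, ← mul_assoc, show znegE * znegE = 1 from Subtype.ext (by
      show zneg * zneg = 1
      rw [← sq]; exact zneg_sq), one_mul]

theorem zneg_not_CT : zneg ∉ CT := fun h => by
  have := (mem_CT.1 h).1
  rw [zneg_smul] at this
  have := congrArg (fun v : leechLattice => (v : GolayPt → ℤ) none) this
  revert this
  decide +kernel

theorem card_ker_rho : Nat.card ↥rho.ker = 1024 := by
  have := finite_co0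
  let f : Bool × ↥act.ker → ↥rho.ker := fun p =>
    ⟨(if p.1 then znegE else 1) * kin p.2, by
      rw [MonoidHom.mem_ker, map_mul, rho_kin, mul_one]
      cases p.1
      · exact map_one _
      · exact rho_znegE⟩
  have hf : Function.Bijective f := by
    constructor
    · rintro ⟨a, k⟩ ⟨b, l⟩ h
      have h' : (if a then znegE else 1) * kin k = (if b then znegE else 1) * kin l :=
        congrArg Subtype.val h
      have key : ∀ k l : ↥act.ker, znegE * kin k ≠ kin l := fun k l e => zneg_not_CT (by
        have e' : zneg = l.1.1 * (k.1.1)⁻¹ :=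
          eq_mul_inv_of_mul_eq (congrArg (fun x : ↥CE => (x : ↥Co0)) e :)
        rw [e']
        exact mul_mem l.1.2 (inv_mem k.1.2))
      cases a <;> cases b <;> simp only [Bool.false_eq_true, if_false, if_true, one_mul] at h'
      · rw [kin_injective h']
      · exact absurd h'.symm (key l k)
      · exact absurd h' (key k l)
      · rw [kin_injective (mul_left_cancel h')]
    · rintro ⟨g, hg⟩
      obtain ⟨k, h | h⟩ := ker_cases hg
      · exact ⟨(false, k), Subtype.ext (by simp [f, h])⟩
      · exact ⟨(true, k), Subtype.ext (by simp [f, h])⟩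
  rw [← Nat.card_congr (Equiv.ofBijective f hf), Nat.card_prod, counts.1]
  simp

theorem card_range_rho : Nat.card ↥rho.range = 174182400 := by
  have := finite_co0
  have h := rho.ker.card_mul_index
  rw [Subgroup.index_ker, card_ker_rho, card_CE] at h
  generalize Nat.card ↥rho.range = x at h ⊢
  omega

/-- the hyperbolic form -/
noncomputable def Qplus : QuadraticForm (ZMod 2) (J → ZMod 2) :=
  (Classical.Quad.hyp (Classical.Quad.zeroForm (ZMod 2)) 4).comp
    (Classical.Quad.plusCoord 4).toLinearMap

theorem Qplus_eq : ⇑Qplus = quadFormPlus 4 (ZMod 2) :=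
  funext fun x => by simp [Qplus, Classical.Quad.plusCoord_map]

theorem Qplus_nondeg : (QuadraticMap.polarBilin Qplus).Nondegenerate :=
  Classical.Quad.Iso.nondeg
    (Classical.Quad.Iso.symm ⟨Classical.Quad.plusCoord 4, fun x => by simp [Qplus]⟩)
    (Classical.Quad.nondeg_hyp Classical.Quad.nondeg_zeroForm 4)

theorem omega_facts :
    Nat.card ↥(isometryGroup (ZMod 2) (quadFormPlus 4 (ZMod 2))) = 348364800 ∧
    Nat.card ↥(Omega (ZMod 2) (quadFormPlus 4 (ZMod 2))) = 174182400 ∧
    IsSimpleGroup ↥(Omega (ZMod 2) (quadFormPlus 4 (ZMod 2))) := by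
  have hO : Nat.card ↥(isometryGroup (ZMod 2) (quadFormPlus 4 (ZMod 2))) = 348364800 := by
    rw [Classical.Quad.card_isometryGroup_eq (Classical.Quad.plusCoord 4)
      (Classical.Quad.plusCoord_map 4), Classical.Quad.card_oG_plus (ZMod.card 2) 3]
    decide
  have hd : Module.finrank (ZMod 2) (J → ZMod 2) = 8 := by simp [J]
  have hidx : (Omega (ZMod 2) ⇑Qplus).index = 2 := by
    rw [Classical.Quad.index_omega]
    exact (Classical.Quad.commutator_eq_ker_dickson Qplus_nondeg (Or.inr (by omega))
      (by omega)).2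
  have hc : Nat.card ↥(Subgroup.center ↥(Omega (ZMod 2) ⇑Qplus)) = 1 :=
    (Classical.Quad.card_center_omega Qplus_nondeg (by omega)).2 (Or.inr rfl)
  have hs := Classical.Quad.isSimpleGroup_pomega Qplus_nondeg (by omega)
  rw [Qplus_eq] at hidx hc hs
  refine ⟨hO, ?_, ?_⟩
  · have h := (Omega (ZMod 2) (quadFormPlus 4 (ZMod 2))).card_mul_index
    rw [hidx, hO] at h
    omega
  · have := hs
    exact MulEquiv.isSimpleGroup (((QuotientGroup.quotientMulEquivOfEq
      (Subgroup.card_eq_one.1 hc)).trans QuotientGroup.quotientBot).symm)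

theorem range_rho : rho.range = Omega (ZMod 2) (quadFormPlus 4 (ZMod 2)) := by
  obtain ⟨hO, hΩ, -⟩ := omega_facts
  have hidx : rho.range.index = 2 := by
    have h := rho.range.card_mul_index
    rw [card_range_rho, hO] at h
    omega
  have hn : rho.range.Normal := Subgroup.normal_of_index_eq_two hidx
  have hle : Omega (ZMod 2) (quadFormPlus 4 (ZMod 2)) ≤ rho.range := by
    refine (Subgroup.Normal.quotient_commutative_iff_commutator_le).1 ?_
    have : Fact (Nat.Prime 2) := ⟨Nat.prime_two⟩
    have hcyc := isCyclic_of_prime_card (p := 2)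
      (α := ↥(isometryGroup (ZMod 2) (quadFormPlus 4 (ZMod 2))) ⧸ rho.range)
      (by rw [← Subgroup.index_eq_card, hidx])
    exact ⟨⟨fun a b => hcyc.commutative.is_comm.comm a b⟩⟩
  exact (Subgroup.eq_of_le_of_card_ge hle (by rw [card_range_rho, hΩ])).symm

end Cfsg.Agent.Leech.CentOne
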