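import Mathlib
import Cfsg.Agent.Leech.CentOneShape
import Cfsg.Agent.Leech.CentTwoShape
import Cfsg.Agent.Layer.FStar
import Cfsg.Agent.LargeExtra.SingularSubgroup

/-! The centraliser of the image of an octad sign change in the quotient by the centre. -/

set_option autoImplicit false

namespace Cfsg.Agent.Leech.CentOne
open Cfsg Cfsg.Agent.Leech.CentTwo
open scoped commutatorElement

/-- the quotient map -/
noncomputable def toCo : ↥Co0 →* Spor.Co1 := QuotientGroup.mk' (Subgroup.center ↥Co0)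

theorem toCo_eq_iff {a b : ↥Co0} : toCo a = toCo b ↔ b = a ∨ b = a * zneg := by
  have h : toCo a = toCo b ↔ a⁻¹ * b ∈ Subgroup.center ↥Co0 := QuotientGroup.eq
  rw [h, ← SetLike.mem_coe, card_center_eq, Set.mem_insert_iff, Set.mem_singleton_iff,
    inv_mul_eq_one, inv_mul_eq_iff_eq_mul, eq_comm]

theorem toCo_one_iff {a : ↥Co0} : toCo a = 1 ↔ a = 1 ∨ a = zneg := by
  have h : toCo a = 1 ↔ a ∈ Subgroup.center ↥Co0 := QuotientGroup.eq_one_iff a
  rw [h, ← SetLike.mem_coe, card_center_eq, Set.mem_insert_iff, Set.mem_singleton_iff]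

theorem toCo_znegE : toCo (znegE : ↥Co0) = 1 := toCo_one_iff.2 (Or.inr rfl)

theorem tGen_ne : tGen.g ≠ 1 ∧ tGen.g ≠ zneg := by
  refine ⟨fun h => ?_, fun h => ?_⟩
  · have e := tGen.spec (oct (ptOf 2))
    rw [h, one_smul] at e
    revert e
    decide +kernel
  · have e := tGen.spec Spor.leechU
    rw [h, zneg_smul] at e
    revert e
    decide +kernel

theorem tGen_inv : tGen.g * tGen.g = 1 := by
  refine Subtype.ext (Equiv.ext fun v => Subtype.ext (funext fun p => ?_))
  show ((tGen.g • tGen.g • v : leechLattice) : GolayPt → ℤ) p = (v : GolayPt → ℤ) p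
  rw [tGen_apply, tGen_apply]
  split_ifs <;> simp

/-- the involution of the quotient -/
noncomputable def zC : Spor.Co1 := toCo tGen.g

theorem orderOf_zC : orderOf zC = 2 := by
  refine orderOf_eq_prime (by rw [sq, zC, ← map_mul, tGen_inv, map_one]) fun h => ?_
  rcases toCo_one_iff.1 h with e | e
  exacts [tGen_ne.1 e, tGen_ne.2 e]

/-- the points off the octad -/
def offL : List ℕ := [2, 3, 4, 5, 6, 7, 8, 9, 10, 11, 12, 14, 16, 20, 21, 22]

/-- vectors negated by the involution -/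
def negV (k : Fin 241) : leechLattice :=
  if k.1 < 240 then
    fourPair (ptOf (offL.getD (k.1 / 15) 0))
      (ptOf (offL.getD ((k.1 / 15 + 1 + k.1 % 15) % 16) 0)) 1 (-1) (by norm_num)
  else fourPair (ptOf 2) (ptOf 3) 1 1 (by norm_num)

theorem negV_facts : ∀ k : Fin 241, (∀ p ∈ octF, (negV k : GolayPt → ℤ) p = 0) ∧
    sqNorm (negV k : GolayPt → ℤ) = 32 := by decide +kernel

theorem negV_enc : Model.noRep 0 ((List.range 241).map fun k =>
    encP (toL (negV (Fin.ofNat 241 k) : GolayPt → ℤ)) % 65539) = true := by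
  decide +kernel

theorem negV_injective : Function.Injective negV := fun i j e => by
  refine Fin.ext (Model.noRep_range negV_enc i.2 j.2 ?_)
  rw [show Fin.ofNat 241 i.1 = i from Fin.ext (Nat.mod_eq_of_lt i.2),
    show Fin.ofNat 241 j.1 = j from Fin.ext (Nat.mod_eq_of_lt j.2), e]

theorem tGen_negV (k : Fin 241) : tGen.g • negV k = -negV k := by
  refine Subtype.ext (funext fun p => ?_)
  rw [tGen_apply]
  show _ = -(negV k : GolayPt → ℤ) p
  split_ifs with hp
  · rw [(negV_facts k).1 p hp]; rfl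
  · rfl

theorem not_flip (g : ↥Co0) : tGen.g * g ≠ g * tGen.g * zneg := by
  intro h
  have h' : ∀ v : leechLattice, tGen.g • v = -v → tGen.g • (g⁻¹ • v) = g⁻¹ • v := fun v hv => by
    refine MulAction.injective g ?_
    show g • tGen.g • g⁻¹ • v = g • g⁻¹ • v
    have e : tGen.g • v = -(g • tGen.g • g⁻¹ • v) := by
      conv_lhs => rw [← smul_inv_smul g v]
      rw [← mul_smul, h, mul_smul, zneg_smul, smul_neg', mul_smul]
    rw [hv, neg_inj] at e
    rw [← e, smul_inv_smul]
  have hinj : Function.Injective fun k : Fin 241 => res (g⁻¹ • negV k) := fun i j e =>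
    negV_injective (MulAction.injective g⁻¹
      (fixed_ext (h' _ (tGen_negV i)) (h' _ (tGen_negV j)) e))
  have hsub : Finset.univ.image (fun k : Fin 241 => res (g⁻¹ • negV k)) ⊆ rootsL.toFinset := by
    intro x hx
    obtain ⟨k, -, rfl⟩ := Finset.mem_image.1 hx
    exact List.mem_toFinset.2
      (root_res (h' _ (tGen_negV k)) ((sqNorm_smul _ _).trans (negV_facts k).2))
  have h1 := (Finset.card_le_card hsub).trans (List.toFinset_card_le rootsL)
  rw [Finset.card_image_of_injective _ hinj, Finset.card_univ, Fintype.card_fin,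
    show rootsL.length = 240 by decide +kernel] at h1
  omega

theorem toCo_mem_cent (g : ↥CE) : toCo g.1 ∈ Subgroup.centralizer ({zC} : Set Spor.Co1) := by
  rw [Subgroup.mem_centralizer_singleton_iff, zC, ← map_mul, ← map_mul, mem_CE.1 g.2]

/-- the centraliser of the involution -/
abbrev Cz : Subgroup Spor.Co1 := Subgroup.centralizer ({zC} : Set Spor.Co1)

/-- the map onto the centraliser -/
noncomputable def phi : ↥CE →* ↥Cz :=
  (toCo.comp CE.subtype).codRestrict Cz toCo_mem_cent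

theorem phi_coe (g : ↥CE) : (phi g : Spor.Co1) = toCo g.1 := rfl

theorem phi_surjective : Function.Surjective phi := fun y => by
  obtain ⟨g, hg⟩ := QuotientGroup.mk'_surjective _ y.1
  have hy := y.2
  rw [Subgroup.mem_centralizer_singleton_iff, ← hg, zC] at hy
  change toCo g * toCo tGen.g = toCo tGen.g * toCo g at hy
  rw [← map_mul, ← map_mul, toCo_eq_iff] at hy
  exact ⟨⟨g, mem_CE.2 (hy.resolve_right (not_flip g))⟩, Subtype.ext hg⟩

theorem phi_znegE : phi znegE = 1 := Subtype.ext toCo_znegE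

theorem ker_phi_le : phi.ker ≤ rho.ker := fun g hg => by
  have h : toCo g.1 = 1 := congrArg Subtype.val (MonoidHom.mem_ker.1 hg)
  rcases toCo_one_iff.1 h with e | e
  · rw [show g = 1 from Subtype.ext e]; exact Subgroup.one_mem _
  · rw [show g = znegE from Subtype.ext e]; exact rho_znegE

/-- the normal subgroup of order 512 -/
noncomputable def QC : Subgroup ↥Cz := rho.ker.map phi

instance QC_normal : QC.Normal := Subgroup.Normal.map inferInstance phi phi_surjective

/-- the kernel mapped onto the normal subgroup -/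
noncomputable def kq : ↥act.ker →* ↥QC :=
  (phi.comp kin).codRestrict QC fun k => ⟨kin k, rho_kin k, rfl⟩

theorem kq_bijective : Function.Bijective kq := by
  constructor
  · refine (MonoidHom.ker_eq_bot_iff _).1 ((Subgroup.eq_bot_iff_forall _).2 fun k hk => ?_)
    have h : toCo k.1.1 = 1 := congrArg (fun x : ↥QC => (x.1 : Spor.Co1)) (MonoidHom.mem_ker.1 hk)
    rcases toCo_one_iff.1 h with e | e
    · exact Subtype.ext (Subtype.ext e)
    · exact absurd (e ▸ k.1.2) zneg_not_CT
  · rintro ⟨y, g, hg, rfl⟩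
    obtain ⟨k, h | h⟩ := ker_cases (MonoidHom.mem_ker.1 hg)
    · exact ⟨k, Subtype.ext (show phi (kin k) = phi g by rw [h])⟩
    · exact ⟨k, Subtype.ext (show phi (kin k) = phi g by rw [h, map_mul, phi_znegE, one_mul])⟩

theorem QC_extraspecial : IsExtraspecial 2 ↥QC ∧ Nat.card ↥QC = 2 ^ 9 := by
  have := finite_co0
  have e : ↥act.ker ≃* ↥QC := MulEquiv.ofBijective kq kq_bijective
  refine ⟨LargeExtra.extraspecial_congr e isExtraspecial_ker, ?_⟩
  rw [← Nat.card_congr e.toEquiv, counts.1]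
  norm_num

/-- the map onto the commutator subgroup of the isometry group -/
noncomputable def psi : ↥Cz →* ↥(Omega (ZMod 2) (quadFormPlus 4 (ZMod 2))) :=
  phi.liftOfSurjective phi_surjective
    ⟨rho.codRestrict _ fun g => (by rw [← range_rho]; exact ⟨g, rfl⟩), fun g hg => by
      rw [MonoidHom.mem_ker]
      exact Subtype.ext (MonoidHom.mem_ker.1 (ker_phi_le hg))⟩

theorem psi_phi (g : ↥CE) : (psi (phi g) : ↥(isometryGroup (ZMod 2) (quadFormPlus 4 (ZMod 2)))) =
    rho g := by
  simp [psi]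

theorem psi_surjective : Function.Surjective psi := fun y => by
  obtain ⟨g, hg⟩ : y.1 ∈ rho.range := range_rho.symm.le y.2
  exact ⟨phi g, Subtype.ext ((psi_phi g).trans hg)⟩

theorem psi_ker : psi.ker = QC := by
  ext y
  obtain ⟨g, rfl⟩ := phi_surjective y
  rw [MonoidHom.mem_ker]
  constructor
  · exact fun h => ⟨g, MonoidHom.mem_ker.2 (by rw [← psi_phi, h]; rfl), rfl⟩
  · rintro ⟨g', hg', h⟩
    rw [← h]
    exact Subtype.ext ((psi_phi g').trans (MonoidHom.mem_ker.1 hg'))

theorem quot_omega : Nonempty (↥Cz ⧸ QC ≃* ↥(Omega (ZMod 2) (quadFormPlus 4 (ZMod 2)))) :=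
  ⟨(QuotientGroup.quotientMulEquivOfEq psi_ker.symm).trans
    (QuotientGroup.quotientKerEquivOfSurjective psi psi_surjective)⟩

theorem gMX_CE : gMX.g ∈ CE := oGens_mem gMX (by simp [oGens])

theorem gMX_sq : gMX.g * gMX.g = 1 ∧ kS0.g * kS0.g = 1 := by
  constructor <;>
    (refine ext_of_oct fun i => Subtype.ext (toL_injective ?_)
     rw [mul_smul, one_smul, LGen.spec, LGen.spec]
     revert i
     decide +kernel)

/-- the list action of a product of two conjugates -/
def twF (l : List ℤ) : List ℤ := gMX.f (kS0.f (gMX.f (kS0.f l)))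

theorem tw_check : ((kGens.map LGen.f).any fun f =>
    let l := toL (probeV : GolayPt → ℤ)
    !Model.eqZ (twF (f l)) (f (twF l))) = true := by
  decide +kernel

theorem kS0_ker : ∃ k : ↥act.ker, k.1.1 = kS0.g :=
  ⟨⟨⟨kS0.g, kGens_mem kS0 (by simp [kGens])⟩, kGens_ker kS0 (by simp [kGens])⟩, rfl⟩

theorem not_inner (k : ↥act.ker) :
    ¬ toCo (gMX.g * kS0.g * gMX.g) = toCo (k.1.1 * kS0.g * k.1.1⁻¹) := by
  intro h
  obtain ⟨s, hs⟩ := kS0_ker
  have hc : ⁅k, s⁆ ∈ Subgroup.center ↥act.ker := by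
    rw [← isExtraspecial_ker.1.2.2]
    exact Subgroup.commutator_mem_commutator (Subgroup.mem_top k) (Subgroup.mem_top s)
  obtain ⟨f, hf, hne⟩ := List.any_eq_true.1 tw_check
  obtain ⟨a, ha, rfl⟩ := List.mem_map.1 hf
  have hcom := Subgroup.mem_center_iff.1 hc ⟨⟨a.g, kGens_mem a ha⟩, kGens_ker a ha⟩
  replace hcom : a.g * (⁅k, s⁆ : ↥act.ker).1.1 = (⁅k, s⁆ : ↥act.ker).1.1 * a.g :=
    congrArg (fun x : ↥act.ker => x.1.1) hcom
  have hco : (⁅k, s⁆ : ↥act.ker).1.1 = k.1.1 * kS0.g * k.1.1⁻¹ * kS0.g := by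
    simp only [commutatorElement_def, Subgroup.coe_mul, Subgroup.coe_inv, hs]
    rw [inv_eq_of_mul_eq_one_right gMX_sq.2]
  set T := gMX.g * kS0.g * gMX.g * kS0.g with hT
  have hcases : (⁅k, s⁆ : ↥act.ker).1.1 = T ∨ (⁅k, s⁆ : ↥act.ker).1.1 = T * zneg := by
    rcases toCo_eq_iff.1 h with e | e
    · left; rw [hco, e]
    · right; rw [hco, e, hT, mul_assoc _ zneg kS0.g, ← zneg_comm kS0.g, ← mul_assoc]
  have hTa : a.g * T = T * a.g := by
    rcases hcases with e | e
    · rwa [e] at hcom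
    · rw [e, ← mul_assoc, mul_assoc T zneg a.g, ← zneg_comm a.g, ← mul_assoc] at hcom
      exact mul_right_cancel hcom
  have key : ∀ v : leechLattice, toL ((T • v : leechLattice) : GolayPt → ℤ) =
      twF (toL (v : GolayPt → ℤ)) := fun v => by
    simp only [hT, mul_smul, LGen.spec, twF]
  have e := congrArg (fun g : ↥Co0 => toL ((g • probeV : leechLattice) : GolayPt → ℤ)) hTa
  simp only [mul_smul, a.spec, key] at e
  simp only [Bool.not_eq_true'] at hne
  rw [← e, Model.eqZ_refl] at hne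
  exact Bool.noConfusion hne

theorem omega_not_comm : ¬ ∀ a b : ↥(Omega (ZMod 2) (quadFormPlus 4 (ZMod 2))), a * b = b * a := by
  intro h
  let _ : CommGroup ↥(Omega (ZMod 2) (quadFormPlus 4 (ZMod 2))) :=
    { (inferInstance : Group ↥(Omega (ZMod 2) (quadFormPlus 4 (ZMod 2)))) with mul_comm := h }
  have := omega_facts.2.2
  have hp := IsSimpleGroup.prime_card (α := ↥(Omega (ZMod 2) (quadFormPlus 4 (ZMod 2))))
  rw [omega_facts.2.1] at hp
  norm_num at hp

theorem map_psi_normal (M : Subgroup ↥Cz) [M.Normal] : M ≤ QC ∨ M ⊔ QC = ⊤ := by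
  have := omega_facts.2.2
  rcases (Subgroup.Normal.map (inferInstance : M.Normal) psi psi_surjective).eq_bot_or_eq_top
    with h | h
  · left
    rw [← psi_ker]
    exact (Subgroup.map_eq_bot_iff _).1 h
  · right
    rw [← psi_ker, ← Subgroup.comap_map_eq, h, Subgroup.comap_top]

theorem fitting_eq : fittingSubgroup ↥Cz = QC := by
  have := finite_co0
  refine le_antisymm ?_ (Core.le_fittingSubgroup
    (QC_extraspecial.1.1.1).isNilpotent)
  have hs := omega_facts.2.2
  rcases (Subgroup.Normal.map (inferInstance : (fittingSubgroup ↥Cz).Normal) psi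
    psi_surjective).eq_bot_or_eq_top with h | h
  · rw [← psi_ker]
    exact (Subgroup.map_eq_bot_iff _).1 h
  · exfalso
    have hn : Group.IsNilpotent ↥(Omega (ZMod 2) (quadFormPlus 4 (ZMod 2))) := by
      refine Group.isNilpotent_top.1 ?_
      rw [← h]
      exact Core.isNilpotent_map Core.fittingSubgroup_isNilpotent _
    exact omega_not_comm fun a b =>
      have := IsSimpleGroup.comm_iff_isSolvable.2 (inferInstance : Group.IsSolvable _)
      this a b

theorem centralizer_QC_le : Subgroup.centralizer (QC : Set ↥Cz) ≤ QC := by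
  refine (map_psi_normal _).resolve_right fun htop => ?_
  have hmem : phi ⟨gMX.g, gMX_CE⟩ ∈ Subgroup.centralizer (QC : Set ↥Cz) ⊔ QC :=
    htop ▸ Subgroup.mem_top _
  rw [sup_comm, Subgroup.mem_sup_of_normal_left] at hmem
  obtain ⟨q, hq, c, hc, hqc⟩ := hmem
  obtain ⟨k, hk⟩ := kq_bijective.2 ⟨q, hq⟩
  obtain ⟨s, hs⟩ := kS0_ker
  have hk' : phi (kin k) = q := congrArg Subtype.val hk
  have hcs : phi (kin s) * c = c * phi (kin s) :=
    Subgroup.mem_centralizer_iff.1 hc _ ⟨kin s, rho_kin s, rfl⟩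
  refine not_inner k ?_
  have key : phi ⟨gMX.g, gMX_CE⟩ * phi (kin s) * (phi ⟨gMX.g, gMX_CE⟩)⁻¹ =
      phi (kin k) * phi (kin s) * (phi (kin k))⁻¹ := by
    rw [← hqc, hk', mul_assoc q c, ← hcs]
    group
  have key' := congrArg (fun x : ↥Cz => (x : Spor.Co1)) key
  simp only [Subgroup.coe_mul, Subgroup.coe_inv, phi_coe, ← map_mul, ← map_inv] at key'
  rw [show ((kin s : ↥CE) : ↥Co0) = kS0.g from hs,
    inv_eq_of_mul_eq_one_right gMX_sq.1] at key'
  rw [key', ← hs]
  rfl

theorem gen_fitting_eq : generalizedFittingSubgroup ↥Cz = QC := by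
  have := finite_co0
  rw [generalizedFittingSubgroup, Layer.layer_eq_bot_iff_centralizer_fitting.2
    (by rw [fitting_eq]; exact centralizer_QC_le), bot_sup_eq, fitting_eq]

theorem sig_conj : sigGen.g * tGen.g * sigInv.g = zneg * (kG 23).1.1 ∧
    sigGen.g * sigInv.g = 1 := by
  constructor
  · refine ext_of_oct fun i => Subtype.ext (toL_injective ?_)
    rw [mul_smul, mul_smul, mul_smul, zneg_smul, LGen.spec, LGen.spec, LGen.spec]
    show _ = toL (-(((kG 23).1.1 • oct i : leechLattice) : GolayPt → ℤ))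
    rw [show toL (-(((kG 23).1.1 • oct i : leechLattice) : GolayPt → ℤ)) =
      (toL (((kG 23).1.1 • oct i : leechLattice) : GolayPt → ℤ)).map fun x => -x by
        simp [toL, List.map_map, Function.comp_def], kG_spec]
    revert i
    decide +kernel
  · refine ext_of_oct fun i => Subtype.ext (toL_injective ?_)
    rw [mul_smul, one_smul, LGen.spec, LGen.spec]
    revert i
    decide +kernel

theorem kG23_ne : (kG 23).1.1 ≠ tGen.g ∧ (kG 23).1.1 ≠ tGen.g * zneg := by
  constructor <;> intro h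
  · have e := congrArg (fun g : ↥Co0 => toL ((g • probeV : leechLattice) : GolayPt → ℤ)) h
    simp only [kG_spec, tGen.spec] at e
    revert e
    decide +kernel
  · have e := congrArg (fun g : ↥Co0 => toL ((g • probeV : leechLattice) : GolayPt → ℤ)) h
    simp only [kG_spec, mul_smul, zneg_smul, tGen.spec] at e
    revert e
    decide +kernel

theorem conj_in : ∃ g : Spor.Co1, (∃ hq : g * zC * g⁻¹ ∈ Cz, (⟨g * zC * g⁻¹, hq⟩ : ↥Cz) ∈ QC) ∧
    g * zC * g⁻¹ ≠ zC := by
  refine ⟨toCo sigGen.g, ?_⟩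
  have e : toCo sigGen.g * zC * (toCo sigGen.g)⁻¹ = toCo (kG 23).1.1 := by
    rw [← map_inv, zC, ← map_mul, ← map_mul, inv_eq_of_mul_eq_one_right sig_conj.2, sig_conj.1,
      map_mul, toCo_one_iff.2 (Or.inr rfl), one_mul]
  rw [e]
  refine ⟨⟨(phi (kin (kG 23))).2, kin (kG 23), rho_kin _, rfl⟩, fun h => ?_⟩
  rcases toCo_eq_iff.1 h.symm with h' | h'
  exacts [kG23_ne.1 h', kG23_ne.2 h']

theorem large_extraspecial : ∃ z : Spor.Co1, orderOf z = 2 ∧
    ∃ (Q : Subgroup (Subgroup.centralizer ({z} : Set Spor.Co1))) (_ : Q.Normal),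
    generalizedFittingSubgroup (Subgroup.centralizer ({z} : Set Spor.Co1)) = Q ∧
    IsExtraspecial 2 Q ∧ Nat.card Q = 2 ^ 9 ∧
    Nonempty ((Subgroup.centralizer ({z} : Set Spor.Co1)) ⧸ Q ≃*
      Omega (ZMod 2) (quadFormPlus 4 (ZMod 2))) ∧
    ∃ g : Spor.Co1, (∃ hq : g * z * g⁻¹ ∈ Subgroup.centralizer ({z} : Set Spor.Co1),
      (⟨g * z * g⁻¹, hq⟩ : Subgroup.centralizer ({z} : Set Spor.Co1)) ∈ Q) ∧ g * z * g⁻¹ ≠ z :=
  ⟨zC, orderOf_zC, QC, QC_normal, gen_fitting_eq, QC_extraspecial.1, QC_extraspecial.2,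
    quot_omega, conj_in⟩

end Cfsg.Agent.Leech.CentOne
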