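import Mathlib
import Cfsg.Prelude.Def_Spor_Conway
import Cfsg.Agent.Leech.Co1

/-! The lattice modulo twice itself as a module for its automorphism group. -/

set_option autoImplicit false

namespace Cfsg.Agent.Leech
open Cfsg

/-- partners of the standard short vector -/
def sixX : leechLattice :=
  ⟨ofL [-2, -2, 0, 2, 0, 2, 2, 2, 0, 0, 0, 2, 2, 0, 0, 0, 0, 0, 0, 0, 0, 0, 0, 0],
    mem_of_parity _ 0 (by decide +kernel) (by decide +kernel) (by decide +kernel)⟩

/-- a partner with sum of scalar products -16 -/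
def sixW : leechLattice := sixX - eW

/-- orthogonal partners -/
def orthA : leechLattice := fourPair (some 1) (some 2) 1 1 (by norm_num)

/-- orthogonal partners -/
def orthB : leechLattice := fourPair (some 2) (some 3) (-1) 1 (by norm_num)

/-- the standard short vector, as an integer vector -/
def vU : leechLattice := Spor.leechU

theorem six_facts :
    sqNorm (vU : GolayPt → ℤ) = 32 ∧ sqNorm (eW : GolayPt → ℤ) = 32 ∧
    sqNorm (sixW : GolayPt → ℤ) = 32 ∧ sqNorm (sixX : GolayPt → ℤ) = 32 ∧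
    sqNorm ((vU + eW : leechLattice) : GolayPt → ℤ) = 48 ∧
    sqNorm ((vU + sixW : leechLattice) : GolayPt → ℤ) = 48 ∧
    sqNorm ((vU + sixX : leechLattice) : GolayPt → ℤ) = 32 ∧
    sqNorm (orthA : GolayPt → ℤ) = 32 ∧ sqNorm (orthB : GolayPt → ℤ) = 32 ∧
    sqNorm ((orthA + orthB : leechLattice) : GolayPt → ℤ) = 32 ∧
    sqNorm ((vU + orthA : leechLattice) : GolayPt → ℤ) = 64 ∧
    sqNorm ((vU + orthB : leechLattice) : GolayPt → ℤ) = 64 ∧
    sqNorm ((vU + (orthA + orthB) : leechLattice) : GolayPt → ℤ) = 64 := by decide +kernel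

theorem eW_sixW : eW + sixW = sixX := by rw [sixW]; abel

theorem cls_eq_iff {v w : leechLattice} : cls v = cls w ↔ ∃ z : leechLattice, v = w + (z + z) := by
  rw [cls_eq]
  constructor
  · rintro ⟨z, hz, e⟩
    refine ⟨⟨z, hz⟩, Subtype.ext ?_⟩
    simp only [AddSubgroup.coe_add]
    rw [← two_nsmul, ← e]
    abel
  · rintro ⟨z, rfl⟩
    exact ⟨z, z.2, by simp only [AddSubgroup.coe_add, two_nsmul]; abel⟩

theorem cls_add {a b c d : leechLattice} (h : cls a = cls b) (h' : cls c = cls d) :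
    cls (a + c) = cls (b + d) := by
  obtain ⟨y, rfl⟩ := cls_eq_iff.1 h
  obtain ⟨z, rfl⟩ := cls_eq_iff.1 h'
  exact cls_eq_iff.2 ⟨y + z, by abel⟩

theorem short_cases (w : leechLattice) (hw : sqNorm (w : GolayPt → ℤ) ≤ 64) :
    w = 0 ∨ w ∈ layer 32 ∨ w ∈ layer 48 ∨ w ∈ layer 64 := by
  by_cases h0 : w = 0
  · exact Or.inl h0
  have a := min_norm w.2 fun e => h0 (Subtype.ext e)
  have b := sixteen_dvd_sqNorm w.2
  simp only [layer, Set.mem_setOf_eq]
  omega

theorem trans_cls {N : ℤ} (hN : N = 32 ∨ N = 48 ∨ N = 64) {a b : leechLattice} (ha : a ∈ layer N)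
    (hb : b ∈ layer N) : ∃ g : ↥Co0, cls (g • a) = cls b := by
  rcases hN with rfl | rfl | rfl
  · obtain ⟨g, hg⟩ := trans32 a ha
    obtain ⟨h, hh⟩ := trans32 b hb
    exact ⟨h⁻¹ * g, congrArg cls (by rw [mul_smul, inv_smul_eq_iff]; exact Subtype.ext (hg.trans hh.symm))⟩
  · obtain ⟨g, hg⟩ := trans48 a ha
    obtain ⟨h, hh⟩ := trans48 b hb
    exact ⟨h⁻¹ * g, congrArg cls (by rw [mul_smul, inv_smul_eq_iff]; exact Subtype.ext (hg.trans hh.symm))⟩
  · obtain ⟨g, hg⟩ := reach a ha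
    obtain ⟨h, hh⟩ := reach b hb
    obtain ⟨z, hz, e⟩ := stdCross_congr hg hh
    refine ⟨h⁻¹ * g, ?_⟩
    obtain ⟨y, hy⟩ := cls_eq_iff.1 (cls_eq.2 ⟨z, hz, e⟩ : cls (g • a) = cls (h • b))
    refine cls_eq_iff.2 ⟨h⁻¹ • y, ?_⟩
    rw [mul_smul, hy, smul_add', smul_add', inv_smul_smul]

theorem coset_smul {Q : leechLattice → ZMod 2} (hcoset : ∀ v w, Q (v + (w + w)) = Q v)
    {a b : leechLattice} (h : cls a = cls b) : Q a = Q b := by
  obtain ⟨z, rfl⟩ := cls_eq_iff.1 h
  exact hcoset b z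

/-- the invariant quadratic form is unique -/
theorem form_unique (Q : leechLattice → ZMod 2) (hcoset : ∀ v w, Q (v + (w + w)) = Q v)
    (hquad : ∀ u v w, Q (u + v + w) + Q u + Q v + Q w = Q (u + v) + Q (u + w) + Q (v + w))
    (hinv : ∀ (g : ↥Co0) v, Q (g • v) = Q v) (hne : ∃ v, Q v ≠ 0) (v : leechLattice) :
    Q v = ((sqNorm (v : GolayPt → ℤ) / 16 : ℤ) : ZMod 2) := by
  obtain ⟨hU, hW, hW', hX, hUW, hUW', hUX, hA, hB, hAB, hUA, hUB, hUAB⟩ := six_facts
  have hconst : ∀ N, (N = 32 ∨ N = 48 ∨ N = 64) → ∀ a b, a ∈ layer N → b ∈ layer N → Q a = Q b := by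
    intro N hN a b ha hb
    obtain ⟨g, hg⟩ := trans_cls hN ha hb
    rw [← coset_smul hcoset hg, hinv]
  have h0 : Q 0 = 0 := by
    have := hquad 0 0 0
    simp only [add_zero] at this
    revert this; generalize Q 0 = x; revert x; decide
  have e32 : ∀ a, a ∈ layer 32 → Q a = Q vU := fun a ha => hconst 32 (Or.inl rfl) a vU ha hU
  have e48 : ∀ a, a ∈ layer 48 → Q a = Q (vU + eW) := fun a ha =>
    hconst 48 (Or.inr (Or.inl rfl)) a _ ha hUW
  have e64 : ∀ a, a ∈ layer 64 → Q a = Q (vU + orthA) := fun a ha =>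
    hconst 64 (Or.inr (Or.inr rfl)) a _ ha hUA
  have q1 := hquad vU eW sixW
  rw [add_assoc vU eW sixW, eW_sixW, e32 _ hUX, e32 _ hX, e32 eW hW, e32 sixW hW',
    e48 (vU + sixW) hUW'] at q1
  have ha0 : Q vU = 0 := by
    revert q1; generalize Q vU = x; generalize Q (vU + eW) = y; revert x y; decide
  have q2 := hquad vU orthA orthB
  rw [add_assoc vU orthA orthB, e64 _ hUAB, e32 orthA hA, e32 orthB hB, e32 _ hAB,
    e64 (vU + orthB) hUB, ha0] at q2
  have hc0 : Q (vU + orthA) = 0 := by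
    revert q2; generalize Q (vU + orthA) = y; revert y; decide
  have hval : ∀ w : leechLattice, sqNorm (w : GolayPt → ℤ) ≤ 64 →
      (w = 0 ∧ Q w = 0) ∨ (w ∈ layer 32 ∧ Q w = 0) ∨ (w ∈ layer 48 ∧ Q w = Q (vU + eW)) ∨
      (w ∈ layer 64 ∧ Q w = 0) := fun w hw => by
    rcases short_cases w hw with rfl | h | h | h
    · exact Or.inl ⟨rfl, h0⟩
    · exact Or.inr (Or.inl ⟨h, (e32 w h).trans ha0⟩)
    · exact Or.inr (Or.inr (Or.inl ⟨h, e48 w h⟩))
    · exact Or.inr (Or.inr (Or.inr ⟨h, (e64 w h).trans hc0⟩))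
  have hb1 : Q (vU + eW) = 1 := by
    refine (zmod2_cases _).resolve_left fun hb => ?_
    obtain ⟨x, hx⟩ := hne
    obtain ⟨w, hw, he⟩ := exists_short x
    rw [coset_smul hcoset he] at hx
    rcases hval w hw with ⟨-, h⟩ | ⟨-, h⟩ | ⟨-, h⟩ | ⟨-, h⟩
    exacts [hx h, hx h, hx (h.trans hb), hx h]
  obtain ⟨w, hw, he⟩ := exists_short v
  rw [coset_smul hcoset he]
  -- the parity of the scaled norm only depends on the class
  obtain ⟨z, hz⟩ := cls_eq_iff.1 he
  have hpar : ((sqNorm (v : GolayPt → ℤ) / 16 : ℤ) : ZMod 2) =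
      ((sqNorm (w : GolayPt → ℤ) / 16 : ℤ) : ZMod 2) := by
    have hn : sqNorm (v : GolayPt → ℤ) = sqNorm (w : GolayPt → ℤ) +
        4 * dotInt (w : GolayPt → ℤ) (z : GolayPt → ℤ) + 4 * sqNorm (z : GolayPt → ℤ) := by
      rw [hz, AddSubgroup.coe_add, AddSubgroup.coe_add, norm_add, norm_add, dot_self,
        dotInt_add_right]
      ring
    have h8 := sixteen_dvd_sqNorm z.2
    have h8' := sixteen_dvd_sqNorm (add_mem w.2 z.2)
    rw [norm_add] at h8'
    have h16 := sixteen_dvd_sqNorm w.2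
    rw [ZMod.intCast_eq_intCast_iff_dvd_sub]
    omega
  rw [hpar]
  rcases hval w hw with ⟨rfl, h⟩ | ⟨hn, h⟩ | ⟨hn, h⟩ | ⟨hn, h⟩
  · rw [h, show sqNorm ((0 : leechLattice) : GolayPt → ℤ) = 0 from sqNorm_eq_zero.2 rfl]; rfl
  · rw [h, show sqNorm (w : GolayPt → ℤ) = 32 from hn]; decide
  · rw [h, hb1, show sqNorm (w : GolayPt → ℤ) = 48 from hn]; decide
  · rw [h, show sqNorm (w : GolayPt → ℤ) = 64 from hn]; decide

/-- the kernel of the action modulo two -/
theorem kernel_mod_two (g : ↥Co0) (hg : ∀ v : leechLattice, cls (g • v) = cls v) :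
    g ∈ Subgroup.center ↥Co0 := by
  obtain ⟨hU, -⟩ := six_facts
  have hpm : ∀ v ∈ layer 32, g • v = v ∨ g • v = -v := by
    intro v hv
    obtain ⟨z, hz, e⟩ := cls_eq.1 (hg v)
    have hn : sqNorm ((g • v : leechLattice) : GolayPt → ℤ) = 32 := by rw [sqNorm_smul]; exact hv
    rw [layer, Set.mem_setOf_eq] at hv
    rcases congr_two (g • v).2 v.2 (by omega) (by omega) hz e with h | h | ⟨h, -, -⟩
    · exact Or.inl (Subtype.ext h).symm
    · refine Or.inr (Subtype.ext ?_)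
      rw [AddSubgroup.coe_neg, h]
      simp
    · omega
  -- it is enough to treat the case fixing one short vector
  suffices key : ∀ h : ↥Co0, (∀ v ∈ layer 32, h • v = v ∨ h • v = -v) →
      h • vU = vU → h = 1 by
    rcases hpm vU hU with h | h
    · rw [key g hpm h]; exact Subgroup.one_mem _
    · have := key (zneg * g) (fun v hv => by
        rw [mul_smul, zneg_smul]
        rcases hpm v hv with e | e <;> rw [e]
        · exact Or.inr rfl
        · exact Or.inl (neg_neg v)) (by rw [mul_smul, zneg_smul, h, neg_neg])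
      rw [← inv_eq_of_mul_eq_one_right this]
      exact Subgroup.inv_mem _ zneg_mem_center
  intro h hh hfix
  have step : ∀ p w : leechLattice, p ∈ layer 32 → w ∈ layer 32 → h • p = p →
      dotInt (p : GolayPt → ℤ) (w : GolayPt → ℤ) ≠ 0 → h • w = w := by
    intro p w hp hw hfp hd
    refine (hh w hw).resolve_right fun e => hd ?_
    have := dotInt_smul h p w
    rw [hfp, e, AddSubgroup.coe_neg, dot_neg] at this
    omega
  have hall : ∀ w ∈ layer 32, h • w = w := by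
    intro w hw
    by_cases hd : dotInt (vU : GolayPt → ℤ) (w : GolayPt → ℤ) = 0
    · obtain ⟨k, k1, k2⟩ := normal_orth vU w hU hw hd
      obtain ⟨x, hx, x1, x2⟩ : ∃ x ∈ layer 32,
          dotInt (vU : GolayPt → ℤ) (x : GolayPt → ℤ) ≠ 0 ∧
          dotInt (x : GolayPt → ℤ) (w : GolayPt → ℤ) ≠ 0 := by
        refine ⟨k⁻¹ • eW, ?_, ?_, ?_⟩
        · show sqNorm ((k⁻¹ • eW : leechLattice) : GolayPt → ℤ) = 32
          rw [sqNorm_smul]; exact eW_mem_part8.1
        · rw [← dotInt_smul k, smul_inv_smul, k1, eW_mem_part8.2]; norm_num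
        · rw [← dotInt_smul k, smul_inv_smul, k2]; decide +kernel
      exact step x w hx hw (step vU x hU hx hfix x1) x2
    · exact step vU w hU hw hfix hd
  refine ext_of_oct fun i => ?_
  rw [one_smul]
  obtain ⟨j, hj⟩ : ∃ j, i ≠ j := exists_ne' i
  have h2 : (2 : ℤ) ∣ 1 + 1 := by norm_num
  have h2' : (2 : ℤ) ∣ 1 + -1 := by norm_num
  have e : oct i = fourPair i j 1 1 h2 + fourPair i j 1 (-1) h2' := by
    refine Subtype.ext (funext fun q => ?_)
    simp only [oct, fourPair, AddSubgroup.coe_add, Pi.add_apply, Pi.single_apply]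
    split_ifs <;> norm_num
  rw [e, smul_add', hall _ (norm_fourPair hj (by norm_num) (by norm_num) h2),
    hall _ (norm_fourPair hj (by norm_num) (by norm_num) h2')]
where
  exists_ne' (i : GolayPt) : ∃ j, i ≠ j := by
    obtain ⟨j, hj⟩ := exists_ne i
    exact ⟨j, hj.symm⟩

/-- irreducibility modulo two -/
theorem irred_mod_two (M : AddSubgroup leechLattice) (h2 : ∀ v, v + v ∈ M)
    (hinv : ∀ (g : ↥Co0), ∀ v ∈ M, g • v ∈ M) (hne : ∃ v ∈ M, ¬ ∃ w, v = w + w) : M = ⊤ := by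
  obtain ⟨hU, hW, hW', hX, hUW, hUW', hUX, hA, hB, hAB, hUA, hUB, hUAB⟩ := six_facts
  have hcls : ∀ a b, cls a = cls b → a ∈ M → b ∈ M := by
    intro a b h ha
    obtain ⟨z, hz⟩ := cls_eq_iff.1 h.symm
    exact hz ▸ add_mem ha (h2 z)
  have hlayer : ∀ N, (N = 32 ∨ N = 48 ∨ N = 64) → ∀ a b, a ∈ layer N → b ∈ layer N →
      a ∈ M → b ∈ M := fun N hN a b ha hb ham => by
    obtain ⟨g, hg⟩ := trans_cls hN ha hb
    exact hcls _ _ hg (hinv g a ham)
  have key : ∀ a b c : leechLattice, a ∈ M → b ∈ M → a + b = c + (vU + vU) → c ∈ M := by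
    intro a b c ha hb e
    have := sub_mem (add_mem ha hb) (h2 vU)
    rwa [e, add_sub_cancel_right] at this
  obtain ⟨v, hv, hv2⟩ := hne
  obtain ⟨w, hw, he⟩ := exists_short v
  have hwM := hcls v w he hv
  have h32 : ∀ a ∈ layer 32, a ∈ M := by
    rcases short_cases w hw with rfl | h | h | h
    · obtain ⟨z, hz⟩ := cls_eq_iff.1 he
      exact absurd ⟨z, by rw [hz, zero_add]⟩ hv2
    · exact fun a ha => hlayer 32 (Or.inl rfl) w a h ha hwM
    · intro a ha
      refine hlayer 32 (Or.inl rfl) sixX a hX ha (key (vU + eW) (vU + sixW) sixX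
        (hlayer 48 (Or.inr (Or.inl rfl)) w _ h hUW hwM)
        (hlayer 48 (Or.inr (Or.inl rfl)) w _ h hUW' hwM) ?_)
      rw [← eW_sixW]; abel
    · intro a ha
      refine hlayer 32 (Or.inl rfl) (orthA + orthB) a hAB ha (key (vU + orthA) (vU + orthB) _
        (hlayer 64 (Or.inr (Or.inr rfl)) w _ h hUA hwM)
        (hlayer 64 (Or.inr (Or.inr rfl)) w _ h hUB hwM) ?_)
      abel
  refine (AddSubgroup.eq_top_iff' M).2 fun x => ?_
  obtain ⟨y, hy, hey⟩ := exists_short x
  refine hcls y x hey.symm ?_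
  rcases short_cases y hy with rfl | h | h | h
  · exact zero_mem M
  · exact h32 y h
  · exact hlayer 48 (Or.inr (Or.inl rfl)) _ y hUW h (add_mem (h32 _ hU) (h32 _ hW))
  · exact hlayer 64 (Or.inr (Or.inr rfl)) _ y hUA h (add_mem (h32 _ hU) (h32 _ hA))

end Cfsg.Agent.Leech
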