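import Mathlib
import Cfsg.Prelude.Def_Sporadic_a
import Cfsg.Agent.Leech.Code
import Cfsg.Agent.Leech.Lattice

/-! A quadratic function on the lattice invariant under the sign changes and the translation
vanishes on `doubleSub`. -/

set_option autoImplicit false

namespace Cfsg.Agent.Leech
open Cfsg

/-- four times the sum of two unit vectors -/
def pairVec (i j : GolayPt) : GolayPt → ℤ :=
  fun q => (if q = i then 4 else 0) + (if q = j then 4 else 0)

theorem pairVec_mem (i j : GolayPt) : pairVec i j ∈ leechLattice := by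
  rw [mem_lattice_iff]
  refine ⟨(0 : ℤ), fun q => (if q = i then 2 else 0) + (if q = j then 2 else 0), fun q => ?_, ?_, ?_⟩
  · simp only [pairVec]; split_ifs <;> norm_num
  · simp only [pairVec, Finset.sum_add_distrib, Finset.sum_ite_eq', Finset.mem_univ, if_true]
    norm_num
  · convert zero_mem golayCode
    funext q
    have h4 : (4 : ZMod 2) = 0 := rfl
    have h2 : (2 : ZMod 2) = 0 := rfl
    simp only [red2]; split_ifs <;> simp [h2, h4]

/-- `pairVec` in the lattice -/
def pr (i j : GolayPt) : leechLattice := ⟨pairVec i j, pairVec_mem i j⟩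

/-- the squares modulo 23 -/
def sqSet : Finset (ZMod 23) := {0, 1, 2, 3, 4, 6, 8, 9, 12, 13, 16, 18}

/-- turn eleven values into a symmetric function -/
def symmFun (g : Fin 11 → ZMod 2) (d : ZMod 23) : ZMod 2 :=
  if h : d.val = 0 then 0
  else if h' : d.val ≤ 11 then g ⟨d.val - 1, by omega⟩
  else g ⟨22 - d.val, by have := ZMod.val_lt d; omega⟩

theorem circulant_injective : ∀ g : Fin 11 → ZMod 2,
    (∀ a : ZMod 23, ∑ k ∈ sqSet, symmFun g (k - a) = 0) → g = 0 := by decide +kernel

theorem word_sq_mem :
    (fun q : GolayPt => 2 * ((qrWord 0 q).val : ℤ)) ∈ leechLattice :=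
  two_mul_word_mem (qrWord_mem 0)

theorem vecAll_mem : (fun q : GolayPt => if q = none then (42 : ℤ) else 2) ∈ leechLattice := by
  rw [mem_lattice_iff]
  exact ⟨0, fun q => if q = none then 21 else 1, by decide +kernel, by decide +kernel,
    (mem_iff _).2 (by decide +kernel)⟩

theorem quad_vanish (f : leechLattice → ZMod 2) (B : leechLattice → leechLattice → ZMod 2)
    (hadd : ∀ v w, f (v + w) = f v + f w + B v w)
    (hB : ∀ u v w, B (u + v) w = B u w + B v w)
    (htwo : ∀ v w, f (v + (w + w)) = f v)
    (hsign : ∀ (c : GolayPt → ZMod 2) (hc : c ∈ golayCode) (v : leechLattice),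
      f (signCo0 c hc • v) = f v)
    (hshift : ∀ v : leechLattice, f (permCo0 shift shift_mem • v) = f v) :
    ∀ x : leechLattice, (x : GolayPt → ℤ) ∈ doubleSub → f x = 0 := by
  -- formal consequences
  have hsymm : ∀ v w, B v w = B w v := fun v w => by
    have h1 := hadd v w
    have h2 := hadd w v
    rw [add_comm w v, h1, add_comm (f w) (f v)] at h2
    exact add_left_cancel h2
  have hB' : ∀ u v w, B u (v + w) = B u v + B u w := fun u v w => by
    rw [hsymm, hB, hsymm v u, hsymm w u]
  have hB0 : ∀ w, B 0 w = 0 := fun w => by simpa using hB 0 0 w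
  have hf0 : f 0 = 0 := by simpa [hB0] using hadd 0 0
  have hdiag : ∀ v, B v v = 0 := fun v => by
    have h := htwo 0 v
    rw [zero_add, hf0, hadd v v, CharTwo.add_self_eq_zero, zero_add] at h
    exact h
  have hBtwo : ∀ u w, B u (w + w) = 0 := fun u w => by rw [hB', CharTwo.add_self_eq_zero]
  have hBperm : ∀ v w, B (permCo0 shift shift_mem • v) (permCo0 shift shift_mem • w) = B v w :=
    fun v w => by
      have h := hadd (permCo0 shift shift_mem • v) (permCo0 shift shift_mem • w)
      rw [← smul_add', hshift, hshift, hshift, hadd v w] at h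
      exact (add_left_cancel h).symm
  let z : leechLattice := pr none none
  have hpr_self : ∀ j, pr j j = z + ((pr j none + -z) + (pr j none + -z)) := fun j => by
    refine Subtype.ext (funext fun q => ?_)
    simp only [z, pr, AddSubgroup.coe_add, AddSubgroup.coe_neg, Pi.add_apply, Pi.neg_apply, pairVec]
    ring
  have hf_self : ∀ j, f (pr j j) = f z := fun j => by rw [hpr_self, htwo]
  have hB_self : ∀ u j, B u (pr j j) = B u z := fun u j => by
    rw [hpr_self, hB', hBtwo, add_zero]
  -- separating sign changes
  have hsep : ∀ i j, (∃ c, c ∈ golayCode ∧ c i = 0 ∧ c j = 1) → B (pr i j) z = f z := by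
    rintro i j ⟨c, hc, hi, hj⟩
    have hij : i ≠ j := fun h => by rw [h, hj] at hi; exact one_ne_zero hi
    have e : pr i j = (signCo0 c hc • pr i j) + pr j j := by
      refine Subtype.ext (funext fun q => ?_)
      simp only [AddSubgroup.coe_add, Pi.add_apply, signCo0_apply, negOn, pr, pairVec]
      by_cases hqi : q = i
      · simp [hqi, hi, hij]
      · by_cases hqj : q = j
        · simp [hqj, hj, hij.symm]
        · simp [hqi, hqj]
    have h := congrArg f e
    rw [hadd, hsign, hf_self, hB_self _ j] at h
    have hd : B (signCo0 c hc • pr i j) z = B (pr i j) z := by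
      conv_rhs => rw [e, hB, hsymm (pr j j) z, hB_self z j, hdiag, add_zero]
    rw [hd] at h
    have := CharTwo.add_eq_zero.1 (show f z + B (pr i j) z = 0 by
      rwa [add_assoc, left_eq_add] at h)
    exact this.symm
  have hsep0 : ∀ k : ZMod 23, ∃ t, qrWord t (some k) = 1 := by decide +kernel
  have hnone : ∀ k : ZMod 23, B (pr none (some k)) z = f z := fun k => by
    obtain ⟨t, ht⟩ := hsep0 k
    exact hsep _ _ ⟨_, qrWord_mem t, rfl, ht⟩
  have h12 : ∃ t, qrWord t (some 1) = 0 ∧ qrWord t (some 2) = 1 := by decide +kernel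
  have htri : pr none (some 1) + pr none (some 2) = pr (some 1) (some 2) + z := by
    refine Subtype.ext (funext fun q => ?_)
    simp only [z, pr, AddSubgroup.coe_add, Pi.add_apply, pairVec]
    ring
  have hfz : f z = 0 := by
    have h := congrArg (fun u => B u z) htri
    simp only [hB, hnone, hdiag] at h
    obtain ⟨t, h1, h2⟩ := h12
    rw [hsep _ _ ⟨_, qrWord_mem t, h1, h2⟩, add_zero, CharTwo.add_self_eq_zero] at h
    exact h.symm
  have hBz : ∀ k : ZMod 23, B (pr none (some k)) z = 0 := fun k => (hnone k).trans hfz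
  -- the translation
  let p : ZMod 23 → leechLattice := fun k => pr none (some k)
  have hshift_p : ∀ k, permCo0 shift shift_mem • p k = p (k + 1) := fun k => by
    refine Subtype.ext (funext fun q => ?_)
    rw [permCo0_apply]
    simp only [p, pr, pairVec]
    have e1 : ∀ q : GolayPt, (shift⁻¹ q = none ↔ q = none) := by decide +kernel
    have e2 : ∀ (q : GolayPt) (k : ZMod 23), (shift⁻¹ q = some k ↔ q = some (k + 1)) := by
      decide +kernel
    simp only [e1, e2]
  have hBp : ∀ (n : ℕ) (d : ZMod 23), B (p (n : ZMod 23)) (p (n + d)) = B (p 0) (p d) := by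
    intro n
    induction n with
    | zero => intro d; simp
    | succ n ih =>
      intro d
      rw [Nat.cast_succ, ← hshift_p, show (n : ZMod 23) + 1 + d = n + d + 1 by ring, ← hshift_p,
        hBperm, ih]
  have hBab : ∀ a b, B (p a) (p b) = B (p 0) (p (b - a)) := fun a b => by
    have := hBp a.val (b - a)
    rwa [ZMod.natCast_zmod_val, add_sub_cancel] at this
  have hneg : ∀ d, B (p 0) (p (-d)) = B (p 0) (p d) := fun d => by
    rw [← show B (p d) (p 0) = B (p 0) (p (-d)) by rw [hBab d 0, zero_sub], hsymm]
  let g : Fin 11 → ZMod 2 := fun i => B (p 0) (p ((i.val + 1 : ℕ) : ZMod 23))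
  have hg : ∀ d, B (p 0) (p d) = symmFun g d := by
    intro d
    simp only [symmFun, g]
    split_ifs with h h'
    · rw [(ZMod.val_eq_zero d).1 h, hdiag]
    · rw [show d.val - 1 + 1 = d.val by omega, ZMod.natCast_zmod_val]
    · have hlt := ZMod.val_lt d
      rw [show 22 - d.val + 1 = 23 - d.val by omega, Nat.cast_sub hlt.le, ZMod.natCast_zmod_val,
        ZMod.natCast_self, zero_sub, hneg]
  have hsum_right : ∀ u (s : Finset (ZMod 23)), B u (∑ k ∈ s, p k) = ∑ k ∈ s, B u (p k) := by
    intro u s
    induction s using Finset.induction_on with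
    | empty => simp [hsymm u 0, hB0]
    | insert a s ha ih => rw [Finset.sum_insert ha, Finset.sum_insert ha, hB', ih]
  have hrel : ∑ k ∈ sqSet, p k =
      ((⟨_, word_sq_mem⟩ : leechLattice) + (z + z + z)) + ((⟨_, word_sq_mem⟩ : leechLattice) + (z + z + z)) := by
    refine Subtype.ext (funext fun q => ?_)
    simp only [z, p, pr, AddSubgroup.val_finsetSum, AddSubgroup.coe_add, Pi.add_apply,
      Finset.sum_apply]
    revert q
    decide +kernel
  have hg0 : g = 0 := circulant_injective g fun a => by
    rw [← hBtwo (p a) ((⟨_, word_sq_mem⟩ : leechLattice) + (z + z + z)), ← hrel, hsum_right]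
    exact Finset.sum_congr rfl fun k _ => by rw [hBab a k, hg]
  have hBpp : ∀ a b, B (p a) (p b) = 0 := fun a b => by
    rw [hBab, hg, hg0]; simp [symmFun]
  have hfp : ∀ k, f (p k) = f (p 0) := by
    intro k
    have : ∀ n : ℕ, f (p (n : ZMod 23)) = f (p 0) := by
      intro n
      induction n with
      | zero => simp
      | succ n ih => rw [Nat.cast_succ, ← hshift_p, hshift, ih]
    simpa using this k.val
  have hfsum : ∀ s : Finset (ZMod 23), f (∑ k ∈ s, p k) = ∑ k ∈ s, f (p k) := by
    intro s
    induction s using Finset.induction_on with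
    | empty => simp [hf0]
    | insert a s ha ih =>
      rw [Finset.sum_insert ha, Finset.sum_insert ha, hadd, hsum_right, ih,
        Finset.sum_eq_zero (fun k _ => hBpp a k), add_zero]
  have hall : ∑ k : ZMod 23, p k = z + ((⟨_, vecAll_mem⟩ : leechLattice) + (⟨_, vecAll_mem⟩ : leechLattice)) := by
    refine Subtype.ext (funext fun q => ?_)
    simp only [z, p, pr, AddSubgroup.val_finsetSum, AddSubgroup.coe_add, Pi.add_apply,
      Finset.sum_apply]
    revert q
    decide +kernel
  have hfp0 : ∀ k, f (p k) = 0 := fun k => by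
    have h := congrArg f hall
    rw [htwo, hfz, hfsum, Finset.sum_congr rfl (fun i _ => hfp i), Finset.sum_const,
      Finset.card_univ, ZMod.card, nsmul_eq_mul, show ((23 : ℕ) : ZMod 2) = 1 from rfl, one_mul] at h
    rw [hfp, h]
  -- the span of the generators
  let S : AddSubgroup leechLattice := AddSubgroup.closure (insert z (Set.range p))
  have hnegz : ∀ (u : leechLattice) v, B (-u) v = B u v := fun u v => by
    have h := hB (-u) u v
    rw [neg_add_cancel, hB0] at h
    exact CharTwo.add_eq_zero.1 h.symm
  have hBgen : ∀ u ∈ insert z (Set.range p), ∀ v ∈ S, B u v = 0 := by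
    intro u hu v hv
    induction hv using AddSubgroup.closure_induction with
    | mem v hv =>
      rcases hu with rfl | ⟨a, rfl⟩ <;> rcases hv with rfl | ⟨b, rfl⟩
      · exact hdiag _
      · rw [hsymm]; exact hBz b
      · exact hBz a
      · exact hBpp a b
    | zero => rw [hsymm, hB0]
    | add v w _ _ hv hw => rw [hB', hv, hw, add_zero]
    | neg v _ hv => rw [hsymm, hnegz, hsymm, hv]
  have hBS : ∀ u ∈ S, ∀ v ∈ S, B u v = 0 := by
    intro u hu v hv
    induction hu using AddSubgroup.closure_induction with
    | mem u hu => exact hBgen u hu v hv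
    | zero => exact hB0 v
    | add u w _ _ hu hw => rw [hB, hu, hw, add_zero]
    | neg u _ hu => rw [hnegz, hu]
  have hfS : ∀ u ∈ S, f u = 0 := by
    intro u hu
    induction hu using AddSubgroup.closure_induction with
    | mem u hu =>
      rcases hu with rfl | ⟨a, rfl⟩
      · exact hfz
      · exact hfp0 a
    | zero => exact hf0
    | add u w hu' hw' hu hw => rw [hadd, hu, hw, hBS u hu' w hw', add_zero, add_zero]
    | neg u hu' hu =>
      have h := hadd (-u) u
      rw [neg_add_cancel, hf0, hu, hnegz, hdiag, add_zero, add_zero] at h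
      exact h.symm
  -- decomposition
  intro x hx
  obtain ⟨a, w, hw, s, hs⟩ := hx
  let u : leechLattice := a • (⟨vecOdd, vecOdd_mem⟩ : leechLattice)
  let y : leechLattice :=
    (∑ k : ZMod 23, w (some k) • p k) + (a + s - ∑ k : ZMod 23, w (some k)) • z
  have hy : y ∈ S := add_mem
    (sum_mem fun k _ => zsmul_mem (AddSubgroup.subset_closure
      (Set.mem_insert_of_mem _ (Set.mem_range_self k))) _)
    (zsmul_mem (AddSubgroup.subset_closure (Set.mem_insert _ _)) _)
  have hxy : x = y + (u + u) := by
    refine Subtype.ext (funext fun q => ?_)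
    rw [hw q]
    have hsum : w none + ∑ k : ZMod 23, w (some k) = 2 * s := by rw [← hs, Fintype.sum_option]
    simp only [y, u, z, p, pr, AddSubgroup.coe_add, Pi.add_apply, AddSubgroup.val_finsetSum,
      AddSubgroup.coe_zsmul, Finset.sum_apply, Pi.smul_apply, smul_eq_mul]
    rcases q with _ | k
    · simp [pairVec, vecOdd, ← Finset.sum_mul]
      omega
    · simp [pairVec, vecOdd, mul_ite, Finset.sum_ite_eq]
      omega
  rw [hxy, htwo, hfS y hy]

end Cfsg.Agent.Leech
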