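import Mathlib
import Cfsg.Prelude.Def_Classical
import Cfsg.Agent.Classical.HermGroup
import Cfsg.Agent.Leech.PermChain

/-! Permutation models of small unitary groups: fields of order `p ^ 2` as pairs of residues,
matrices and projective points as packed numbers. -/

set_option autoImplicit false

namespace Cfsg.Agent.Leech.Model

open Matrix Cfsg.Agent.Classical

/-- a field of order `p ^ 2`: `x` stands for `x % p + (x / p) r`, where `r * r = c + d r` -/
structure FCode where
  p : ℕ
  c : ℕ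
  d : ℕ

/-- addition -/
def FCode.add (K : FCode) (x y : ℕ) : ℕ :=
  (x % K.p + y % K.p) % K.p + K.p * ((x / K.p + y / K.p) % K.p)

/-- multiplication -/
def FCode.mul (K : FCode) (x y : ℕ) : ℕ :=
  (x % K.p * (y % K.p) + K.c * (x / K.p * (y / K.p))) % K.p +
    K.p * ((x % K.p * (y / K.p) + x / K.p * (y % K.p) + K.d * (x / K.p * (y / K.p))) % K.p)

/-- powers -/
def FCode.pow (K : FCode) (x : ℕ) : ℕ → ℕ
  | 0 => 1
  | k + 1 => K.mul (K.pow x k) x

/-- negation -/
def FCode.neg (K : FCode) (x : ℕ) : ℕ := K.mul (K.p - 1) x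

/-- sums -/
def FCode.sumTo (K : FCode) (f : ℕ → ℕ) : ℕ → ℕ
  | 0 => 0
  | j + 1 => K.add (K.sumTo f j) (f j)

/-- every nonzero code has an inverse, and codes are closed -/
def FCode.check (K : FCode) : Bool :=
  Nat.blt 1 K.p &&
  (List.range (K.p * K.p)).all fun x =>
    Nat.beq x 0 || (List.range (K.p * K.p)).any fun y => Nat.beq (K.mul x y) 1

/-- the value of a code -/
def FCode.val {F : Type*} [Field F] (K : FCode) (r : F) (x : ℕ) : F :=
  ((x % K.p : ℕ) : F) + ((x / K.p : ℕ) : F) * r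

section
variable {F : Type*} [Field F] (K : FCode) (r : F)

theorem val_zero : K.val r 0 = 0 := by simp [FCode.val]

theorem val_one (hp : 1 < K.p) : K.val r 1 = 1 := by
  simp [FCode.val, Nat.mod_eq_of_lt hp, Nat.div_eq_of_lt hp]

theorem val_pair [CharP F K.p] (a b : ℕ) (hp : 0 < K.p) :
    K.val r (a % K.p + K.p * (b % K.p)) = (a : F) + (b : F) * r := by
  rw [FCode.val, Nat.add_mul_mod_self_left, Nat.mod_mod, Nat.add_mul_div_left _ _ hp,
    Nat.div_eq_of_lt (Nat.mod_lt a hp), Nat.zero_add, CharP.cast_eq_mod F K.p a,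
    CharP.cast_eq_mod F K.p b]

theorem val_add [CharP F K.p] (hp : 0 < K.p) (x y : ℕ) :
    K.val r (K.add x y) = K.val r x + K.val r y := by
  rw [FCode.add, val_pair K r _ _ hp, FCode.val, FCode.val]
  push_cast
  ring

theorem val_mul [CharP F K.p] (hp : 0 < K.p) (hr : r * r = (K.c : F) + (K.d : F) * r) (x y : ℕ) :
    K.val r (K.mul x y) = K.val r x * K.val r y := by
  rw [FCode.mul, val_pair K r _ _ hp, FCode.val, FCode.val]
  push_cast
  linear_combination (-((x / K.p : ℕ) : F) * ((y / K.p : ℕ) : F)) * hr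

theorem val_pow [CharP F K.p] (hp : 1 < K.p) (hr : r * r = (K.c : F) + (K.d : F) * r) (x : ℕ) :
    ∀ k, K.val r (K.pow x k) = K.val r x ^ k
  | 0 => by rw [FCode.pow, val_one K r hp, pow_zero]
  | k + 1 => by rw [FCode.pow, val_mul K r (by omega) hr, val_pow hp hr x k, pow_succ]

theorem val_neg [CharP F K.p] (hp : 1 < K.p) (hr : r * r = (K.c : F) + (K.d : F) * r) (x : ℕ) :
    K.val r (K.neg x) = -K.val r x := by
  rw [FCode.neg, val_mul K r (by omega) hr]
  have h1 : K.val r (K.p - 1) = -1 := by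
    rw [FCode.val, Nat.mod_eq_of_lt (by omega), Nat.div_eq_of_lt (by omega), Nat.cast_zero,
      zero_mul, add_zero, Nat.cast_sub (by omega), CharP.cast_eq_zero, Nat.cast_one, zero_sub]
  rw [h1, neg_one_mul]

theorem val_sumTo [CharP F K.p] (hp : 0 < K.p) (f : ℕ → ℕ) :
    ∀ n, K.val r (K.sumTo f n) = ∑ i : Fin n, K.val r (f i)
  | 0 => by simp [FCode.sumTo, val_zero]
  | n + 1 => by rw [FCode.sumTo, val_add K r hp, val_sumTo hp f n, Fin.sum_univ_castSucc]; rfl

theorem val_eq_zero [CharP F K.p] (hK : K.check = true) (hr : r * r = (K.c : F) + (K.d : F) * r)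
    {x : ℕ} (hx : x < K.p * K.p) (h : K.val r x = 0) : x = 0 := by
  simp only [FCode.check, Bool.and_eq_true] at hK
  have hp : 1 < K.p := by simpa using hK.1
  by_contra hne
  have := List.all_eq_true.1 hK.2 x (List.mem_range.2 hx)
  rw [Bool.or_eq_true, List.any_eq_true] at this
  rcases this with e | ⟨y, -, e⟩
  · exact hne (Nat.eq_of_beq_eq_true e)
  · have h1 := val_mul K r (by omega) hr x y
    rw [Nat.eq_of_beq_eq_true e, val_one K r hp, h, zero_mul] at h1
    exact one_ne_zero h1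

theorem val_injOn [CharP F K.p] (hK : K.check = true) (hr : r * r = (K.c : F) + (K.d : F) * r)
    {x y : ℕ} (hx : x < K.p * K.p) (hy : y < K.p * K.p) (h : K.val r x = K.val r y) : x = y := by
  have hp : 1 < K.p := by
    simp only [FCode.check, Bool.and_eq_true] at hK
    simpa using hK.1
  -- compare the two residues
  have hb : (x / K.p + (K.p - y / K.p)) % K.p = 0 ∧ (x % K.p + (K.p - y % K.p)) % K.p = 0 := by
    have hyd : y / K.p < K.p := Nat.div_lt_of_lt_mul hy
    have hym : y % K.p < K.p := Nat.mod_lt _ (by omega)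
    set z := (x % K.p + (K.p - y % K.p)) % K.p + K.p * ((x / K.p + (K.p - y / K.p)) % K.p) with hz
    have hzv : K.val r z = 0 := by
      rw [hz, val_pair K r _ _ (by omega)]
      push_cast [Nat.cast_sub hyd.le, Nat.cast_sub hym.le, CharP.cast_eq_zero]
      simp only [FCode.val] at h
      linear_combination h
    have hzlt : z < K.p * K.p := by
      rw [hz]
      have h1 := Nat.mod_lt (x % K.p + (K.p - y % K.p)) (by omega : 0 < K.p)
      have h2 := Nat.mod_lt (x / K.p + (K.p - y / K.p)) (by omega : 0 < K.p)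
      nlinarith
    have := val_eq_zero K r hK hr hzlt hzv
    rw [hz] at this
    refine ⟨?_, by omega⟩
    have h3 : K.p * ((x / K.p + (K.p - y / K.p)) % K.p) = 0 := by omega
    rcases Nat.mul_eq_zero.1 h3 with e | e
    · omega
    · exact e
  have key : ∀ a b : ℕ, a < K.p → b < K.p → (a + (K.p - b)) % K.p = 0 → a = b := by
    intro a b ha hb h0
    rcases Nat.lt_or_ge (a + (K.p - b)) K.p with h1 | h1
    · rw [Nat.mod_eq_of_lt h1] at h0; omega
    · rw [Nat.mod_eq_sub_mod h1, Nat.mod_eq_of_lt (by omega)] at h0; omega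
  have e1 := key _ _ (Nat.div_lt_of_lt_mul hx) (Nat.div_lt_of_lt_mul hy) hb.1
  have e2 := key _ _ (Nat.mod_lt _ (by omega)) (Nat.mod_lt _ (by omega)) hb.2
  rw [← Nat.mod_add_div x K.p, ← Nat.mod_add_div y K.p, e1, e2]

end

/-- entry of a packed matrix -/
def mEnt (n m i j : ℕ) : ℕ := pk 5 m (n * i + j)

/-- coordinate of a packed point -/
def ptEnt (P j i : ℕ) : ℕ := pk 5 (pk 30 P j) i

/-- first-row expansion of the determinant -/
def detC (K : FCode) : ℕ → (ℕ → ℕ → ℕ) → ℕ
  | 0, _ => 1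
  | n + 1, M => K.sumTo (fun j =>
      let t := K.mul (M 0 j) (detC K n fun a b => M (a + 1) (if b < j then b else b + 1))
      if j % 2 = 0 then t else K.neg t) (n + 1)

theorem val_detC {F : Type*} [Field F] (K : FCode) (r : F) [CharP F K.p] (hp : 1 < K.p)
    (hr : r * r = (K.c : F) + (K.d : F) * r) : ∀ (n : ℕ) (M : ℕ → ℕ → ℕ),
    K.val r (detC K n M) = (Matrix.of fun i j : Fin n => K.val r (M i j)).det
  | 0, M => by rw [detC, val_one K r hp, Matrix.det_fin_zero]
  | n + 1, M => by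
    rw [detC, val_sumTo K r (by omega), Matrix.det_succ_row_zero]
    refine Finset.sum_congr rfl fun j _ => ?_
    have hsub : K.val r (detC K n fun a b => M (a + 1) (if b < (j : ℕ) then b else b + 1)) =
        ((Matrix.of fun i k : Fin (n + 1) => K.val r (M i k)).submatrix Fin.succ j.succAbove).det := by
      rw [val_detC K r hp hr n]
      congr 1
      ext a b
      simp only [Matrix.submatrix_apply, Matrix.of_apply, Fin.val_succ, Fin.succAbove]
      congr 2
      split_ifs with h1 h2 h2 <;> simp_all [Fin.lt_def] <;> omega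
    dsimp only
    by_cases hj : (j : ℕ) % 2 = 0
    · rw [if_pos hj, val_mul K r (by omega) hr, hsub,
        Even.neg_one_pow (Nat.even_iff.2 hj), one_mul]
      simp
    · rw [if_neg hj, val_neg K r hp hr, val_mul K r (by omega) hr, hsub,
        Odd.neg_one_pow (Nat.odd_iff.2 (by omega))]
      simp

/-- data of a model -/
structure UData where
  K : FCode
  n : ℕ
  N : ℕ
  pts : ℕ
  lead : ℕ
  mats : List ℕ
  scal : List ℕ
  bperm : List ℕ

/-- the points are normalised and distinct, the matrices special unitary and acting as recorded -/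
def UData.check (U : UData) (M : ℕ) : Bool :=
  U.K.check &&
  Nat.beq U.mats.length U.bperm.length &&
  ((List.range U.N).all fun j =>
    Nat.blt (pk 5 U.lead j) U.n &&
    Nat.beq (ptEnt U.pts j (pk 5 U.lead j)) 1 &&
    ((List.range (pk 5 U.lead j)).all fun i => Nat.beq (ptEnt U.pts j i) 0) &&
    ((List.range U.n).all fun i => Nat.blt (ptEnt U.pts j i) (U.K.p * U.K.p)) &&
    Nat.beq ((List.range U.n).foldr (fun i acc => ptEnt U.pts j i + 32 * acc) 0)
      (pk 30 U.pts j)) &&
  noRep 0 ((List.range U.N).map fun j => pk 30 U.pts j % M) &&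
  ((List.range U.mats.length).all fun a =>
    Nat.beq (detC U.K U.n (mEnt U.n (U.mats.getD a 0))) 1 &&
    ((List.range U.n).all fun i => (List.range U.n).all fun j =>
      Nat.beq (U.K.sumTo (fun k => U.K.mul (U.K.pow (mEnt U.n (U.mats.getD a 0) k i) U.K.p)
        (mEnt U.n (U.mats.getD a 0) k j)) U.n) (if i = j then 1 else 0)) &&
    ((List.range U.N).all fun j =>
      let s := pk 5 (U.scal.getD a 0) j
      Nat.blt 0 s && Nat.blt s (U.K.p * U.K.p) && (List.range U.n).all fun i =>
        Nat.beq (U.K.sumTo (fun k => U.K.mul (mEnt U.n (U.mats.getD a 0) i k)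
            (ptEnt U.pts j k)) U.n)
          (U.K.mul s (ptEnt U.pts (pk 10 (U.bperm.getD a 0) j) i))))

/-- the model theorem -/
theorem unitary_iso {F : Type*} [Field F] [Fintype F] (U : UData) (M : ℕ) (hU : U.check M = true)
    [CharP F U.K.p] (r : F) (hr : r * r = (U.K.c : F) + (U.K.d : F) * r)
    (hF : Fintype.card F = U.K.p ^ 2) (hn : 2 ≤ U.n)
    (hcard : Nat.card (Cfsg.PSU U.n F U.K.p) ≤ Nat.card ↥(genGroup U.N U.bperm)) :
    Nonempty (Cfsg.PSU U.n F U.K.p ≃* ↥(genGroup U.N U.bperm)) := by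
  classical
  obtain ⟨σ, hσq, hσ, hq, hp⟩ := exists_powHom hF
  simp only [UData.check, Bool.and_eq_true] at hU
  obtain ⟨⟨⟨⟨hK, hlen⟩, hpts⟩, hnd⟩, hmat⟩ := hU
  have hlen' : U.mats.length = U.bperm.length := Nat.eq_of_beq_eq_true hlen
  let P : Fin U.N → Fin U.n → F := fun j i => U.K.val r (ptEnt U.pts j i)
  have hone : U.K.val r 1 = 1 := val_one U.K r hp
  have hinj : ∀ (i j : Fin U.N) (c : F), c ≠ 0 → P i = c • P j → i = j := by
    intro i j c hc e
    have hi := List.all_eq_true.1 hpts i (List.mem_range.2 i.2)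
    have hj := List.all_eq_true.1 hpts j (List.mem_range.2 j.2)
    simp only [Bool.and_eq_true, List.all_eq_true, List.mem_range] at hi hj
    obtain ⟨⟨⟨⟨hi1, hi2⟩, hi3⟩, hi4⟩, hi5⟩ := hi
    obtain ⟨⟨⟨⟨hj1, hj2⟩, hj3⟩, hj4⟩, hj5⟩ := hj
    set a := pk 5 U.lead i with ha
    set b := pk 5 U.lead j with hb
    have haN : a < U.n := by simpa using hi1
    have hbN : b < U.n := by simpa using hj1
    have pa : P i ⟨a, haN⟩ = 1 := by simp only [P, Nat.eq_of_beq_eq_true hi2, hone]
    have pb : P j ⟨b, hbN⟩ = 1 := by simp only [P, Nat.eq_of_beq_eq_true hj2, hone]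
    have hab : a = b := by
      rcases lt_trichotomy a b with h | h | h
      · exfalso
        have e1 := congrFun e ⟨a, haN⟩
        have z : P j ⟨a, haN⟩ = 0 := by simp only [P, Nat.eq_of_beq_eq_true (hj3 a h), val_zero]
        rw [pa, Pi.smul_apply, z, smul_zero] at e1
        exact one_ne_zero e1
      · exact h
      · exfalso
        have e1 := congrFun e ⟨b, hbN⟩
        have z : P i ⟨b, hbN⟩ = 0 := by simp only [P, Nat.eq_of_beq_eq_true (hi3 b h), val_zero]
        rw [z, Pi.smul_apply, pb, smul_eq_mul, mul_one] at e1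
        exact hc e1.symm
    have hc1 : c = 1 := by
      have e1 := congrFun e ⟨a, haN⟩
      rw [pa, Pi.smul_apply, show P j ⟨a, haN⟩ = 1 by simpa [hab] using pb, smul_eq_mul,
        mul_one] at e1
      exact e1.symm
    rw [hc1, one_smul] at e
    have hall : ∀ k, k < U.n → ptEnt U.pts i k = ptEnt U.pts j k := fun k hk =>
      val_injOn U.K r hK hr (by simpa using hi4 k hk) (by simpa using hj4 k hk)
        (congrFun e ⟨k, hk⟩)
    refine Fin.ext (noRep_range hnd i.2 j.2 ?_)
    suffices hf : ∀ l : List ℕ, (∀ k ∈ l, k < U.n) →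
        l.foldr (fun k acc => ptEnt U.pts i k + 32 * acc) 0 =
          l.foldr (fun k acc => ptEnt U.pts j k + 32 * acc) 0 by
      show pk 30 U.pts i % M = pk 30 U.pts j % M
      rw [← Nat.eq_of_beq_eq_true hi5, ← Nat.eq_of_beq_eq_true hj5,
        hf _ fun k hk => List.mem_range.1 hk]
    intro l hl
    induction l with
    | nil => rfl
    | cons k l ih =>
      rw [List.foldr_cons, List.foldr_cons, hall k (hl k List.mem_cons_self),
        ih fun x hx => hl x (List.mem_cons_of_mem _ hx)]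
  let S := Cfsg.SU U.n F U.K.p
  let rel : ↥S → Equiv.Perm (Fin U.N) → Prop := fun g β =>
    ∀ j, ∃ c : F, c ≠ 0 ∧
      ((g : Matrix.SpecialLinearGroup (Fin U.n) F) : Matrix (Fin U.n) (Fin U.n) F) *ᵥ P j =
        c • P (β j)
  have rel_mul : ∀ g h β β', rel g β → rel h β' → rel (g * h) (β * β') := by
    intro g h β β' hg hh j
    obtain ⟨c, hc, e⟩ := hh j
    obtain ⟨c', hc', e'⟩ := hg (β' j)
    refine ⟨c * c', mul_ne_zero hc hc', ?_⟩
    rw [Subgroup.coe_mul, Matrix.SpecialLinearGroup.coe_mul, ← Matrix.mulVec_mulVec, e,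
      Matrix.mulVec_smul, e', smul_smul]
    rfl
  have rel_one : rel 1 1 := fun j => ⟨1, one_ne_zero, by simp⟩
  let Q : Subgroup (↥S × Equiv.Perm (Fin U.N)) :=
    { carrier := {x | rel x.1 x.2}
      one_mem' := rel_one
      mul_mem' := fun ha hb => rel_mul _ _ _ _ ha hb
      inv_mem' := by
        rintro ⟨g, β⟩ (hg : rel g β) j
        obtain ⟨c, hc, e⟩ := hg (β⁻¹ j)
        refine ⟨c⁻¹, inv_ne_zero hc, ?_⟩
        rw [show β (β⁻¹ j) = j by simp] at e
        show ((g⁻¹ : ↥S) : Matrix.SpecialLinearGroup (Fin U.n) F).1 *ᵥ P j = c⁻¹ • P (β⁻¹ j)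
        have hP : P j = c⁻¹ • (((g : Matrix.SpecialLinearGroup (Fin U.n) F) :
            Matrix (Fin U.n) (Fin U.n) F) *ᵥ P (β⁻¹ j)) := by
          rw [e, inv_smul_smul₀ hc]
        conv_lhs => rw [hP]
        rw [Matrix.mulVec_smul, Matrix.mulVec_mulVec, ← Matrix.SpecialLinearGroup.coe_mul,
          ← Subgroup.coe_mul, inv_mul_cancel]
        simp }
  let φ : ↥Q →* ↥S := (MonoidHom.fst ↥S (Equiv.Perm (Fin U.N))).comp Q.subtype
  let ψ : ↥Q →* Equiv.Perm (Fin U.N) := (MonoidHom.snd ↥S (Equiv.Perm (Fin U.N))).comp Q.subtype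
  have hφ : Function.Injective φ := by
    rw [injective_iff_map_eq_one]
    rintro ⟨⟨g, β⟩, hgβ⟩ (rfl : g = 1)
    refine Subtype.ext (Prod.ext rfl (Equiv.ext fun j => ?_))
    obtain ⟨c, hc, e⟩ := hgβ j
    simp only [OneMemClass.coe_one, Matrix.SpecialLinearGroup.coe_one, Matrix.one_mulVec] at e
    exact (hinj j (β j) c hc e).symm
  have hscal : ∀ z ∈ Subgroup.center ↥S, rel z 1 := by
    intro z hz j
    obtain ⟨a, ha⟩ := center_SU_scalar hσ hσq hq hn hz
    refine ⟨a, fun a0 => ?_, ?_⟩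
    · have hd := (z : Matrix.SpecialLinearGroup (Fin U.n) F).2
      have : Nonempty (Fin U.n) := ⟨⟨0, by omega⟩⟩
      rw [ha, a0, map_zero, Matrix.det_zero] at hd
      exact zero_ne_one hd
    · rw [ha]
      ext i
      simp [Matrix.mulVec_diagonal]
  have hgen : genGroup U.N U.bperm ≤ ψ.range := by
    refine (Subgroup.closure_le _).2 ?_
    rintro β ⟨Pm, hPm, hβ⟩
    obtain ⟨a, ha, rfl⟩ := List.getElem_of_mem hPm
    have hga : U.bperm.getD a 0 = U.bperm[a] := by
      rw [List.getD_eq_getElem?_getD, List.getElem?_eq_getElem ha]; rfl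
    have hh := List.all_eq_true.1 hmat a (List.mem_range.2 (by omega))
    simp only [Bool.and_eq_true, List.all_eq_true, List.mem_range] at hh
    obtain ⟨⟨hdet, hun⟩, hact⟩ := hh
    set m := U.mats.getD a 0
    let Mt : Matrix (Fin U.n) (Fin U.n) F := Matrix.of fun i j => U.K.val r (mEnt U.n m i j)
    have hd : Mt.det = 1 := by
      have := val_detC U.K r hp hr U.n (mEnt U.n m)
      rw [Nat.eq_of_beq_eq_true hdet, hone] at this
      exact this.symm
    have hg : (⟨Mt, hd⟩ : Matrix.SpecialLinearGroup (Fin U.n) F) ∈ S := by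
      refine (mem_SU_iff hσq _).2 ((preserves_iff_cols Mt).2 fun i j => ?_)
      rw [hermB_apply]
      have hij := congrArg (U.K.val r) (Nat.eq_of_beq_eq_true (hun i i.2 j j.2))
      rw [val_sumTo U.K r (by omega)] at hij
      simp only [val_mul U.K r (by omega) hr, val_pow U.K r hp hr] at hij
      simp only [Matrix.mulVec_single, MulOpposite.op_one, one_smul, Matrix.col_apply,
        Matrix.of_apply, Mt, hσq]
      rw [hij]
      by_cases hc : i = j
      · rw [if_pos hc, if_pos (congrArg Fin.val hc), hone]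
      · rw [if_neg hc, if_neg (fun e => hc (Fin.ext e)), val_zero]
    refine ⟨⟨(⟨_, hg⟩, β), fun j => ?_⟩, rfl⟩
    obtain ⟨⟨hs0, hs1⟩, hs⟩ := hact j j.2
    refine ⟨U.K.val r (pk 5 (U.scal.getD a 0) j), fun e => ?_, funext fun i => ?_⟩
    · have hz := val_eq_zero U.K r hK hr (by simpa using hs1) e
      rw [hz] at hs0
      simp at hs0
    · have hi := congrArg (U.K.val r) (Nat.eq_of_beq_eq_true (hs i i.2))
      rw [val_sumTo U.K r (by omega), val_mul U.K r (by omega) hr, hga, ← hβ j] at hi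
      simp only [val_mul U.K r (by omega) hr] at hi
      simpa [Matrix.mulVec, dotProduct, P, Mt] using hi
  have hker : Nat.card ↥(Subgroup.center ↥S) ≤ Nat.card ↥ψ.ker :=
    Nat.card_le_card_of_injective (fun z => (⟨⟨(z.1, 1), hscal z.1 z.2⟩, rfl⟩ : ↥ψ.ker))
      fun a b e => Subtype.ext (congrArg (fun x : ↥ψ.ker => x.1.1.1) e)
  have hQS : Nat.card ↥Q ≤ Nat.card ↥S := Nat.card_le_card_of_injective φ hφ
  have hrange : Nat.card ↥(genGroup U.N U.bperm) ≤ Nat.card ↥ψ.range :=
    Subgroup.card_le_of_le hgen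
  have hQ := ψ.ker.card_mul_index
  rw [Subgroup.index_ker] at hQ
  have hS : Nat.card ↥(Subgroup.center ↥S) * Nat.card (Cfsg.PSU U.n F U.K.p) = Nat.card ↥S := by
    have := (Subgroup.center ↥S).card_mul_index
    rwa [Subgroup.index_eq_card] at this
  have hle : Nat.card ↥S ≤ Nat.card ↥Q := by
    rw [← hS, ← hQ]; exact Nat.mul_le_mul hker (hcard.trans hrange)
  have hφ' : Function.Bijective φ := (Nat.bijective_iff_injective_and_card _).2 ⟨hφ, by omega⟩
  let e := MulEquiv.ofBijective φ hφ'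
  have hrel : ∀ g : ↥S, rel g (ψ (e.symm g)) := fun g => by
    have h : φ (e.symm g) = g := e.apply_symm_apply g
    have h2 : rel (φ (e.symm g)) (ψ (e.symm g)) := (e.symm g).2
    rwa [h] at h2
  let χ : ↥S →* ↥ψ.range := ψ.rangeRestrict.comp e.symm.toMonoidHom
  have hχs : Function.Surjective χ :=
    ψ.rangeRestrict_surjective.comp e.symm.surjective
  have hχz : Subgroup.center ↥S ≤ χ.ker := fun z hz => by
    rw [MonoidHom.mem_ker]
    refine Subtype.ext (Equiv.ext fun j => ?_)
    obtain ⟨c, hc, e1⟩ := hrel z j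
    obtain ⟨c', hc', e2⟩ := hscal z hz j
    rw [e1] at e2
    refine hinj (ψ (e.symm z) j) j (c⁻¹ * c') (mul_ne_zero (inv_ne_zero hc) hc') ?_
    rw [← smul_smul, show c' • P j = c • P (ψ (e.symm z) j) from e2.symm, inv_smul_smul₀ hc]
  let χ' : Cfsg.PSU U.n F U.K.p →* ↥ψ.range := QuotientGroup.lift _ χ hχz
  have hχ' : Function.Surjective χ' := fun x => by
    obtain ⟨g, rfl⟩ := hχs x
    exact ⟨(g : Cfsg.PSU U.n F U.K.p), rfl⟩
  have hP : Nat.card ↥ψ.range ≤ Nat.card (Cfsg.PSU U.n F U.K.p) :=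
    Nat.card_le_card_of_surjective χ' hχ'
  have heq : genGroup U.N U.bperm = ψ.range := Subgroup.eq_of_le_of_card_ge hgen (by omega)
  exact ⟨(MulEquiv.ofBijective χ'
    ((Nat.bijective_iff_surjective_and_card _).2 ⟨hχ', by omega⟩)).trans
    (MulEquiv.subgroupCongr heq.symm)⟩

end Cfsg.Agent.Leech.Model
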