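import Mathlib
import Cfsg.Prelude.Def_Classical
import Cfsg.Agent.Classical.HermGroup
import Cfsg.Agent.Leech.UnitaryModel

/-! Orders and roots for the three small unitary models. -/

set_option autoImplicit false

namespace Cfsg.Agent.Leech.Model

open Cfsg.Agent.Classical

theorem card_PSU_mul {F : Type*} [Field F] [Fintype F] {q n : ℕ} (hF : Fintype.card F = q ^ 2)
    (hn : 2 ≤ n) :
    (q + 1) * (Nat.gcd n (q + 1) * Nat.card (Cfsg.PSU n F q)) =
      q ^ (n * (n - 1) / 2) *
        ∏ i ∈ Finset.range n, (if Even i then q ^ (i + 1) + 1 else q ^ (i + 1) - 1) := by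
  obtain ⟨σ, hσq, hσ, hq, -⟩ := exists_powHom hF
  rw [← card_GU_formula hσ hσq hq, ← card_SU_mul_eq_GU hσ hσq hq (by omega),
    ← card_center_SU hσ hσq hq hn]
  congr 1
  have := (Subgroup.center ↥(Cfsg.SU n F q)).card_mul_index
  rwa [Subgroup.index_eq_card] at this

theorem charP_of_card {F : Type*} [Field F] [Fintype F] (p : ℕ) (hp : p.Prime)
    (hF : Fintype.card F = p ^ 2) : CharP F p := by
  obtain ⟨c, hc⟩ := CharP.exists F
  obtain ⟨k, hpr, hk⟩ := FiniteField.card F c
  rw [hF] at hk
  have hd : c ∣ p ^ 2 := hk ▸ dvd_pow_self c k.pos.ne'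
  rwa [← (Nat.prime_dvd_prime_iff_eq hpr hp).1 (hpr.dvd_of_dvd_pow hd)]

theorem exists_root_25 {F : Type*} [Field F] [Fintype F] (hF : Fintype.card F = 25) :
    ∃ r : F, r * r = ((2 : ℕ) : F) + ((0 : ℕ) : F) * r := by
  have := charP_of_card (F := F) 5 (by norm_num) (by rw [hF]; norm_num)
  have h5 : (5 : F) = 0 := by exact_mod_cast CharP.cast_eq_zero F 5
  have h : IsSquare (2 : F) := by
    refine (FiniteField.isSquare_iff (by rw [ringChar.eq F 5]; norm_num) ?_).2 ?_
    · intro h
      exact one_ne_zero (show (1 : F) = 0 by linear_combination h5 - 2 * h)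
    · rw [hF]; norm_num
      linear_combination (819 : F) * h5
  obtain ⟨r, hr⟩ := h
  exact ⟨r, by rw [Nat.cast_zero, zero_mul, add_zero, ← hr]; norm_num⟩

theorem exists_root_9 {F : Type*} [Field F] [Fintype F] (hF : Fintype.card F = 9) :
    ∃ r : F, r * r = ((2 : ℕ) : F) + ((0 : ℕ) : F) * r := by
  have := charP_of_card (F := F) 3 (by norm_num) (by rw [hF]; norm_num)
  have h3 : (3 : F) = 0 := by exact_mod_cast CharP.cast_eq_zero F 3
  have h : IsSquare (2 : F) := by
    refine (FiniteField.isSquare_iff (by rw [ringChar.eq F 3]; norm_num) ?_).2 ?_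
    · intro h
      exact one_ne_zero (show (1 : F) = 0 by linear_combination h3 - h)
    · rw [hF]; norm_num
      linear_combination (5 : F) * h3
  obtain ⟨r, hr⟩ := h
  exact ⟨r, by rw [Nat.cast_zero, zero_mul, add_zero, ← hr]; norm_num⟩

theorem exists_root_4 {F : Type*} [Field F] [Fintype F] (hF : Fintype.card F = 4) :
    ∃ r : F, r * r = ((1 : ℕ) : F) + ((1 : ℕ) : F) * r := by
  classical
  have := charP_of_card (F := F) 2 Nat.prime_two (by rw [hF]; norm_num)
  have h2 : (2 : F) = 0 := by exact_mod_cast CharP.cast_eq_zero F 2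
  obtain ⟨r, -, hr⟩ := Finset.exists_mem_notMem_of_card_lt_card
    (s := ({0, 1} : Finset F)) (t := Finset.univ) (by
      rw [Finset.card_univ, hF]
      exact lt_of_le_of_lt Finset.card_le_two (by norm_num))
  simp only [Finset.mem_insert, Finset.mem_singleton, not_or] at hr
  have h3 : r ^ 3 = 1 := by
    have := FiniteField.pow_card_sub_one_eq_one r hr.1
    rwa [hF] at this
  have h4 : (r - 1) * (r * r + r + 1) = 0 := by linear_combination h3
  have h5 := (mul_eq_zero.1 h4).resolve_left (sub_ne_zero.2 hr.2)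
  exact ⟨r, by rw [Nat.cast_one, one_mul]; linear_combination h5 - (1 + r) * h2⟩

end Cfsg.Agent.Leech.Model
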