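import Mathlib
import Cfsg.Prelude.Def_Sporadic_a
import Cfsg.Prelude.Def_SporadicCombinatorics
import Cfsg.Prelude.Def_Spor_Conway
import Cfsg.Agent.Leech.Code
import Cfsg.Agent.Leech.Lattice
import Cfsg.Agent.Leech.ModRep
import Cfsg.Agent.Leech.Monomial
import Cfsg.Agent.Leech.Transitive
import Cfsg.Agent.Leech.Orbits
import Cfsg.Agent.Leech.Cross
import Cfsg.Agent.Leech.PairsOrth
import Cfsg.Agent.Leech.Shape48
import Cfsg.Agent.Leech.StabM22

/-! Subgroups containing the monomial group: they move the standard short vector to an odd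
vector as soon as they move the standard cross, and then contain elements of order 23 fixing
the standard short vector. -/

set_option autoImplicit false

namespace Cfsg.Agent.Leech
open Cfsg

/-- preserving the standard cross -/
def KeepsCross (g : ↥Co0) : Prop :=
  ∀ v : leechLattice, (v : GolayPt → ℤ) ∈ stdCross →
    ((g • v : leechLattice) : GolayPt → ℤ) ∈ stdCross

theorem KeepsCross.mul {g h : ↥Co0} (hg : KeepsCross g) (hh : KeepsCross h) : KeepsCross (g * h) :=
  fun v hv => by rw [mul_smul]; exact hg _ (hh v hv)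

theorem keepsCross_perm {σ : Equiv.Perm GolayPt} (hσ : σ ∈ M24) :
    KeepsCross (permCo0 σ hσ) := by
  rintro v ⟨i, s, hs, hv⟩
  refine ⟨σ i, s, hs, funext fun q => ?_⟩
  rw [permCo0_apply, hv]
  by_cases hq : q = σ i
  · subst hq; simp
  · have : σ⁻¹ q ≠ i := fun e => hq (by rw [← e]; simp)
    rw [Pi.single_eq_of_ne this, Pi.single_eq_of_ne hq]

theorem keepsCross_sign {c : GolayPt → ZMod 2} (hc : c ∈ golayCode) :
    KeepsCross (signCo0 c hc) := by
  rintro v ⟨i, s, hs, hv⟩
  refine ⟨i, if c i = 0 then s else -s, ?_, funext fun q => ?_⟩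
  · split_ifs
    · exact hs
    · omega
  rw [signCo0_apply, hv]
  by_cases hq : q = i
  · subst hq; simp [negOn]
  · simp [negOn, Pi.single_eq_of_ne hq]

theorem stdCross_neg {a : GolayPt → ℤ} (h : a ∈ stdCross) : -a ∈ stdCross := by
  obtain ⟨i, s, hs, rfl⟩ := h
  exact ⟨i, -s, by omega, by rw [Pi.single_neg]⟩

theorem double_leechU : Spor.leechU + Spor.leechU = oct none + oct (some 0) := by
  obtain ⟨o1, o2⟩ := oct_fixed_eqs
  rw [o1, o2]; abel

/-- elements preserving the cross send the standard short vector to an even vector -/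
theorem KeepsCross.even_leechU {g : ↥Co0} (hg : KeepsCross g) :
    (2 : ℤ) ∣ ((g • Spor.leechU : leechLattice) : GolayPt → ℤ) none := by
  have h := congrArg (fun v => ((g • v : leechLattice) : GolayPt → ℤ) none) double_leechU
  simp only [smul_add', AddSubgroup.coe_add, Pi.add_apply] at h
  obtain ⟨i, s, hs, e⟩ := hg _ (oct_mem_stdCross none)
  obtain ⟨j, t, ht, f⟩ := hg _ (oct_mem_stdCross (some 0))
  rw [e, f, Pi.single_apply, Pi.single_apply] at h
  split_ifs at h <;> omega

/-- the short vectors with two entries `±4` are monomial images of the standard one -/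
theorem exists_keeps_fourPair (a b : GolayPt) (hab : a ≠ b) (t : ℤ) (ht : t ^ 2 = 1)
    (h : (2 : ℤ) ∣ 1 + t) :
    ∃ g : ↥Co0, KeepsCross g ∧ g • Spor.leechU = fourPair a b 1 t h := by
  obtain ⟨σ, hσ, hmap⟩ :=
    exists_move [none, some 0] [a, b] (by simp) (by simp [hab]) rfl (by simp)
  simp only [List.map_cons, List.map_nil, List.cons.injEq, and_true] at hmap
  obtain ⟨d, hd, hda, hdb⟩ := exists_sign a b hab (if t = 1 then 0 else 1)
  refine ⟨signCo0 d hd * permCo0 σ hσ, (keepsCross_sign hd).mul (keepsCross_perm hσ),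
    Subtype.ext (funext fun q => ?_)⟩
  rw [mul_smul, signCo0_apply]
  simp only [negOn, permCo0_apply]
  show (if d q = 0 then Spor.vecU (σ⁻¹ q) else -Spor.vecU (σ⁻¹ q)) =
    4 * ((Pi.single a 1 + Pi.single b t : GolayPt → ℤ) q)
  by_cases h1 : q = a
  · subst h1
    rw [show σ⁻¹ q = none by rw [← hmap.1]; simp]
    simp [hda, Spor.vecU, hab]
  by_cases h2 : q = b
  · subst h2
    rw [show σ⁻¹ q = some 0 by rw [← hmap.2]; simp]
    rcases sq_eq_one_iff.1 ht with rfl | rfl <;> simp [hdb, Spor.vecU, Ne.symm hab]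
  have e0 : Spor.vecU (σ⁻¹ q) = 0 := by
    rw [Spor.vecU, if_neg]
    rintro (e | e)
    · exact h1 (by rw [← hmap.1, ← e]; simp)
    · exact h2 (by rw [← hmap.2, ← e]; simp)
  rw [e0]
  simp [h1, h2]

/-- a subgroup with the monomial group and an element moving the cross -/
theorem exists_odd_image (K : Subgroup ↥Co0) (hH : ∀ g, KeepsCross g → g ∈ K) {g : ↥Co0}
    (hg : g ∈ K) (hgc : ¬ KeepsCross g) :
    ∃ k ∈ K, ¬ (2 : ℤ) ∣ ((k • Spor.leechU : leechLattice) : GolayPt → ℤ) none := by
  classical
  by_contra! hcon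
  -- all cross images have entries divisible by four
  have hpair : ∀ k ∈ K, ∀ q a b, a ≠ b →
      (4 : ℤ) ∣ ((k • oct q : leechLattice) : GolayPt → ℤ) a +
        ((k • oct q : leechLattice) : GolayPt → ℤ) b := by
    intro k hk q a b hab
    obtain ⟨h, hh, he⟩ := exists_keeps_fourPair a b hab 1 (one_pow 2) (by norm_num)
    have hev := hcon (k⁻¹ * h) (mul_mem (inv_mem hk) (hH h hh))
    rw [← odd_all (SetLike.coe_mem _) q, mul_smul, he] at hev
    have e := dotInt_smul k (oct q) (k⁻¹ • fourPair a b 1 1 (by norm_num))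
    rw [smul_inv_smul, dot_fourPair, dotInt_comm] at e
    change _ = dotInt ((k⁻¹ • fourPair a b 1 1 _ : leechLattice) : GolayPt → ℤ)
      (Pi.single q 8) at e
    rw [dot_single] at e
    obtain ⟨w, hw⟩ := hev
    rw [hw] at e
    exact ⟨w, by linarith⟩
  have hfour : ∀ k ∈ K, ∀ q a, (4 : ℤ) ∣ ((k • oct q : leechLattice) : GolayPt → ℤ) a := by
    intro k hk q a
    set y := ((k • oct q : leechLattice) : GolayPt → ℤ) with hy
    have hn : sqNorm y = 64 := by
      rw [hy, sqNorm_smul]; exact (stdCross_mem (oct_mem_stdCross q)).2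
    by_contra hna
    have heven : ∀ j, (4 : ℤ) ∣ y j - 2 := by
      have h2 : ∀ j, (2 : ℤ) ∣ y j := by
        intro j
        obtain ⟨b, hb⟩ := exists_ne j
        obtain ⟨c, hc⟩ : (({j, b} : Finset GolayPt)ᶜ).Nonempty := by
          rw [← Finset.card_pos, Finset.card_compl, card_golayPt]
          have := Finset.card_le_two (a := j) (b := b)
          omega
        rw [Finset.mem_compl] at hc
        simp only [Finset.mem_insert, Finset.mem_singleton, not_or] at hc
        have := hpair k hk q j b (Ne.symm hb)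
        have := hpair k hk q j c (Ne.symm hc.1)
        have := hpair k hk q b c (Ne.symm hc.2)
        rw [← hy] at *
        omega
      have ha := h2 a
      intro j
      by_cases hj : j = a
      · subst hj; omega
      · have := hpair k hk q a j (Ne.symm hj)
        rw [← hy] at this
        have := h2 j
        omega
    have hbig : ∀ j, (4 : ℤ) ≤ y j ^ 2 := fun j => by
      obtain ⟨z, hz⟩ := heven j
      have e : y j = 4 * z + 2 := by omega
      rw [e]
      have : (0 : ℤ) ≤ z * (z + 1) := by
        rcases le_or_gt 0 z with h | h <;> nlinarith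
      nlinarith
    have := Finset.sum_le_sum (s := Finset.univ) fun j _ => hbig j
    rw [sum_golayPt_const] at this
    rw [sqNorm] at hn
    omega
  -- some cross image has four entries of absolute value four
  obtain ⟨i, hi⟩ : ∃ i, ((g • oct i : leechLattice) : GolayPt → ℤ) ∉ stdCross := by
    by_contra! hall
    refine hgc fun v hv => ?_
    obtain ⟨i, s, hs, e⟩ := hv
    rcases hs with rfl | rfl
    · rw [show v = oct i from Subtype.ext e]; exact hall i
    · rw [show v = -oct i from Subtype.ext (by rw [e, Pi.single_neg]; rfl), smul_neg']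
      exact stdCross_neg (hall i)
  set y := ((g • oct i : leechLattice) : GolayPt → ℤ) with hy
  have hn : sqNorm y = 64 := by
    rw [hy, sqNorm_smul]; exact (stdCross_mem (oct_mem_stdCross i)).2
  obtain ⟨a, ha⟩ : ∃ a, ¬ (8 : ℤ) ∣ y a := by
    by_contra! h; exact hi (stdCross_of_dvd h hn)
  have h4 : ∀ j, (4 : ℤ) ∣ y j := fun j => hfour g hg i j
  have hya : y a ^ 2 = 16 := by
    obtain ⟨z, hz⟩ := h4 a
    have hb := sq_le_norm y a
    rw [hn, hz] at hb
    have h1 : z ≤ 2 := by nlinarith
    have h2 : -2 ≤ z := by nlinarith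
    have : z = 1 ∨ z = -1 := by omega
    rcases this with rfl | rfl <;> rw [hz] <;> norm_num
  set S := (Finset.univ.filter fun j => y j ≠ 0) with hS
  have haS : a ∈ S := by
    rw [hS, Finset.mem_filter]
    exact ⟨Finset.mem_univ a, fun e => by rw [e] at hya; norm_num at hya⟩
  have hScard : S.card ≤ 4 := by
    have h1 : ∀ j ∈ S, (16 : ℤ) ≤ y j ^ 2 := fun j hj => by
      obtain ⟨z, hz⟩ := h4 j
      have hz0 : z ≠ 0 := fun e => (Finset.mem_filter.1 hj).2 (by rw [hz, e, mul_zero])
      have : 0 < z ^ 2 := by positivity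
      rw [hz]; nlinarith
    have h2 := (Finset.sum_le_sum h1).trans (Finset.sum_le_sum_of_subset_of_nonneg
      (Finset.subset_univ S) fun j _ _ => sq_nonneg (y j))
    rw [Finset.sum_const, nsmul_eq_mul] at h2
    rw [sqNorm] at hn
    omega
  obtain ⟨T, hT, hTc⟩ := Finset.exists_subset_card_eq (s := Finset.univ \ S)
    (n := (S.erase a).card) (by
      rw [Finset.card_sdiff_of_subset (Finset.subset_univ _), Finset.card_univ, card_golayPt,
        Finset.card_erase_of_mem haS]
      omega)
  have hTS : ∀ j ∈ T, j ∉ S := fun j hj => (Finset.mem_sdiff.1 (hT hj)).2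
  obtain ⟨σ, hσ, hmap⟩ := exists_move (a :: (S.erase a).toList) (a :: T.toList)
    (List.nodup_cons.2 ⟨by simp, Finset.nodup_toList _⟩)
    (List.nodup_cons.2 ⟨fun h => hTS a (Finset.mem_toList.1 h) haS, Finset.nodup_toList _⟩)
    (by simp [hTc]) (by
      simp only [List.length_cons, Finset.length_toList, Finset.card_erase_of_mem haS]; omega)
  simp only [List.map_cons, List.cons.injEq] at hmap
  have hdisj : ∀ j, j ≠ a → y (σ⁻¹ j) * y j = 0 := by
    intro j hj
    by_cases h0 : y (σ⁻¹ j) = 0
    · rw [h0, zero_mul]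
    have hmem : σ⁻¹ j ∈ S.erase a := Finset.mem_erase.2
      ⟨fun e => hj (by rw [← hmap.1, ← e]; simp), Finset.mem_filter.2 ⟨Finset.mem_univ _, h0⟩⟩
    have hjT : j ∈ T := by
      have := List.mem_map_of_mem (f := ⇑σ) (Finset.mem_toList.2 hmem)
      rw [hmap.2, Finset.mem_toList] at this
      simpa using this
    have : y j = 0 := by
      by_contra h; exact hTS j hjT (Finset.mem_filter.2 ⟨Finset.mem_univ _, h⟩)
    rw [this, mul_zero]
  have hmem : g⁻¹ * permCo0 σ hσ * g ∈ K :=
    mul_mem (mul_mem (inv_mem hg) (hH _ (keepsCross_perm hσ))) hg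
  have e := dotInt_smul g ((g⁻¹ * permCo0 σ hσ * g) • oct i) (oct i)
  rw [← mul_smul g, show g * (g⁻¹ * permCo0 σ hσ * g) = permCo0 σ hσ * g by group,
    mul_smul] at e
  change _ = dotInt _ (Pi.single i 8) at e
  rw [dot_single, dotInt, Finset.sum_eq_single a (fun j _ hj => by
      rw [permCo0_apply, ← hy]; exact hdisj j hj) (by simp), permCo0_apply, ← hy,
    show σ⁻¹ a = a by conv_lhs => rw [← hmap.1]
                      simp] at e
  have := hfour _ hmem i i
  rw [sq] at hya
  omega

/-- the vector with one entry `-3` at the extra point -/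
def specVec : GolayPt → ℤ := fun q => if q = none then -3 else 1

/-- odd short vectors are monomially equivalent to `specVec` -/
theorem exists_keeps_spec (x : leechLattice) (hn : sqNorm (x : GolayPt → ℤ) = 32)
    (hodd : ¬ (2 : ℤ) ∣ (x : GolayPt → ℤ) none) :
    ∃ h : ↥Co0, KeepsCross h ∧ ((h • x : leechLattice) : GolayPt → ℤ) = specVec := by
  obtain ⟨c, hc, hc4⟩ := odd_normal x.2 hodd
  set z := negOn c (x : GolayPt → ℤ) with hz
  have hzn : sqNorm z = 32 := by rw [hz, sqNorm_negOn]; exact hn
  have hzodd : ∀ i, ¬ (2 : ℤ) ∣ z i := fun i => by have := hc4 i; omega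
  have hbig := odd_few_big z hzodd
  rw [hzn] at hbig
  obtain ⟨j, hj⟩ : ∃ j, z j ^ 2 ≠ 1 := by
    by_contra! h
    rw [sqNorm, Finset.sum_congr rfl fun i _ => h i] at hzn
    rw [sum_golayPt_const] at hzn
    norm_num at hzn
  have hrest : ∀ i, i ≠ j → z i = 1 := by
    intro i hi
    have h1 : z i ^ 2 = 1 := by
      by_contra h
      have hsub : ({i, j} : Finset GolayPt) ⊆ Finset.univ.filter fun k => z k ^ 2 ≠ 1 := by
        intro k hk
        simp only [Finset.mem_insert, Finset.mem_singleton] at hk
        refine Finset.mem_filter.2 ⟨Finset.mem_univ k, ?_⟩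
        rcases hk with rfl | rfl
        · exact h
        · exact hj
      have := Finset.card_le_card hsub
      rw [Finset.card_pair hi] at this
      omega
    have := hc4 i
    rcases sq_eq_one_iff.1 h1 with e | e <;> omega
  have hj3 : z j = -3 := by
    have hs := Finset.add_sum_erase _ (fun i => z i ^ 2) (Finset.mem_univ j)
    rw [Finset.sum_congr rfl fun i hi => by rw [hrest i (Finset.ne_of_mem_erase hi), one_pow],
      Finset.sum_const, Finset.card_erase_of_mem (Finset.mem_univ j), Finset.card_univ,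
      card_golayPt] at hs
    rw [sqNorm] at hzn
    rw [hzn] at hs
    norm_num at hs
    have h9 : z j ^ 2 = 3 ^ 2 := by norm_num; omega
    have := hc4 j
    rcases sq_eq_sq_iff_eq_or_eq_neg.1 h9 with e | e <;> omega
  obtain ⟨σ, hσ, hmap⟩ := exists_move [j] [none] (by simp) (by simp) rfl (by simp)
  simp only [List.map_cons, List.map_nil, List.cons.injEq, and_true] at hmap
  refine ⟨permCo0 σ hσ * signCo0 c hc, (keepsCross_perm hσ).mul (keepsCross_sign hc),
    funext fun q => ?_⟩
  rw [mul_smul, permCo0_apply, signCo0_apply, ← hz]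
  by_cases hq : q = none
  · subst hq
    rw [show σ⁻¹ none = j by rw [← hmap]; simp, hj3]
    simp [specVec]
  · rw [hrest _ fun e => hq (by rw [← hmap, ← e]; simp)]
    simp [specVec, hq]

theorem shift_apply (q : GolayPt) : shift q = q.map (· + 1) := by
  cases q <;> rfl

theorem shiftCo0_pow (n : ℕ) (q : GolayPt) :
    (permCo0 shift shift_mem ^ n) • oct q = oct (q.map (· + (n : ZMod 23))) := by
  have hp : ∀ r, permCo0 shift shift_mem • oct r = oct (shift r) := fun r => by
    refine Subtype.ext (funext fun i => ?_)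
    rw [permCo0_apply]
    show (Pi.single r 8 : GolayPt → ℤ) (shift⁻¹ i) = (Pi.single (shift r) 8 : GolayPt → ℤ) i
    by_cases h : i = shift r
    · subst h; simp
    · rw [Pi.single_eq_of_ne h, Pi.single_eq_of_ne fun e => h (by rw [← e]; simp)]
  induction n with
  | zero => cases q <;> simp
  | succ n ih =>
    rw [pow_succ', mul_smul, ih, hp, shift_apply]
    cases q <;> simp [add_assoc]

theorem orderOf_shiftCo0 : orderOf (permCo0 shift shift_mem) = 23 := by
  have : Fact (Nat.Prime 23) := ⟨by norm_num⟩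
  refine orderOf_eq_prime ?_ fun h => ?_
  · refine ext_of_oct fun q => ?_
    rw [shiftCo0_pow, one_smul, ZMod.natCast_self]
    cases q <;> simp
  · have e := shiftCo0_pow 1 (some 0)
    rw [pow_one, h, one_smul] at e
    have := congrFun (congrArg Subtype.val e) (some 0)
    simp [oct] at this

/-- an element of order 23 fixing the standard short vector -/
theorem exists_order23 (K : Subgroup ↥Co0) (hH : ∀ g, KeepsCross g → g ∈ K) {g : ↥Co0}
    (hg : g ∈ K) (hgc : ¬ KeepsCross g) :
    ∃ x ∈ K, x • Spor.leechU = Spor.leechU ∧ orderOf x = 23 := by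
  obtain ⟨k, hk, hodd⟩ := exists_odd_image K hH hg hgc
  obtain ⟨h, hh, he⟩ := exists_keeps_spec (k • Spor.leechU)
    (by rw [sqNorm_smul]; decide +kernel) hodd
  rw [← mul_smul] at he
  set k1 := h * k with hk1
  have hk1K : k1 ∈ K := mul_mem (hH h hh) hk
  refine ⟨k1⁻¹ * permCo0 shift shift_mem * k1,
    mul_mem (mul_mem (inv_mem hk1K) (hH _ (keepsCross_perm shift_mem))) hk1K, ?_, ?_⟩
  · rw [mul_smul, mul_smul, inv_smul_eq_iff]
    refine Subtype.ext (funext fun q => ?_)
    rw [permCo0_apply, he]
    have : shift⁻¹ q = none ↔ q = none := by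
      rw [Equiv.Perm.inv_eq_iff_eq]; rfl
    simp only [specVec, this]
  · rw [← (MulAut.conj k1⁻¹).orderOf_eq (permCo0 shift shift_mem) |>.trans orderOf_shiftCo0,
      MulAut.conj_apply, inv_inv]

end Cfsg.Agent.Leech
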