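import Mathlib
import Cfsg.Prelude.Def_Sporadic_a
import Cfsg.Prelude.Def_Spor_Conway
import Cfsg.Agent.Leech.Lattice
import Cfsg.Agent.Leech.ModRep
import Cfsg.Agent.Leech.Orbits
import Cfsg.Agent.Leech.OrbitCert
import Cfsg.Agent.Leech.Shape48
import Cfsg.Agent.Leech.SignGroup
import Cfsg.Agent.Leech.StabM22
import Cfsg.Agent.Leech.PairsEight

/-! A lower bound for orbits of the sign changes and permutations fixing two points on the
short vectors orthogonal to the standard one. -/

set_option autoImplicit false

namespace Cfsg.Agent.Leech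
open Cfsg

/-- the points other than the two special ones -/
def pts22 : Finset GolayPt := (Finset.univ.erase none).erase (some 0)

theorem mem_pts22 {i : GolayPt} : i ∈ pts22 ↔ i ≠ none ∧ i ≠ some 0 := by
  simp [pts22, and_comm]

theorem card_pts22 : pts22.card = 22 := by decide +kernel

/-- counting translates of marked vectors -/
theorem le_orbit_marked (V : Subgroup ↥Co0)
    (hp : ∀ σ (hσ : σ ∈ M24), σ none = none → σ (some 0) = some 0 → permCo0 σ hσ ∈ V)
    (y : leechLattice) (Z : Finset leechLattice) (hZ : ∀ z ∈ Z, z ∈ MulAction.orbit ↥V y)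
    (P : ℤ → Bool) (M : Finset GolayPt)
    (hM : ∀ z ∈ Z, pts22.filter (fun i => P ((z : GolayPt → ℤ) i)) = M)
    (m : ℕ) (hm : m ≤ 3) (hmM : m ≤ M.card) :
    Nat.choose 22 m * Z.card ≤ Nat.choose M.card m * (MulAction.orbit ↥V y).ncard := by
  classical
  rcases Z.eq_empty_or_nonempty with rfl | ⟨z0, hz0⟩
  · simp
  have hMsub : M ⊆ pts22 := hM z0 hz0 ▸ Finset.filter_subset _ _
  obtain ⟨T, hT, hTc⟩ := Finset.exists_subset_card_eq hmM
  have hnd : ∀ A : Finset GolayPt, A ⊆ pts22 → (none :: some 0 :: A.toList).Nodup := fun A hA => by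
    simp only [List.nodup_cons, List.mem_cons, Finset.mem_toList, reduceCtorEq, false_or]
    exact ⟨fun h => (mem_pts22.1 (hA h)).1 rfl, fun h => (mem_pts22.1 (hA h)).2 rfl,
      Finset.nodup_toList A⟩
  have hσA : ∀ A ∈ pts22.powersetCard m, ∃ σ, ∃ hσ : σ ∈ M24,
      permCo0 σ hσ ∈ V ∧ σ none = none ∧ σ (some 0) = some 0 ∧ T.image σ = A := by
    intro A hA
    rw [Finset.mem_powersetCard] at hA
    obtain ⟨σ, hσ, hmap⟩ := exists_move (none :: some 0 :: T.toList) (none :: some 0 :: A.toList)
      (hnd T (hT.trans hMsub)) (hnd A hA.1) (by simp [hTc, hA.2])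
      (by simp only [List.length_cons, Finset.length_toList, hTc]; omega)
    simp only [List.map_cons, List.cons.injEq] at hmap
    refine ⟨σ, hσ, hp σ hσ hmap.1 hmap.2.1, hmap.1, hmap.2.1, Finset.ext fun a => ?_⟩
    rw [← Finset.mem_toList (s := A), ← hmap.2.2, List.mem_map, Finset.mem_image]
    simp only [Finset.mem_toList]
  choose! σ hσ hV h0 h1 himg using hσA
  set S := (pts22.powersetCard m) ×ˢ Z with hS
  let F : Finset GolayPt × leechLattice → leechLattice := fun p =>
    if h : σ p.1 ∈ M24 then permCo0 (σ p.1) h • p.2 else p.2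
  have hFin : (MulAction.orbit ↥V y).Finite := finite_orbit V y
  have hF : ∀ p ∈ S, F p ∈ hFin.toFinset := by
    rintro ⟨A, z⟩ hp'
    rw [hS, Finset.mem_product] at hp'
    obtain ⟨⟨g, hg⟩, e⟩ := hZ z hp'.2
    rw [Set.Finite.mem_toFinset]
    refine ⟨⟨permCo0 (σ A) (hσ A hp'.1) * g, mul_mem (hV A hp'.1) hg⟩, ?_⟩
    simp only [F, dif_pos (hσ A hp'.1)]
    show (permCo0 (σ A) _ * g) • y = _
    rw [mul_smul]
    exact congrArg _ e
  have hfib : ∀ w ∈ hFin.toFinset, (S.filter fun p => F p = w).card ≤ Nat.choose M.card m := by
    intro w _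
    rcases (S.filter fun p => F p = w).eq_empty_or_nonempty with h | ⟨⟨B, u⟩, hBu⟩
    · rw [h]; simp
    set W := pts22.filter (fun i => P ((w : GolayPt → ℤ) i)) with hW
    have key : ∀ A ∈ pts22.powersetCard m, ∀ z ∈ Z, F (A, z) = w → M.image (σ A) = W := by
      intro A hA z hz e
      simp only [F, dif_pos (hσ A hA)] at e
      rw [hW, ← e, ← hM z hz]
      refine Finset.ext fun a => ?_
      rw [Finset.mem_image, Finset.mem_filter]
      simp only [Finset.mem_filter, mem_pts22]
      rw [permCo0_apply]
      constructor
      · rintro ⟨i, ⟨⟨hi1, hi2⟩, hi3⟩, rfl⟩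
        refine ⟨⟨fun h => hi1 ((σ A).injective (h.trans (h0 A hA).symm)),
          fun h => hi2 ((σ A).injective (h.trans (h1 A hA).symm))⟩, ?_⟩
        simpa using hi3
      · rintro ⟨⟨ha1, ha2⟩, ha3⟩
        refine ⟨(σ A)⁻¹ a, ⟨⟨fun h => ha1 ?_, fun h => ha2 ?_⟩, ha3⟩, by simp⟩
        · rw [← h0 A hA, ← h]; simp
        · rw [← h1 A hA, ← h]; simp
    rw [Finset.mem_filter, hS, Finset.mem_product] at hBu
    have hWc : W.card = M.card := by
      rw [← key B hBu.1.1 u hBu.1.2 hBu.2, Finset.card_image_of_injective _ (σ B).injective]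
    rw [← hWc, ← Finset.card_powersetCard m W]
    refine Finset.card_le_card_of_injOn Prod.fst ?_ ?_
    · rintro ⟨A, z⟩ hp'
      rw [Finset.mem_coe, Finset.mem_filter, hS, Finset.mem_product] at hp'
      rw [Finset.mem_coe, Finset.mem_powersetCard]
      refine ⟨?_, (Finset.mem_powersetCard.1 hp'.1.1).2⟩
      rw [← key A hp'.1.1 z hp'.1.2 hp'.2]
      intro a ha
      have ha' : a ∈ T.image (σ A) := by rw [himg A hp'.1.1]; exact ha
      exact Finset.image_subset_image hT ha'
    · rintro ⟨A, z⟩ hp' ⟨A', z'⟩ hp'' rfl
      rw [Finset.mem_coe, Finset.mem_filter, hS, Finset.mem_product] at hp' hp''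
      have := hp'.2.trans hp''.2.symm
      simp only [F, dif_pos (hσ A hp'.1.1)] at this
      rw [MulAction.injective _ this]
  have := Finset.card_le_mul_card_image_of_maps_to hF (Nat.choose M.card m) hfib
  rwa [hS, Finset.card_product, Finset.card_powersetCard, card_pts22,
    ← Set.ncard_eq_toFinset_card _ hFin] at this

/-- short vectors orthogonal to the standard one, other than its two partners -/
theorem orbit_bound (V : Subgroup ↥Co0)
    (hp : ∀ σ (hσ : σ ∈ M24), σ none = none → σ (some 0) = some 0 → permCo0 σ hσ ∈ V)
    (hs : ∀ c (hc : IsDWord c), signCo0 c hc.1 ∈ V)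
    (y : leechLattice) (hn : sqNorm (y : GolayPt → ℤ) = 32)
    (h0 : (y : GolayPt → ℤ) (some 0) = -(y : GolayPt → ℤ) none)
    (h1 : y ≠ eX) (h2 : y ≠ -eX) : 47 ≤ (MulAction.orbit ↥V y).ncard := by
  classical
  set f := (y : GolayPt → ℤ) with hf
  have hsignmem : ∀ c (hc : IsDWord c), signCo0 c hc.1 • y ∈ MulAction.orbit ↥V y :=
    fun c hc => ⟨⟨_, hs c hc⟩, rfl⟩
  by_cases hev : (2 : ℤ) ∣ f none
  · have heven : ∀ i, (2 : ℤ) ∣ f i := fun i => (odd_all y.2 i).2 hev
    set S := Finset.univ.filter fun i => f i ≠ 0 with hS
    have h4 : ∀ i ∈ S, (4 : ℤ) ≤ f i ^ 2 := fun i hi => by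
      obtain ⟨z, hz⟩ := heven i
      have hz0 : z ≠ 0 := fun e => (Finset.mem_filter.1 hi).2 (by rw [hz, e, mul_zero])
      have : 0 < z ^ 2 := by positivity
      rw [hz]; nlinarith
    have hsum : ∑ i ∈ S, f i ^ 2 = 32 := by
      rw [← hn, sqNorm]
      refine Finset.sum_subset (Finset.subset_univ S) fun i _ hi => ?_
      have : f i = 0 := by
        by_contra h; exact hi (Finset.mem_filter.2 ⟨Finset.mem_univ i, h⟩)
      rw [this]; norm_num
    set M := pts22.filter (fun i => decide (f i ≠ 0)) with hM
    have hMS : M = S ∩ pts22 := by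
      ext i; simp [hM, hS, and_comm]
    by_cases hbig : ∃ a, f a ^ 2 = 16
    · -- two entries `±4`
      obtain ⟨a, ha⟩ := hbig
      have hpm : ∀ (v : leechLattice), sqNorm (v : GolayPt → ℤ) = 32 →
          (v : GolayPt → ℤ) a = 4 →
          ∃ b, b ≠ a ∧ ((v : GolayPt → ℤ) b = 4 ∨ (v : GolayPt → ℤ) b = -4) ∧
            ∀ i, i ≠ a → i ≠ b → (v : GolayPt → ℤ) i = 0 := fun v hv h => shape32 v hv a h
      obtain ⟨b, hba, hb4, hrest⟩ : ∃ b, b ≠ a ∧ (f b = 4 ∨ f b = -4) ∧
          ∀ i, i ≠ a → i ≠ b → f i = 0 := by
        rcases sq_eq_sq_iff_eq_or_eq_neg.1 (show f a ^ 2 = 4 ^ 2 by rw [ha]; norm_num) with e | e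
        · exact hpm y hn e
        · obtain ⟨b, hba, hb, hr⟩ := hpm (-y)
            (by rw [AddSubgroup.coe_neg]; simpa [sqNorm] using hn)
            (by show -(f a) = 4; omega)
          simp only [AddSubgroup.coe_neg, Pi.neg_apply, neg_eq_zero, neg_inj, ← hf] at hb hr
          exact ⟨b, hba, by omega, hr⟩
      have hnot : f none = 0 := by
        by_contra hne
        have hs0 : f (some 0) ≠ 0 := by rw [h0]; exact neg_ne_zero.2 hne
        have hrest' : ∀ i, i ≠ none → i ≠ some 0 → f i = 0 := by
          intro i i1 i2
          refine hrest i ?_ ?_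
          · rintro rfl
            rcases eq_or_ne (none : GolayPt) b with e | e
            · exact hs0 (hrest _ (Ne.symm i2) (by rw [← e]; simp))
            · exact hne (hrest _ (Ne.symm i1) e)
          · rintro rfl
            rcases eq_or_ne (none : GolayPt) a with e | e
            · exact hs0 (hrest _ (by rw [← e]; simp) (Ne.symm i2))
            · exact hne (hrest _ e (Ne.symm i1))
        have h16 : f none = 4 ∨ f none = -4 := by
          rcases eq_or_ne (none : GolayPt) a with e | e
          · rw [e]
            rcases sq_eq_sq_iff_eq_or_eq_neg.1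
              (show f a ^ 2 = 4 ^ 2 by rw [ha]; norm_num) with e' | e' <;> simp [e']
          · rcases eq_or_ne (none : GolayPt) b with e' | e'
            · rw [e']; exact hb4
            · exact absurd (hrest _ e e') hne
        rcases h16 with e | e
        · refine h1 (Subtype.ext (funext fun q => ?_))
          rw [eX_coe]
          show f q = Spor.vecU' q
          by_cases q1 : q = none
          · subst q1; simp [Spor.vecU', e]
          by_cases q2 : q = some 0
          · subst q2; simp [Spor.vecU', h0, e]
          simp [Spor.vecU', q1, q2, hrest' q q1 q2]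
        · refine h2 (Subtype.ext (funext fun q => ?_))
          rw [AddSubgroup.coe_neg, eX_coe]
          show f q = -Spor.vecU' q
          by_cases q1 : q = none
          · subst q1; simp [Spor.vecU', e]
          by_cases q2 : q = some 0
          · subst q2; simp [Spor.vecU', h0, e]
          simp [Spor.vecU', q1, q2, hrest' q q1 q2]
      have hMab : M = {a, b} := by
        ext i
        simp only [hM, Finset.mem_filter, mem_pts22, decide_eq_true_eq, Finset.mem_insert,
          Finset.mem_singleton]
        constructor
        · rintro ⟨-, hi⟩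
          by_contra hne
          push Not at hne
          exact hi (hrest i hne.1 hne.2)
        · rintro hi
          have hne : f i ≠ 0 := by
            rcases hi with rfl | rfl
            · intro e; rw [e] at ha; norm_num at ha
            · omega
          exact ⟨⟨fun e => hne (e ▸ hnot), fun e => hne (by rw [e, h0, hnot, neg_zero])⟩, hne⟩
      have h := le_orbit_marked V hp y {y}
        (fun z hz => by rw [Finset.mem_singleton.1 hz]; exact MulAction.mem_orbit_self y)
        (fun v => decide (v ≠ 0)) M (fun z hz => by rw [Finset.mem_singleton.1 hz]) 2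
        (by norm_num) (by rw [hMab, Finset.card_pair (Ne.symm hba)])
      rw [hMab, Finset.card_pair (Ne.symm hba), Finset.card_singleton, mul_one,
        Nat.choose_self, one_mul, show Nat.choose 22 2 = 231 by decide] at h
      omega
    · -- eight entries `±2`
      push Not at hbig
      have heq : ∀ i ∈ S, f i ^ 2 = 4 := fun i hi => by
        obtain ⟨z, hz⟩ := heven i
        have hle := sq_le_norm f i
        rw [hn, hz] at hle
        have := h4 i hi
        rw [hz] at this
        have h1 : z ≤ 2 := by nlinarith
        have h2 : -2 ≤ z := by nlinarith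
        have h3 := hbig i
        rw [hz] at h3 ⊢
        have : z = 1 ∨ z = -1 := by
          have hz2 : z ≠ 2 ∧ z ≠ -2 ∧ z ≠ 0 := by
            refine ⟨?_, ?_, ?_⟩ <;> rintro rfl <;> norm_num at *
          omega
        rcases this with rfl | rfl <;> norm_num
      have hS8 : S.card = 8 := by
        rw [Finset.sum_congr rfl heq, Finset.sum_const, nsmul_eq_mul] at hsum
        omega
      have hM8 : M.card ≤ 8 := by
        rw [hMS, ← hS8]; exact Finset.card_le_card Finset.inter_subset_left
      have hM6 : 6 ≤ M.card := by
        have hsub : S ⊆ (S ∩ pts22) ∪ {none, some 0} := fun i hi => by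
          by_cases hi' : i ∈ pts22
          · exact Finset.mem_union_left _ (Finset.mem_inter.2 ⟨hi, hi'⟩)
          · refine Finset.mem_union_right _ ?_
            rw [mem_pts22] at hi'
            simp only [Finset.mem_insert, Finset.mem_singleton]
            tauto
        have := (Finset.card_le_card hsub).trans (Finset.card_union_le _ _)
        rw [← hMS, hS8, Finset.card_pair (by simp)] at this
        omega
      obtain ⟨a, ha⟩ := Finset.card_pos.1 (show 0 < M.card by omega)
      rw [hM, Finset.mem_filter, mem_pts22, decide_eq_true_eq] at ha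
      obtain ⟨c, hc, hca, -⟩ := exists_separating ha.1.1 ha.1.2 (j := none) ha.1.1
      have hne : signCo0 c hc.1 • y ≠ y := fun e => by
        have := congrFun (congrArg Subtype.val e) a
        rw [signCo0_apply] at this
        simp only [negOn, hca, one_ne_zero, if_false, ← hf] at this
        omega
      have h := le_orbit_marked V hp y {y, signCo0 c hc.1 • y}
        (fun z hz => by
          rcases Finset.mem_insert.1 hz with rfl | hz
          · exact MulAction.mem_orbit_self _
          · rw [Finset.mem_singleton.1 hz]; exact hsignmem c hc)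
        (fun v => decide (v ≠ 0)) M (fun z hz => by
          rcases Finset.mem_insert.1 hz with rfl | hz
          · rfl
          · rw [Finset.mem_singleton.1 hz, hM]
            refine Finset.filter_congr fun i _ => ?_
            rw [signCo0_apply]
            simp only [negOn, ← hf]
            split_ifs <;> simp) 3 le_rfl (by omega)
      rw [Finset.card_pair hne.symm, show Nat.choose 22 3 = 1540 by decide] at h
      have h56 : Nat.choose M.card 3 ≤ 56 := by
        calc Nat.choose M.card 3 ≤ Nat.choose 8 3 := Nat.choose_le_choose 3 hM8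
          _ = 56 := by decide
      have := h.trans (Nat.mul_le_mul_right _ h56)
      omega
  · -- odd entries
    have hodd : ∀ i, ¬ (2 : ℤ) ∣ f i := fun i h => hev ((odd_all y.2 i).1 h)
    have hbig := odd_few_big f hodd
    rw [hn] at hbig
    obtain ⟨a, ha⟩ : ∃ a, f a ^ 2 ≠ 1 := by
      by_contra! h
      rw [sqNorm, Finset.sum_congr rfl fun i _ => h i, sum_golayPt_const] at hn
      norm_num at hn
    have hrest : ∀ i, i ≠ a → f i ^ 2 = 1 := by
      intro i hi
      by_contra h
      have hsub : ({i, a} : Finset GolayPt) ⊆ Finset.univ.filter fun k => f k ^ 2 ≠ 1 := by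
        intro k hk
        simp only [Finset.mem_insert, Finset.mem_singleton] at hk
        refine Finset.mem_filter.2 ⟨Finset.mem_univ k, ?_⟩
        rcases hk with rfl | rfl
        · exact h
        · exact ha
      have := Finset.card_le_card hsub
      rw [Finset.card_pair hi] at this
      omega
    have ha22 : a ∈ pts22 := by
      rw [mem_pts22]
      constructor <;> rintro rfl
      · refine ha ?_
        have := hrest (some 0) (by simp)
        rwa [h0, neg_sq] at this
      · refine ha ?_
        rw [h0, neg_sq]
        exact hrest none (by simp)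
    have h12 : (some 1 : GolayPt) ≠ some 2 := by decide
    obtain ⟨c, hc, hc1, hc2⟩ := exists_separating (i := some 1) (by simp) (by decide) h12
    obtain ⟨d, hd, hd1, hd2⟩ := exists_separating (i := some 2) (by simp) (by decide) h12.symm
    have hne : ∀ i, f i ≠ 0 := fun i e => hodd i (by rw [e]; exact dvd_zero 2)
    have hval : ∀ c (hc : IsDWord c) i, ((signCo0 c hc.1 • y : leechLattice) : GolayPt → ℤ) i =
        if c i = 0 then f i else -f i := fun c hc i => by rw [signCo0_apply]; rfl
    have e1 : y ≠ signCo0 c hc.1 • y := fun e => by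
      have := congrFun (congrArg Subtype.val e) (some 1)
      rw [hval c hc, if_neg (by rw [hc1]; exact one_ne_zero), ← hf] at this
      have := hne (some 1)
      omega
    have e2 : y ≠ signCo0 d hd.1 • y := fun e => by
      have := congrFun (congrArg Subtype.val e) (some 2)
      rw [hval d hd, if_neg (by rw [hd1]; exact one_ne_zero), ← hf] at this
      have := hne (some 2)
      omega
    have e3 : signCo0 c hc.1 • y ≠ signCo0 d hd.1 • y := fun e => by
      have := congrFun (congrArg Subtype.val e) (some 1)
      rw [hval c hc, hval d hd, if_neg (by rw [hc1]; exact one_ne_zero), if_pos hd2] at this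
      have := hne (some 1)
      omega
    have h := le_orbit_marked V hp y {y, signCo0 c hc.1 • y, signCo0 d hd.1 • y}
      (fun z hz => by
        simp only [Finset.mem_insert, Finset.mem_singleton] at hz
        rcases hz with rfl | rfl | rfl
        · exact MulAction.mem_orbit_self _
        · exact hsignmem c hc
        · exact hsignmem d hd)
      (fun v => decide (v ^ 2 ≠ 1)) {a} (fun z hz => by
        have hsq : ∀ i, (z : GolayPt → ℤ) i ^ 2 = f i ^ 2 := by
          simp only [Finset.mem_insert, Finset.mem_singleton] at hz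
          rcases hz with rfl | rfl | rfl <;> intro i
          · rfl
          · rw [hval c hc]; split_ifs <;> simp
          · rw [hval d hd]; split_ifs <;> simp
        ext i
        simp only [Finset.mem_filter, decide_eq_true_eq, Finset.mem_singleton, hsq]
        exact ⟨fun h => by by_contra e; exact h.2 (hrest i e), fun e => e ▸ ⟨ha22, ha⟩⟩) 1
      (by norm_num) (by simp)
    rw [Finset.card_singleton, Nat.choose_one_right, Nat.choose_self, one_mul,
      Finset.card_insert_of_notMem (by simp [e1, e2]), Finset.card_pair e3] at h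
    omega

end Cfsg.Agent.Leech
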