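import Mathlib
import Cfsg.Prelude.Def_Sporadic_a
import Cfsg.Prelude.Def_Spor_Conway
import Cfsg.Agent.Leech.Co2
import Cfsg.Agent.Leech.MonoElems
import Cfsg.Agent.Leech.MonoOrbitBound

/-! A subgroup with the monomial group and an element moving the cross contains the whole
stabiliser of the standard short vector. -/

set_option autoImplicit false

namespace Cfsg.Agent.Leech
open Cfsg

/-- orbit times stabiliser, inside the automorphism group of the lattice -/
theorem card_orbit_mul (V : Subgroup ↥Co0) (y : leechLattice) :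
    Nat.card ↥V =
      (MulAction.orbit ↥V y).ncard * Nat.card ↥(V ⊓ MulAction.stabilizer ↥Co0 y) := by
  rw [← (MulAction.stabilizer ↥V y).index_mul_card, MulAction.index_stabilizer]
  congr 1
  have h : MulAction.stabilizer ↥V y = (V ⊓ MulAction.stabilizer ↥Co0 y).subgroupOf V := by
    ext g
    exact ⟨fun h => ⟨g.2, h⟩, fun h => h.2⟩
  rw [h]
  exact Nat.card_congr (Subgroup.subgroupOfEquivOfLe inf_le_left).toEquiv

theorem stdStab_le_mclGroup : stdStab ≤ mclGroup := stab1634_eq ▸ inf_le_left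

theorem mclGroup_inf_eX : mclGroup ⊓ MulAction.stabilizer ↥Co0 eX = stdStab := stab1634_eq

/-- the two point stabiliser in the code's group is maximal in the pair stabiliser -/
theorem between_mcl (L : Subgroup ↥Co0) (h1 : stdStab ≤ L) (h2 : L ≤ mclGroup) :
    L ⊓ MulAction.stabilizer ↥Co0 eX = stdStab ∧ (L = stdStab ∨ L = mclGroup) := by
  have := finite_co0
  have hinter : L ⊓ MulAction.stabilizer ↥Co0 eX = stdStab :=
    le_antisymm ((inf_le_inf_right _ h2).trans mclGroup_inf_eX.le)
      (le_inf h1 (mclGroup_inf_eX ▸ inf_le_right))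
  refine ⟨hinter, ?_⟩
  have hcardL : Nat.card ↥L = (MulAction.orbit ↥L eX).ncard * 443520 := by
    rw [card_orbit_mul L eX, hinter, card_stdStab]
  have hdvd : (MulAction.orbit ↥L eX).ncard ∣ 2025 := by
    have h := Subgroup.card_dvd_of_le h2
    rw [simple_mcl.2, hcardL, show (898128000 : ℕ) = 2025 * 443520 by norm_num] at h
    exact Nat.dvd_of_mul_dvd_mul_right (by norm_num) h
  suffices hB : (MulAction.orbit ↥L eX).ncard = 1 ∨ (MulAction.orbit ↥L eX).ncard = 2025 by
    rcases hB with e | e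
    · left
      symm
      refine Subgroup.eq_of_le_of_card_ge h1 ?_
      rw [hcardL, e, card_stdStab]
    · right
      refine Subgroup.eq_of_le_of_card_ge h2 ?_
      rw [hcardL, e, simple_mcl.2]
  obtain ⟨n0, n16, n8⟩ := orbit_sizes
  obtain ⟨f0, f16, f8⟩ := rep_facts
  have hU : sqNorm Spor.vecU = 32 := by decide +kernel
  have hW : sqNorm (eW : GolayPt → ℤ) = 32 := by decide +kernel
  have hUW : dotInt Spor.vecU (eW : GolayPt → ℤ) = -8 := by decide +kernel
  have hX : sqNorm (eX : GolayPt → ℤ) = 32 ∧ dotInt Spor.vecU (eX : GolayPt → ℤ) = 0 ∧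
      dotInt (eW : GolayPt → ℤ) (eX : GolayPt → ℤ) = 16 := by decide +kernel
  have hXX : dotInt (eX : GolayPt → ℤ) (eX : GolayPt → ℤ) = 32 := by decide +kernel
  set X : Set leechLattice := {x | x ∈ layer 32 ∧ dotInt Spor.vecU (x : GolayPt → ℤ) = 0 ∧
    dotInt (eW : GolayPt → ℤ) (x : GolayPt → ℤ) = 16} with hXdef
  have hcard : X.ncard = 2025 := ncard_2025 Spor.leechU eW ⟨hU, hW, hUW⟩
  have hfin : X.Finite := Set.finite_of_ncard_ne_zero (by omega)
  have hmclX : ∀ g ∈ mclGroup, ∀ r ∈ X, g • r ∈ X := by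
    rintro g hg r ⟨a, b, c⟩
    simp only [mclGroup, Subgroup.mem_inf, MulAction.mem_stabilizer_iff] at hg
    refine ⟨?_, ?_, ?_⟩
    · show sqNorm ((g • r : leechLattice) : GolayPt → ℤ) = 32; rw [sqNorm_smul]; exact a
    · show dotInt ((Spor.leechU : leechLattice) : GolayPt → ℤ)
        ((g • r : leechLattice) : GolayPt → ℤ) = 0
      rw [← hg.1, dotInt_smul]; exact b
    · rw [← hg.2, dotInt_smul]; exact c
  have hcls : ∀ (r : leechLattice) (d : ℤ), r ∈ X →
      dotInt (eX : GolayPt → ℤ) (r : GolayPt → ℤ) = d →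
      ∀ z ∈ MulAction.orbit ↥stab1634 r, z ∈ X ∧
        dotInt (eX : GolayPt → ℤ) (z : GolayPt → ℤ) = d := by
    rintro r d hr hd z ⟨⟨g, hg⟩, rfl⟩
    refine ⟨hmclX g (stdStab_le_mclGroup (stab1634_eq ▸ hg)) r hr, ?_⟩
    simp only [stab1634, Subgroup.mem_inf, MulAction.mem_stabilizer_iff] at hg
    show dotInt (eX : GolayPt → ℤ) ((g • r : leechLattice) : GolayPt → ℤ) = d
    rw [← hg.2, dotInt_smul]; exact hd
  have s0 := hcls rep0 0 ⟨f0.1, f0.2.1, f0.2.2.1⟩ f0.2.2.2
  have s16 := hcls rep16 16 ⟨f16.1, f16.2.1, f16.2.2.1⟩ f16.2.2.2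
  have s8 := hcls rep8 8 ⟨f8.1, f8.2.1, f8.2.2.1⟩ f8.2.2.2
  set O0 := MulAction.orbit ↥stab1634 rep0
  set O16 := MulAction.orbit ↥stab1634 rep16
  set O8 := MulAction.orbit ↥stab1634 rep8
  set B := MulAction.orbit ↥L eX with hB
  have fo : ∀ r, (MulAction.orbit ↥stab1634 r).Finite := fun r => finite_orbit stab1634 r
  have d1 : Disjoint O0 O16 := Set.disjoint_left.2 fun z a b => by
    have := (s0 z a).2; have := (s16 z b).2; omega
  have d2 : Disjoint (O0 ∪ O16) O8 := Set.disjoint_left.2 fun z a b => by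
    rcases a with a | a
    · have := (s0 z a).2; have := (s8 z b).2; omega
    · have := (s16 z a).2; have := (s8 z b).2; omega
  have d3 : eX ∉ O0 ∪ O16 ∪ O8 := by
    rintro ((a | a) | a)
    · have := (s0 _ a).2; omega
    · have := (s16 _ a).2; omega
    · have := (s8 _ a).2; omega
  have hall : {eX} ∪ (O0 ∪ O16 ∪ O8) = X := by
    refine Set.eq_of_subset_of_ncard_le ?_ ?_ hfin
    · rintro z (h | (h | h) | h)
      · rw [Set.mem_singleton_iff] at h
        exact h ▸ ⟨hX.1, hX.2.1, hX.2.2⟩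
      · exact (s0 z h).1
      · exact (s16 z h).1
      · exact (s8 z h).1
    · rw [hcard, Set.ncard_union_eq (Set.disjoint_singleton_left.2 d3) (Set.finite_singleton _)
        (((fo _).union (fo _)).union (fo _)), Set.ncard_union_eq d2 ((fo _).union (fo _)) (fo _),
        Set.ncard_union_eq d1 (fo _) (fo _), Set.ncard_singleton, n0, n16, n8]
  have hBX : B ⊆ X := by
    rintro z ⟨⟨g, hg⟩, rfl⟩
    exact hmclX g (h2 hg) _ ⟨hX.1, hX.2.1, hX.2.2⟩
  have hinv : ∀ s ∈ stdStab, ∀ z ∈ B, s • z ∈ B := by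
    rintro s hs z ⟨⟨g, hg⟩, rfl⟩
    exact ⟨⟨s * g, mul_mem (h1 hs) hg⟩, mul_smul s g eX⟩
  have hc : ∀ r : leechLattice, ∀ y ∈ MulAction.orbit ↥stab1634 r,
      ∀ z ∈ MulAction.orbit ↥stab1634 r, ∃ s ∈ stdStab, s • y = z := by
    rintro r y ⟨⟨a, ha⟩, rfl⟩ z ⟨⟨b, hb⟩, rfl⟩
    rw [← stab1634_eq]
    exact ⟨b * a⁻¹, mul_mem hb (inv_mem ha), by
      show (b * a⁻¹) • a • r = b • r
      rw [mul_smul, inv_smul_smul]⟩
  have hBeq : B = {eX} ∪ (B ∩ O0 ∪ B ∩ O16 ∪ B ∩ O8) := by
    rw [← Set.inter_union_distrib_left, ← Set.inter_union_distrib_left]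
    ext z
    constructor
    · intro hz
      have := hBX hz
      rw [← hall] at this
      exact this.imp id fun h => ⟨hz, h⟩
    · rintro (h | h)
      · rw [Set.mem_singleton_iff] at h; exact h ▸ MulAction.mem_orbit_self eX
      · exact h.1
  have hn : B.ncard = 1 + ((B ∩ O0).ncard + (B ∩ O16).ncard + (B ∩ O8).ncard) := by
    conv_lhs => rw [hBeq]
    rw [Set.ncard_union_eq (Set.disjoint_singleton_left.2 fun h => d3
          (h.elim (fun h => h.elim (fun h => Or.inl (Or.inl h.2)) fun h => Or.inl (Or.inr h.2))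
            fun h => Or.inr h.2)) (Set.finite_singleton _)
        ((((fo _).subset Set.inter_subset_right).union ((fo _).subset Set.inter_subset_right)).union
          ((fo _).subset Set.inter_subset_right)),
      Set.ncard_union_eq (d2.mono (Set.union_subset_union Set.inter_subset_right
          Set.inter_subset_right) Set.inter_subset_right)
        (((fo _).subset Set.inter_subset_right).union ((fo _).subset Set.inter_subset_right))
        ((fo _).subset Set.inter_subset_right),
      Set.ncard_union_eq (d1.mono Set.inter_subset_right Set.inter_subset_right)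
        ((fo _).subset Set.inter_subset_right) ((fo _).subset Set.inter_subset_right),
      Set.ncard_singleton]
  rcases inter_cases hinv (hc rep0) (fo _) with a | ⟨a, -⟩ <;>
    rcases inter_cases hinv (hc rep16) (fo _) with b | ⟨b, -⟩ <;>
    rcases inter_cases hinv (hc rep8) (fo _) with c | ⟨c, -⟩ <;>
    rw [hn, a, b, c] at hdvd ⊢ <;> (try simp only [O0, O16, O8, n0, n16, n8] at hdvd ⊢) <;>
    first
      | (left; norm_num; done)
      | (right; norm_num; done)
      | (exfalso; norm_num at hdvd)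

/-- the main step -/
theorem stabU_le_of_moves (K : Subgroup ↥Co0) (hH : ∀ g, KeepsCross g → g ∈ K) {g : ↥Co0}
    (hg : g ∈ K) (hgc : ¬ KeepsCross g) : stabU ≤ K := by
  classical
  have := finite_co0
  set Ku := K ⊓ stabU with hKu
  have hperm : ∀ σ (hσ : σ ∈ M24), σ none = none → σ (some 0) = some 0 →
      permCo0 σ hσ ∈ K ∧ permCo0 σ hσ ∈ stdStab := fun σ hσ h0 h1 => by
    obtain ⟨a, b, c⟩ := perm_fix hσ h0 h1
    exact ⟨hH _ (keepsCross_perm hσ), ⟨⟨a, b⟩, c⟩⟩
  have hstdK : stdStab ≤ K := fun s hs => by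
    obtain ⟨σ, hσ, -, -, rfl⟩ := stdStab_monomial hs
    exact hH _ (keepsCross_perm hσ)
  have hsU : ∀ c (hc : IsDWord c), signCo0 c hc.1 ∈ Ku := fun c hc =>
    ⟨hH _ (keepsCross_sign hc.1), sign_fix_U hc⟩
  have hsX : ∀ c (hc : IsDWord c), signCo0 c hc.1 • eX = eX := fun c hc => by
    refine Subtype.ext (funext fun q => ?_)
    rw [signCo0_apply, eX_coe]
    simp only [negOn, Spor.vecU']
    by_cases q1 : q = none
    · subst q1; simp [hc.2.1]
    by_cases q2 : q = some 0
    · subst q2; simp [hc.2.2]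
    simp [q1, q2]
  have hstdU : stdStab ≤ Ku := le_inf hstdK (stdStab_le_mclGroup.trans inf_le_left)
  obtain ⟨hLX, hL⟩ := between_mcl (K ⊓ mclGroup) (le_inf hstdK stdStab_le_mclGroup) inf_le_right
  have hKuW : Ku ⊓ MulAction.stabilizer ↥Co0 eW = K ⊓ mclGroup := by
    rw [hKu, inf_assoc]; rfl
  have hcardKu := card_orbit_mul Ku eW
  rw [hKuW] at hcardKu
  have hBsub : MulAction.orbit ↥Ku eW ⊆ part8 := by
    rintro w ⟨⟨k, hk⟩, rfl⟩
    exact orbit_stabU ▸ ⟨⟨k, (inf_le_right : Ku ≤ stabU) hk⟩, rfl⟩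
  have hfin8 : part8.Finite := Set.finite_of_ncard_ne_zero (by rw [ncard_part8]; norm_num)
  have hB8 : (MulAction.orbit ↥Ku eW).ncard ≤ 47104 :=
    ncard_part8 ▸ Set.ncard_le_ncard hBsub hfin8
  rcases hL with hL | hL
  · -- the small case is impossible
    exfalso
    rw [hL, card_stdStab] at hcardKu
    set Kv := Ku ⊓ MulAction.stabilizer ↥Co0 eX with hKv
    have hpV : ∀ σ (hσ : σ ∈ M24), σ none = none → σ (some 0) = some 0 → permCo0 σ hσ ∈ Kv := by
      intro σ hσ h0 h1
      have := (hperm σ hσ h0 h1).2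
      exact ⟨hstdU this, (mclGroup_inf_eX ▸ this :
        permCo0 σ hσ ∈ mclGroup ⊓ MulAction.stabilizer ↥Co0 eX).2⟩
    have hsV : ∀ c (hc : IsDWord c), signCo0 c hc.1 ∈ Kv := fun c hc => ⟨hsU c hc, hsX c hc⟩
    have hKvW : Kv ⊓ MulAction.stabilizer ↥Co0 eW = stdStab := by
      rw [hKv, inf_right_comm, hKuW, hLX]
    have horb : MulAction.orbit ↥Kv eW = {w : leechLattice | w ∈ layer 32 ∧
        (w : GolayPt → ℤ) none = 1 ∧ (w : GolayPt → ℤ) (some 0) = -3} := by
      ext w
      constructor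
      · rintro ⟨⟨k, ⟨-, hkU⟩, hkX⟩, rfl⟩
        have hn : sqNorm ((k • eW : leechLattice) : GolayPt → ℤ) = 32 := by
          rw [sqNorm_smul]; exact eW_mem_part8.1
        have e1 := dotInt_smul k Spor.leechU eW
        rw [show k • Spor.leechU = Spor.leechU from hkU] at e1
        have e2 := dotInt_smul k eW eX
        rw [show k • eX = eX from hkX, eX_coe, show Spor.vecU' = Pi.single none 4 +
          Pi.single (some 0) (-4) by decide +kernel, dotInt_add_right, dot_single, dot_single,
          show dotInt (eW : GolayPt → ℤ) (Pi.single none 4 + Pi.single (some 0) (-4)) = 16 by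
            decide +kernel] at e2
        have e1' : 4 * (((k • eW : leechLattice) : GolayPt → ℤ) none +
            ((k • eW : leechLattice) : GolayPt → ℤ) (some 0)) = -8 :=
          (dot_vecU _).symm.trans (e1.trans eW_mem_part8.2)
        refine ⟨hn, ?_, ?_⟩
        · show ((k • eW : leechLattice) : GolayPt → ℤ) none = 1
          omega
        · show ((k • eW : leechLattice) : GolayPt → ℤ) (some 0) = -3
          omega
      · rintro ⟨a, b, c⟩
        obtain ⟨d, hd, e⟩ := class13 a b c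
        exact ⟨⟨_, hsV d hd⟩, e⟩
    have hcardKv := card_orbit_mul Kv eW
    rw [hKvW, card_stdStab, horb, ncard_class, ncard_1024'] at hcardKv
    obtain ⟨x, hxK, hxU, hx23⟩ := exists_order23 K hH hg hgc
    have hxKu : x ∈ Ku := ⟨hxK, hxU⟩
    have hxKv : x ∉ Kv := fun h => by
      have hd := Subgroup.orderOf_dvd_natCard Kv h
      rw [hx23, hcardKv] at hd
      norm_num at hd
    have hy1 : x • eX ≠ eX := fun h => hxKv ⟨hxKu, h⟩
    have hy2 : x • eX ≠ -eX := fun h => by
      have h2 : (x ^ 2) • eX = eX := by rw [sq, mul_smul, h, smul_neg', h, neg_neg]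
      have hmem : x ^ 2 ∈ MulAction.stabilizer ↥Co0 eX := h2
      have h12 := pow_mem hmem 12
      rw [← pow_mul, pow_succ, ← hx23, pow_orderOf_eq_one, one_mul] at h12
      exact hy1 h12
    have hyn : sqNorm ((x • eX : leechLattice) : GolayPt → ℤ) = 32 := by
      rw [sqNorm_smul]; decide +kernel
    have hy0 : ((x • eX : leechLattice) : GolayPt → ℤ) (some 0) =
        -((x • eX : leechLattice) : GolayPt → ℤ) none := by
      have e := dotInt_smul x Spor.leechU eX
      rw [hxU] at e
      have e' : 4 * (((x • eX : leechLattice) : GolayPt → ℤ) none +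
          ((x • eX : leechLattice) : GolayPt → ℤ) (some 0)) = 0 :=
        (dot_vecU _).symm.trans (e.trans (by decide +kernel))
      omega
    have hlow := orbit_bound Kv hpV hsV (x • eX) hyn hy0 hy1 hy2
    have hsub : MulAction.orbit ↥Kv (x • eX) ⊆ MulAction.orbit ↥Ku eX := by
      rintro w ⟨⟨k, hk⟩, rfl⟩
      exact ⟨⟨k * x, mul_mem hk.1 hxKu⟩, mul_smul k x eX⟩
    have h47 := hlow.trans (Set.ncard_le_ncard hsub (finite_orbit Ku eX))
    have hKu2 := card_orbit_mul Ku eX
    rw [← hKv, hcardKv, hcardKu] at hKu2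
    have := Nat.mul_le_mul_right (1024 * 443520) h47
    rw [← hKu2] at this
    have := Nat.mul_le_mul_right 443520 hB8
    omega
  · -- the large case
    rw [hL, simple_mcl.2] at hcardKu
    have hmcl : mclGroup ≤ K := by rw [← hL]; exact inf_le_left
    set B := MulAction.orbit ↥Ku eW with hBdef
    have hmul : ∀ k ∈ Ku, ∀ w ∈ B, k • w ∈ B := by
      rintro k hk w ⟨⟨g, hg⟩, rfl⟩
      exact ⟨⟨k * g, mul_mem hk hg⟩, mul_smul k g eW⟩
    have h13 : {w : leechLattice | w ∈ layer 32 ∧ (w : GolayPt → ℤ) none = 1 ∧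
        (w : GolayPt → ℤ) (some 0) = -3} ⊆ B := fun w hw => by
      obtain ⟨c, hc, e⟩ := class13 hw.1 hw.2.1 hw.2.2
      exact e ▸ hmul _ (hsU c hc) _ (MulAction.mem_orbit_self eW)
    obtain ⟨x1, x2, x3, w1, w2, w3, wa, wb⟩ := bridge_facts
    have hbridge : bridgeW ∈ B := by
      obtain ⟨g, g1, g2, g3⟩ := normal_2025 Spor.leechU eW bridgeX
        (show sqNorm Spor.vecU = 32 by decide +kernel) eW_mem_part8.1 x1 eW_mem_part8.2 x2 x3
      have hgU : g ∈ Ku := ⟨hmcl ⟨g1, g2⟩, g1⟩
      have e1 := dotInt_smul g Spor.leechU bridgeW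
      rw [g1] at e1
      have e2 := dotInt_smul g bridgeW bridgeX
      rw [g3, eX_coe, show Spor.vecU' = Pi.single none 4 + Pi.single (some 0) (-4) by decide +kernel,
        dotInt_add_right, dot_single, dot_single, w3] at e2
      have e1' : 4 * (((g • bridgeW : leechLattice) : GolayPt → ℤ) none +
          ((g • bridgeW : leechLattice) : GolayPt → ℤ) (some 0)) = -8 :=
        (dot_vecU _).symm.trans (e1.trans w2)
      have hmem : g • bridgeW ∈ B := h13 ⟨show sqNorm
        ((g • bridgeW : leechLattice) : GolayPt → ℤ) = 32 by rw [sqNorm_smul]; exact w1,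
        by omega, by omega⟩
      have := hmul g⁻¹ (inv_mem hgU) _ hmem
      rwa [inv_smul_smul] at this
    have h11 : {w : leechLattice | w ∈ layer 32 ∧ (w : GolayPt → ℤ) none = -1 ∧
        (w : GolayPt → ℤ) (some 0) = -1} ⊆ B := fun w hw => by
      obtain ⟨c, hc, σ, hσ, hs, e⟩ := class11 w1 hw.1 wa wb hw.2.1 hw.2.2
      exact e ▸ hmul _ (mul_mem (hsU c hc) (hstdU hs)) _ hbridge
    obtain ⟨σ, hσ, hmap⟩ :=
      exists_move [none, some 0] [some 0, none] (by simp) (by simp) rfl (by simp)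
    simp only [List.map_cons, List.map_nil, List.cons.injEq, and_true] at hmap
    obtain ⟨hσ0, hσ1⟩ := hmap
    have hinv : ∀ i, (σ⁻¹ i = none ↔ i = some 0) ∧ (σ⁻¹ i = some 0 ↔ i = none) := fun i => by
      simp only [Equiv.Perm.inv_eq_iff_eq, hσ0, hσ1, and_self]
    have hσU : permCo0 σ hσ ∈ Ku := ⟨hH _ (keepsCross_perm hσ), Subtype.ext (funext fun i => by
      rw [permCo0_apply]
      show Spor.vecU (σ⁻¹ i) = Spor.vecU i
      simp only [Spor.vecU, hinv i]
      split_ifs <;> simp_all)⟩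
    have h31 : permCo0 σ hσ • eW ∈ B := hmul _ hσU _ (MulAction.mem_orbit_self eW)
    have hfinB : B.Finite := finite_orbit Ku eW
    have hle := Set.ncard_le_ncard (Set.insert_subset h31 (Set.union_subset h13 h11)) hfinB
    have hnot : permCo0 σ hσ • eW ∉ {w : leechLattice | w ∈ layer 32 ∧
        (w : GolayPt → ℤ) none = 1 ∧ (w : GolayPt → ℤ) (some 0) = -3} ∪ {w : leechLattice |
        w ∈ layer 32 ∧ (w : GolayPt → ℤ) none = -1 ∧ (w : GolayPt → ℤ) (some 0) = -1} := by
      have e : ((permCo0 σ hσ • eW : leechLattice) : GolayPt → ℤ) none = -3 := by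
        rw [permCo0_apply, (hinv none).2.2 rfl]; rfl
      rintro (⟨-, h, -⟩ | ⟨-, h, -⟩) <;> rw [e] at h <;> norm_num at h
    rw [Set.ncard_insert_of_notMem hnot ((hfinB.subset h13).union (hfinB.subset h11)),
      Set.ncard_union_eq ?_ (hfinB.subset h13) (hfinB.subset h11),
      ncard_class, ncard_class, ncard_1024', ncard_classes] at hle
    · have hd := Subgroup.card_dvd_of_le (inf_le_right : Ku ≤ stabU)
      rw [hcardKu, stabU_transitive_facts,
        show (42305421312000 : ℕ) = 47104 * 898128000 by norm_num] at hd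
      obtain ⟨k, hk⟩ := Nat.dvd_of_mul_dvd_mul_right (by norm_num) hd
      have hk1 : k = 1 := by
        rcases k with _ | _ | k
        · omega
        · rfl
        · exfalso
          have := Nat.mul_le_mul hle (show 2 ≤ k + 1 + 1 by omega)
          omega
      rw [hk1, mul_one] at hk
      have heq : Ku = stabU := Subgroup.eq_of_le_of_card_ge inf_le_right (by
        rw [hcardKu, stabU_transitive_facts, ← hk])
      exact heq ▸ inf_le_left
    · exact Set.disjoint_left.2 fun w a b => by have := a.2.1; have := b.2.1; omega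

end Cfsg.Agent.Leech
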