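import Mathlib
import Cfsg.Prelude.Def_Sporadic_a
import Cfsg.Prelude.Def_Spor_Conway
import Cfsg.Agent.Leech.Code
import Cfsg.Agent.Leech.Lattice
import Cfsg.Agent.Leech.Sextet
import Cfsg.Agent.Leech.OrbitCert
import Cfsg.Agent.Leech.Orbits2025
import Cfsg.Agent.Leech.Hundred
import Cfsg.Agent.Leech.SimpleHSMcL

/-! Generators of the stabiliser of the standard pair of type 48, 32. -/

set_option autoImplicit false

namespace Cfsg.Agent.Leech
open Cfsg

/-- a sign change -/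
def hsS : LGen := monGen [0, 1, 2, 3, 4, 5, 6, 7, 8, 9, 10, 11, 12, 13, 14, 15, 16, 17, 18, 19, 20, 21, 22, 23]
  [0, 1, 2, 3, 4, 5, 6, 7, 8, 9, 10, 11, 12, 13, 14, 15, 16, 17, 18, 19, 20, 21, 22, 23] 14908366 (by decide +kernel) (by decide +kernel) (by decide +kernel) (by decide +kernel)
  (by decide +kernel)

/-- a permutation -/
def hsP : LGen := monGen [0, 19, 12, 3, 11, 7, 16, 5, 14, 9, 21, 4, 2, 13, 8, 18, 6, 17, 15, 1, 20, 10, 22, 23]
  [0, 19, 12, 3, 11, 7, 16, 5, 14, 9, 21, 4, 2, 13, 8, 18, 6, 17, 15, 1, 20, 10, 22, 23] 0 (by decide +kernel) (by decide +kernel) (by decide +kernel) (by decide +kernel)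
  (by decide +kernel)

/-- the sextet -/
def hsSext : Sextet where
  lab i := Fin.ofNat 6 ([1, 1, 2, 3, 3, 3, 4, 4, 0, 1, 3, 5, 5, 4, 0, 4, 5, 2, 2, 0, 5, 2, 1, 0].getD (idx i) 0)
  card_fib := by decide +kernel
  pair k := (mem_iff _).2 (by revert k; decide +kernel)

/-- the reflection -/
def hsXi : LGen := xiGen hsSext [1, 1, 2, 3, 3, 3, 4, 4, 0, 1, 3, 5, 5, 4, 0, 4, 5, 2, 2, 0, 5, 2, 1, 0] (by decide +kernel)

/-- the extra generator -/
def hsGen : LGen := hsS.comp (hsXi.comp (hsP.comp (hsXi.comp hsS)))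

theorem hsGens_mem : ∀ a ∈ [mg0, mg1, hsGen], a.g ∈ hsGroup := by
  have key : ∀ (a : LGen) (u : leechLattice),
      a.f (toL (u : GolayPt → ℤ)) = toL (u : GolayPt → ℤ) → a.g • u = u :=
    fun a u h => Subtype.ext (toL_injective ((a.spec u).trans h))
  intro a ha
  simp only [hsGroup, Subgroup.mem_inf, MulAction.mem_stabilizer_iff]
  simp only [List.mem_cons, List.not_mem_nil, or_false] at ha
  rcases ha with rfl | rfl | rfl <;>
    exact ⟨key _ _ (by decide +kernel), key _ _ (by decide +kernel)⟩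

theorem stab1634_le_hs : stab1634 ≤ hsGroup := stab1634_eq ▸ inf_le_left

/-- a word in the generators gives a point of the orbit -/
theorem mem_hs_orbit_of_walk (y z : leechLattice) (root : List ℤ)
    (hroot : toL (y : GolayPt → ℤ) = root) (ops : List ℕ) (fs : List (List ℤ → List ℤ))
    (hfs : [mg0, mg1, hsGen].map LGen.f = fs)
    (h : ((walk fs root ops []).contains (toL (z : GolayPt → ℤ))) = true) :
    z ∈ MulAction.orbit ↥hsGroup y := by
  have hm := walk_mem [mg0, mg1, hsGen] hsGroup hsGens_mem y ops [] (by simp)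
  rw [hfs, hroot] at hm
  obtain ⟨g, hg, e⟩ := hm _ (List.contains_iff_mem.1 h)
  exact ⟨⟨g, hg⟩, (Subtype.ext (toL_injective e)).symm⟩

theorem dot_orbit1634 {y z : leechLattice} (h : z ∈ MulAction.orbit ↥stab1634 y) {d : ℤ}
    (hd : dotInt Spor.vecU (y : GolayPt → ℤ) = d) : dotInt Spor.vecU (z : GolayPt → ℤ) = d := by
  obtain ⟨⟨g, hg⟩, rfl⟩ := h
  simp only [stab1634, Subgroup.mem_inf, MulAction.mem_stabilizer_iff] at hg
  have e := dotInt_smul g Spor.leechU y
  rw [hg.1.1] at e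
  exact e.trans hd

theorem orbit1634_sub {y a : leechLattice} (ha : a ∈ MulAction.orbit ↥hsGroup y) :
    MulAction.orbit ↥stab1634 a ⊆ MulAction.orbit ↥hsGroup y := by
  rintro z ⟨⟨g, hg⟩, rfl⟩
  obtain ⟨⟨k, hk⟩, rfl⟩ := ha
  exact ⟨⟨g * k, mul_mem (stab1634_le_hs hg) hk⟩, mul_smul g k y⟩

theorem disjoint1634 {a b : leechLattice} {d e : ℤ}
    (hd : dotInt Spor.vecU (a : GolayPt → ℤ) = d) (he : dotInt Spor.vecU (b : GolayPt → ℤ) = e)
    (hne : d ≠ e) : Disjoint (MulAction.orbit ↥stab1634 a) (MulAction.orbit ↥stab1634 b) :=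
  Set.disjoint_left.2 fun _ ha hb => hne ((dot_orbit1634 ha hd).symm.trans (dot_orbit1634 hb he))

theorem le_orbit_two (a b : leechLattice) (hb : b ∈ MulAction.orbit ↥hsGroup a) (m n : ℕ)
    (hm : m ≤ (MulAction.orbit ↥stab1634 a).ncard) (hn : n ≤ (MulAction.orbit ↥stab1634 b).ncard)
    {d e : ℤ} (hd : dotInt Spor.vecU (a : GolayPt → ℤ) = d)
    (he : dotInt Spor.vecU (b : GolayPt → ℤ) = e) (hde : d ≠ e) :
    m + n ≤ (MulAction.orbit ↥hsGroup a).ncard := by
  have h := Set.ncard_le_ncard (Set.union_subset (orbit1634_sub (MulAction.mem_orbit_self a))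
    (orbit1634_sub hb)) (finite_orbit hsGroup a)
  rw [Set.ncard_union_eq (disjoint1634 hd he hde) (finite_orbit _ _) (finite_orbit _ _)] at h
  omega

theorem le_orbit_three (a b c : leechLattice) (hb : b ∈ MulAction.orbit ↥hsGroup a)
    (hc : c ∈ MulAction.orbit ↥hsGroup a) (m n k : ℕ)
    (hm : m ≤ (MulAction.orbit ↥stab1634 a).ncard) (hn : n ≤ (MulAction.orbit ↥stab1634 b).ncard)
    (hk : k ≤ (MulAction.orbit ↥stab1634 c).ncard)
    {d e f : ℤ} (hd : dotInt Spor.vecU (a : GolayPt → ℤ) = d)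
    (he : dotInt Spor.vecU (b : GolayPt → ℤ) = e) (hf : dotInt Spor.vecU (c : GolayPt → ℤ) = f)
    (hde : d ≠ e) (hdf : d ≠ f) (hef : e ≠ f) :
    m + n + k ≤ (MulAction.orbit ↥hsGroup a).ncard := by
  have h := Set.ncard_le_ncard (Set.union_subset (Set.union_subset
    (orbit1634_sub (MulAction.mem_orbit_self a)) (orbit1634_sub hb)) (orbit1634_sub hc))
    (finite_orbit hsGroup a)
  rw [Set.ncard_union_eq (Set.disjoint_union_left.2 ⟨disjoint1634 hd hf hdf,
      disjoint1634 he hf hef⟩) ((finite_orbit _ _).union (finite_orbit _ _)) (finite_orbit _ _),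
    Set.ncard_union_eq (disjoint1634 hd he hde) (finite_orbit _ _) (finite_orbit _ _)] at h
  omega

end Cfsg.Agent.Leech
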