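import Mathlib
import Cfsg.Prelude.Def_Sporadic_a
import Cfsg.Prelude.Def_Spor_Conway
import Cfsg.Agent.Leech.Code
import Cfsg.Agent.Leech.Lattice
import Cfsg.Agent.Leech.Sextet
import Cfsg.Agent.Leech.Orbits
import Cfsg.Agent.Leech.OrbitCert
import Cfsg.Agent.Leech.PairsEight
import Cfsg.Agent.Leech.Triples

/-! The suborbits on the 275 vectors. -/

set_option autoImplicit false

namespace Cfsg.Agent.Leech
open Cfsg

/-- the stabiliser of the normal triple -/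
def stab1581 : Subgroup ↥Co0 :=
  MulAction.stabilizer ↥Co0 Spor.leechV ⊓ MulAction.stabilizer ↥Co0 (-Spor.leechU) ⊓
    MulAction.stabilizer ↥Co0 (-tripX)

/-- a generator -/
def qg0 : LGen := monGen [0, 1, 2, 8, 22, 23, 20, 17, 10, 9, 14, 21, 16, 5, 18, 7, 15, 12, 3, 6, 4, 13, 19, 11]
  [0, 1, 2, 18, 20, 13, 19, 15, 3, 9, 8, 23, 17, 21, 10, 16, 12, 7, 14, 22, 6, 11, 4, 5] 0 (by decide +kernel) (by decide +kernel) (by decide +kernel) (by decide +kernel)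
  (by decide +kernel)

/-- a generator -/
def qg1 : LGen := monGen [0, 1, 2, 22, 12, 15, 6, 13, 4, 3, 21, 9, 7, 8, 19, 10, 18, 5, 14, 20, 16, 17, 23, 11]
  [0, 1, 2, 9, 8, 17, 6, 12, 13, 11, 15, 23, 4, 7, 18, 5, 20, 21, 16, 14, 19, 10, 3, 22] 0 (by decide +kernel) (by decide +kernel) (by decide +kernel) (by decide +kernel)
  (by decide +kernel)

/-- a generator -/
def qgP : LGen := monGen [2, 1, 0, 18, 4, 11, 6, 21, 17, 20, 10, 5, 14, 16, 12, 15, 13, 8, 3, 19, 9, 7, 22, 23]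
  [2, 1, 0, 18, 4, 11, 6, 21, 17, 20, 10, 5, 14, 16, 12, 15, 13, 8, 3, 19, 9, 7, 22, 23] 0 (by decide +kernel) (by decide +kernel) (by decide +kernel) (by decide +kernel)
  (by decide +kernel)

/-- a generator -/
def qgS : LGen := monGen [0, 1, 2, 3, 4, 5, 6, 7, 8, 9, 10, 11, 12, 13, 14, 15, 16, 17, 18, 19, 20, 21, 22, 23]
  [0, 1, 2, 3, 4, 5, 6, 7, 8, 9, 10, 11, 12, 13, 14, 15, 16, 17, 18, 19, 20, 21, 22, 23] 2328324 (by decide +kernel) (by decide +kernel) (by decide +kernel) (by decide +kernel)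
  (by decide +kernel)

/-- the sextet -/
def qSext : Sextet where
  lab i := Fin.ofNat 6 ([0, 0, 1, 2, 3, 1, 4, 2, 4, 3, 2, 1, 4, 5, 2, 0, 3, 5, 5, 0, 4, 3, 1, 5].getD (idx i) 0)
  card_fib := by decide +kernel
  pair k := (mem_iff _).2 (by revert k; decide +kernel)

/-- the reflection -/
def qgX : LGen := xiGen qSext [0, 0, 1, 2, 3, 1, 4, 2, 4, 3, 2, 1, 4, 5, 2, 0, 3, 5, 5, 0, 4, 3, 1, 5] (by decide +kernel)

/-- the extra generator -/
def qg2 : LGen := qgS.comp (qgX.comp (qgP.comp (qgX.comp qgS)))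

theorem qgens_mem : ∀ a ∈ [qg0, qg1, qg2], a.g ∈ stab1581 := by
  have key : ∀ (a : LGen) (u : leechLattice),
      a.f (toL (u : GolayPt → ℤ)) = toL (u : GolayPt → ℤ) → a.g • u = u :=
    fun a u h => Subtype.ext (toL_injective ((a.spec u).trans h))
  intro a ha
  simp only [stab1581, Subgroup.mem_inf, MulAction.mem_stabilizer_iff]
  simp only [List.mem_cons, List.not_mem_nil, or_false] at ha
  rcases ha with rfl | rfl | rfl <;>
    exact ⟨⟨key _ _ (by decide +kernel), key _ _ (by decide +kernel)⟩, key _ _ (by decide +kernel)⟩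

/-- a representative -/
def qrep8 : leechLattice :=
  ⟨ofL [-3, -1, 1, -1, -1, -1, -1, -1, -1, -1, -1, -1, 1, 1, -1, 1, -1, -1, 1, -1, 1, -1, 1, -1],
    mem_of_parity _ 1 (by decide +kernel) (by decide +kernel) (by decide +kernel)⟩

theorem qorbit8 : 112 ≤ (MulAction.orbit ↥stab1581 qrep8).ncard :=
  le_ncard_orbit [qg0, qg1, qg2] stab1581 qgens_mem qrep8 [-3, -1, 1, -1, -1, -1, -1, -1, -1, -1, -1, -1, 1, 1, -1, 1, -1, -1, 1, -1, 1, -1, 1, -1] (by decide +kernel)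
    (unpack 4 222 7045627748321499683668441790526880252674818351616870647910309099982192425188774179774111736766984780544300629)
    [monF [0, 1, 2, 8, 22, 23, 20, 17, 10, 9, 14, 21, 16, 5, 18, 7, 15, 12, 3, 6, 4, 13, 19, 11] 0, monF [0, 1, 2, 22, 12, 15, 6, 13, 4, 3, 21, 9, 7, 8, 19, 10, 18, 5, 14, 20, 16, 17, 23, 11] 0, ((monF [0, 1, 2, 3, 4, 5, 6, 7, 8, 9, 10, 11, 12, 13, 14, 15, 16, 17, 18, 19, 20, 21, 22, 23] 2328324) ∘ ((xiF [0, 0, 1, 2, 3, 1, 4, 2, 4, 3, 2, 1, 4, 5, 2, 0, 3, 5, 5, 0, 4, 3, 1, 5]) ∘ ((monF [2, 1, 0, 18, 4, 11, 6, 21, 17, 20, 10, 5, 14, 16, 12, 15, 13, 8, 3, 19, 9, 7, 22, 23] 0) ∘ ((xiF [0, 0, 1, 2, 3, 1, 4, 2, 4, 3, 2, 1, 4, 5, 2, 0, 3, 5, 5, 0, 4, 3, 1, 5]) ∘ (monF [0, 1, 2, 3, 4, 5, 6, 7, 8, 9, 10, 11, 12, 13, 14, 15, 16, 17, 18, 19, 20, 21, 22, 23] 2328324)))))] rfl 2257 112 (by decide +kernel)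

/-- a representative -/
def qrep16 : leechLattice :=
  ⟨ofL [-4, 0, 0, -4, 0, 0, 0, 0, 0, 0, 0, 0, 0, 0, 0, 0, 0, 0, 0, 0, 0, 0, 0, 0],
    mem_of_parity _ 0 (by decide +kernel) (by decide +kernel) (by decide +kernel)⟩

theorem qorbit16 : 162 ≤ (MulAction.orbit ↥stab1581 qrep16).ncard :=
  le_ncard_orbit [qg0, qg1, qg2] stab1581 qgens_mem qrep16 [-4, 0, 0, -4, 0, 0, 0, 0, 0, 0, 0, 0, 0, 0, 0, 0, 0, 0, 0, 0, 0, 0, 0, 0] (by decide +kernel)
    (unpack 4 322 216238328657321701726352607757449782794003107848495076274269285511592888323482973776746409352400327810119149091137607253)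
    [monF [0, 1, 2, 8, 22, 23, 20, 17, 10, 9, 14, 21, 16, 5, 18, 7, 15, 12, 3, 6, 4, 13, 19, 11] 0, monF [0, 1, 2, 22, 12, 15, 6, 13, 4, 3, 21, 9, 7, 8, 19, 10, 18, 5, 14, 20, 16, 17, 23, 11] 0, ((monF [0, 1, 2, 3, 4, 5, 6, 7, 8, 9, 10, 11, 12, 13, 14, 15, 16, 17, 18, 19, 20, 21, 22, 23] 2328324) ∘ ((xiF [0, 0, 1, 2, 3, 1, 4, 2, 4, 3, 2, 1, 4, 5, 2, 0, 3, 5, 5, 0, 4, 3, 1, 5]) ∘ ((monF [2, 1, 0, 18, 4, 11, 6, 21, 17, 20, 10, 5, 14, 16, 12, 15, 13, 8, 3, 19, 9, 7, 22, 23] 0) ∘ ((xiF [0, 0, 1, 2, 3, 1, 4, 2, 4, 3, 2, 1, 4, 5, 2, 0, 3, 5, 5, 0, 4, 3, 1, 5]) ∘ (monF [0, 1, 2, 3, 4, 5, 6, 7, 8, 9, 10, 11, 12, 13, 14, 15, 16, 17, 18, 19, 20, 21, 22, 23] 2328324)))))] rfl 3401 162 (by decide +kernel)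

/-- the standard set of size 275 -/
def qX : Set leechLattice := {x | x ∈ layer 32 ∧ dotInt Spor.vecV (x : GolayPt → ℤ) = 24 ∧
  dotInt ((-Spor.leechU : leechLattice) : GolayPt → ℤ) (x : GolayPt → ℤ) = 16}

theorem ncard_qX : qX.ncard = 275 :=
  ncard_275 Spor.leechV (-Spor.leechU) ⟨show sqNorm Spor.vecV = 48 by decide +kernel,
    show sqNorm ((-Spor.leechU : leechLattice) : GolayPt → ℤ) = 32 by decide +kernel,
    by decide +kernel⟩

/-- the class of a scalar product -/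
def qC (d : ℤ) : Set leechLattice :=
  {x | x ∈ qX ∧ dotInt ((-tripX : leechLattice) : GolayPt → ℤ) (x : GolayPt → ℤ) = d}

theorem orbit_sub_qC {y : leechLattice} {d : ℤ} (hy : y ∈ qC d) :
    MulAction.orbit ↥stab1581 y ⊆ qC d := by
  rintro z ⟨⟨h, hh⟩, rfl⟩
  simp only [stab1581, Subgroup.mem_inf, MulAction.mem_stabilizer_iff] at hh
  obtain ⟨⟨e1, e2⟩, e3⟩ := hh
  obtain ⟨⟨h1, h2, h3⟩, h4⟩ := hy
  refine ⟨⟨?_, ?_, ?_⟩, ?_⟩
  · show sqNorm ((h • y : leechLattice) : GolayPt → ℤ) = 32; rw [sqNorm_smul]; exact h1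
  · have := dotInt_smul h Spor.leechV y
    rw [e1] at this; exact this.trans h2
  · conv_lhs => rw [← e2]
    exact (dotInt_smul h _ _).trans h3
  · conv_lhs => rw [← e3]
    exact (dotInt_smul h _ _).trans h4

theorem qreps_mem : qrep8 ∈ qC 8 ∧ qrep16 ∈ qC 16 ∧ -tripX ∈ qC 32 :=
  ⟨⟨⟨show sqNorm (qrep8 : GolayPt → ℤ) = 32 by decide +kernel, by decide +kernel,
      by decide +kernel⟩, by decide +kernel⟩,
    ⟨⟨show sqNorm (qrep16 : GolayPt → ℤ) = 32 by decide +kernel, by decide +kernel,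
      by decide +kernel⟩, by decide +kernel⟩,
    ⟨⟨show sqNorm ((-tripX : leechLattice) : GolayPt → ℤ) = 32 by decide +kernel, by decide +kernel,
      by decide +kernel⟩, by decide +kernel⟩⟩

/-- the two suborbits exhaust the two classes -/
theorem qclasses : (qC 8).ncard = 112 ∧ (qC 16).ncard = 162 ∧
    MulAction.orbit ↥stab1581 qrep8 = qC 8 ∧ MulAction.orbit ↥stab1581 qrep16 = qC 16 ∧
    ∀ x ∈ qX, x = -tripX ∨ x ∈ qC 8 ∨ x ∈ qC 16 := by
  obtain ⟨m8, m16, m32⟩ := qreps_mem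
  have hfin : qX.Finite := Set.finite_of_ncard_ne_zero (by rw [ncard_qX]; norm_num)
  have hd : ∀ {d e : ℤ}, d ≠ e → Disjoint (qC d) (qC e) :=
    fun h => Set.disjoint_left.2 fun z a b => h (a.2.symm.trans b.2)
  have fC : ∀ d, (qC d).Finite := fun d => hfin.subset fun z h => h.1
  have hsub : qC 8 ∪ qC 16 ∪ qC 32 ⊆ qX :=
    Set.union_subset (Set.union_subset (fun z h => h.1) fun z h => h.1) fun z h => h.1
  have hle := Set.ncard_le_ncard hsub hfin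
  rw [Set.ncard_union_eq (Set.disjoint_union_left.2 ⟨hd (by norm_num), hd (by norm_num)⟩)
      ((fC _).union (fC _)) (fC _), Set.ncard_union_eq (hd (by norm_num)) (fC _) (fC _),
    ncard_qX] at hle
  have h32 : 1 ≤ (qC 32).ncard := by
    exact (Set.ncard_pos (fC _)).2 ⟨_, m32⟩
  have l8 := Set.ncard_le_ncard (orbit_sub_qC m8) (fC 8)
  have l16 := Set.ncard_le_ncard (orbit_sub_qC m16) (fC 16)
  have := qorbit8; have := qorbit16
  refine ⟨by omega, by omega, Set.eq_of_subset_of_ncard_le (orbit_sub_qC m8) (by omega) (fC 8),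
    Set.eq_of_subset_of_ncard_le (orbit_sub_qC m16) (by omega) (fC 16), fun x hx => ?_⟩
  have hall : qC 8 ∪ qC 16 ∪ {-tripX} = qX := by
    refine Set.eq_of_subset_of_ncard_le ?_ ?_ hfin
    · exact Set.union_subset (Set.union_subset (fun z h => h.1) fun z h => h.1)
        fun z h => by rw [Set.mem_singleton_iff] at h; rw [h]; exact m32.1
    · rw [Set.ncard_union_eq ?_ ((fC _).union (fC _)) (Set.finite_singleton _),
        Set.ncard_union_eq (hd (by norm_num)) (fC _) (fC _), Set.ncard_singleton, ncard_qX]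
      · omega
      · exact Set.disjoint_singleton_right.2 fun h => h.elim
          (fun h => absurd (h.2.symm.trans m32.2) (by norm_num))
          (fun h => absurd (h.2.symm.trans m32.2) (by norm_num))
  rw [← hall] at hx
  rcases hx with (h | h) | h
  · exact Or.inr (Or.inl h)
  · exact Or.inr (Or.inr h)
  · exact Or.inl h

end Cfsg.Agent.Leech
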