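import Mathlib
import Cfsg.Prelude.Def_Sporadic
import Cfsg.Prelude.Def_Spor_Conway
import Cfsg.Agent.Leech.Co1
import Cfsg.Agent.Leech.Triples
import Cfsg.Agent.Leech.SimpleHSMcL
import Cfsg.Agent.S0404
import Cfsg.Agent.S1581

/-! The stabiliser of a vector of squared length 48 is simple. -/

set_option autoImplicit false

namespace Cfsg.Agent.Leech
open Cfsg

/-- the stabiliser of the standard vector of squared length 48 -/
def stabV3 : Subgroup ↥Co0 := MulAction.stabilizer ↥Co0 Spor.leechV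

/-- its 552 points -/
def pts552 : Set leechLattice :=
  {x | x ∈ layer 32 ∧ dotInt Spor.vecV (x : GolayPt → ℤ) = 24}

theorem norm_vecV : sqNorm (Spor.leechV : GolayPt → ℤ) = 48 :=
  show sqNorm Spor.vecV = 48 by decide +kernel

theorem ncard_pts552 : pts552.ncard = 552 := ncard_552 Spor.leechV norm_vecV

theorem flip552 {x : leechLattice} (hx : x ∈ pts552) : Spor.leechV - x ∈ pts552 := by
  refine ⟨?_, ?_⟩
  · show sqNorm ((Spor.leechV - x : leechLattice) : GolayPt → ℤ) = 32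
    rw [AddSubgroup.coe_sub]
    exact (sq_sub_iff Spor.leechV x norm_vecV hx.1).2 hx.2
  · rw [AddSubgroup.coe_sub, sub_eq_add_neg, dotInt_add_right, dot_neg, hx.2]
    have : dotInt Spor.vecV (Spor.leechV : GolayPt → ℤ) = 48 :=
      (dot_self _).trans norm_vecV
    omega

theorem dot_flip {v x : leechLattice} (hv : v ∈ pts552) :
    dotInt (v : GolayPt → ℤ) ((Spor.leechV - x : leechLattice) : GolayPt → ℤ) =
      24 - dotInt (v : GolayPt → ℤ) (x : GolayPt → ℤ) := by
  rw [AddSubgroup.coe_sub, sub_eq_add_neg, dotInt_add_right, dot_neg, dotInt_comm,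
    show dotInt (Spor.leechV : GolayPt → ℤ) (v : GolayPt → ℤ) = 24 from hv.2]
  ring

theorem dot_cases552 {v x : leechLattice} (hv : v ∈ pts552) (hx : x ∈ pts552) (h1 : x ≠ v)
    (h2 : x ≠ Spor.leechV - v) :
    dotInt (v : GolayPt → ℤ) (x : GolayPt → ℤ) = 16 ∨ dotInt (v : GolayPt → ℤ) (x : GolayPt → ℤ) = 8 := by
  have hf := flip552 hx
  have h3 : x ≠ -v := fun e => by
    have := hx.2
    rw [e, AddSubgroup.coe_neg, dot_neg, hv.2] at this
    omega
  have h4 : Spor.leechV - x ≠ -v := fun e => by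
    have := hf.2
    rw [e, AddSubgroup.coe_neg, dot_neg, hv.2] at this
    omega
  have h5 : Spor.leechV - x ≠ v := fun e => h2 (by rw [← e]; abel)
  have a := dot_cases v x hv.1 hx.1 h1 h3
  have b := dot_cases v (Spor.leechV - x) hv.1 hf.1 h5 h4
  rw [dot_flip hv] at b
  omega

theorem smul_mem552 {g : ↥Co0} (hg : g ∈ stabV3) {x : leechLattice} (hx : x ∈ pts552) :
    g • x ∈ pts552 := by
  refine ⟨?_, ?_⟩
  · show sqNorm ((g • x : leechLattice) : GolayPt → ℤ) = 32
    rw [sqNorm_smul]; exact hx.1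
  · have := dotInt_smul g Spor.leechV x
    rw [show g • Spor.leechV = Spor.leechV from hg] at this
    exact this.trans hx.2

theorem smul_sub' (g : ↥Co0) (a b : leechLattice) : g • (a - b) = g • a - g • b := by
  rw [sub_eq_add_neg, sub_eq_add_neg, smul_add', smul_neg']

theorem trans552 {v x : leechLattice} (hv : v ∈ pts552) (hx : x ∈ pts552) :
    ∃ g ∈ stabV3, g • v = x := by
  obtain ⟨g, g1, g2⟩ := trans_triangle Spor.leechV v Spor.leechV x norm_vecV norm_vecV hv.1 hx.1 hv.2 hx.2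
  exact ⟨g, g1, g2⟩

theorem trans552_cls {v a b : leechLattice} (hv : v ∈ pts552) (ha : a ∈ pts552) (hb : b ∈ pts552)
    (d : ℤ) (hd : d = 16 ∨ d = 8) (hda : dotInt (v : GolayPt → ℤ) (a : GolayPt → ℤ) = d)
    (hdb : dotInt (v : GolayPt → ℤ) (b : GolayPt → ℤ) = d) :
    ∃ g ∈ stabV3 ⊓ MulAction.stabilizer ↥Co0 v, g • a = b := by
  have key : ∀ p q : leechLattice, p ∈ pts552 → q ∈ pts552 →
      dotInt (v : GolayPt → ℤ) (p : GolayPt → ℤ) = 16 →
      dotInt (v : GolayPt → ℤ) (q : GolayPt → ℤ) = 16 →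
      ∃ g ∈ stabV3 ⊓ MulAction.stabilizer ↥Co0 v, g • p = q := by
    intro p q hp hq dp dq
    obtain ⟨g, g1, g2, g3⟩ := normal_triple Spor.leechV v p norm_vecV hv.1 hp.1 hv.2 hp.2 dp
    obtain ⟨h, k1, k2, k3⟩ := normal_triple Spor.leechV v q norm_vecV hv.1 hq.1 hv.2 hq.2 dq
    refine ⟨h⁻¹ * g, ⟨?_, ?_⟩, ?_⟩
    · show (h⁻¹ * g) • Spor.leechV = Spor.leechV
      rw [mul_smul, inv_smul_eq_iff]; exact Subtype.ext (g1.trans k1.symm)
    · show (h⁻¹ * g) • v = v
      rw [mul_smul, inv_smul_eq_iff]; exact g2.trans k2.symm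
    · rw [mul_smul, inv_smul_eq_iff]; exact g3.trans k3.symm
  rcases hd with rfl | rfl
  · exact key a b ha hb hda hdb
  · obtain ⟨g, hg, e⟩ := key _ _ (flip552 ha) (flip552 hb) (by rw [dot_flip hv, hda]; rfl)
      (by rw [dot_flip hv, hdb]; rfl)
    refine ⟨g, hg, ?_⟩
    rw [smul_sub', show g • Spor.leechV = Spor.leechV from hg.1] at e
    exact sub_right_injective e

theorem point_stab552 {v : leechLattice} (hv : v ∈ pts552) :
    IsSimpleGroup ↥(stabV3 ⊓ MulAction.stabilizer ↥Co0 v) ∧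
      Nat.card ↥(stabV3 ⊓ MulAction.stabilizer ↥Co0 v) = 898128000 := by
  have h := S0404.result v (Spor.leechV - v) hv.1 (flip552 hv).1 (by
    rw [dot_flip hv, dot_self, show sqNorm (v : GolayPt → ℤ) = 32 from hv.1]; rfl)
  have e : stabV3 ⊓ MulAction.stabilizer ↥Co0 v =
      MulAction.stabilizer ↥Co0 v ⊓ MulAction.stabilizer ↥Co0 (Spor.leechV - v) := by
    ext g
    simp only [stabV3, Subgroup.mem_inf, MulAction.mem_stabilizer_iff, smul_sub']
    constructor
    · rintro ⟨a, b⟩; exact ⟨b, by rw [a, b]⟩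
    · rintro ⟨b, a⟩; rw [b] at a; exact ⟨sub_left_injective a, b⟩
  rw [e]
  exact h

theorem classes552 {v : leechLattice} (hv : v ∈ pts552) :
    {x | x ∈ pts552 ∧ dotInt (v : GolayPt → ℤ) (x : GolayPt → ℤ) = 16}.ncard = 275 ∧
    {x | x ∈ pts552 ∧ dotInt (v : GolayPt → ℤ) (x : GolayPt → ℤ) = 8}.ncard = 275 := by
  have hfin : pts552.Finite := finite_layer32.subset fun x h => h.1
  set A := {x | x ∈ pts552 ∧ dotInt (v : GolayPt → ℤ) (x : GolayPt → ℤ) = 16}
  set B := {x | x ∈ pts552 ∧ dotInt (v : GolayPt → ℤ) (x : GolayPt → ℤ) = 8}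
  have hAB : A.ncard = B.ncard := by
    refine Set.ncard_congr (fun x _ => Spor.leechV - x)
      (fun x hx => ⟨flip552 hx.1, by rw [dot_flip hv, hx.2]; rfl⟩)
      (fun a b _ _ e => sub_right_injective e)
      (fun y hy => ⟨Spor.leechV - y, ⟨flip552 hy.1, by rw [dot_flip hv, hy.2]; rfl⟩, by abel⟩)
  have hne : v ≠ Spor.leechV - v := fun e => by
    have h := dot_flip (x := v) hv
    rw [← e, dot_self, show sqNorm (v : GolayPt → ℤ) = 32 from hv.1] at h
    omega
  have hvv : dotInt (v : GolayPt → ℤ) (v : GolayPt → ℤ) = 32 := (dot_self _).trans hv.1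
  have hu : pts552 = {v, Spor.leechV - v} ∪ (A ∪ B) := by
    refine Set.Subset.antisymm (fun x hx => ?_) ?_
    · by_cases h1 : x = v
      · exact Or.inl (Or.inl h1)
      by_cases h2 : x = Spor.leechV - v
      · exact Or.inl (Or.inr h2)
      rcases dot_cases552 hv hx h1 h2 with h | h
      · exact Or.inr (Or.inl ⟨hx, h⟩)
      · exact Or.inr (Or.inr ⟨hx, h⟩)
    · rintro x ((rfl | rfl) | (h | h))
      exacts [hv, flip552 hv, h.1, h.1]
  have hA : A.Finite := hfin.subset fun x h => h.1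
  have hB : B.Finite := hfin.subset fun x h => h.1
  have hc := congrArg Set.ncard hu
  rw [ncard_pts552, Set.ncard_union_eq ?_ (Set.toFinite _) (hA.union hB), Set.ncard_pair hne,
    Set.ncard_union_eq (Set.disjoint_left.2 fun x a b => by have := a.2; have := b.2; omega) hA hB] at hc
  · omega
  · refine Set.disjoint_left.2 fun x a b => ?_
    have hx : dotInt (v : GolayPt → ℤ) (x : GolayPt → ℤ) = 16 ∨
        dotInt (v : GolayPt → ℤ) (x : GolayPt → ℤ) = 8 := by
      rcases b with b | b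
      exacts [Or.inl b.2, Or.inr b.2]
    rcases a with rfl | rfl
    · rw [hvv] at hx; omega
    · rw [dot_flip hv, hvv] at hx; omega

/-- no central element flips every point -/
theorem no_flip (n : ↥Co0) (hn : n ∈ stabV3) (hcomm : ∀ g ∈ stabV3, g * n = n * g)
    (hflip : ∀ x ∈ pts552, n • x = Spor.leechV - x) : False := by
  set y := ((n • oct none : leechLattice) : GolayPt → ℤ) with hy
  have hinv : ∀ i j : GolayPt, i ≠ none → j ≠ none → y i = y j := by
    intro i j hi hj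
    obtain ⟨σ, hσ, hmap⟩ := exists_move [none, i] [none, j] (by simp [Ne.symm hi])
      (by simp [Ne.symm hj]) rfl (by simp)
    simp only [List.map_cons, List.map_nil, List.cons.injEq, and_true] at hmap
    obtain ⟨h0, hij⟩ := hmap
    have hiff : ∀ q, σ⁻¹ q = none ↔ q = none := fun q => by
      rw [Equiv.Perm.inv_eq_iff_eq, h0]
    have hV : permCo0 σ hσ ∈ stabV3 := Subtype.ext (funext fun q => by
      rw [permCo0_apply]
      show Spor.vecV (σ⁻¹ q) = Spor.vecV q
      simp only [Spor.vecV, hiff q])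
    have hO : permCo0 σ hσ • oct none = oct none := Subtype.ext (funext fun q => by
      rw [permCo0_apply]
      show (Pi.single none 8 : GolayPt → ℤ) (σ⁻¹ q) = (Pi.single none 8 : GolayPt → ℤ) q
      simp only [Pi.single_apply, hiff q])
    have e := congrArg (fun k : ↥Co0 => k • oct none) (hcomm _ hV)
    simp only [mul_smul, hO] at e
    have e' := congrFun (congrArg Subtype.val e) j
    rw [permCo0_apply, Equiv.Perm.inv_eq_iff_eq.2 hij.symm] at e'
    exact e'
  have hnorm : sqNorm y = 64 := by rw [hy, sqNorm_smul]; exact oct_norm none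
  have hsum : ∀ f : GolayPt → ℤ, (∀ i, i ≠ none → f i = f (some 0)) →
      ∑ i, f i = f none + 23 * f (some 0) := fun f hf => by
    rw [Fintype.sum_option, Finset.sum_congr rfl (fun i _ => hf (some i) (by simp)), Finset.sum_const]
    simp
  have hy0 : ∀ i, i ≠ none → y i = y (some 0) := fun i hi => hinv i _ hi (by simp)
  rw [sqNorm, hsum (fun i => y i ^ 2) fun i hi => by rw [hy0 i hi]] at hnorm
  have hd : dotInt Spor.vecV y = -40 := by
    have := dotInt_smul n Spor.leechV (oct none)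
    rw [show n • Spor.leechV = Spor.leechV from hn] at this
    exact this.trans (by decide +kernel)
  rw [dot_vecV, hsum y hy0] at hd
  set a := y none
  set c := y (some 0)
  have hc : c = 0 ∧ a = 8 := by
    have h2 : -1 ≤ c ∧ c ≤ 1 := by constructor <;> nlinarith [sq_nonneg a]
    obtain ⟨h2, h3⟩ := h2
    interval_cases c
    · have : a = 12 := by omega
      rw [this] at hnorm; norm_num at hnorm
    · omega
    · exfalso; omega
  have hfix : n • oct none = oct none := Subtype.ext (funext fun i => by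
    show y i = (Pi.single none 8 : GolayPt → ℤ) i
    by_cases p : i = none
    · subst p; simp only [Pi.single_eq_same]; exact hc.2
    · rw [hy0 i p]; simp [p]; exact hc.1)
  obtain ⟨x, hx⟩ : pts552.Nonempty := Set.nonempty_of_ncard_ne_zero (by rw [ncard_pts552]; norm_num)
  have e := dotInt_smul n x (oct none)
  rw [hflip x hx, hfix, AddSubgroup.coe_sub] at e
  have e' : dotInt (Spor.vecV - (x : GolayPt → ℤ)) (Pi.single none 8) =
      dotInt (x : GolayPt → ℤ) (Pi.single none 8) := e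
  rw [dot_single, dot_single, Pi.sub_apply, show Spor.vecV none = -5 from rfl] at e'
  omega

/-- a non-trivial normal subgroup is transitive on the 552 points -/
theorem orbit552 (N : Subgroup ↥stabV3) [N.Normal] (hne : N ≠ ⊥) (v : leechLattice)
    (hv : v ∈ pts552) : MulAction.orbit ↥(N.map stabV3.subtype) v = pts552 := by
  classical
  have := finite_co0
  set K := N.map stabV3.subtype with hK
  have hKle : K ≤ stabV3 := by rintro _ ⟨m, -, rfl⟩; exact m.2
  have hKn : ∀ g ∈ stabV3, ∀ x ∈ K, g * x * g⁻¹ ∈ K := by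
    rintro g hg x ⟨m, hm, rfl⟩
    exact ⟨⟨g, hg⟩ * m * ⟨g, hg⟩⁻¹, Subgroup.Normal.conj_mem inferInstance m hm _, rfl⟩
  have hKne : K ≠ ⊥ := fun e =>
    hne ((Subgroup.map_eq_bot_iff_of_injective _ stabV3.subtype_injective).1 e)
  have hfin : pts552.Finite := finite_layer32.subset fun x h => h.1
  have hOsub : ∀ w ∈ pts552, MulAction.orbit ↥K w ⊆ pts552 := by
    rintro w hw _ ⟨⟨k, hk⟩, rfl⟩
    exact smul_mem552 (hKle hk) hw
  -- conjugate orbits
  have hmove : ∀ g ∈ stabV3, ∀ w z : leechLattice, z ∈ MulAction.orbit ↥K w → g • z ∈ MulAction.orbit ↥K (g • w) := by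
    rintro g hg w _ ⟨⟨k, hk⟩, rfl⟩
    refine ⟨⟨_, hKn g hg k hk⟩, ?_⟩
    show (g * k * g⁻¹) • g • w = g • k • w
    simp only [mul_smul, inv_smul_smul]
  have hinv : ∀ g ∈ stabV3 ⊓ MulAction.stabilizer ↥Co0 v, ∀ z ∈ MulAction.orbit ↥K v,
      g • z ∈ MulAction.orbit ↥K v := fun g hg z hz => by
    have := hmove g hg.1 v z hz
    rwa [show g • v = v from hg.2] at this
  set A := {x | x ∈ pts552 ∧ dotInt (v : GolayPt → ℤ) (x : GolayPt → ℤ) = 16} with hA
  set B := {x | x ∈ pts552 ∧ dotInt (v : GolayPt → ℤ) (x : GolayPt → ℤ) = 8} with hB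
  set O := MulAction.orbit ↥K v with hO
  obtain ⟨cA, cB⟩ := classes552 hv
  have hclass : ∀ d : ℤ, (d = 16 ∨ d = 8) → ∀ y ∈ O, y ∈ pts552 →
      dotInt (v : GolayPt → ℤ) (y : GolayPt → ℤ) = d →
      {x | x ∈ pts552 ∧ dotInt (v : GolayPt → ℤ) (x : GolayPt → ℤ) = d} ⊆ O := by
    intro d hd y hy hy' hyd x hx
    obtain ⟨g, hg, rfl⟩ := trans552_cls hv hy' hx.1 d hd hyd hx.2
    exact hinv g hg y hy
  have hv' : v ∈ O := MulAction.mem_orbit_self v
  have hw : ∀ x ∈ pts552, x = v ∨ x = Spor.leechV - v ∨ x ∈ A ∨ x ∈ B := fun x hx => by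
    by_cases h1 : x = v
    · exact Or.inl h1
    by_cases h2 : x = Spor.leechV - v
    · exact Or.inr (Or.inl h2)
    rcases dot_cases552 hv hx h1 h2 with h | h
    exacts [Or.inr (Or.inr (Or.inl ⟨hx, h⟩)), Or.inr (Or.inr (Or.inr ⟨hx, h⟩))]
  -- the orbit meets one of the large classes
  have hmeet : (∃ y ∈ O, y ∈ A) ∨ ∃ y ∈ O, y ∈ B := by
    by_contra hcon
    push Not at hcon
    obtain ⟨hnA, hnB⟩ := hcon
    have hpair : ∀ x ∈ pts552, ∀ k ∈ K, k • x = x ∨ k • x = Spor.leechV - x := by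
      intro x hx k hk
      obtain ⟨g, hg, rfl⟩ := trans552 hv hx
      have hm : g⁻¹ * k * g ∈ K := by
        have := hKn g⁻¹ (inv_mem hg) k hk
        rwa [inv_inv] at this
      have hmo : (g⁻¹ * k * g) • v ∈ O := ⟨⟨_, hm⟩, rfl⟩
      rcases hw _ (hOsub v hv hmo) with e | e | e | e
      · left
        rw [mul_smul, mul_smul, inv_smul_eq_iff] at e
        exact e
      · right
        rw [mul_smul, mul_smul, inv_smul_eq_iff, smul_sub',
          show g • Spor.leechV = Spor.leechV from hg] at e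
        exact e
      · exact absurd e (hnA _ hmo)
      · exact absurd e (hnB _ hmo)
    have hfree : ∀ k ∈ K, ∀ x ∈ pts552, k • x = x → k = 1 := by
      intro k hk x hx hkx
      obtain ⟨hs, -⟩ := point_stab552 hx
      rcases hs.eq_bot_or_eq_top_of_normal
          (K.subgroupOf (stabV3 ⊓ MulAction.stabilizer ↥Co0 x))
          ⟨fun a ha g => hKn _ g.2.1 _ ha⟩ with h | h
      · have : (⟨k, hKle hk, hkx⟩ : ↥(stabV3 ⊓ MulAction.stabilizer ↥Co0 x)) ∈
            K.subgroupOf (stabV3 ⊓ MulAction.stabilizer ↥Co0 x) := hk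
        rw [h, Subgroup.mem_bot] at this
        exact congrArg Subtype.val this
      · exfalso
        obtain ⟨c16, -⟩ := classes552 hx
        have : {y | y ∈ pts552 ∧ dotInt (x : GolayPt → ℤ) (y : GolayPt → ℤ) = 16}.ncard ≤ 1 := by
          refine (Set.ncard_le_one (hfin.subset fun y h => h.1)).2 fun a ha b hb => ?_
          obtain ⟨g, hg, rfl⟩ := trans552_cls hx ha.1 hb.1 16 (Or.inl rfl) ha.2 hb.2
          have hgK : (⟨g, hg⟩ : ↥(stabV3 ⊓ MulAction.stabilizer ↥Co0 x)) ∈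
              K.subgroupOf (stabV3 ⊓ MulAction.stabilizer ↥Co0 x) := h ▸ Subgroup.mem_top _
          rcases hpair a ha.1 g hgK with e | e
          · exact e.symm
          · exfalso
            have h2 := hb.2
            rw [e, dot_flip hx, ha.2] at h2
            omega
        omega
    obtain ⟨⟨n, hn⟩, hn1⟩ := Subgroup.ne_bot_iff_exists_ne_one.1 hKne
    have hn1' : n ≠ 1 := fun e => hn1 (Subtype.ext e)
    have hflip : ∀ x ∈ pts552, n • x = Spor.leechV - x := fun x hx =>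
      (hpair x hx n hn).resolve_left fun e => hn1' (hfree n hn x hx e)
    refine no_flip n (hKle hn) (fun g hg => ?_) hflip
    have hc : g * n * g⁻¹ * n⁻¹ = 1 := by
      refine hfree _ (mul_mem (hKn g hg n hn) (inv_mem hn)) v hv ?_
      have e : n⁻¹ • v = Spor.leechV - v := by
        rw [inv_smul_eq_iff, hflip _ (flip552 hv)]; abel
      have hg' : g⁻¹ • Spor.leechV = Spor.leechV := (inv_mem hg : g⁻¹ ∈ stabV3)
      have hz := flip552 (smul_mem552 (inv_mem hg : g⁻¹ ∈ stabV3) hv)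
      rw [mul_smul, mul_smul, mul_smul, e, smul_sub', hg', hflip _ hz, sub_sub_cancel,
        smul_inv_smul]
    rw [mul_inv_eq_one, mul_inv_eq_iff_eq_mul] at hc
    exact hc
  -- the class of the other point
  have hnotA : ¬ ((∃ y ∈ O, y ∈ A) ∧ ¬ ∃ y ∈ O, y ∈ B) := by
    rintro ⟨⟨y, hy, hyA⟩, hnB⟩
    obtain ⟨h112, -, -⟩ := S1581.result Spor.leechV v y norm_vecV
      ⟨hv.1, (sq_sub_iff Spor.leechV v norm_vecV hv.1).2 hv.2⟩
      ⟨hyA.1.1, (sq_sub_iff Spor.leechV y norm_vecV hyA.1.1).2 hyA.1.2, hyA.2⟩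
    obtain ⟨z, ⟨hz1, hz2, hz3⟩, hzd⟩ := Set.nonempty_of_ncard_ne_zero (by rw [h112]; norm_num)
    have hzA : z ∈ A := ⟨⟨hz1, (sq_sub_iff Spor.leechV z norm_vecV hz1).1 hz2⟩, hz3⟩
    have hzO : z ∈ O := hclass 16 (Or.inl rfl) y hy hyA.1 hyA.2 hzA
    obtain ⟨g, hg, hgy⟩ := trans552 hyA.1 hv
    have hOy : MulAction.orbit ↥K y = O := MulAction.orbit_eq_iff.2 hy
    have hz' : g • z ∈ O := by
      have := hmove g hg y z (by rw [hOy]; exact hzO)
      rwa [hgy] at this
    have hd : dotInt (v : GolayPt → ℤ) ((g • z : leechLattice) : GolayPt → ℤ) = 8 := by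
      rw [← hgy, dotInt_smul]; exact hzd
    exact hnB ⟨_, hz', hOsub v hv hz', hd⟩
  have hnotB : ¬ ((∃ y ∈ O, y ∈ B) ∧ ¬ ∃ y ∈ O, y ∈ A) := by
    rintro ⟨⟨y, hy, hyB⟩, hnA⟩
    set y' := Spor.leechV - y with hy'
    have hy'A : y' ∈ A := ⟨flip552 hyB.1, by rw [hy', dot_flip hv, hyB.2]; rfl⟩
    obtain ⟨-, h162, -⟩ := S1581.result Spor.leechV v y' norm_vecV
      ⟨hv.1, (sq_sub_iff Spor.leechV v norm_vecV hv.1).2 hv.2⟩
      ⟨hy'A.1.1, (sq_sub_iff Spor.leechV y' norm_vecV hy'A.1.1).2 hy'A.1.2, hy'A.2⟩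
    obtain ⟨z', ⟨hz1, hz2, hz3⟩, -, hzd⟩ := Set.nonempty_of_ncard_ne_zero (by rw [h162]; norm_num)
    have hz'A : z' ∈ A := ⟨⟨hz1, (sq_sub_iff Spor.leechV z' norm_vecV hz1).1 hz2⟩, hz3⟩
    set z := Spor.leechV - z' with hz
    have hzB : z ∈ B := ⟨flip552 hz'A.1, by rw [hz, dot_flip hv, hz'A.2]; rfl⟩
    have hzd' : dotInt (y : GolayPt → ℤ) (z : GolayPt → ℤ) = 16 := by
      have e1 := dot_flip (x := z') hyB.1
      have e2 := dot_flip (x := y) hz'A.1
      rw [dotInt_comm (y' : GolayPt → ℤ)] at hzd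
      rw [← hy', dotInt_comm _ (y : GolayPt → ℤ), hzd] at e2
      rw [hz, e1]
      omega
    have hzO : z ∈ O := hclass 8 (Or.inr rfl) y hy hyB.1 hyB.2 hzB
    obtain ⟨g, hg, hgy⟩ := trans552 hyB.1 hv
    have hOy : MulAction.orbit ↥K y = O := MulAction.orbit_eq_iff.2 hy
    have hz' : g • z ∈ O := by
      have := hmove g hg y z (by rw [hOy]; exact hzO)
      rwa [hgy] at this
    have hd : dotInt (v : GolayPt → ℤ) ((g • z : leechLattice) : GolayPt → ℤ) = 16 := by
      rw [← hgy, dotInt_smul]; exact hzd'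
    exact hnA ⟨_, hz', hOsub v hv hz', hd⟩
  have hAO : A ⊆ O ∧ B ⊆ O := by
    have hA' : ∃ y ∈ O, y ∈ A := by
      rcases hmeet with h | h
      · exact h
      · exact by_contra fun hc => hnotB ⟨h, hc⟩
    have hB' : ∃ y ∈ O, y ∈ B := by_contra fun hc => hnotA ⟨hA', hc⟩
    obtain ⟨y, hy, hyA⟩ := hA'
    obtain ⟨z, hz, hzB⟩ := hB'
    exact ⟨hclass 16 (Or.inl rfl) y hy hyA.1 hyA.2, hclass 8 (Or.inr rfl) z hz hzB.1 hzB.2⟩
  -- divisibility forces everything
  let X := ↥(MulAction.orbit ↥stabV3 v)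
  have hX : MulAction.orbit ↥stabV3 v = pts552 := by
    refine Set.Subset.antisymm ?_ fun x hx => ?_
    · rintro _ ⟨⟨g, hg⟩, rfl⟩; exact smul_mem552 hg hv
    · obtain ⟨g, hg, e⟩ := trans552 hv hx; exact ⟨⟨g, hg⟩, e⟩
  let x0 : X := ⟨v, MulAction.mem_orbit_self _⟩
  have : Finite X := (finite_orbit stabV3 v).to_subtype
  have hdvd : O.ncard ∣ 552 := by
    have himg : Subtype.val '' MulAction.orbit ↥N x0 = O := by
      ext w
      constructor
      · rintro ⟨_, ⟨⟨m, hm⟩, rfl⟩, rfl⟩; exact ⟨⟨(m : ↥Co0), ⟨m, hm, rfl⟩⟩, rfl⟩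
      · rintro ⟨⟨_, ⟨m, hm, rfl⟩⟩, rfl⟩; exact ⟨_, ⟨⟨m, hm⟩, rfl⟩, rfl⟩
    rw [← himg, Set.ncard_image_of_injective _ Subtype.val_injective, ← ncard_pts552, ← hX,
      ← Nat.card_coe_set_eq (MulAction.orbit ↥stabV3 v)]
    exact ncard_orbit_dvd N x0
  have hge : 551 ≤ O.ncard := by
    have hnv : v ∉ A ∪ B := by
      have : dotInt (v : GolayPt → ℤ) (v : GolayPt → ℤ) = 32 := (dot_self _).trans hv.1
      rintro (h | h) <;> have := h.2 <;> omega
    have := Set.ncard_le_ncard (Set.insert_subset hv' (Set.union_subset hAO.1 hAO.2))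
      (hfin.subset (hOsub v hv))
    rw [Set.ncard_insert_of_notMem hnv ((hfin.subset fun x h => h.1).union
        (hfin.subset fun x h => h.1)),
      Set.ncard_union_eq (Set.disjoint_left.2 fun x a b => by have := a.2; have := b.2; omega)
        (hfin.subset fun x h => h.1) (hfin.subset fun x h => h.1), cA, cB] at this
    exact this
  refine Set.eq_of_subset_of_ncard_le (hOsub v hv) ?_ hfin
  rw [ncard_pts552]
  obtain ⟨k, hk⟩ := hdvd
  rcases k with _ | _ | k
  · omega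
  · omega
  · nlinarith

/-- a characteristic subgroup in a group of order 552 with a Sylow 23 -/
theorem char_552 {N : Type*} [Group N] (h : Nat.card N = 552) :
    ∃ P : Subgroup N, P.Characteristic ∧ P ≠ ⊥ ∧ Nat.card P ≤ 24 := by
  have : Finite N := Nat.finite_of_card_ne_zero (by rw [h]; norm_num)
  have : Fact (Nat.Prime 23) := ⟨by norm_num⟩
  obtain ⟨P⟩ : Nonempty (Sylow 23 N) := inferInstance
  have hm0 := (P : Subgroup N).card_mul_index
  have hP : Nat.card P = 23 := by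
    obtain ⟨k, hk⟩ := P.isPGroup'.exists_card_eq
    have hnd := P.not_dvd_index
    rw [h, hk] at hm0
    rcases k with _ | _ | k
    · exfalso
      rw [pow_zero, one_mul] at hm0
      exact hnd (hm0 ▸ by norm_num)
    · simpa using hk
    · exfalso
      have : (23 : ℕ) ^ 2 ∣ 552 := ⟨23 ^ k * (P : Subgroup N).index, by rw [← hm0]; ring⟩
      norm_num at this
  have hidx : (P : Subgroup N).index = 24 := by rw [h, hP] at hm0; omega
  have hd := P.card_dvd_index
  rw [hidx] at hd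
  have hm := card_sylow_modEq_one 23 N
  have hk : Nat.card (Sylow 23 N) = 1 ∨ Nat.card (Sylow 23 N) = 24 := by
    have := Nat.le_of_dvd (by norm_num) hd
    unfold Nat.ModEq at hm
    omega
  rcases hk with hk | hk
  · have : Subsingleton (Sylow 23 N) := (Nat.card_eq_one_iff_unique.1 hk).1
    refine ⟨P, P.characteristic_of_subsingleton, fun e => ?_, by rw [hP]; norm_num⟩
    rw [e, Subgroup.card_bot] at hP
    norm_num at hP
  have heq : Subgroup.normalizer ((P : Subgroup N) : Set N) = P := by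
    refine (Subgroup.eq_of_le_of_card_ge Subgroup.le_normalizer ?_).symm
    have a := (Subgroup.normalizer ((P : Subgroup N) : Set N)).card_mul_index
    have e : Nat.card (Sylow 23 N) =
        (Subgroup.normalizer ((P : Subgroup N) : Set N)).index := P.card_eq_index_normalizer
    rw [hk] at e
    rw [← e, h] at a
    rw [hP]
    omega
  have hle : Subgroup.normalizer ((P : Subgroup N) : Set N) ≤
      Subgroup.centralizer ((P : Subgroup N) : Set N) := by
    rw [heq]
    intro a ha b hb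
    have : IsCyclic P := isCyclic_of_prime_card hP
    exact congrArg Subtype.val
      ((IsCyclic.isMulCommutative (α := P)).is_comm.comm (⟨b, hb⟩ : P) ⟨a, ha⟩)
  have hK := MonoidHom.ker_transferSylow_isComplement' P hle
  set K := (MonoidHom.transferSylow P hle).ker
  have hKc : Nat.card K = 24 := by
    have := hK.card_mul_card
    rw [hP, h] at this
    omega
  have hKi : K.index = 23 := by
    have := K.card_mul_index
    rw [hKc, h] at this
    omega
  refine ⟨K, Subgroup.characteristic_iff_map_le.2 fun φ => ?_, fun e => ?_, hKc.le⟩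
  · rintro _ ⟨x, hx, rfl⟩
    have h1 : orderOf (QuotientGroup.mk' K (φ x)) ∣ 24 := by
      refine (orderOf_map_dvd _ _).trans ?_
      show orderOf (φ x) ∣ 24
      rw [MulEquiv.orderOf_eq, ← hKc]
      exact Subgroup.orderOf_dvd_natCard K hx
    have h2 : orderOf (QuotientGroup.mk' K (φ x)) ∣ 23 := (orderOf_dvd_natCard _).trans (dvd_of_eq hKi)
    have h3 := Nat.dvd_gcd h1 h2
    rw [show Nat.gcd 24 23 = 1 from rfl, Nat.dvd_one, orderOf_eq_one_iff] at h3
    exact (QuotientGroup.eq_one_iff _).1 h3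
  · rw [e, Subgroup.card_bot] at hKc
    norm_num at hKc

theorem simple_co3 : IsCo3 ↥stabV3 := by
  classical
  have := finite_co0
  obtain ⟨v, hv⟩ : pts552.Nonempty := Set.nonempty_of_ncard_ne_zero (by rw [ncard_pts552]; norm_num)
  obtain ⟨hs, hsc⟩ := point_stab552 hv
  have hX : MulAction.orbit ↥stabV3 v = pts552 := by
    refine Set.Subset.antisymm ?_ fun x hx => ?_
    · rintro _ ⟨⟨g, hg⟩, rfl⟩; exact smul_mem552 hg hv
    · obtain ⟨g, hg, e⟩ := trans552 hv hx; exact ⟨⟨g, hg⟩, e⟩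
  have hcard : Nat.card ↥stabV3 = 495766656000 := by
    rw [← (MulAction.stabilizer ↥stabV3 v).index_mul_card, MulAction.index_stabilizer, hX,
      ncard_pts552]
    have e : MulAction.stabilizer ↥stabV3 v =
        (stabV3 ⊓ MulAction.stabilizer ↥Co0 v).subgroupOf stabV3 := by
      ext g
      exact ⟨fun h => ⟨g.2, h⟩, fun h => h.2⟩
    have e2 : Nat.card ↥((stabV3 ⊓ MulAction.stabilizer ↥Co0 v).subgroupOf stabV3) =
        Nat.card ↥(stabV3 ⊓ MulAction.stabilizer ↥Co0 v) :=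
      Nat.card_congr (Subgroup.subgroupOfEquivOfLe inf_le_left).toEquiv
    rw [e, e2, hsc]
  refine ⟨?_, hcard⟩
  have : Nontrivial ↥stabV3 := Finite.one_lt_card_iff_nontrivial.1 (by rw [hcard]; norm_num)
  refine ⟨fun N hN => ?_⟩
  by_cases hne : N = ⊥
  · exact Or.inl hne
  right
  have hO := orbit552 N hne v hv
  set K := N.map stabV3.subtype with hK
  have hKn : ∀ g ∈ stabV3, ∀ x ∈ K, g * x * g⁻¹ ∈ K := by
    rintro g hg x ⟨m, hm, rfl⟩
    exact ⟨⟨g, hg⟩ * m * ⟨g, hg⟩⁻¹, hN.conj_mem m hm _, rfl⟩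
  have hKle : K ≤ stabV3 := by rintro _ ⟨m, -, rfl⟩; exact m.2
  rcases hs.eq_bot_or_eq_top_of_normal (K.subgroupOf (stabV3 ⊓ MulAction.stabilizer ↥Co0 v))
      ⟨fun a ha g => hKn _ g.2.1 _ ha⟩ with h | h
  · exfalso
    have hfree : ∀ m ∈ N, (m : ↥Co0) • v = v → m = 1 := fun m hm e => by
      have : (⟨(m : ↥Co0), m.2, e⟩ : ↥(stabV3 ⊓ MulAction.stabilizer ↥Co0 v)) ∈
          K.subgroupOf (stabV3 ⊓ MulAction.stabilizer ↥Co0 v) := ⟨m, hm, rfl⟩
      rw [h, Subgroup.mem_bot] at this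
      exact Subtype.ext (congrArg (fun z : ↥(stabV3 ⊓ MulAction.stabilizer ↥Co0 v) => (z : ↥Co0)) this)
    have hcN : Nat.card N = 552 := by
      rw [← ncard_pts552, ← hO, ← Nat.card_coe_set_eq]
      refine Nat.card_congr (Equiv.ofBijective
        (fun m : N => (⟨((m : ↥stabV3) : ↥Co0) • v, ⟨⟨_, ⟨(m : ↥stabV3), m.2, rfl⟩⟩, rfl⟩⟩ :
          ↥(MulAction.orbit ↥K v))) ⟨fun a b e => ?_, ?_⟩)
      · have e' : ((a : ↥stabV3) : ↥Co0) • v = ((b : ↥stabV3) : ↥Co0) • v := congrArg Subtype.val e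
        refine Subtype.ext (inv_mul_eq_one.1 (hfree _ (mul_mem (inv_mem b.2) a.2) ?_)).symm
        show (((b : ↥stabV3) : ↥Co0)⁻¹ * ((a : ↥stabV3) : ↥Co0)) • v = v
        rw [mul_smul, inv_smul_eq_iff]; exact e'
      · rintro ⟨w, ⟨⟨_, ⟨m, hm, rfl⟩⟩, rfl⟩⟩
        exact ⟨⟨m, hm⟩, rfl⟩
    obtain ⟨P, hP, hP0, hPc⟩ := char_552 hcN
    set P' := P.map N.subtype with hP'
    have hPn : P'.Normal := inferInstance
    have hP'0 : P' ≠ ⊥ := fun e =>
      hP0 ((Subgroup.map_eq_bot_iff_of_injective _ N.subtype_injective).1 e)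
    have hO' := orbit552 P' hP'0 v hv
    have h1 : (MulAction.orbit ↥(P'.map stabV3.subtype) v).ncard ≤ Nat.card P := by
      rw [← Nat.card_coe_set_eq]
      refine Nat.card_le_card_of_surjective (fun p : P =>
        (⟨(((p : N) : ↥stabV3) : ↥Co0) • v,
          ⟨⟨_, ⟨((p : N) : ↥stabV3), ⟨(p : N), p.2, rfl⟩, rfl⟩⟩, rfl⟩⟩ :
          ↥(MulAction.orbit ↥(P'.map stabV3.subtype) v))) ?_
      rintro ⟨w, ⟨⟨_, ⟨m, ⟨q, hq, rfl⟩, rfl⟩⟩, rfl⟩⟩
      exact ⟨⟨q, hq⟩, rfl⟩
    rw [hO', ncard_pts552] at h1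
    omega
  · refine (Subgroup.eq_top_iff' N).2 fun g => ?_
    obtain ⟨⟨k, hk⟩, e⟩ : (g : ↥Co0) • v ∈ MulAction.orbit ↥K v := by
      rw [hO]; exact smul_mem552 g.2 hv
    have hmem : (⟨k⁻¹ * (g : ↥Co0), stabV3.mul_mem (stabV3.inv_mem (hKle hk)) g.2, (by
        show (k⁻¹ * (g : ↥Co0)) • v = v
        rw [mul_smul, inv_smul_eq_iff]; exact e.symm)⟩ :
        ↥(stabV3 ⊓ MulAction.stabilizer ↥Co0 v)) ∈
          K.subgroupOf (stabV3 ⊓ MulAction.stabilizer ↥Co0 v) := h ▸ Subgroup.mem_top _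
    obtain ⟨m, hm, hme⟩ : (g : ↥Co0) ∈ K := by
      have hmem' : k⁻¹ * (g : ↥Co0) ∈ K := hmem
      have := mul_mem hk hmem'
      rwa [mul_inv_cancel_left] at this
    rwa [show g = m from Subtype.ext hme.symm]

end Cfsg.Agent.Leech
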