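import Mathlib
import Cfsg.Prelude.Def_Spor_Mathieu
import Cfsg.Agent.Leech.Code
import Cfsg.Agent.Leech.AbstractCode
import Cfsg.Agent.Leech.Orbits
import Cfsg.Agent.Leech.OrbitCert
import Cfsg.Agent.Compute.MathieuActions

/-! Stabilisers of code words fix no non-zero class of words modulo the code. -/

set_option autoImplicit false

namespace Cfsg.Agent.Leech
open Cfsg
open scoped Pointwise

/-- certificate that the code is self-dual -/
def dualMask : Fin 12 → ℕ := ![2283, 2366, 2711, 3526, 871, 1741, 3481, 986, 1972, 3944, 1595, 3189]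

/-- the positions outside the pivots -/
def copiv (j : Fin 12) : GolayPt := ptOf (12 + j.val)

theorem dual_check : ∀ (j i : Fin 12),
    (∑ k : Fin 12, if (dualMask j).testBit k.val then row k (copiv i) else 0) =
      if j = i then 1 else 0 := by decide +kernel

theorem copiv_cover : ∀ p : GolayPt, (∃ i, p = piv i) ∨ ∃ j, p = copiv j := by decide +kernel

theorem self_dual {w : GolayPt → ZMod 2} (h : ∀ i, ∑ p, row i p * w p = 0) : w ∈ golayCode := by
  classical
  have hd : dec w ∈ golayCode := by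
    rw [dec_eq]
    exact Submodule.sum_mem _ fun i _ => Submodule.smul_mem _ _ (row_mem i)
  set u := w - dec w with hu
  have h1 : ∀ i, ∑ p, row i p * u p = 0 := fun i => by
    simp only [hu, Pi.sub_apply, mul_sub, Finset.sum_sub_distrib, h i, dot_eq_zero (row_mem i) hd,
      sub_zero]
  have h2 : ∀ i, u (piv i) = 0 := fun i => by
    rw [hu, Pi.sub_apply, dec_eq, Finset.sum_apply]
    simp only [Pi.smul_apply, smul_eq_mul, row_piv, mul_ite, mul_one, mul_zero,
      Finset.sum_ite_eq', Finset.mem_univ, if_true, sub_self]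
  have h3 : ∀ j, u (copiv j) = 0 := by
    intro j
    set a : GolayPt → ZMod 2 := fun p =>
      ∑ k : Fin 12, if (dualMask j).testBit k.val then row k p else 0 with ha
    have e : ∑ p, a p * u p = 0 := by
      simp only [ha, Finset.sum_mul]
      rw [Finset.sum_comm]
      refine Finset.sum_eq_zero fun k _ => ?_
      split_ifs
      · exact h1 k
      · simp
    rw [Finset.sum_eq_single (copiv j) ?_ (by simp)] at e
    · have e1 : a (copiv j) = 1 := (dual_check j j).trans (if_pos rfl)
      rwa [e1, one_mul] at e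
    · intro p _ hp
      rcases copiv_cover p with ⟨i, rfl⟩ | ⟨i, rfl⟩
      · rw [h2 i, mul_zero]
      · show (∑ k : Fin 12, if (dualMask j).testBit k.val then row k (copiv i) else 0) * _ = 0
        rw [dual_check j i, if_neg fun e => hp (by rw [e]), zero_mul]
  have h0 : u = 0 := funext fun p => by
    rcases copiv_cover p with ⟨i, rfl⟩ | ⟨j, rfl⟩
    exacts [h2 i, h3 j]
  rw [hu, sub_eq_zero] at h0
  rw [h0]; exact hd

/-- the commutator sum of a certificate entry -/
def commSum (σ : Fin 2 → Equiv.Perm GolayPt) (l : List (Fin 2 × Fin 12)) (p : GolayPt) : ZMod 2 :=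
  (l.map fun kj => row kj.2 (σ kj.1 p) + row kj.2 p).sum

/-- the word with enough automorphisms: any fixed class is zero -/
theorem fixed_class_zero (σ : Fin 2 → Equiv.Perm GolayPt) (C : Fin 12 → List (Fin 2 × Fin 12))
    (hC : ∀ i p, row i p = commSum σ (C i) p) (w : GolayPt → ZMod 2)
    (hw : ∀ k, (fun p => w ((σ k).symm p)) - w ∈ golayCode) : w ∈ golayCode := by
  refine self_dual fun i => ?_
  simp only [hC i, commSum]
  induction C i with
  | nil => simp
  | cons kj l ih =>
    simp only [List.map_cons, List.sum_cons, add_mul, Finset.sum_add_distrib]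
    rw [ih, add_zero]
    have e := dot_eq_zero (row_mem kj.2) (hw kj.1)
    simp only [Pi.sub_apply, mul_sub, Finset.sum_sub_distrib] at e
    rw [← Fintype.sum_equiv (σ kj.1) (fun p => row kj.2 (σ kj.1 p) * w p)
      (fun p => row kj.2 p * w ((σ kj.1).symm p)) (fun p => by simp)] at e
    rw [sub_eq_zero.1 e, CharTwo.add_self_eq_zero]

/-- a permutation fixing the word -/
def octP0 : Equiv.Perm GolayPt := permOfLists [7, 3, 17, 1, 2, 0, 11, 12, 14, 20, 8, 5, 6, 23, 13, 18, 16, 4, 19, 15, 9, 10, 22, 21] [5, 3, 4, 1, 17, 11, 12, 0, 10, 20, 21, 6, 7, 14, 8, 19, 16, 2, 15, 18, 9, 23, 22, 13] (by decide +kernel) (by decide +kernel)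

theorem octP0_mem : octP0 ∈ M24 := mem_M24_of_rows (by decide +kernel)

theorem octP0_fix : ∀ p, bitWord 6379 (octP0 p) = bitWord 6379 p := by decide +kernel

/-- a permutation fixing the word -/
def octP1 : Equiv.Perm GolayPt := permOfLists [0, 12, 22, 6, 20, 1, 7, 5, 4, 19, 8, 3, 11, 13, 14, 21, 18, 10, 17, 23, 16, 9, 15, 2] [0, 5, 23, 11, 8, 7, 3, 6, 10, 21, 17, 12, 1, 13, 14, 22, 20, 18, 16, 9, 4, 15, 2, 19] (by decide +kernel) (by decide +kernel)

theorem octP1_mem : octP1 ∈ M24 := mem_M24_of_rows (by decide +kernel)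

theorem octP1_fix : ∀ p, bitWord 6379 (octP1 p) = bitWord 6379 p := by decide +kernel


/-- a permutation fixing the word -/
def dodP0 : Equiv.Perm GolayPt := permOfLists [11, 9, 1, 4, 5, 13, 6, 3, 12, 14, 10, 16, 0, 7, 19, 15, 8, 17, 20, 2, 21, 23, 18, 22] [12, 2, 19, 7, 3, 4, 6, 13, 16, 1, 10, 0, 8, 5, 9, 15, 11, 17, 22, 14, 18, 20, 23, 21] (by decide +kernel) (by decide +kernel)

theorem dodP0_mem : dodP0 ∈ M24 := mem_M24_of_rows (by decide +kernel)

theorem dodP0_fix : ∀ p, bitWord 681662 (dodP0 p) = bitWord 681662 p := by decide +kernel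

/-- a permutation fixing the word -/
def dodP1 : Equiv.Perm GolayPt := permOfLists [15, 10, 2, 5, 3, 14, 0, 13, 11, 17, 9, 22, 23, 7, 1, 8, 18, 4, 12, 19, 21, 6, 20, 16] [6, 14, 2, 4, 17, 3, 21, 13, 15, 10, 1, 8, 18, 7, 5, 0, 23, 9, 16, 19, 22, 20, 11, 12] (by decide +kernel) (by decide +kernel)

theorem dodP1_mem : dodP1 ∈ M24 := mem_M24_of_rows (by decide +kernel)

theorem dodP1_fix : ∀ p, bitWord 681662 (dodP1 p) = bitWord 681662 p := by decide +kernel


/-- which commutators add up to each basis word -/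
def octCert : Fin 12 → List (Fin 2 × Fin 12) :=
  ![[(0, 0), (0, 2), (0, 6), (0, 7), (1, 0)], [(0, 1), (0, 3), (0, 6), (1, 1)], [(0, 1), (0, 3), (0, 6), (1, 0), (1, 2)], [(0, 0), (0, 1), (0, 2), (0, 5), (0, 6), (0, 7), (1, 5)], [(0, 1), (0, 3), (1, 2)], [(0, 1), (0, 2), (0, 3), (1, 1), (1, 2), (1, 5)], [(0, 0), (0, 1), (0, 2), (0, 3), (0, 5), (0, 7), (1, 1), (1, 5)], [(0, 0), (0, 5), (0, 6), (1, 0), (1, 1), (1, 2), (1, 5)], [(0, 2), (0, 6), (0, 8), (1, 0), (1, 2)], [(0, 2), (0, 6), (1, 0)], [(1, 2)], [(0, 1), (0, 3), (0, 6)]]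


/-- which commutators add up to each basis word -/
def dodCert : Fin 12 → List (Fin 2 × Fin 12) :=
  ![[(0, 3), (0, 8), (1, 3), (1, 5)], [(0, 3), (0, 4), (0, 5), (0, 6), (0, 8), (1, 0), (1, 3), (1, 5)], [(0, 2), (0, 4), (0, 5), (0, 8), (1, 0)], [(0, 4), (0, 5), (0, 6), (1, 3), (1, 5)], [(0, 4), (0, 5), (0, 6)], [(0, 5), (0, 6), (0, 8)], [(0, 2), (0, 4), (0, 6), (0, 8), (1, 0), (1, 5)], [(0, 2), (0, 4), (0, 5), (1, 0)], [(0, 2), (0, 3), (0, 4), (0, 5), (0, 6), (1, 0), (1, 3), (1, 5)], [(0, 1), (0, 2), (0, 3), (0, 8), (1, 3), (1, 5)], [(0, 3), (0, 6), (1, 1), (1, 3), (1, 5)], [(0, 0), (0, 2), (0, 3), (0, 4), (0, 5), (0, 6), (1, 0), (1, 3), (1, 5)]]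

theorem octCert_ok : ∀ i p, row i p = commSum ![octP0, octP1] (octCert i) p := by decide +kernel

theorem dodCert_ok : ∀ i p, row i p = commSum ![dodP0, dodP1] (dodCert i) p := by decide +kernel

theorem octWord_facts : bitWord 6379 ∈ golayCode ∧ hammingNorm (bitWord 6379) = 8 ∧
    bitWord 681662 ∈ golayCode ∧ hammingNorm (bitWord 681662) = 12 := by
  refine ⟨(mem_iff _).2 ?_, ?_, (mem_iff _).2 ?_, ?_⟩ <;> decide +kernel

theorem weight_compl {u : GolayPt → ZMod 2} : hammingNorm (u + 1) + hammingNorm u = 24 := by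
  classical
  rw [hammingNorm_eq_card, hammingNorm_eq_card,
    show support₂ (u + 1) = (support₂ u)ᶜ from Finset.ext fun i => by
      rw [Finset.mem_compl, mem_support₂, mem_support₂, Pi.add_apply, Pi.one_apply]
      rcases zmod2_cases (u i) with e | e <;> rw [e] <;> simp [CharTwo.add_self_eq_zero],
    Finset.card_compl, card_golayPt]
  have := Finset.card_le_univ (support₂ u)
  rw [card_golayPt] at this
  omega

/-- stabilisers of code words fix no non-zero class -/
theorem codeword_stab_moves (u : GolayPt → ZMod 2) (hu : u ∈ golayCode) (w : GolayPt → ZMod 2)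
    (hw : w ∉ golayCode) :
    ∃ σ ∈ M24, (fun p => u (σ.symm p)) = u ∧ (fun p => w (σ.symm p)) - w ∉ golayCode := by
  classical
  by_contra hall
  push Not at hall
  -- transport a standard word
  have key : ∀ (τ : Equiv.Perm GolayPt), τ ∈ M24 → ∀ (σ : Fin 2 → Equiv.Perm GolayPt)
      (C : Fin 12 → List (Fin 2 × Fin 12)), (∀ k, σ k ∈ M24) →
      (∀ i p, row i p = commSum σ (C i) p) → (∀ k p, u (τ (σ k p)) = u (τ p)) → False := by
    intro τ hτ σ C hσ hC hfix
    apply hw
    have hwt : w ∘ τ ∈ golayCode := fixed_class_zero σ C hC (w ∘ τ) fun k => by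
      have h := hall (τ * σ k * τ⁻¹) (mul_mem (mul_mem hτ (hσ k)) (inv_mem hτ)) (funext fun p => by
        have := hfix k ((σ k).symm (τ.symm p))
        simp only [Equiv.apply_symm_apply] at this
        rw [this]
        rfl)
      have h' := comp_mem_of_M24 hτ h
      convert h' using 1
      funext p
      simp [Equiv.Perm.mul_def, Equiv.Perm.inv_def]
    have := comp_mem_of_M24 (inv_mem hτ) hwt
    convert this using 1
    funext p
    simp
  obtain ⟨o1, o2, d1, d2⟩ := octWord_facts
  have octCase : ∀ v : GolayPt → ZMod 2, v ∈ golayCode → hammingNorm v = 8 →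
      (∀ p q, v p = v q → u p = u q) → False := by
    intro v hv h8 hvu
    have m1 : support₂ v ∈ octads := ⟨⟨v, hv, rfl⟩, (hammingNorm_eq_card v).symm.trans h8⟩
    have m2 : support₂ (bitWord 6379) ∈ octads :=
      ⟨⟨_, o1, rfl⟩, (hammingNorm_eq_card _).symm.trans o2⟩
    obtain ⟨g, hg, e1⟩ := Compute.exists_move_octad m1
    obtain ⟨h, hh, e2⟩ := Compute.exists_move_octad m2
    refine key (g⁻¹ * h) (mul_mem (inv_mem hg) hh) ![octP0, octP1] octCert
      (Fin.forall_fin_two.2 ⟨octP0_mem, octP1_mem⟩) octCert_ok ?_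
    have hτ : v ∘ (g⁻¹ * h : Equiv.Perm GolayPt) = bitWord 6379 := by
      refine support₂_injective ?_
      have := smul_support₂ (h⁻¹ * g) v
      rw [mul_inv_rev, inv_inv] at this
      rw [← this, mul_smul, e1, ← e2, inv_smul_smul]
    intro k p
    apply hvu
    have e := fun q => congrFun hτ q
    simp only [Function.comp_apply] at e
    rw [e, e]
    revert k p
    exact Fin.forall_fin_two.2 ⟨octP0_fix, octP1_fix⟩
  rcases weights hu with h | h | h | h | h
  · have h0 := hammingNorm_eq_zero.1 h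
    exact octCase _ o1 o2 (fun p q _ => by rw [h0]; rfl)
  · exact octCase u hu h (fun p q e => e)
  · have m1 : support₂ u ∈ dodecads := ⟨⟨u, hu, rfl⟩, (hammingNorm_eq_card u).symm.trans h⟩
    have m2 : support₂ (bitWord 681662) ∈ dodecads :=
      ⟨⟨_, d1, rfl⟩, (hammingNorm_eq_card _).symm.trans d2⟩
    obtain ⟨g, hg, e1⟩ := Compute.exists_move_dodecad m1
    obtain ⟨h', hh, e2⟩ := Compute.exists_move_dodecad m2
    refine key (g⁻¹ * h') (mul_mem (inv_mem hg) hh) ![dodP0, dodP1] dodCert
      (Fin.forall_fin_two.2 ⟨dodP0_mem, dodP1_mem⟩) dodCert_ok ?_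
    have hτ : u ∘ (g⁻¹ * h' : Equiv.Perm GolayPt) = bitWord 681662 := by
      refine support₂_injective ?_
      have := smul_support₂ (h'⁻¹ * g) u
      rw [mul_inv_rev, inv_inv] at this
      rw [← this, mul_smul, e1, ← e2, inv_smul_smul]
    intro k p
    have e := fun q => congrFun hτ q
    simp only [Function.comp_apply] at e
    rw [e, e]
    revert k p
    exact Fin.forall_fin_two.2 ⟨dodP0_fix, dodP1_fix⟩
  · exact octCase (u + 1) (add_mem hu one_mem) (by have := weight_compl (u := u); omega)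
      (fun p q e => by simpa using e)
  · have h1 : u = 1 := by
      have h' : hammingNorm (u + 1) = 0 := by have := weight_compl (u := u); omega
      exact funext fun p => CharTwo.add_eq_zero.1 (congrFun (hammingNorm_eq_zero.1 h') p)
    exact octCase _ o1 o2 (fun p q _ => by rw [h1]; rfl)

end Cfsg.Agent.Leech
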