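import Mathlib
import Cfsg.Prelude.Def_Sporadic_a
import Cfsg.Prelude.Def_Spor_Conway
import Cfsg.Agent.Leech.OrbitCert
import Cfsg.Agent.Leech.PairsEight
import Cfsg.Agent.Leech.Orbits2025
import Cfsg.Agent.Leech.HSGens

/-! An orbit of the stabiliser of the standard pair of type 48, 32, assembled from orbits of
the two point stabiliser in the code's group. -/

set_option autoImplicit false

namespace Cfsg.Agent.Leech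
open Cfsg

/-- a representative -/
def hsRepA0 : leechLattice :=
  ⟨ofL [-3, -1, -1, -1, -1, -1, -1, -1, -1, -1, -1, -1, 1, -1, 1, -1, 1, 1, 1, -1, -1, -1, 1, 1],
    mem_of_parity _ 1 (by decide +kernel) (by decide +kernel) (by decide +kernel)⟩

theorem hsRepA0_facts : sqNorm (hsRepA0 : GolayPt → ℤ) = 32 ∧
    dotInt (hV : GolayPt → ℤ) (hsRepA0 : GolayPt → ℤ) = -16 ∧
    dotInt (hT : GolayPt → ℤ) (hsRepA0 : GolayPt → ℤ) = -8 ∧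
    dotInt Spor.vecU (hsRepA0 : GolayPt → ℤ) = -16 := by decide +kernel

theorem hsRepA0_orbit : 176 ≤ (MulAction.orbit ↥stab1634 hsRepA0).ncard :=
  le_ncard_orbit [mg0, mg1] stab1634 gens_mem hsRepA0 [-3, -1, -1, -1, -1, -1, -1, -1, -1, -1, -1, -1, 1, -1, 1, -1, 1, 1, 1, -1, -1, -1, 1, 1] (by decide +kernel)
    (unpack 3 344 0x1968ed1c266169242c4e169d35ff528d2d17ffabd88aee948a1c7e0e59e80b7ab2b2595491e2d6839fdd74f01680a62f47ae8f6fa750103bcca009157452de1181df6631a)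
    [monF [0, 1, 4, 8, 7, 17, 23, 16, 12, 6, 18, 20, 21, 11, 10, 15, 9, 19, 5, 22, 3, 13, 14, 2] 0, monF [0, 1, 22, 17, 12, 15, 13, 19, 6, 7, 2, 18, 23, 11, 4, 8, 9, 14, 5, 10, 3, 21, 16, 20] 0] rfl 3593 176 (by decide +kernel)

/-- a representative -/
def hsRepA1 : leechLattice :=
  ⟨ofL [-2, 0, -2, 0, 0, -2, 0, 0, 0, -2, -2, 0, 0, 0, -2, 0, 0, 0, 0, -2, 0, -2, 0, 0],
    mem_of_parity _ 0 (by decide +kernel) (by decide +kernel) (by decide +kernel)⟩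

theorem hsRepA1_facts : sqNorm (hsRepA1 : GolayPt → ℤ) = 32 ∧
    dotInt (hV : GolayPt → ℤ) (hsRepA1 : GolayPt → ℤ) = -16 ∧
    dotInt (hT : GolayPt → ℤ) (hsRepA1 : GolayPt → ℤ) = -8 ∧
    dotInt Spor.vecU (hsRepA1 : GolayPt → ℤ) = -8 := by decide +kernel

theorem hsRepA1_orbit : 176 ≤ (MulAction.orbit ↥stab1634 hsRepA1).ncard :=
  le_ncard_orbit [mg0, mg1] stab1634 gens_mem hsRepA1 [-2, 0, -2, 0, 0, -2, 0, 0, 0, -2, -2, 0, 0, 0, -2, 0, 0, 0, 0, -2, 0, -2, 0, 0] (by decide +kernel)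
    (unpack 3 345 0x4b9ceb1cab8f17f5d21c6147f4f4a2acbef8ab8ae0b138eb3612e82eb687a5bb0f057a038d970049122b7ec2a4be7cfab8fd912c6f2d54ba7b4031845e349cf11382d1176)
    [monF [0, 1, 4, 8, 7, 17, 23, 16, 12, 6, 18, 20, 21, 11, 10, 15, 9, 19, 5, 22, 3, 13, 14, 2] 0, monF [0, 1, 22, 17, 12, 15, 13, 19, 6, 7, 2, 18, 23, 11, 4, 8, 9, 14, 5, 10, 3, 21, 16, 20] 0] rfl 3593 176 (by decide +kernel)

theorem hsRepA1_mem : hsRepA1 ∈ MulAction.orbit ↥hsGroup hsRepA0 :=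
  mem_hs_orbit_of_walk hsRepA0 hsRepA1 [-3, -1, -1, -1, -1, -1, -1, -1, -1, -1, -1, -1, 1, -1, 1, -1, 1, 1, 1, -1, -1, -1, 1, 1] (by decide +kernel) [3]
    [monF [0, 1, 4, 8, 7, 17, 23, 16, 12, 6, 18, 20, 21, 11, 10, 15, 9, 19, 5, 22, 3, 13, 14, 2] 0, monF [0, 1, 22, 17, 12, 15, 13, 19, 6, 7, 2, 18, 23, 11, 4, 8, 9, 14, 5, 10, 3, 21, 16, 20] 0, ((monF [0, 1, 2, 3, 4, 5, 6, 7, 8, 9, 10, 11, 12, 13, 14, 15, 16, 17, 18, 19, 20, 21, 22, 23] 14908366) ∘ ((xiF [1, 1, 2, 3, 3, 3, 4, 4, 0, 1, 3, 5, 5, 4, 0, 4, 5, 2, 2, 0, 5, 2, 1, 0]) ∘ ((monF [0, 19, 12, 3, 11, 7, 16, 5, 14, 9, 21, 4, 2, 13, 8, 18, 6, 17, 15, 1, 20, 10, 22, 23] 0) ∘ ((xiF [1, 1, 2, 3, 3, 3, 4, 4, 0, 1, 3, 5, 5, 4, 0, 4, 5, 2, 2, 0, 5, 2, 1, 0]) ∘ (monF [0, 1, 2, 3, 4, 5, 6, 7, 8, 9, 10, 11, 12, 13, 14, 15, 16, 17, 18, 19, 20, 21, 22, 23] 14908366)))))] rfl (by decide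 +kernel)

theorem hsOrbitA : 352 ≤ (MulAction.orbit ↥hsGroup hsRepA0).ncard :=
  le_orbit_two hsRepA0 hsRepA1 hsRepA1_mem 176 176
    hsRepA0_orbit hsRepA1_orbit hsRepA0_facts.2.2.2 hsRepA1_facts.2.2.2 (by norm_num)
end Cfsg.Agent.Leech
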