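import Mathlib
import Cfsg.Prelude.Def_Sporadic_a
import Cfsg.Prelude.Def_Spor_Conway
import Cfsg.Agent.Leech.OrbitCert
import Cfsg.Agent.Leech.PairsEight
import Cfsg.Agent.Leech.Orbits2025
import Cfsg.Agent.Leech.HSGens

/-! An orbit of the stabiliser of the standard pair of type 48, 32, assembled from orbits of
the two point stabiliser in the code's group. -/

set_option autoImplicit false

namespace Cfsg.Agent.Leech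
open Cfsg

/-- a representative -/
def hsRepB0 : leechLattice :=
  ⟨ofL [0, -4, 0, 0, 0, 0, 0, 0, 0, 0, 0, 0, 0, 0, 0, 0, 0, 0, 0, 0, 0, 0, 0, 4],
    mem_of_parity _ 0 (by decide +kernel) (by decide +kernel) (by decide +kernel)⟩

theorem hsRepB0_facts : sqNorm (hsRepB0 : GolayPt → ℤ) = 32 ∧
    dotInt (hV : GolayPt → ℤ) (hsRepB0 : GolayPt → ℤ) = -16 ∧
    dotInt (hT : GolayPt → ℤ) (hsRepB0 : GolayPt → ℤ) = 16 ∧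
    dotInt Spor.vecU (hsRepB0 : GolayPt → ℤ) = -16 := by decide +kernel

theorem hsRepB0_orbit : 22 ≤ (MulAction.orbit ↥stab1634 hsRepB0).ncard :=
  le_ncard_orbit [mg0, mg1] stab1634 gens_mem hsRepB0 [0, -4, 0, 0, 0, 0, 0, 0, 0, 0, 0, 0, 0, 0, 0, 0, 0, 0, 0, 0, 0, 0, 0, 4] (by decide +kernel)
    (unpack 3 38 0x10dde1ede354cd46)
    [monF [0, 1, 4, 8, 7, 17, 23, 16, 12, 6, 18, 20, 21, 11, 10, 15, 9, 19, 5, 22, 3, 13, 14, 2] 0, monF [0, 1, 22, 17, 12, 15, 13, 19, 6, 7, 2, 18, 23, 11, 4, 8, 9, 14, 5, 10, 3, 21, 16, 20] 0] rfl 443 22 (by decide +kernel)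

/-- a representative -/
def hsRepB1 : leechLattice :=
  ⟨ofL [2, -2, 0, 0, 0, 0, 0, 0, -2, -2, 0, 0, 0, 0, -2, 0, 0, 0, 0, -2, 0, 0, -2, 2],
    mem_of_parity _ 0 (by decide +kernel) (by decide +kernel) (by decide +kernel)⟩

theorem hsRepB1_facts : sqNorm (hsRepB1 : GolayPt → ℤ) = 32 ∧
    dotInt (hV : GolayPt → ℤ) (hsRepB1 : GolayPt → ℤ) = -16 ∧
    dotInt (hT : GolayPt → ℤ) (hsRepB1 : GolayPt → ℤ) = 16 ∧
    dotInt Spor.vecU (hsRepB1 : GolayPt → ℤ) = 0 := by decide +kernel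

theorem hsRepB1_orbit : 462 ≤ (MulAction.orbit ↥stab1634 hsRepB1).ncard :=
  le_ncard_orbit [mg0, mg1] stab1634 gens_mem hsRepB1 [2, -2, 0, 0, 0, 0, 0, 0, -2, -2, 0, 0, 0, 0, -2, 0, 0, 0, 0, -2, 0, 0, -2, 2] (by decide +kernel)
    (unpack 3 916 0x99e6df1d1be837c0397117825b576205359c8af2fde55fcf800ee49b658a8a30d264831f32b2b10dc1739c58bdfc85729bfe1bdf30387e8ad1a6970bcf0a220f9345ac8043808bddb476306e0576d6fabc462eed814d27321bcf73cac925768c9aeefda306c7e872d5330c1e2ce76bcd33b7fe0d1a2adbeca81e8425a471a7e3fab3c613402e7e0c43a84dc13a163bec57e1d01b208b9f4197ebd97b771fa3b11f44529323b06d125c085b29783e43136a409fd4f85)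
    [monF [0, 1, 4, 8, 7, 17, 23, 16, 12, 6, 18, 20, 21, 11, 10, 15, 9, 19, 5, 22, 3, 13, 14, 2] 0, monF [0, 1, 22, 17, 12, 15, 13, 19, 6, 7, 2, 18, 23, 11, 4, 8, 9, 14, 5, 10, 3, 21, 16, 20] 0] rfl 9973 462 (by decide +kernel)

theorem hsRepB1_mem : hsRepB1 ∈ MulAction.orbit ↥hsGroup hsRepB0 :=
  mem_hs_orbit_of_walk hsRepB0 hsRepB1 [0, -4, 0, 0, 0, 0, 0, 0, 0, 0, 0, 0, 0, 0, 0, 0, 0, 0, 0, 0, 0, 0, 0, 4] (by decide +kernel) [3]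
    [monF [0, 1, 4, 8, 7, 17, 23, 16, 12, 6, 18, 20, 21, 11, 10, 15, 9, 19, 5, 22, 3, 13, 14, 2] 0, monF [0, 1, 22, 17, 12, 15, 13, 19, 6, 7, 2, 18, 23, 11, 4, 8, 9, 14, 5, 10, 3, 21, 16, 20] 0, ((monF [0, 1, 2, 3, 4, 5, 6, 7, 8, 9, 10, 11, 12, 13, 14, 15, 16, 17, 18, 19, 20, 21, 22, 23] 14908366) ∘ ((xiF [1, 1, 2, 3, 3, 3, 4, 4, 0, 1, 3, 5, 5, 4, 0, 4, 5, 2, 2, 0, 5, 2, 1, 0]) ∘ ((monF [0, 19, 12, 3, 11, 7, 16, 5, 14, 9, 21, 4, 2, 13, 8, 18, 6, 17, 15, 1, 20, 10, 22, 23] 0) ∘ ((xiF [1, 1, 2, 3, 3, 3, 4, 4, 0, 1, 3, 5, 5, 4, 0, 4, 5, 2, 2, 0, 5, 2, 1, 0]) ∘ (monF [0, 1, 2, 3, 4, 5, 6, 7, 8, 9, 10, 11, 12, 13, 14, 15, 16, 17, 18, 19, 20, 21, 22, 23] 14908366)))))] rfl (by decide +kernel)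

/-- a representative -/
def hsRepB2 : leechLattice :=
  ⟨ofL [1, -3, 1, 1, -1, 1, 1, 1, -1, -1, -1, -1, -1, -1, -1, -1, 1, 1, 1, -1, 1, 1, -1, -1],
    mem_of_parity _ 1 (by decide +kernel) (by decide +kernel) (by decide +kernel)⟩

theorem hsRepB2_facts : sqNorm (hsRepB2 : GolayPt → ℤ) = 32 ∧
    dotInt (hV : GolayPt → ℤ) (hsRepB2 : GolayPt → ℤ) = -16 ∧
    dotInt (hT : GolayPt → ℤ) (hsRepB2 : GolayPt → ℤ) = 16 ∧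
    dotInt Spor.vecU (hsRepB2 : GolayPt → ℤ) = -8 := by decide +kernel

theorem hsRepB2_orbit : 616 ≤ (MulAction.orbit ↥stab1634 hsRepB2).ncard :=
  le_ncard_orbit [mg0, mg1] stab1634 gens_mem hsRepB2 [1, -3, 1, 1, -1, 1, 1, 1, -1, -1, -1, -1, -1, -1, -1, -1, 1, 1, 1, -1, 1, 1, -1, -1] (by decide +kernel)
    (unpack 3 1219 0x1048094dd126d5f45270f025d5e29ce97ffdb10cc3714e900b2702453f5fe72b41bb3d186e655e74d05a82c9c3251a99a6cf531984cf0bffb35c3afc9867e9e1c5a7e6e817191c9bc71db34300430e917b5f11a091972d4846b6d58ad781f5639a9136a61ff9414c4190577e7486af3e81a37d6275b1a3e044ef7ec3e5ee59dc39e246dcbf9baa8a9c1407699ed36e6dbffc271b1b49ae304589299f21ff8c20d02f47e79502ef56ebd6a0443bd2f8cf6dcb9483404c1dc10a5f57289a5be4d42a4171e8047d78e037de9f4d8590ce7b396cd73601d93559e9217420d54486bcfd8c0011be3f5967b4b000f0c7aa22a58762)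
    [monF [0, 1, 4, 8, 7, 17, 23, 16, 12, 6, 18, 20, 21, 11, 10, 15, 9, 19, 5, 22, 3, 13, 14, 2] 0, monF [0, 1, 22, 17, 12, 15, 13, 19, 6, 7, 2, 18, 23, 11, 4, 8, 9, 14, 5, 10, 3, 21, 16, 20] 0] rfl 12553 616 (by decide +kernel)

theorem hsRepB2_mem : hsRepB2 ∈ MulAction.orbit ↥hsGroup hsRepB0 :=
  mem_hs_orbit_of_walk hsRepB0 hsRepB2 [0, -4, 0, 0, 0, 0, 0, 0, 0, 0, 0, 0, 0, 0, 0, 0, 0, 0, 0, 0, 0, 0, 0, 4] (by decide +kernel) [1, 3]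
    [monF [0, 1, 4, 8, 7, 17, 23, 16, 12, 6, 18, 20, 21, 11, 10, 15, 9, 19, 5, 22, 3, 13, 14, 2] 0, monF [0, 1, 22, 17, 12, 15, 13, 19, 6, 7, 2, 18, 23, 11, 4, 8, 9, 14, 5, 10, 3, 21, 16, 20] 0, ((monF [0, 1, 2, 3, 4, 5, 6, 7, 8, 9, 10, 11, 12, 13, 14, 15, 16, 17, 18, 19, 20, 21, 22, 23] 14908366) ∘ ((xiF [1, 1, 2, 3, 3, 3, 4, 4, 0, 1, 3, 5, 5, 4, 0, 4, 5, 2, 2, 0, 5, 2, 1, 0]) ∘ ((monF [0, 19, 12, 3, 11, 7, 16, 5, 14, 9, 21, 4, 2, 13, 8, 18, 6, 17, 15, 1, 20, 10, 22, 23] 0) ∘ ((xiF [1, 1, 2, 3, 3, 3, 4, 4, 0, 1, 3, 5, 5, 4, 0, 4, 5, 2, 2, 0, 5, 2, 1, 0]) ∘ (monF [0, 1, 2, 3, 4, 5, 6, 7, 8, 9, 10, 11, 12, 13, 14, 15, 16, 17, 18, 19, 20, 21, 22, 23] 14908366)))))] rfl (by decide +kernel)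

theorem hsOrbitB : 1100 ≤ (MulAction.orbit ↥hsGroup hsRepB0).ncard :=
  le_orbit_three hsRepB0 hsRepB1 hsRepB2 hsRepB1_mem hsRepB2_mem 22 462 616
    hsRepB0_orbit hsRepB1_orbit hsRepB2_orbit hsRepB0_facts.2.2.2 hsRepB1_facts.2.2.2
    hsRepB2_facts.2.2.2 (by norm_num) (by norm_num) (by norm_num)
end Cfsg.Agent.Leech
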