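import Mathlib
import Cfsg.Prelude.Def_Sporadic_a
import Cfsg.Prelude.Def_Spor_Conway
import Cfsg.Agent.Leech.HSOrbitA
import Cfsg.Agent.Leech.HSOrbitB
import Cfsg.Agent.Leech.HSOrbitC
import Cfsg.Agent.Leech.HSOrbitD
import Cfsg.Agent.Leech.ThreeTwo

/-! The action on the 11178 vectors has rank five. -/

set_option autoImplicit false

namespace Cfsg.Agent.Leech
open Cfsg

/-- the standard set of size 11178 -/
def coThreeSet : Set leechLattice :=
  {x | sqNorm (x : GolayPt → ℤ) = 32 ∧ dotInt (hV : GolayPt → ℤ) (x : GolayPt → ℤ) = -16}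

/-- the class of a scalar product with the chosen vector -/
def coThreeClass (d : ℤ) : Set leechLattice :=
  {x | x ∈ coThreeSet ∧ dotInt (hT : GolayPt → ℤ) (x : GolayPt → ℤ) = d}

theorem orbit_sub_class {y : leechLattice} {d : ℤ} (hy : y ∈ coThreeClass d) :
    MulAction.orbit ↥hsGroup y ⊆ coThreeClass d := by
  rintro z ⟨⟨g, hg⟩, rfl⟩
  simp only [hsGroup, Subgroup.mem_inf, MulAction.mem_stabilizer_iff] at hg
  obtain ⟨⟨h1, h2⟩, h3⟩ := hy
  refine ⟨⟨?_, ?_⟩, ?_⟩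
  · show sqNorm ((g • y : leechLattice) : GolayPt → ℤ) = 32
    rw [sqNorm_smul]; exact h1
  · conv_lhs => rw [← hg.1]
    exact (dotInt_smul g _ _).trans h2
  · conv_lhs => rw [← hg.2]
    exact (dotInt_smul g _ _).trans h3

/-- the standard pair has four suborbits -/
theorem suborbits_standard : ∃ y₁ ∈ coThreeSet, ∃ y₂ ∈ coThreeSet, ∃ y₃ ∈ coThreeSet,
    ∃ y₄ ∈ coThreeSet,
    (MulAction.orbit ↥hsGroup y₁).ncard = 352 ∧ (MulAction.orbit ↥hsGroup y₂).ncard = 1100 ∧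
    (MulAction.orbit ↥hsGroup y₃).ncard = 4125 ∧ (MulAction.orbit ↥hsGroup y₄).ncard = 5600 ∧
    coThreeSet = {hT} ∪ MulAction.orbit ↥hsGroup y₁ ∪ MulAction.orbit ↥hsGroup y₂ ∪
      MulAction.orbit ↥hsGroup y₃ ∪ MulAction.orbit ↥hsGroup y₄ := by
  have mA : hsRepA0 ∈ coThreeClass (-8) :=
    ⟨⟨hsRepA0_facts.1, hsRepA0_facts.2.1⟩, hsRepA0_facts.2.2.1⟩
  have mB : hsRepB0 ∈ coThreeClass 16 :=
    ⟨⟨hsRepB0_facts.1, hsRepB0_facts.2.1⟩, hsRepB0_facts.2.2.1⟩
  have mC : hsRepC0 ∈ coThreeClass 0 :=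
    ⟨⟨hsRepC0_facts.1, hsRepC0_facts.2.1⟩, hsRepC0_facts.2.2.1⟩
  have mD : hsRepD0 ∈ coThreeClass 8 :=
    ⟨⟨hsRepD0_facts.1, hsRepD0_facts.2.1⟩, hsRepD0_facts.2.2.1⟩
  obtain ⟨f1, f2, f3, -⟩ := hV_facts
  have mT : hT ∈ coThreeClass 32 := ⟨⟨f2, f3⟩, by decide +kernel⟩
  have hcard : coThreeSet.ncard = 11178 := ncard_11178 hV f1
  have hfin : coThreeSet.Finite := Set.finite_of_ncard_ne_zero (by omega)
  have fo := fun y => finite_orbit hsGroup y
  have hd : ∀ {A B : Set leechLattice} {d e : ℤ}, d ≠ e → A ⊆ coThreeClass d →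
      B ⊆ coThreeClass e → Disjoint A B := fun hde hA hB =>
    Set.disjoint_left.2 fun z za zb => hde ((hA za).2.symm.trans (hB zb).2)
  have sT : ({hT} : Set leechLattice) ⊆ coThreeClass 32 := Set.singleton_subset_iff.2 mT
  have sA := orbit_sub_class mA
  have sB := orbit_sub_class mB
  have sC := orbit_sub_class mC
  have sD := orbit_sub_class mD
  set A := MulAction.orbit ↥hsGroup hsRepA0
  set B := MulAction.orbit ↥hsGroup hsRepB0
  set C := MulAction.orbit ↥hsGroup hsRepC0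
  set D := MulAction.orbit ↥hsGroup hsRepD0
  have hsub : {hT} ∪ A ∪ B ∪ C ∪ D ⊆ coThreeSet := by
    rintro z ((((h | h) | h) | h) | h)
    · exact (sT h).1
    · exact (sA h).1
    · exact (sB h).1
    · exact (sC h).1
    · exact (sD h).1
  have hunion : ({hT} ∪ A ∪ B ∪ C ∪ D).ncard =
      1 + A.ncard + B.ncard + C.ncard + D.ncard := by
    have fT := Set.finite_singleton hT
    have dA : Disjoint {hT} A := hd (by norm_num) sT sA
    have dB : Disjoint ({hT} ∪ A) B :=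
      Set.disjoint_union_left.2 ⟨hd (by norm_num) sT sB, hd (by norm_num) sA sB⟩
    have dC : Disjoint ({hT} ∪ A ∪ B) C := Set.disjoint_union_left.2 ⟨Set.disjoint_union_left.2
      ⟨hd (by norm_num) sT sC, hd (by norm_num) sA sC⟩, hd (by norm_num) sB sC⟩
    have dD : Disjoint ({hT} ∪ A ∪ B ∪ C) D := Set.disjoint_union_left.2
      ⟨Set.disjoint_union_left.2 ⟨Set.disjoint_union_left.2
        ⟨hd (by norm_num) sT sD, hd (by norm_num) sA sD⟩, hd (by norm_num) sB sD⟩,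
        hd (by norm_num) sC sD⟩
    rw [Set.ncard_union_eq dD (((fT.union (fo _)).union (fo _)).union (fo _)) (fo _),
      Set.ncard_union_eq dC ((fT.union (fo _)).union (fo _)) (fo _),
      Set.ncard_union_eq dB (fT.union (fo _)) (fo _),
      Set.ncard_union_eq dA fT (fo _), Set.ncard_singleton]
  have hle := Set.ncard_le_ncard hsub hfin
  rw [hunion, hcard] at hle
  have lA : 352 ≤ A.ncard := hsOrbitA
  have lB : 1100 ≤ B.ncard := hsOrbitB
  have lC : 4125 ≤ C.ncard := hsOrbitC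
  have lD : 5600 ≤ D.ncard := hsOrbitD
  refine ⟨_, mA.1, _, mB.1, _, mC.1, _, mD.1, (by omega : A.ncard = 352),
    (by omega : B.ncard = 1100), (by omega : C.ncard = 4125), (by omega : D.ncard = 5600), ?_⟩
  exact (Set.eq_of_subset_of_ncard_le hsub (by rw [hunion, hcard]; omega) hfin).symm

theorem orbit_image_of_conj (g : ↥Co0) (y : leechLattice) :
    MulAction.orbit ↥(MulAction.stabilizer ↥Co0 (g • hV) ⊓ MulAction.stabilizer ↥Co0 (g • hT))
      (g • y) = (fun z => g • z) '' MulAction.orbit ↥hsGroup y := by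
  ext z
  constructor
  · rintro ⟨⟨h, hh⟩, rfl⟩
    simp only [Subgroup.mem_inf, MulAction.mem_stabilizer_iff] at hh
    refine ⟨(g⁻¹ * h * g) • y, ⟨⟨g⁻¹ * h * g, ?_⟩, rfl⟩, ?_⟩
    · simp only [hsGroup, Subgroup.mem_inf, MulAction.mem_stabilizer_iff, mul_smul, hh,
        inv_smul_smul, and_self]
    · show g • (g⁻¹ * h * g) • y = h • g • y
      rw [← mul_smul, ← mul_smul, mul_assoc, mul_inv_cancel_left]
  · rintro ⟨w, ⟨⟨h, hh⟩, rfl⟩, rfl⟩
    simp only [hsGroup, Subgroup.mem_inf, MulAction.mem_stabilizer_iff] at hh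
    refine ⟨⟨g * h * g⁻¹, ?_⟩, ?_⟩
    · simp only [Subgroup.mem_inf, MulAction.mem_stabilizer_iff, mul_smul, inv_smul_smul, hh,
        and_self]
    · show (g * h * g⁻¹) • g • y = g • h • y
      rw [mul_smul, inv_smul_smul, mul_smul]

end Cfsg.Agent.Leech
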