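import Mathlib
import Cfsg.Prelude.Def_Sporadic_a
import Cfsg.Prelude.Def_Spor_Conway
import Cfsg.Agent.Leech.Code
import Cfsg.Agent.Leech.AbstractCode
import Cfsg.Agent.Leech.Punctured
import Cfsg.Agent.Leech.Lattice
import Cfsg.Agent.Leech.ModRep
import Cfsg.Agent.Leech.Transitive
import Cfsg.Agent.Leech.Orbits
import Cfsg.Agent.Leech.PairsOrth
import Cfsg.Agent.Leech.TwoThree
import Cfsg.Agent.Leech.Shape48
import Cfsg.Agent.Leech.ThreeTwo

/-! An involution of the stabiliser of a pair without fixed points on the hundred. -/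

set_option autoImplicit false

namespace Cfsg.Agent.Leech
open Cfsg

/-- a dodecad word missing the first two points -/
def dodWord : GolayPt → ZMod 2 := bitWord 114548

theorem dodWord_mem : dodWord ∈ golayCode := (mem_iff _).2 (by decide +kernel)

/-- twice the complementary word -/
def dodVec : leechLattice :=
  ⟨_, two_mul_word_mem (add_mem (show dodWord ∈ golayCode from dodWord_mem) one_mem)⟩

/-- the partner -/
def dodPair : leechLattice := fourPair none (some 0) (-1) (-1) (by norm_num)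

theorem dod_facts : sqNorm (dodVec : GolayPt → ℤ) = 48 ∧ sqNorm (dodPair : GolayPt → ℤ) = 32 ∧
    dotInt (dodVec : GolayPt → ℤ) (dodPair : GolayPt → ℤ) = -16 ∧
    negOn dodWord (dodVec : GolayPt → ℤ) = dodVec ∧
    negOn dodWord (dodPair : GolayPt → ℤ) = dodPair := by decide +kernel

/-- no vector of the hundred is supported inside the dodecad -/
theorem no_fixed (x : leechLattice) (hn : sqNorm (x : GolayPt → ℤ) = 32)
    (hv : dotInt (dodVec : GolayPt → ℤ) (x : GolayPt → ℤ) = 24)
    (ht : dotInt (dodPair : GolayPt → ℤ) (x : GolayPt → ℤ) = 0)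
    (hfix : negOn dodWord (x : GolayPt → ℤ) = x) : False := by
  classical
  have hoff : ∀ i, dodWord i = 1 → (x : GolayPt → ℤ) i = 0 := fun i hi => by
    have := congrFun hfix i
    simp only [negOn, hi, one_ne_zero, if_false] at this
    omega
  obtain ⟨j, hj⟩ : ∃ j, dodWord j = 1 := by decide +kernel
  have he : (2 : ℤ) ∣ (x : GolayPt → ℤ) none := (odd_all x.2 j).1 (by rw [hoff j hj]; norm_num) |>.trans dvd_rfl
  obtain ⟨y, hy, hc, h4⟩ := even_form x.2 he
  set C := support₂ (red2 y)
  have hval : ∀ i, (dodVec : GolayPt → ℤ) i = if dodWord i = 1 then 0 else 2 := by decide +kernel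
  have hsum : ∑ i, (x : GolayPt → ℤ) i = 12 := by
    have : dotInt (dodVec : GolayPt → ℤ) (x : GolayPt → ℤ) = 2 * ∑ i, (x : GolayPt → ℤ) i := by
      rw [dotInt, Finset.mul_sum]
      refine Finset.sum_congr rfl fun i _ => ?_
      rw [hval i]
      by_cases h : dodWord i = 1
      · rw [if_pos h, hoff i h]; ring
      · rw [if_neg h]
    omega
  have hsumy : ∑ i, y i = 6 := by
    have : ∑ i, (x : GolayPt → ℤ) i = 2 * ∑ i, y i := by
      rw [Finset.mul_sum]; exact Finset.sum_congr rfl fun i _ => hy i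
    omega
  omega

theorem exists_noFix (v w : leechLattice) (hv : sqNorm (v : GolayPt → ℤ) = 48)
    (hw : sqNorm (w : GolayPt → ℤ) = 48)
    (hvw : dotInt (v : GolayPt → ℤ) (w : GolayPt → ℤ) = -32) :
    ∃ g : ↥Co0, g • v = v ∧ g • w = w ∧ orderOf g = 2 ∧ ∀ x : leechLattice,
      sqNorm (x : GolayPt → ℤ) = 32 → dotInt (v : GolayPt → ℤ) (x : GolayPt → ℤ) = 24 →
      dotInt (w : GolayPt → ℤ) (x : GolayPt → ℤ) = -24 → g • x ≠ x := by
  have hneg : ∀ a b : GolayPt → ℤ, dotInt a (-b) = -dotInt a b :=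
    fun a b => by simp [dotInt, -Fintype.sum_option]
  obtain ⟨t, ht, htd⟩ : ∃ t : leechLattice, t = -(v + w) ∧
      ∀ a : GolayPt → ℤ, dotInt a (t : GolayPt → ℤ) =
        -(dotInt a (v : GolayPt → ℤ) + dotInt a (w : GolayPt → ℤ)) :=
    ⟨_, rfl, fun a => by rw [AddSubgroup.coe_neg, AddSubgroup.coe_add, hneg, dotInt_add_right]⟩
  have htv : dotInt (v : GolayPt → ℤ) (t : GolayPt → ℤ) = -16 := by
    rw [htd, dot_self, hv, hvw]; rfl
  have htn : sqNorm (t : GolayPt → ℤ) = 32 := by
    rw [← dot_self, htd, dotInt_comm (t : GolayPt → ℤ), dotInt_comm (t : GolayPt → ℤ), htv, htd,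
      dotInt_comm (w : GolayPt → ℤ) (v : GolayPt → ℤ), hvw, dot_self, hw]
    rfl
  obtain ⟨f1, f2, f3, f4, f5⟩ := dod_facts
  obtain ⟨h, h1, h2⟩ := trans_sixteen v t dodVec dodPair hv f1 htn f2 htv f3
  set s := signCo0 dodWord dodWord_mem with hs
  have hs1 : s • dodVec = dodVec := Subtype.ext ((signCo0_apply _ _ _).trans f4)
  have hs2 : s • dodPair = dodPair := Subtype.ext ((signCo0_apply _ _ _).trans f5)
  have g1 : (h⁻¹ * s * h) • v = v := by
    rw [mul_smul, mul_smul, h1, hs1, inv_smul_eq_iff, h1]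
  have g2 : (h⁻¹ * s * h) • t = t := by
    rw [mul_smul, mul_smul, h2, hs2, inv_smul_eq_iff, h2]
  have hsq : s * s = 1 := Subtype.ext (Equiv.ext fun u => Subtype.ext (by
    show ((s • s • u : leechLattice) : GolayPt → ℤ) = u
    rw [signCo0_apply, signCo0_apply, negOn_negOn]))
  have hne : s ≠ 1 := fun e => by
    have h0 : s • oct (some 1) = oct (some 1) := by rw [e, one_smul]
    have h0' := congrFun (congrArg Subtype.val h0)
    revert h0'
    rw [signCo0_apply]
    decide +kernel
  refine ⟨h⁻¹ * s * h, g1, ?_, ?_, fun x hx hvx hwx hfix => ?_⟩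
  · have h0 : (h⁻¹ * s * h) • (0 : leechLattice) = 0 := by
      have := smul_add' (h⁻¹ * s * h) 0 0
      rwa [add_zero, left_eq_add] at this
    have e : (h⁻¹ * s * h) • (t + v + w) = 0 := by
      rw [show t + v + w = 0 by rw [ht]; abel, h0]
    rw [smul_add', smul_add', g1, g2, add_eq_zero_iff_neg_eq] at e
    rw [← e, ht]
    abel
  · refine orderOf_eq_prime ?_ fun e => hne ?_
    · rw [sq, show h⁻¹ * s * h * (h⁻¹ * s * h) = h⁻¹ * (s * s) * h by group, hsq]; group
    · calc s = h * (h⁻¹ * s * h) * h⁻¹ := by group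
        _ = 1 := by rw [e]; group
  · rw [mul_smul, mul_smul, inv_smul_eq_iff] at hfix
    refine no_fixed (h • x) (by rw [sqNorm_smul]; exact hx) ?_ ?_
      ((signCo0_apply _ _ _).symm.trans (congrArg Subtype.val hfix))
    · rw [← h1, dotInt_smul]; exact hvx
    · rw [← h2, dotInt_smul, dotInt_comm, htd, dotInt_comm (x : GolayPt → ℤ),
        dotInt_comm (x : GolayPt → ℤ), hvx, hwx]
      rfl

end Cfsg.Agent.Leech
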