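import Cfsg.Agent.Leech.OctParity

/-!
# Linear maps of the code permuting the octads modulo the all-one word
-/

set_option autoImplicit false

namespace Cfsg.Agent.Leech.OctParity
open Cfsg

/-- a bijection of pairs preserving intersection comes from the points -/
theorem exists_perm {α : Type*} [Fintype α] [DecidableEq α] (hα : 5 ≤ Fintype.card α)
    (F : α → α → Finset α) (hcomm : ∀ a b, a ≠ b → F a b = F b a) (h2 : ∀ a b, a ≠ b → (F a b).card = 2)
    (hinj : ∀ a b c d, a ≠ b → c ≠ d → F a b = F c d → ({a, b} : Finset α) = {c, d})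
    (hadj : ∀ a b c, a ≠ b → a ≠ c → b ≠ c → (F a b ∩ F a c).card = 1) :
    ∃ σ : Equiv.Perm α, ∀ a b, a ≠ b → F a b = {σ a, σ b} := by
  classical
  have hexists : ∀ a : α, ∃ p, ∀ b, b ≠ a → p ∈ F a b := by
    intro a
    obtain ⟨t, htsub, htcard⟩ := Finset.exists_subset_card_eq (s := Finset.univ.erase a) (n := 4)
      (by rw [Finset.card_erase_of_mem (Finset.mem_univ _), Finset.card_univ]; omega)
    have hta : ∀ x ∈ t, a ≠ x := fun x hx e => by
      have := htsub hx
      rw [Finset.mem_erase] at this
      exact this.1 e.symm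
    obtain ⟨b, hb⟩ := Finset.card_pos.1 (by omega : 0 < t.card)
    obtain ⟨c, hc, hcb⟩ := Finset.exists_mem_ne (by omega : 1 < t.card) b
    have hab := hta b hb
    have hac := hta c hc
    obtain ⟨p, hp⟩ := Finset.card_eq_one.1 (hadj a b c hab hac hcb.symm)
    refine ⟨p, ?_⟩
    have hpb : p ∈ F a b := (Finset.mem_inter.1 (hp.symm ▸ Finset.mem_singleton_self p)).1
    have hpc : p ∈ F a c := (Finset.mem_inter.1 (hp.symm ▸ Finset.mem_singleton_self p)).2
    obtain ⟨q, hq⟩ : ∃ q, F a b = {p, q} := by
      obtain ⟨x, y, hxy, e⟩ := Finset.card_eq_two.1 (h2 a b hab)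
      rw [e] at hpb
      rcases Finset.mem_insert.1 hpb with rfl | h
      · exact ⟨y, e⟩
      · rw [Finset.mem_singleton.1 h]; exact ⟨x, e.trans (Finset.pair_comm _ _)⟩
    obtain ⟨r, hr⟩ : ∃ r, F a c = {p, r} := by
      obtain ⟨x, y, hxy, e⟩ := Finset.card_eq_two.1 (h2 a c hac)
      rw [e] at hpc
      rcases Finset.mem_insert.1 hpc with rfl | h
      · exact ⟨y, e⟩
      · rw [Finset.mem_singleton.1 h]; exact ⟨x, e.trans (Finset.pair_comm _ _)⟩
    -- an edge missing `p` is the third side of the triangle
    have hside : ∀ d, a ≠ d → d ≠ b → d ≠ c → p ∉ F a d → F a d = {q, r} := by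
      intro d had hdb hdc hpd
      have h1 : q ∈ F a d := by
        by_contra hn
        have := hadj a b d hab had hdb.symm
        rw [hq, show ({p, q} : Finset α) ∩ F a d = ∅ by
          ext x; simp only [Finset.mem_inter, Finset.mem_insert, Finset.mem_singleton]
          constructor
          · rintro ⟨rfl | rfl, hx⟩ <;> contradiction
          · simp, Finset.card_empty] at this
        omega
      have h3 : r ∈ F a d := by
        by_contra hn
        have := hadj a c d hac had hdc.symm
        rw [hr, show ({p, r} : Finset α) ∩ F a d = ∅ by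
          ext x; simp only [Finset.mem_inter, Finset.mem_insert, Finset.mem_singleton]
          constructor
          · rintro ⟨rfl | rfl, hx⟩ <;> contradiction
          · simp, Finset.card_empty] at this
        omega
      have hqr : q ≠ r := fun e => by
        have := hinj a b a c hab hac (by rw [hq, hr, e])
        have hbm : b ∈ ({a, c} : Finset α) := this ▸ by simp
        simp only [Finset.mem_insert, Finset.mem_singleton] at hbm
        rcases hbm with rfl | rfl
        · exact hab rfl
        · exact hcb rfl
      refine (Finset.eq_of_subset_of_card_le (Finset.insert_subset h1 (Finset.singleton_subset_iff.2 h3)) ?_).symm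
      rw [h2 a d had, Finset.card_pair hqr]
    intro d hda
    by_contra hpd
    have hdb : d ≠ b := fun e => hpd (e ▸ hpb)
    have hdc : d ≠ c := fun e => hpd (e ▸ hpc)
    have hd := hside d (Ne.symm hda) hdb hdc hpd
    obtain ⟨e, he⟩ := Finset.card_pos.1 (show 0 < (t \ {b, c, d}).card by
      have := Finset.le_card_sdiff ({b, c, d} : Finset α) t
      have h3 : ({b, c, d} : Finset α).card ≤ 3 := Finset.card_le_three
      omega)
    simp only [Finset.mem_sdiff, Finset.mem_insert, Finset.mem_singleton, not_or] at he
    obtain ⟨het, heb, hec, hed⟩ := he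
    have hae := hta e het
    by_cases hpe : p ∈ F a e
    · -- meets the third side in a single point, so is one of the two known edges
      have h1 := hadj a d e (Ne.symm hda) hae (Ne.symm hed)
      rw [hd] at h1
      obtain ⟨x, hx⟩ := Finset.card_eq_one.1 h1
      have hx' : x ∈ ({q, r} : Finset α) ∩ F a e := hx ▸ Finset.mem_singleton_self x
      rw [Finset.mem_inter, Finset.mem_insert, Finset.mem_singleton] at hx'
      have hsub : ({p, x} : Finset α) ⊆ F a e := Finset.insert_subset hpe (Finset.singleton_subset_iff.2 hx'.2)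
      have hpx : p ≠ x := fun h => by
        subst h
        exact hpd (hd ▸ (by simpa using hx'.1))
      have heq : F a e = {p, x} := (Finset.eq_of_subset_of_card_le hsub (by rw [h2 a e hae, Finset.card_pair hpx])).symm
      rcases hx'.1 with rfl | rfl
      · have := hinj a e a b hae hab (heq.trans hq.symm)
        have hem : e ∈ ({a, b} : Finset α) := this ▸ by simp
        simp only [Finset.mem_insert, Finset.mem_singleton] at hem
        rcases hem with h | h
        · exact hae h.symm
        · exact heb h
      · have := hinj a e a c hae hac (heq.trans hr.symm)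
        have hem : e ∈ ({a, c} : Finset α) := this ▸ by simp
        simp only [Finset.mem_insert, Finset.mem_singleton] at hem
        rcases hem with h | h
        · exact hae h.symm
        · exact hec h
    · have := hinj a e a d hae (Ne.symm hda) ((hside e hae heb hec hpe).trans hd.symm)
      have hem : e ∈ ({a, d} : Finset α) := this ▸ by simp
      simp only [Finset.mem_insert, Finset.mem_singleton] at hem
      rcases hem with h | h
      · exact hae h.symm
      · exact hed h
  choose s hs using hexists
  have hsinj : Function.Injective s := by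
    intro a b e
    by_contra hab
    -- too many pairs through a single point
    have hbound : ((Finset.univ.erase a).image (F a) ∪ ((Finset.univ.erase b).erase a).image (F b)).card ≤
        ((Finset.univ.erase (s a)).image fun x => ({s a, x} : Finset α)).card := by
      refine Finset.card_le_card fun S hS => ?_
      obtain ⟨hcard, hmem⟩ : S.card = 2 ∧ s a ∈ S := by
        rcases Finset.mem_union.1 hS with h | h <;> obtain ⟨x, hx, rfl⟩ := Finset.mem_image.1 h <;>
          simp only [Finset.mem_erase, Finset.mem_univ, and_true] at hx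
        · exact ⟨h2 _ _ (Ne.symm hx), hs a x hx⟩
        · exact ⟨h2 _ _ (Ne.symm hx.2), e ▸ hs b x hx.2⟩
      obtain ⟨y, hy⟩ : ∃ y, S.erase (s a) = {y} := Finset.card_eq_one.1 (by
        rw [Finset.card_erase_of_mem hmem, hcard])
      refine Finset.mem_image.2 ⟨y, ?_, ?_⟩
      · have : y ∈ S.erase (s a) := hy ▸ Finset.mem_singleton_self y
        simp only [Finset.mem_erase, Finset.mem_univ, and_true] at this ⊢
        exact this.1
      · rw [← Finset.insert_erase hmem, hy]
    have hn : ((Finset.univ.erase (s a)).image fun x => ({s a, x} : Finset α)).card ≤ Fintype.card α - 1 := by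
      refine Finset.card_image_le.trans ?_
      rw [Finset.card_erase_of_mem (Finset.mem_univ _), Finset.card_univ]
    have hi1 : Set.InjOn (F a) ((Finset.univ.erase a : Finset α) : Set α) := fun x hx y hy h => by
      simp only [Finset.coe_erase, Set.mem_diff, Set.mem_singleton_iff] at hx hy
      have := hinj a x a y (Ne.symm hx.2) (Ne.symm hy.2) h
      have hxm : x ∈ ({a, y} : Finset α) := this ▸ by simp
      simp only [Finset.mem_insert, Finset.mem_singleton] at hxm
      exact hxm.resolve_left hx.2
    have hi2 : Set.InjOn (F b) (((Finset.univ.erase b).erase a : Finset α) : Set α) := fun x hx y hy h => by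
      simp only [Finset.coe_erase, Set.mem_diff, Set.mem_singleton_iff] at hx hy
      have := hinj b x b y (Ne.symm hx.1.2) (Ne.symm hy.1.2) h
      have hxm : x ∈ ({b, y} : Finset α) := this ▸ by simp
      simp only [Finset.mem_insert, Finset.mem_singleton] at hxm
      exact hxm.resolve_left hx.1.2
    have hdisj : Disjoint ((Finset.univ.erase a).image (F a)) (((Finset.univ.erase b).erase a).image (F b)) := by
      rw [Finset.disjoint_left]
      intro S h1 h3
      obtain ⟨x, hx, rfl⟩ := Finset.mem_image.1 h1
      obtain ⟨y, hy, hyx⟩ := Finset.mem_image.1 h3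
      simp only [Finset.mem_erase, Finset.mem_univ, and_true] at hx hy
      have := hinj b y a x (Ne.symm hy.2) (Ne.symm hx) hyx
      have ham : a ∈ ({b, y} : Finset α) := this.symm ▸ by simp
      simp only [Finset.mem_insert, Finset.mem_singleton] at ham
      rcases ham with h | h
      · exact hab h
      · exact hy.1 h.symm
    rw [Finset.card_union_of_disjoint hdisj, Finset.card_image_of_injOn hi1, Finset.card_image_of_injOn hi2,
      Finset.card_erase_of_mem (Finset.mem_univ _),
      Finset.card_erase_of_mem (Finset.mem_erase.2 ⟨hab, Finset.mem_univ _⟩),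
      Finset.card_erase_of_mem (Finset.mem_univ _), Finset.card_univ] at hbound
    omega
  refine ⟨Equiv.ofBijective s ((Finite.injective_iff_bijective).1 hsinj), fun a b hab => ?_⟩
  simp only [Equiv.ofBijective_apply]
  refine (Finset.eq_of_subset_of_card_le (Finset.insert_subset (hs a b (Ne.symm hab))
    (Finset.singleton_subset_iff.2 (hcomm a b hab ▸ hs b a hab))) ?_).symm
  rw [h2 a b hab, Finset.card_pair (fun h => hab (hsinj h))]

set_option maxHeartbeats 1600000 in
/-- a linear map of the code respecting octads modulo the all-one word is a code automorphism -/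
theorem exists_sigma (x : ↥golayCode ≃ₗ[ZMod 2] ↥golayCode) (hx1 : x ⟨1, one_mem⟩ = ⟨1, one_mem⟩)
    (horb : ∀ c : ↥golayCode, hammingNorm (c : GolayPt → ZMod 2) = 8 →
      hammingNorm ((x c : ↥golayCode) : GolayPt → ZMod 2) = 8 ∨
        hammingNorm ((x c : ↥golayCode) : GolayPt → ZMod 2) = 16) :
    ∃ σ ∈ M24, ∀ c : ↥golayCode,
      ((x c : ↥golayCode) : GolayPt → ZMod 2) = (fun p => (c : GolayPt → ZMod 2) (σ.symm p)) ∨
      ((x c : ↥golayCode) : GolayPt → ZMod 2) = (fun p => (c : GolayPt → ZMod 2) (σ.symm p)) + fun _ => (1 : ZMod 2) := by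
  classical
  have hdim := finrank_golayCode
  have hmin : ∀ w ∈ golayCode, w ≠ 0 → 8 ≤ hammingNorm w := fun w hw => eight_le_weight hw
  have hα : Fintype.card GolayPt = 24 := by decide
  have dotadd : ∀ u v w : GolayPt → ZMod 2, dot u (v + w) = dot u v + dot u w := fun u v w => by
    simp [dot, mul_add, Finset.sum_add_distrib]
  have adddot : ∀ u v w : GolayPt → ZMod 2, dot (u + v) w = dot u w + dot v w := fun u v w => by
    simp [dot, add_mul, Finset.sum_add_distrib]
  have hsame : ∀ u v : GolayPt → ZMod 2, (∀ c ∈ golayCode, dot u c = dot v c) → u - v ∈ golayCode :=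
    fun u v h => mem_of_orth fun d hd => by
      show dot (u - v) d = 0
      rw [sub_eq_add2, adddot, h d hd, CharTwo.add_self_eq_zero]
  have hpairdot : ∀ a b (c : GolayPt → ZMod 2), dot (pairWord a b) c = c a + c b := fun a b c => by
    simp [dot, pairWord, add_mul, Finset.sum_add_distrib, Pi.single_apply, ite_mul]
  have hpairnorm : ∀ a b, a ≠ b → hammingNorm (pairWord a b) = 2 := fun a b hab => by
    rw [hammingNorm, show (Finset.univ.filter fun p => pairWord a b p ≠ 0) = {a, b} by
      ext p
      by_cases h1 : p = a <;> by_cases h2 : p = b <;> simp [pairWord, Pi.single_apply, h1, h2, hab, hab.symm],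
      Finset.card_pair hab]
  have htwo : ∀ w : ↥golayCode, hammingNorm (w : GolayPt → ZMod 2) = 16 →
      hammingNorm ((w : GolayPt → ZMod 2) + 1) = 8 := fun w hw => by
    have h1 : hammingNorm (1 : GolayPt → ZMod 2) = 24 := by decide +kernel
    have := weight_add (w : GolayPt → ZMod 2) 1
    have h2 : support₂ (w : GolayPt → ZMod 2) ∩ support₂ (1 : GolayPt → ZMod 2) = support₂ (w : GolayPt → ZMod 2) :=
      Finset.inter_eq_left.2 fun p _ => mem_support₂.2 rfl
    rw [h2, ← hammingNorm_eq_card, hw, h1] at this
    omega
  -- the permutation of the octads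
  let oct := {c : ↥golayCode // hammingNorm (c : GolayPt → ZMod 2) = 8}
  let Φ : oct → oct := fun c =>
    if h : hammingNorm ((x c.1 : ↥golayCode) : GolayPt → ZMod 2) = 8 then ⟨x c.1, h⟩
    else ⟨x c.1 + ⟨1, one_mem⟩, htwo _ ((horb c.1 c.2).resolve_left h)⟩
  have hΦ : ∀ c : oct, (Φ c).1 = x c.1 ∨ (Φ c).1 = x c.1 + ⟨1, one_mem⟩ := fun c => by
    simp only [Φ]
    split
    · exact Or.inl rfl
    · exact Or.inr rfl
  have hΦinj : Function.Injective Φ := fun c d e => by
    have hx' : x ⟨1, one_mem⟩ = ⟨1, one_mem⟩ := hx1
    have key : ∀ c d : oct, x c.1 = x d.1 + ⟨1, one_mem⟩ → False := fun c d h => by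
      rw [← hx', ← map_add] at h
      have h' := congrArg (fun w : ↥golayCode => hammingNorm (w : GolayPt → ZMod 2)) (x.injective h)
      simp only [Submodule.coe_add, c.2] at h'
      have h1 : hammingNorm (1 : GolayPt → ZMod 2) = 24 := by decide +kernel
      have h2 : support₂ (d.1 : GolayPt → ZMod 2) ∩ support₂ (1 : GolayPt → ZMod 2) = support₂ (d.1 : GolayPt → ZMod 2) :=
        Finset.inter_eq_left.2 fun p _ => mem_support₂.2 rfl
      have := weight_add (d.1 : GolayPt → ZMod 2) 1
      rw [h2, ← hammingNorm_eq_card, d.2, h1, ← h'] at this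
      omega
    have e' := congrArg Subtype.val e
    rcases hΦ c with h | h <;> rcases hΦ d with h' | h' <;> rw [h, h'] at e'
    · exact Subtype.ext (x.injective e')
    · exact (key c d e').elim
    · exact (key d c e'.symm).elim
    · exact Subtype.ext (x.injective (add_right_cancel e'))
  have hΦbij : Function.Bijective Φ := Finite.injective_iff_bijective.1 hΦinj
  -- the image of a pair
  have himg : ∀ a b, a ≠ b → ∃ u : GolayPt → ZMod 2, hammingNorm u = 2 ∧
      ∀ c : ↥golayCode, dot u (x c : ↥golayCode) = dot (pairWord a b) c := by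
    intro a b hab
    obtain ⟨u₀, hu₀⟩ := dotRows_surjective fun i => dot (pairWord a b) (x.symm ⟨row i, row_mem i⟩ : ↥golayCode)
    obtain ⟨u, hu, -, hu4⟩ := cover4 golayCode hα hdim hmin u₀ none
    have hud : ∀ v (hv : v ∈ golayCode), dot u v = dot (pairWord a b) (x.symm ⟨v, hv⟩ : ↥golayCode) := by
      intro v hv
      have h1 : dot u v = dot u₀ v := by
        have h := dot_eq_zero hu hv
        have h' : dot (u - u₀) v = 0 := h
        rw [sub_eq_add2, adddot] at h'
        exact CharTwo.add_eq_zero.1 h'
      rw [h1]
      refine code_induction (P := fun v => ∀ hv : v ∈ golayCode,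
        dot u₀ v = dot (pairWord a b) (x.symm ⟨v, hv⟩ : ↥golayCode)) (fun i _ => congrFun hu₀ i) ?_ ?_ hv hv
      · intro h0
        rw [show (⟨0, h0⟩ : ↥golayCode) = 0 from rfl, map_zero]
        simp [dot]
      · intro v w hv hw h h' hvw
        rw [show (⟨v + w, hvw⟩ : ↥golayCode) = ⟨v, hv⟩ + ⟨w, hw⟩ from rfl, map_add, Submodule.coe_add,
          dotadd, dotadd, h hv, h' hw]
    have hudx : ∀ c : ↥golayCode, dot u (x c : ↥golayCode) = dot (pairWord a b) c := fun c => by
      rw [hud _ (x c).2, Subtype.coe_eta, LinearEquiv.symm_apply_apply]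
    have hu1 : dot u 1 = 0 := by
      have h := hudx ⟨1, one_mem⟩
      rw [hx1] at h
      rw [h, hpairdot]
      exact CharTwo.add_self_eq_zero _
    refine ⟨u, weight_eq_two hu4 hu1 ?_, hudx⟩
    rw [← cnt_pair (hpairnorm a b hab)]
    have e : ∀ v : GolayPt → ZMod 2, cnt v = Nat.card {c : oct // dot v c.1 = 0} := fun v =>
      Nat.card_congr ⟨fun c => ⟨⟨⟨c.1, c.2.1⟩, c.2.2.1⟩, c.2.2.2⟩, fun c => ⟨c.1.1, c.1.1.2, c.1.2, c.2⟩,
        fun _ => rfl, fun _ => rfl⟩
    rw [e, e]
    refine (Nat.card_congr (Equiv.subtypeEquiv (Equiv.ofBijective Φ hΦbij) fun c => ?_)).symm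
    rw [Equiv.ofBijective_apply]
    rcases hΦ c with h | h <;> rw [h]
    · rw [hudx]
    · rw [Submodule.coe_add, dotadd, hudx, hu1, add_zero]
  choose U hU2 hUd using himg
  let F : GolayPt → GolayPt → Finset GolayPt := fun a b => if h : a = b then ∅ else support₂ (U a b h)
  have hF : ∀ a b (h : a ≠ b), F a b = support₂ (U a b h) := fun a b h => dif_neg h
  have hunique : ∀ u v : GolayPt → ZMod 2, hammingNorm u + hammingNorm v < 8 →
      (∀ c : ↥golayCode, dot u (x c : ↥golayCode) = dot v (x c : ↥golayCode)) → u = v := fun u v h e => by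
    refine small_unique golayCode hmin (hsame u v fun w hw => ?_) h
    have := e (x.symm ⟨w, hw⟩)
    rwa [LinearEquiv.apply_symm_apply] at this
  obtain ⟨σ, hσ⟩ := exists_perm (by omega) F
    (fun a b hab => by
      rw [hF a b hab, hF b a hab.symm]
      congr 1
      exact hunique _ _ (by rw [hU2, hU2]; norm_num) fun c => by
        rw [hUd, hUd, hpairdot, hpairdot, add_comm])
    (fun a b hab => by rw [hF a b hab, ← hammingNorm_eq_card, hU2])
    (fun a b c d hab hcd e => by
      rw [hF a b hab, hF c d hcd] at e
      have e' := eq_of_support₂_eq e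
      have hp : pairWord a b = pairWord c d := by
        refine small_unique golayCode hmin (hsame _ _ fun w hw => ?_) (by rw [hpairnorm a b hab, hpairnorm c d hcd]; norm_num)
        rw [← hUd a b hab ⟨w, hw⟩, ← hUd c d hcd ⟨w, hw⟩, e']
      have : ∀ a b, a ≠ b → ({a, b} : Finset GolayPt) = Finset.univ.filter fun p => pairWord a b p ≠ 0 :=
        fun a b hab => by
          ext p
          by_cases h1 : p = a <;> by_cases h2 : p = b <;> simp [pairWord, Pi.single_apply, h1, h2, hab, hab.symm]
      rw [this a b hab, this c d hcd, hp])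
    (fun a b c hab hac hbc => by
      have hsum : U a b hab + U a c hac = U b c hbc := by
        refine small_unique golayCode hmin (hsame _ _ fun w hw => ?_) ?_
        · obtain ⟨d, hd⟩ := x.surjective ⟨w, hw⟩
          have hw' : w = ((x d : ↥golayCode) : GolayPt → ZMod 2) := by rw [hd]
          rw [hw', adddot, hUd, hUd, hUd, hpairdot, hpairdot, hpairdot]
          generalize (d : GolayPt → ZMod 2) a = p
          generalize (d : GolayPt → ZMod 2) b = q
          generalize (d : GolayPt → ZMod 2) c = r
          revert p q r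
          decide
        · have := weight_add (U a b hab) (U a c hac)
          have h1 := hU2 a b hab
          have h2 := hU2 a c hac
          have h3 := hU2 b c hbc
          omega
      have := weight_add (U a b hab) (U a c hac)
      rw [hsum, hU2, hU2, hU2] at this
      rw [hF a b hab, hF a c hac]
      omega)
  have hkey : ∀ (c : ↥golayCode) (a b : GolayPt), a ≠ b →
      ((x c : ↥golayCode) : GolayPt → ZMod 2) (σ a) + ((x c : ↥golayCode) : GolayPt → ZMod 2) (σ b) =
        (c : GolayPt → ZMod 2) a + (c : GolayPt → ZMod 2) b := by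
    intro c a b hab
    have hne : σ a ≠ σ b := fun e => hab (σ.injective e)
    have hu : U a b hab = pairWord (σ a) (σ b) := by
      refine eq_of_support₂_eq ?_
      rw [← hF a b hab, hσ a b hab]
      ext p
      rw [mem_support₂]
      by_cases h1 : p = σ a <;> by_cases h2 : p = σ b <;> simp [pairWord, Pi.single_apply, h1, h2, hne, hne.symm]
    rw [← hpairdot, ← hu, hUd, hpairdot]
  have hall : ∀ c : ↥golayCode,
      ((x c : ↥golayCode) : GolayPt → ZMod 2) = (fun p => (c : GolayPt → ZMod 2) (σ.symm p)) ∨
      ((x c : ↥golayCode) : GolayPt → ZMod 2) = (fun p => (c : GolayPt → ZMod 2) (σ.symm p)) + fun _ => (1 : ZMod 2) := by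
    intro c
    set d := ((x c : ↥golayCode) : GolayPt → ZMod 2)
    have hconst : ∀ p, d p + (c : GolayPt → ZMod 2) (σ.symm p) = d (σ none) + (c : GolayPt → ZMod 2) none := by
      intro p
      by_cases h : σ.symm p = none
      · rw [← h, Equiv.apply_symm_apply]
      · have := hkey c (σ.symm p) none h
        rw [Equiv.apply_symm_apply] at this
        have key : ∀ a b e g : ZMod 2, a + b = e + g → a + e = b + g := by decide
        exact key _ _ _ _ this
    rcases zmod2_cases (d (σ none) + (c : GolayPt → ZMod 2) none) with h | h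
    · refine Or.inl (funext fun p => CharTwo.add_eq_zero.1 ((hconst p).trans h))
    · refine Or.inr (funext fun p => ?_)
      have key : ∀ a e : ZMod 2, a + e = 1 → a = e + 1 := by decide
      exact key _ _ ((hconst p).trans h)
  refine ⟨σ, ?_, hall⟩
  rw [← inv_inv σ]
  refine inv_mem (mem_M24_of fun v hv => ?_)
  rcases hall ⟨v, hv⟩ with h | h
  · have hmem := (x ⟨v, hv⟩).2
    rw [h] at hmem
    exact hmem
  · have : v ∘ ⇑σ⁻¹ = ((x ⟨v, hv⟩ : ↥golayCode) : GolayPt → ZMod 2) + 1 := by
      rw [h, add_assoc]
      funext p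
      show v (σ.symm p) = v (σ.symm p) + (1 + 1)
      rw [CharTwo.add_self_eq_zero, add_zero]
    rw [this]
    exact add_mem (x ⟨v, hv⟩).2 one_mem

end Cfsg.Agent.Leech.OctParity
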