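import Mathlib
import Cfsg.Prelude.Def_Spor_Mathieu
import Cfsg.Agent.Leech.Code
import Cfsg.Agent.Leech.AbstractCode
import Cfsg.Agent.Leech.Punctured
import Cfsg.Agent.Leech.Orbits

/-! Invariant subspaces of the permutation module of degree 24. -/

set_option autoImplicit false

namespace Cfsg.Agent.Leech
open Cfsg

/-- invariance under the automorphisms of the code -/
def PermInv (W : Submodule (ZMod 2) (GolayPt → ZMod 2)) : Prop :=
  ∀ σ ∈ M24, ∀ w ∈ W, (fun p => w (σ.symm p)) ∈ W

theorem permInv_golay : PermInv golayCode := fun σ hσ w hw => by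
  have := comp_mem_of_M24 (inv_mem hσ) hw
  exact this

/-- a word of weight two -/
def pairWord (a b : GolayPt) : GolayPt → ZMod 2 := Pi.single a 1 + Pi.single b 1

theorem zmod2_four : ∀ x y z t : ZMod 2, x + y = z + t → x + z = y + t := by decide

theorem indic_single (a : GolayPt) : indic ({a} : Finset GolayPt) = Pi.single a 1 := by
  funext p; simp [indic, Pi.single_apply]

theorem indic_map (σ : Equiv.Perm GolayPt) (S : Finset GolayPt) :
    (fun p => indic S (σ.symm p)) = indic (S.image σ) := by
  funext p
  have : σ.symm p ∈ S ↔ p ∈ S.image σ := by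
    simp only [Finset.mem_image]
    exact ⟨fun h => ⟨_, h, by simp⟩, by rintro ⟨x, hx, rfl⟩; simpa using hx⟩
  simp only [indic, this]

theorem pair_map (σ : Equiv.Perm GolayPt) (a b : GolayPt) :
    (fun p => pairWord a b (σ.symm p)) = pairWord (σ a) (σ b) := by
  funext p
  simp only [pairWord, Pi.add_apply, Pi.single_apply, Equiv.symm_apply_eq]

theorem indic_insert {a : GolayPt} {S : Finset GolayPt} (h : a ∉ S) :
    indic (insert a S) = Pi.single a 1 + indic S := by
  funext p
  by_cases hp : p = a
  · subst hp; simp [indic, h]
  · simp [indic, hp]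

theorem add_self_word (v : GolayPt → ZMod 2) : v + v = 0 :=
  funext fun p => CharTwo.add_self_eq_zero (v p)

/-- an invariant subspace outside the code reaches every pair modulo the code -/
theorem pairs_mem_sup (W : Submodule (ZMod 2) (GolayPt → ZMod 2)) (hW : PermInv W)
    (hnot : ¬ W ≤ golayCode) (a b : GolayPt) (hab : a ≠ b) :
    pairWord a b ∈ W ⊔ golayCode := by
  classical
  obtain ⟨w, hw, hwC⟩ := SetLike.not_le_iff_exists.1 hnot
  set W' := W ⊔ golayCode
  have hW' : PermInv W' := by
    intro σ hσ x hx
    obtain ⟨y, hy, z, hz, rfl⟩ := Submodule.mem_sup.1 hx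
    exact Submodule.mem_sup.2 ⟨_, hW σ hσ y hy, _, permInv_golay σ hσ z hz, rfl⟩
  obtain ⟨u, hu, -, hu4⟩ := cover4 golayCode card_golayPt finrank_golayCode min_golay w none
  have huW : u ∈ W' := by
    have := add_mem (Submodule.mem_sup_right hu : u - w ∈ W') (Submodule.mem_sup_left hw)
    simpa using this
  obtain ⟨x, hx⟩ : (support₂ u).Nonempty := by
    rw [Finset.nonempty_iff_ne_empty]
    intro e
    have h0 : u = 0 := eq_of_support₂_eq (e.trans (by ext i; simp [mem_support₂]))
    rw [h0, zero_sub] at hu
    exact hwC (by simpa using neg_mem hu)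
  rw [hammingNorm_eq_card] at hu4
  obtain ⟨y, hy⟩ : ∃ y, y ∉ support₂ u := by
    by_contra hall
    push Not at hall
    have : Finset.univ ⊆ support₂ u := fun i _ => hall i
    have := Finset.card_le_card this
    rw [Finset.card_univ, card_golayPt] at this
    omega
  set S := (support₂ u).erase x with hS
  have hxS : x ∉ S := Finset.notMem_erase x _
  have hyS : y ∉ S := fun h => hy (Finset.mem_of_mem_erase h)
  have hc : S.card ≤ 3 := by rw [hS, Finset.card_erase_of_mem hx]; omega
  obtain ⟨σ, hσ, hmap⟩ := exists_move (x :: S.toList) (y :: S.toList)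
    (List.nodup_cons.2 ⟨by simpa using hxS, Finset.nodup_toList S⟩)
    (List.nodup_cons.2 ⟨by simpa using hyS, Finset.nodup_toList S⟩) rfl (by simp; omega)
  simp only [List.map_cons, List.cons.injEq] at hmap
  have hu' : u = indic (insert x S) :=
    eq_of_support₂_eq (by rw [support₂_indic, hS, Finset.insert_erase hx])
  have himg : (insert x S).image σ = insert y S := by
    rw [Finset.image_insert, hmap.1]
    congr 1
    have hfix := List.map_inj_left.1 (hmap.2.trans (List.map_id S.toList).symm)
    exact (Finset.image_congr fun z hz => hfix z (Finset.mem_toList.2 hz)).trans Finset.image_id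
  have hxy : pairWord x y ∈ W' := by
    have := add_mem huW (hW' σ hσ u huW)
    rw [hu', indic_map, himg, indic_insert hxS, indic_insert hyS, add_add_add_comm,
      add_self_word, add_zero] at this
    exact this
  obtain ⟨τ, hτ, hm⟩ := exists_move [x, y] [a, b]
    (by simpa using fun e : x = y => hy (e ▸ hx)) (by simpa using hab) rfl (by simp)
  simp only [List.map_cons, List.map_nil, List.cons.injEq, and_true] at hm
  have := hW' τ hτ _ hxy
  rwa [pair_map, hm.1, hm.2] at this

theorem even_mem_of_pairs (W : Submodule (ZMod 2) (GolayPt → ZMod 2))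
    (h : ∀ a b, a ≠ b → pairWord a b ∈ W) : ∀ v : GolayPt → ZMod 2, ∑ p, v p = 0 → v ∈ W := by
  classical
  intro v
  induction hn : hammingNorm v using Nat.strong_induction_on generalizing v with
  | _ n ih =>
    intro hv
    by_cases h0 : v = 0
    · rw [h0]; exact zero_mem _
    obtain ⟨a, ha⟩ := Function.ne_iff.1 h0
    obtain ⟨b, hb, hab⟩ : ∃ b, v b ≠ 0 ∧ b ≠ a := by
      by_contra hall
      push Not at hall
      rw [Finset.sum_eq_single a (fun b _ hb => by_contra fun e => hb (hall b e)) (by simp)] at hv
      exact ha hv
    have h1 : ∀ c, v c ≠ 0 → v c = 1 := fun c hc => (zmod2_cases (v c)).resolve_left hc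
    have hp : pairWord a b ∈ W := h a b (Ne.symm hab)
    have hlt : hammingNorm (v + pairWord a b) < n := by
      rw [← hn]
      refine Finset.card_lt_card ?_
      rw [Finset.ssubset_iff_of_subset (fun p hp' => by
        simp only [Finset.mem_filter, Finset.mem_univ, true_and] at hp' ⊢
        intro e
        apply hp'
        simp [pairWord, e, show p ≠ a from fun e' => ha (e' ▸ e), show p ≠ b from fun e' => hb (e' ▸ e)])]
      refine ⟨a, by simpa using ha, ?_⟩
      intro hmem
      have h2 := (Finset.mem_filter.1 hmem).2
      simp only [pairWord, Pi.add_apply, Pi.single_eq_same, Pi.single_eq_of_ne (Ne.symm hab),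
        add_zero, h1 a ha] at h2
      exact h2 (CharTwo.add_self_eq_zero _)
    have := ih _ hlt (v + pairWord a b) rfl (by
      simp only [Pi.add_apply, pairWord, Finset.sum_add_distrib, hv, Finset.sum_pi_single',
        Finset.mem_univ, if_true]
      decide)
    simpa [add_assoc, add_self_word] using add_mem this hp

theorem one_word_even : ∑ p : GolayPt, (1 : GolayPt → ZMod 2) p = 0 := by decide +kernel

theorem const_word {v : GolayPt → ZMod 2} (h : ∀ a b, v a = v b) :
    v ∈ Submodule.span (ZMod 2) {(1 : GolayPt → ZMod 2)} := by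
  rcases zmod2_cases (v none) with e | e
  · rw [show v = 0 from funext fun p => (h p none).trans e]; exact zero_mem _
  · rw [show v = 1 from funext fun p => (h p none).trans e]
    exact Submodule.mem_span_singleton_self 1

theorem mem_span_one {v : GolayPt → ZMod 2}
    (h : v ∈ Submodule.span (ZMod 2) {(1 : GolayPt → ZMod 2)}) : v = 0 ∨ v = 1 := by
  obtain ⟨c, rfl⟩ := Submodule.mem_span_singleton.1 h
  rcases zmod2_cases c with rfl | rfl
  · exact Or.inl (zero_smul _ _)
  · exact Or.inr (one_smul _ _)

/-- the code is uniserial -/
theorem sub_golay_cases (W : Submodule (ZMod 2) (GolayPt → ZMod 2)) (hW : PermInv W)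
    (hle : W ≤ golayCode) :
    W ≤ Submodule.span (ZMod 2) {(1 : GolayPt → ZMod 2)} ∨ W = golayCode := by
  classical
  by_cases hC : golayCode ≤ W
  · exact Or.inr (le_antisymm hle hC)
  left
  obtain ⟨c, hc, hcW⟩ := SetLike.not_le_iff_exists.1 hC
  obtain ⟨f, hf, hfW⟩ := Submodule.exists_dual_map_eq_bot_of_notMem hcW inferInstance
  set P : Submodule (ZMod 2) (GolayPt → ZMod 2) :=
    { carrier := {v | ∀ w ∈ W, ∑ p, v p * w p = 0}
      add_mem' := fun {a b} ha hb w hw => by
        simp only [Pi.add_apply, add_mul, Finset.sum_add_distrib, ha w hw, hb w hw, add_zero]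
      zero_mem' := fun w _ => by simp [-Fintype.sum_option]
      smul_mem' := fun r {v} hv w hw => by
        simp only [Pi.smul_apply, smul_eq_mul, mul_assoc, ← Finset.mul_sum, hv w hw, mul_zero] } with hP
  have hPinv : PermInv P := fun σ hσ v hv w hw => by
    have := hv _ (hW σ⁻¹ (inv_mem hσ) w hw)
    rw [← this]
    exact (Fintype.sum_equiv σ _ _ fun p => by simp [Equiv.Perm.inv_def]).symm
  have hfeq : ∀ v : GolayPt → ZMod 2, f v = ∑ p, f (Pi.single p 1) * v p := fun v => by
    conv_lhs => rw [pi_eq_sum_univ' v]
    simp only [map_sum, map_smul, smul_eq_mul]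
    exact Finset.sum_congr rfl fun p _ => mul_comm _ _
  have hnot : ¬ P ≤ golayCode := by
    intro hPC
    have hx : (fun p => f (Pi.single p 1)) ∈ P := fun w hw => by
      rw [← hfeq]
      have : f w ∈ W.map f := Submodule.mem_map_of_mem hw
      rwa [hfW, Submodule.mem_bot] at this
    exact hf ((hfeq c).trans (dot_eq_zero (hPC hx) hc))
  have hCP : golayCode ≤ P := fun v hv w hw => dot_eq_zero hv (hle hw)
  have hpairs : ∀ a b, a ≠ b → pairWord a b ∈ P := fun a b hab => by
    have := pairs_mem_sup P hPinv hnot a b hab
    rwa [sup_eq_left.2 hCP] at this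
  intro w hw
  refine const_word fun a b => ?_
  by_cases hab : a = b
  · rw [hab]
  have := hpairs a b hab w hw
  simp only [pairWord, Pi.add_apply, add_mul, Finset.sum_add_distrib, Pi.single_apply, ite_mul,
    one_mul, zero_mul, Finset.sum_ite_eq', Finset.mem_univ, if_true] at this
  exact CharTwo.add_eq_zero.1 this

theorem classify (W : Submodule (ZMod 2) (GolayPt → ZMod 2)) (hW : PermInv W) :
    W = ⊥ ∨ W = Submodule.span (ZMod 2) {(1 : GolayPt → ZMod 2)} ∨ W = golayCode ∨
      (W : Set (GolayPt → ZMod 2)) = {w | ∑ p, w p = 0} ∨ W = ⊤ := by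
  classical
  by_cases hle : W ≤ golayCode
  · rcases sub_golay_cases W hW hle with h | h
    · by_cases h1 : (1 : GolayPt → ZMod 2) ∈ W
      · exact Or.inr (Or.inl (le_antisymm h ((Submodule.span_singleton_le_iff_mem _ _).2 h1)))
      · refine Or.inl ((Submodule.eq_bot_iff _).2 fun w hw => ?_)
        rcases mem_span_one (h hw) with e | e
        · exact e
        · exact absurd (e ▸ hw) h1
    · exact Or.inr (Or.inr (Or.inl h))
  have hI : PermInv (W ⊓ golayCode) := fun σ hσ w hw =>
    ⟨hW σ hσ w hw.1, permInv_golay σ hσ w hw.2⟩
  have hCW : golayCode ≤ W := by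
    rcases sub_golay_cases _ hI inf_le_right with h | h
    swap
    · exact h ▸ inf_le_left
    exfalso
    set W1 := W ⊔ Submodule.span (ZMod 2) {(1 : GolayPt → ZMod 2)}
    have hp : ∀ a b, a ≠ b → pairWord a b ∈ W1 := by
      intro a b hab
      obtain ⟨w, hw, c, hc, e⟩ := Submodule.mem_sup.1 (pairs_mem_sup W hW hle a b hab)
      have heps : ∀ σ ∈ M24, σ a = a → σ b = b →
          (fun p => c (σ.symm p)) + c = 0 ∨ (fun p => c (σ.symm p)) + c = 1 := by
        intro σ hσ ha hb
        have hfix := pair_map σ a b
        rw [ha, hb, ← e] at hfix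
        have hwc : (fun p => w (σ.symm p)) + w = (fun p => c (σ.symm p)) + c := by
          funext p
          have := congrFun hfix p
          simp only [Pi.add_apply] at this ⊢
          exact zmod2_four _ _ _ _ this
        exact mem_span_one (h ⟨hwc ▸ add_mem (hW σ hσ w hw) hw,
          add_mem (permInv_golay σ hσ c hc) hc⟩)
      have hconst : ∀ q r, q ≠ a → q ≠ b → r ≠ a → r ≠ b → c q = c r := by
        intro q r hqa hqb hra hrb
        by_cases hqr : q = r
        · rw [hqr]
        obtain ⟨s, hs⟩ : ∃ s, s ∉ ({a, b, q, r} : Finset GolayPt) := by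
          by_contra hall
          push Not at hall
          have := Finset.card_le_card (fun i _ => hall i :
            (Finset.univ : Finset GolayPt) ⊆ {a, b, q, r})
          rw [Finset.card_univ, card_golayPt] at this
          have : ({a, b, q, r} : Finset GolayPt).card ≤ 4 := Finset.card_le_four
          omega
        simp only [Finset.mem_insert, Finset.mem_singleton, not_or] at hs
        obtain ⟨hsa, hsb, hsq, hsr⟩ := hs
        obtain ⟨σ, hσ, hm⟩ := exists_move [a, b, s, q] [a, b, s, r]
          (by simp [hab, Ne.symm hsa, Ne.symm hqa, Ne.symm hsb, Ne.symm hqb, hsq])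
          (by simp [hab, Ne.symm hsa, Ne.symm hra, Ne.symm hsb, Ne.symm hrb, hsr]) rfl (by simp)
        simp only [List.map_cons, List.map_nil, List.cons.injEq, and_true] at hm
        obtain ⟨ha, hb, hs', hq⟩ := hm
        have hs'' : σ.symm s = s := by rw [Equiv.symm_apply_eq, hs']
        have hq' : σ.symm r = q := by rw [Equiv.symm_apply_eq, hq]
        rcases heps σ hσ ha hb with e' | e'
        · have := congrFun e' r
          simp only [Pi.add_apply, Pi.zero_apply, hq'] at this
          exact CharTwo.add_eq_zero.1 this
        · exfalso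
          have := congrFun e' s
          simp only [Pi.add_apply, Pi.one_apply, hs'', CharTwo.add_self_eq_zero] at this
          exact one_ne_zero this.symm
      obtain ⟨q0, hq0⟩ : ∃ q0, q0 ∉ ({a, b} : Finset GolayPt) := by
        by_contra hall
        push Not at hall
        have := Finset.card_le_card (fun i _ => hall i : (Finset.univ : Finset GolayPt) ⊆ {a, b})
        rw [Finset.card_univ, card_golayPt, Finset.card_pair hab] at this
        omega
      simp only [Finset.mem_insert, Finset.mem_singleton, not_or] at hq0
      have hc01 : c ∈ Submodule.span (ZMod 2) {(1 : GolayPt → ZMod 2)} := by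
        rcases zmod2_cases (c q0) with t | t
        · have hsub : support₂ c ⊆ {a, b} := fun i hi => by
            simp only [Finset.mem_insert, Finset.mem_singleton]
            by_contra hn
            push Not at hn
            rw [mem_support₂, hconst i q0 hn.1 hn.2 hq0.1 hq0.2, t] at hi
            exact zero_ne_one hi
          have h0 : c = 0 := by
            by_contra hne
            have := eight_le_weight hc hne
            have h2 := Finset.card_le_card hsub
            rw [Finset.card_pair hab] at h2
            rw [hammingNorm_eq_card] at this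
            omega
          rw [h0]; exact zero_mem _
        · have hsub : support₂ (c + 1) ⊆ {a, b} := fun i hi => by
            simp only [Finset.mem_insert, Finset.mem_singleton]
            by_contra hn
            push Not at hn
            rw [mem_support₂, Pi.add_apply, hconst i q0 hn.1 hn.2 hq0.1 hq0.2, t] at hi
            simp [CharTwo.add_self_eq_zero] at hi
          have h0 : c + 1 = 0 := by
            by_contra hne
            have := eight_le_weight (add_mem hc one_mem) hne
            have h2 := Finset.card_le_card hsub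
            rw [Finset.card_pair hab] at h2
            rw [hammingNorm_eq_card] at this
            omega
          rw [show c = 1 from funext fun p => CharTwo.add_eq_zero.1 (congrFun h0 p)]
          exact Submodule.mem_span_singleton_self 1
      rw [← e]
      exact add_mem (Submodule.mem_sup_left hw) (Submodule.mem_sup_right hc01)
    obtain ⟨o, ho, h8⟩ := exists_weight_eight golayCode card_golayPt finrank_golayCode orth_golay min_golay
    obtain ⟨w, hw, z, hz, e⟩ := Submodule.mem_sup.1 (even_mem_of_pairs W1 hp o (by
      have := dot_eq_zero ho one_mem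
      simpa [-Fintype.sum_option] using this))
    have hzC : z ∈ golayCode := by
      rcases mem_span_one hz with rfl | rfl
      exacts [zero_mem _, one_mem]
    have hwC : w ∈ golayCode := by
      rw [eq_sub_of_add_eq e]; exact sub_mem ho hzC
    have ho1 : o ∈ Submodule.span (ZMod 2) {(1 : GolayPt → ZMod 2)} := e ▸ add_mem (h ⟨hw, hwC⟩) hz
    rcases mem_span_one ho1 with rfl | rfl
    · simp at h8
    · revert h8; decide +kernel
  have heven : ∀ v : GolayPt → ZMod 2, ∑ p, v p = 0 → v ∈ W := even_mem_of_pairs W fun a b hab => by
    have := pairs_mem_sup W hW hle a b hab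
    rwa [sup_eq_left.2 hCW] at this
  by_cases hodd : ∃ w ∈ W, ∑ p, w p ≠ 0
  · obtain ⟨w, hw, h1⟩ := hodd
    refine Or.inr (Or.inr (Or.inr (Or.inr (Submodule.eq_top_iff'.2 fun v => ?_))))
    rcases zmod2_cases (∑ p, v p) with e | e
    · exact heven v e
    · have := add_mem (heven (v + w) (by
        simp only [Pi.add_apply, Finset.sum_add_distrib, e, (zmod2_cases _).resolve_left h1]
        decide)) hw
      simpa [add_assoc, add_self_word] using this
  · push Not at hodd
    exact Or.inr (Or.inr (Or.inr (Or.inl (Set.ext fun v => ⟨hodd v, heven v⟩))))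

end Cfsg.Agent.Leech
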