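import Cfsg.Agent.Leech.Code
import Cfsg.Agent.Leech.AbstractCode
import Cfsg.Agent.Leech.Punctured
import Cfsg.Agent.Leech.Sextet
import Cfsg.Agent.Leech.PermModule
import Cfsg.Agent.Compute.Mathieu

/-!
# Octad parities determine pairs of points
-/

set_option autoImplicit false

namespace Cfsg.Agent.Leech.OctParity
open Cfsg Cfsg.Agent.Compute

/-- the scalar product -/
def dot (u c : GolayPt → ZMod 2) : ZMod 2 := ∑ p, u p * c p

/-- the number of octad words orthogonal to a word -/
noncomputable def cnt (u : GolayPt → ZMod 2) : ℕ :=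
  Nat.card {c : GolayPt → ZMod 2 // c ∈ golayCode ∧ hammingNorm c = 8 ∧ dot u c = 0}

theorem dot_comp (σ : Equiv.Perm GolayPt) (u c : GolayPt → ZMod 2) :
    dot (u ∘ ⇑σ) (c ∘ ⇑σ) = dot u c := by
  simp only [dot, Function.comp_apply]
  exact Equiv.sum_comp σ fun p => u p * c p

theorem norm_comp (σ : Equiv.Perm GolayPt) (c : GolayPt → ZMod 2) :
    hammingNorm (c ∘ ⇑σ) = hammingNorm c := by
  refine Finset.card_equiv σ fun p => ?_
  simp

theorem cnt_comp {σ : Equiv.Perm GolayPt} (hσ : σ ∈ M24) (u : GolayPt → ZMod 2) :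
    cnt (u ∘ ⇑σ) = cnt u := by
  refine (Nat.card_congr (Equiv.subtypeEquiv (σ.arrowCongr (Equiv.refl (ZMod 2))).symm fun c => ?_)).symm
  have hc : ((σ.arrowCongr (Equiv.refl (ZMod 2))).symm c) = c ∘ ⇑σ := rfl
  rw [hc, norm_comp, dot_comp]
  refine and_congr_left' ⟨fun h => comp_mem_of_M24 hσ h, fun h => ?_⟩
  have := comp_mem_of_M24 (inv_mem hσ) h
  rwa [show (c ∘ ⇑σ) ∘ ⇑σ⁻¹ = c from funext fun p => congrArg c (σ.apply_symm_apply p)] at this

/-- the computable count -/
def cntMask (m : ℕ) : ℕ :=
  ((List.range 4096).filter fun n =>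
    (((List.range 24).filter fun i => (maskOf n).testBit i).length == 8) &&
      (((List.range 24).filter fun i => (maskOf n).testBit i && m.testBit i).length % 2 == 0)).length

theorem dot_bitWord (m n : ℕ) :
    dot (bitWord m) (bitWord n) =
      ((((List.range 24).filter fun i => n.testBit i && m.testBit i).length : ℕ) : ZMod 2) := by
  have h1 : dot (bitWord m) (bitWord n) =
      (((Finset.univ.filter fun p : GolayPt => n.testBit (idx p) && m.testBit (idx p)).card : ℕ) : ZMod 2) := by
    rw [Finset.natCast_card_filter]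
    refine Finset.sum_congr rfl fun p _ => ?_
    by_cases a : m.testBit (idx p) <;> by_cases b : n.testBit (idx p) <;> simp [bitWord, a, b]
  have h2 : (Finset.univ.filter fun p : GolayPt => n.testBit (idx p) && m.testBit (idx p)).card =
      ((Finset.range 24).filter fun i => n.testBit i && m.testBit i).card := by
    refine Finset.card_bij (fun p _ => idx p) (fun p hp => ?_) (fun a _ b _ h => ?_) fun i hi => ?_
    · simp only [Finset.mem_filter, Finset.mem_range]
      exact ⟨(idxEquiv p).2, by simpa using hp⟩
    · exact idxEquiv.injective (Fin.ext h)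
    · simp only [Finset.mem_filter, Finset.mem_range] at hi
      refine ⟨idxEquiv.symm ⟨i, hi.1⟩, ?_, congrArg Fin.val (idxEquiv.apply_symm_apply _)⟩
      have e : idx (idxEquiv.symm ⟨i, hi.1⟩) = i := congrArg Fin.val (idxEquiv.apply_symm_apply _)
      simpa [e] using hi.2
  rw [h1, h2, Finset.card_def, Finset.filter_val, Finset.range_val, ← Multiset.coe_range,
    Multiset.filter_coe, Multiset.coe_card]
  simp

theorem cnt_bitWord (m : ℕ) : cnt (bitWord m) = cntMask m := by
  have h1 : Nat.card {n : Fin 4096 // hammingNorm (enum n) = 8 ∧ dot (bitWord m) (enum n) = 0} =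
      cnt (bitWord m) := by
    refine Nat.card_congr (Equiv.ofBijective
      (fun n => ⟨enum n.1, enum_mem n.1, n.2⟩) ⟨fun a b h => ?_, fun ⟨c, hc, h⟩ => ?_⟩)
    · exact Subtype.ext (enum_injective (congrArg Subtype.val h))
    · obtain ⟨n, rfl⟩ := exists_enum hc
      exact ⟨⟨n, h⟩, rfl⟩
  rw [← h1, Nat.card_eq_fintype_card, Fintype.card_subtype, cntMask]
  set P : ℕ → Bool := fun n =>
    (((List.range 24).filter fun i => (maskOf n).testBit i).length == 8) &&
      (((List.range 24).filter fun i => (maskOf n).testBit i && m.testBit i).length % 2 == 0) with hP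
  have h2 : ((Finset.range 4096).filter fun n => P n = true).card = ((List.range 4096).filter P).length := by
    rw [Finset.card_def, Finset.filter_val, Finset.range_val, ← Multiset.coe_range, Multiset.filter_coe,
      Multiset.coe_card]
    simp
  rw [← h2]
  refine Finset.card_bij (fun n _ => n.val) (fun n hn => ?_) (fun a _ b _ h => Fin.ext h) fun i hi => ?_
  · simp only [Finset.mem_filter, Finset.mem_univ, true_and, enum, hammingNorm_bitWord, dot_bitWord,
      ZMod.natCast_eq_zero_iff] at hn
    simp only [Finset.mem_filter, Finset.mem_range, hP, Bool.and_eq_true, beq_iff_eq]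
    exact ⟨n.2, hn.1, Nat.mod_eq_zero_of_dvd hn.2⟩
  · simp only [Finset.mem_filter, Finset.mem_range, hP, Bool.and_eq_true, beq_iff_eq] at hi
    refine ⟨⟨i, hi.1⟩, ?_, rfl⟩
    simp only [Finset.mem_filter, Finset.mem_univ, true_and, enum, hammingNorm_bitWord, dot_bitWord,
      ZMod.natCast_eq_zero_iff]
    exact ⟨hi.2.1, Nat.dvd_of_mod_eq_zero hi.2.2⟩

theorem cntMask_zero : cntMask 0 = 759 := by decide +kernel
theorem cntMask_pair : cntMask 3 = 407 := by decide +kernel
theorem cntMask_tetrad : cntMask 15 = 375 := by decide +kernel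

theorem bitWord_support (m : ℕ) (hm : hammingNorm (bitWord m) ≤ 5) (u : GolayPt → ZMod 2)
    (hu : hammingNorm u = hammingNorm (bitWord m)) :
    ∃ σ ∈ M24, u ∘ ⇑σ = bitWord m := by
  classical
  -- five points in general position, starting with the support of the mask
  obtain ⟨A, hA, hAc⟩ : ∃ A, support₂ (bitWord m) ⊆ A ∧ A.card = 5 := by
    obtain ⟨A, h1, -, h3⟩ := Finset.exists_subsuperset_card_eq (n := 5) (Finset.subset_univ (support₂ (bitWord m)))
      (by rwa [← hammingNorm_eq_card]) (by rw [Finset.card_univ]; decide)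
    exact ⟨A, h1, h3⟩
  obtain ⟨B, hB, hBc⟩ : ∃ B, support₂ u ⊆ B ∧ B.card = 5 := by
    obtain ⟨B, h1, -, h3⟩ := Finset.exists_subsuperset_card_eq (n := 5) (Finset.subset_univ (support₂ u))
      (by rw [← hammingNorm_eq_card, hu]; exact hm) (by rw [Finset.card_univ]; decide)
    exact ⟨B, h1, h3⟩
  have hcompl : (A \ support₂ (bitWord m)).card = (B \ support₂ u).card := by
    rw [Finset.card_sdiff_of_subset hA, Finset.card_sdiff_of_subset hB, hAc, hBc, ← hammingNorm_eq_card,
      ← hammingNorm_eq_card, hu]
  let base : List GolayPt := [rep24.pt 23, rep24.pt 0, rep24.pt 1, rep24.pt 2, rep24.pt 3]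
  let la := (support₂ (bitWord m)).toList ++ (A \ support₂ (bitWord m)).toList
  let lb := (support₂ u).toList ++ (B \ support₂ u).toList
  have hnd : ∀ (S T : Finset GolayPt), (S.toList ++ (T \ S).toList).Nodup := fun S T => by
    rw [List.nodup_append]
    refine ⟨S.nodup_toList, (T \ S).nodup_toList, fun a ha b hb e => ?_⟩
    rw [Finset.mem_toList] at ha hb
    subst e
    exact (Finset.mem_sdiff.1 hb).2 ha
  have hla : la.length = base.length := by
    simp only [la, List.length_append, Finset.length_toList, base, List.length_cons, List.length_nil]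
    rw [Finset.card_sdiff_of_subset hA, hAc]
    have := Finset.card_le_card hA
    omega
  have hlb : lb.length = base.length := by
    simp only [lb, List.length_append, Finset.length_toList, base, List.length_cons, List.length_nil]
    rw [Finset.card_sdiff_of_subset hB, hBc]
    have := Finset.card_le_card hB
    omega
  obtain ⟨g, hg, hga⟩ := m24_tupleTrans la (hnd _ _) (fun p _ => trivial) hla
  obtain ⟨h, hh, hhb⟩ := m24_tupleTrans lb (hnd _ _) (fun p _ => trivial) hlb
  refine ⟨h * g⁻¹, mul_mem hh (inv_mem hg), ?_⟩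
  have hmap : la.map ⇑(h * g⁻¹) = lb := by
    rw [← hga, ← hhb, List.map_map]
    refine List.map_congr_left fun p _ => ?_
    simp
  rw [List.map_append] at hmap
  have hfst := List.append_inj_left hmap (by
    simp only [List.length_map, Finset.length_toList, ← hammingNorm_eq_card, hu])
  refine eq_of_support₂_eq (Finset.eq_of_subset_of_card_le (fun p hp => ?_) ?_).symm
  · rw [mem_support₂, Function.comp_apply, ← mem_support₂, ← Finset.mem_toList, ← hfst]
    exact List.mem_map.2 ⟨p, Finset.mem_toList.2 hp, rfl⟩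
  · rw [← hammingNorm_eq_card, ← hammingNorm_eq_card, norm_comp, hu]

theorem cnt_of_weight {m : ℕ} (hm : hammingNorm (bitWord m) ≤ 5) {u : GolayPt → ZMod 2}
    (hu : hammingNorm u = hammingNorm (bitWord m)) : cnt u = cntMask m := by
  obtain ⟨σ, hσ, h⟩ := bitWord_support m hm u hu
  rw [← cnt_bitWord, ← h, cnt_comp hσ]

theorem cnt_pair {u : GolayPt → ZMod 2} (hu : hammingNorm u = 2) : cnt u = 407 := by
  have h : hammingNorm (bitWord 3) = 2 := by rw [hammingNorm_bitWord]; decide +kernel
  rw [cnt_of_weight (m := 3) (by omega) (hu.trans h.symm), cntMask_pair]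

/-- a small even word with the parity count of a pair is a pair -/
theorem weight_eq_two {u : GolayPt → ZMod 2} (h4 : hammingNorm u ≤ 4) (heven : dot u 1 = 0)
    (hcnt : cnt u = 407) : hammingNorm u = 2 := by
  have h0 : hammingNorm (bitWord 0) = 0 := by rw [hammingNorm_bitWord]; decide +kernel
  have h15 : hammingNorm (bitWord 15) = 4 := by rw [hammingNorm_bitWord]; decide +kernel
  have he : ((hammingNorm u : ℕ) : ZMod 2) = dot u 1 := by
    rw [hammingNorm, Finset.natCast_card_filter]
    refine Finset.sum_congr rfl fun i _ => ?_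
    rcases zmod2_cases (u i) with h | h <;> simp [h]
  rw [heven, ZMod.natCast_eq_zero_iff] at he
  have hcase : hammingNorm u = 0 ∨ hammingNorm u = 2 ∨ hammingNorm u = 4 := by omega
  rcases hcase with h | h | h
  · rw [cnt_of_weight (m := 0) (by omega) (h.trans h0.symm), cntMask_zero] at hcnt
    omega
  · exact h
  · rw [cnt_of_weight (m := 15) (by omega) (h.trans h15.symm), cntMask_tetrad] at hcnt
    omega

end Cfsg.Agent.Leech.OctParity
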