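import Mathlib
import Cfsg.Agent.Leech.Orbits
import Cfsg.Agent.Leech.Code
import Cfsg.Agent.S0363
import Cfsg.Agent.S0378
import Cfsg.Agent.Plane4.PlaneAut

/-! The stabiliser of three points in the group of the code. -/

set_option autoImplicit false

namespace Cfsg.Agent.Leech
open Cfsg Finset
open scoped Pointwise

theorem smul_octad {σ : Equiv.Perm GolayPt} (hσ : σ ∈ M24) {O : Finset GolayPt} (hO : O ∈ octads) :
    O.image σ ∈ octads := by
  obtain ⟨⟨v, hv, hsupp⟩, hc⟩ := hO
  have h' := comp_mem_of_M24 (inv_mem hσ) hv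
  refine ⟨⟨v ∘ (σ⁻¹ : Equiv.Perm GolayPt), h', ?_⟩, ?_⟩
  · ext i
    rw [← hsupp]
    simp only [support₂, Finset.mem_filter, Finset.mem_univ, true_and, Function.comp_apply,
      Finset.mem_image]
    refine ⟨fun h => ⟨σ.symm i, h, σ.apply_symm_apply i⟩, ?_⟩
    rintro ⟨a, ha, rfl⟩
    simpa using ha
  · show (O.image σ).card = 8
    rw [Finset.card_image_of_injective _ σ.injective]
    exact hc

theorem three_stab (p q r : GolayPt) (hpq : p ≠ q) (hpr : p ≠ r) (hqr : q ≠ r) (F : Type) [Field F]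
    [Fintype F] (hF : Fintype.card F = 4) :
    Nonempty (↥(MulAction.stabilizer M24 p ⊓ MulAction.stabilizer M24 q ⊓
      MulAction.stabilizer M24 r) ≃* Matrix.ProjectiveSpecialLinearGroup (Fin 3) F) := by
  classical
  set G := MulAction.stabilizer M24 p ⊓ MulAction.stabilizer M24 q ⊓ MulAction.stabilizer M24 r
  set K : Finset GolayPt := {p, q, r} with hK
  have hKc : K.card = 3 := Finset.card_eq_three.2 ⟨p, q, r, hpq, hpr, hqr, rfl⟩
  let ι : {x : GolayPt // x ∉ K} ↪ GolayPt := Function.Embedding.subtype _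
  let L : Set (Finset {x : GolayPt // x ∉ K}) := {S | S.map ι ∪ K ∈ octads}
  have hdisj : ∀ S : Finset {x : GolayPt // x ∉ K}, Disjoint (S.map ι) K := fun S =>
    Finset.disjoint_left.2 fun x hx hxK => by
      obtain ⟨y, -, rfl⟩ := Finset.mem_map.1 hx
      exact y.2 hxK
  have hSt := S0363.result
  have hL : IsSteinerSystem 2 5 L := by
    refine ⟨fun S hS => ?_, fun s hs => ?_⟩
    · have := hSt.1 _ hS
      rw [Finset.card_union_of_disjoint (hdisj S), Finset.card_map, hKc] at this
      omega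
    · obtain ⟨O, ⟨hO, hsO⟩, huniq⟩ := hSt.2 (s.map ι ∪ K)
        (by rw [Finset.card_union_of_disjoint (hdisj s), Finset.card_map, hs, hKc])
      have hback : (O.subtype fun x => x ∉ K).map ι ∪ K = O := by
        ext x
        have hKO : x ∈ K → x ∈ O := fun hx => hsO (Finset.mem_union_right _ hx)
        simp only [Finset.mem_union, Finset.mem_map, Finset.mem_subtype, ι]
        constructor
        · rintro (⟨y, hy, rfl⟩ | h)
          · exact hy
          · exact hKO h
        · intro hx
          by_cases h : x ∈ K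
          · exact Or.inr h
          · exact Or.inl ⟨⟨x, h⟩, hx, rfl⟩
      refine ⟨O.subtype fun x => x ∉ K, ⟨by show _ ∈ octads; rw [hback]; exact hO, fun y hy => ?_⟩,
        fun T hT => ?_⟩
      · rw [Finset.mem_subtype]
        exact hsO (Finset.mem_union_left _ (Finset.mem_map_of_mem ι hy))
      · have := huniq _ ⟨hT.1, Finset.union_subset_union_left (Finset.map_subset_map.2 hT.2)⟩
        ext y
        rw [Finset.mem_subtype, ← this]
        simp only [Finset.mem_union]
        refine ⟨fun h => Or.inl (Finset.mem_map_of_mem ι h), fun h => ?_⟩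
        rcases h with h | h
        · obtain ⟨z, hz, e⟩ := Finset.mem_map.1 h
          exact ι.injective e ▸ hz
        · exact absurd h y.2
  have hfix : ∀ g ∈ G, ∀ x ∈ K, ((g : M24) : Equiv.Perm GolayPt) x = x := by
    intro g hg x hx
    simp only [hK, Finset.mem_insert, Finset.mem_singleton] at hx
    rcases hx with rfl | rfl | rfl
    exacts [hg.1.1, hg.1.2, hg.2]
  have hK' : ∀ g : ↥G, ∀ x, ((g : M24) : Equiv.Perm GolayPt) x ∉ K ↔ x ∉ K := fun g x => by
    refine not_congr ⟨fun h => ?_, fun h => by rw [hfix g g.2 x h]; exact h⟩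
    have := hfix g g.2 _ h
    exact ((g : M24) : Equiv.Perm GolayPt).injective this ▸ h
  let φ : ↥G →* Equiv.Perm {x : GolayPt // x ∉ K} := MonoidHom.mk'
    (fun g => ((g : M24) : Equiv.Perm GolayPt).subtypePerm (hK' g)) fun g h => Equiv.ext fun x => rfl
  have hφ : Function.Injective φ := by
    intro g h e
    refine Subtype.ext (Subtype.ext (Equiv.ext fun x => ?_))
    by_cases hx : x ∈ K
    · rw [hfix g g.2 x hx, hfix h h.2 x hx]
    · exact congrArg (fun f : Equiv.Perm {x : GolayPt // x ∉ K} => (f ⟨x, hx⟩ : GolayPt)) e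
  have hφmap : ∀ g S, S ∈ L → φ g • S ∈ L := by
    intro g S hS
    show _ ∈ octads
    have := smul_octad (g : M24).2 hS
    rw [Finset.image_union] at this
    convert this using 2
    · ext x
      simp only [Finset.mem_map, Finset.mem_image, Plane4.smul_finset_eq_image, ι]
      constructor
      · rintro ⟨_, ⟨y, hy, rfl⟩, rfl⟩
        exact ⟨_, ⟨y, hy, rfl⟩, rfl⟩
      · rintro ⟨_, ⟨y, hy, rfl⟩, rfl⟩
        exact ⟨_, ⟨y, hy, rfl⟩, rfl⟩
    · ext x
      refine ⟨fun hx => Finset.mem_image.2 ⟨x, hx, hfix g g.2 x hx⟩, fun hx => ?_⟩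
      obtain ⟨y, hy, rfl⟩ := Finset.mem_image.1 hx
      rwa [hfix g g.2 y hy]
  have hφL : ∀ g, φ g ∈ setSystemAut L := by
    intro g
    rw [MulAction.mem_stabilizer_iff]
    refine Set.Subset.antisymm ?_ fun S hS => ?_
    · rintro _ ⟨S, hS, rfl⟩; exact hφmap g S hS
    · exact ⟨_, hφmap g⁻¹ S hS, by show φ g • (φ g⁻¹ • S) = S; rw [map_inv, smul_inv_smul]⟩
  have hα : Fintype.card {x : GolayPt // x ∉ K} = 21 := by
    rw [Fintype.card_subtype_compl, Fintype.card_coe, hKc]; simp
  have hcard : Nat.card ↥G = 20160 := by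
    set G2 := MulAction.stabilizer M24 p ⊓ MulAction.stabilizer M24 q with hG2
    have h2 : Nat.card ↥G2 = 443520 := S0378.result p q hpq
    have horb : MulAction.orbit ↥G2 r = {x | x ≠ p ∧ x ≠ q} := by
      ext x
      constructor
      · rintro ⟨g, rfl⟩
        refine ⟨fun e => ?_, fun e => ?_⟩
        · exact hpr ((MulAction.injective ((g : M24)) ((e : (g : M24) • r = p).trans g.2.1.symm)).symm)
        · exact hqr ((MulAction.injective ((g : M24)) ((e : (g : M24) • r = q).trans g.2.2.symm)).symm)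
      · rintro ⟨hxp, hxq⟩
        obtain ⟨σ, hσ, hm⟩ := exists_move [p, q, r] [p, q, x] (by simp [hpq, hpr, hqr])
          (by simp [hpq, hxp.symm, hxq.symm]) rfl (by simp)
        simp only [List.map_cons, List.map_nil, List.cons.injEq, and_true] at hm
        exact ⟨⟨⟨σ, hσ⟩, hm.1, hm.2.1⟩, hm.2.2⟩
    have hidx : (MulAction.stabilizer ↥G2 r).index = 22 := by
      rw [MulAction.index_stabilizer, horb,
        show ({x | x ≠ p ∧ x ≠ q} : Set GolayPt) = ({p, q} : Set GolayPt)ᶜ by ext; simp,
        Set.ncard_compl, Set.ncard_pair hpq, Nat.card_eq_fintype_card]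
      simp
    have hmul := (MulAction.stabilizer ↥G2 r).index_mul_card
    rw [hidx, h2] at hmul
    let e : ↥(MulAction.stabilizer ↥G2 r) ≃ ↥G :=
      { toFun := fun g => ⟨g.1.1, g.1.2, g.2⟩
        invFun := fun g => ⟨⟨g.1, g.2.1⟩, g.2.2⟩
        left_inv := fun g => rfl
        right_inv := fun g => rfl }
    rw [← Nat.card_congr e]
    omega
  exact Plane4.iso_psl hF hα hL φ hφ hφL hcard

end Cfsg.Agent.Leech
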